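import Cfsg.Agent.Lib.Classical.SLGroup

/-!
Simplicity of `PSL(2, F)` for finite `F` with at least four elements.
-/

set_option autoImplicit false

namespace CfsgLib.Classical

open Matrix
open scoped MatrixGroups

variable {F : Type*} [Field F] [Fintype F]

theorem exists_sq_ne_one (hF : 4 ≤ Fintype.card F) : ∃ a : F, a ≠ 0 ∧ a ^ 2 ≠ 1 := by
  classical
  obtain ⟨a, -, ha⟩ := Finset.exists_mem_notMem_of_card_lt_card
    (s := ({0, 1, -1} : Finset F)) (t := Finset.univ) (Finset.card_le_three.trans_lt (by
      rw [Finset.card_univ]; omega))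
  simp only [Finset.mem_insert, Finset.mem_singleton, not_or] at ha
  exact ⟨a, ha.1, fun h => (sq_eq_one_iff.1 h).elim ha.2.1 ha.2.2⟩

theorem commutator_SL_two_eq_top (hF : 4 ≤ Fintype.card F) : commutator SL(2, F) = ⊤ := by
  obtain ⟨a, ha, hasq⟩ := exists_sq_ne_one hF
  exact closure_transvection_eq_top _ fun i j hij c =>
    Matrix.transvection_mem_commutator ha hasq hij c

theorem isSimpleGroup_PSL_two (hF : 4 ≤ Fintype.card F) :
    IsSimpleGroup (ProjectiveSpecialLinearGroup (Fin 2) F) :=
  isSimpleGroup_PSL_of_perfect (commutator_SL_two_eq_top hF)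

end CfsgLib.Classical
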