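import Cfsg.Agent.Lib.Classical.SL2Sylow

/-!
The small isomorphisms given by the action on the projective line, and 3-transitivity of PGL(2).
-/

set_option autoImplicit false

namespace CfsgLib.Classical.Two

open Matrix
open scoped LinearAlgebra.Projectivization MatrixGroups

variable {F : Type*} [Field F]

/-- The permutation representation of PSL(2,q) on the points of the line, numbered. -/
noncomputable def pslPerm {k : ℕ} (e : ℙ F (Fin 2 → F) ≃ Fin k) :
    ProjectiveSpecialLinearGroup (Fin 2) F →* Equiv.Perm (Fin k) :=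
  e.permCongrHom.toMonoidHom.comp Projectivization.PSLAction.toPermHom

theorem pslPerm_injective {k : ℕ} (e : ℙ F (Fin 2 → F) ≃ Fin k) :
    Function.Injective (pslPerm e) :=
  e.permCongrHom.injective.comp ProjectiveSpecialLinearGroup.toPermHom_injective

theorem exists_injective_perm [Fintype F] {k : ℕ} (hk : Fintype.card F + 1 = k) :
    ∃ f : ProjectiveSpecialLinearGroup (Fin 2) F →* Equiv.Perm (Fin k), Function.Injective f :=
  ⟨_, pslPerm_injective ((Finite.equivFin _).trans (finCongr (card_line.trans hk)))⟩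

theorem card_PSL_two [Fintype F] :
    Nat.gcd 2 (Fintype.card F - 1) * Nat.card (ProjectiveSpecialLinearGroup (Fin 2) F) =
      Fintype.card F * (Fintype.card F ^ 2 - 1) := by
  rw [← card_SL_two (F := F), card_SL_eq_gcd_mul_card_PSL (ι := Fin 2) (F := F), Fintype.card_fin]

theorem psl_two_equiv_alternating [Fintype F] {k : ℕ} (hk2 : 2 ≤ k) (hk : Fintype.card F + 1 = k)
    (hcard : 2 * Nat.card (ProjectiveSpecialLinearGroup (Fin 2) F) = k.factorial) :
    Nonempty (ProjectiveSpecialLinearGroup (Fin 2) F ≃* alternatingGroup (Fin k)) := by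
  obtain ⟨f, hf⟩ := exists_injective_perm hk
  have hidx : f.range.index = 2 := by
    have h := f.range.card_mul_index
    rw [← Nat.card_congr (MonoidHom.ofInjective hf).toEquiv, Nat.card_perm, Nat.card_fin,
      ← hcard, mul_comm 2] at h
    exact Nat.eq_of_mul_eq_mul_left Nat.card_pos h
  have : Nontrivial (Fin k) := Fin.nontrivial_iff_two_le.2 hk2
  exact ⟨(MonoidHom.ofInjective hf).trans
    (MulEquiv.subgroupCongr (Equiv.Perm.eq_alternatingGroup_of_index_eq_two hidx))⟩

theorem sl_two_equiv_perm_three [Fintype F] (hF : Fintype.card F = 2) :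
    Nonempty (SL(2, F) ≃* Equiv.Perm (Fin 3)) := by
  obtain ⟨f, hf⟩ := exists_injective_perm (F := F) (k := 3) (by omega)
  have hcard := card_PSL_two (F := F)
  rw [hF] at hcard
  norm_num at hcard
  have hbij : Function.Bijective f := by
    rw [Nat.bijective_iff_injective_and_card]
    exact ⟨hf, by rw [hcard, Nat.card_perm, Nat.card_fin]; rfl⟩
  have hbot : Subgroup.center SL(2, F) = ⊥ := by
    rw [← Subgroup.card_eq_one, card_center_SL, Fintype.card_fin, hF]; rfl
  exact ⟨((QuotientGroup.quotientMulEquivOfEq hbot).trans QuotientGroup.quotientBot).symm.trans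
    (MulEquiv.ofBijective f hbij)⟩

theorem eq_one_of_fix_three (g : ProjGenLinGroup (Fin 2) F) (a b c : ℙ F (Fin 2 → F))
    (hab : a ≠ b) (hac : a ≠ c) (hbc : b ≠ c) (ha : g • a = a) (hb : g • b = b) (hc : g • c = c) :
    g = 1 := by
  induction g using ProjGenLinGroup.induction_on with | mk g =>
  induction a using Projectivization.ind with | _ u hu =>
  induction b using Projectivization.ind with | _ v hv =>
  induction c using Projectivization.ind with | _ w hw =>
  have hli : LinearIndependent F ![u, v] := by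
    rw [LinearIndependent.pair_iff' hu]
    intro x hx
    exact hab ((Projectivization.mk_eq_mk_iff' F _ _ hv hu).2 ⟨x, hx⟩).symm
  have htop : Submodule.span F (Set.range ![u, v]) = ⊤ :=
    hli.span_eq_top_of_card_eq_finrank (by simp)
  have hwm : w ∈ Submodule.span F (Set.range ![u, v]) := htop ▸ Submodule.mem_top
  rw [Matrix.range_cons_cons_empty, Submodule.mem_span_pair] at hwm
  obtain ⟨x, y, hw'⟩ := hwm
  rw [Projectivization.PGL.mk_smul_mk, Projectivization.mk_eq_mk_iff'] at ha hb hc
  obtain ⟨α, hα⟩ := ha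
  obtain ⟨β, hβ⟩ := hb
  obtain ⟨γ, hγ⟩ := hc
  have hx : x ≠ 0 := by
    rintro rfl
    rw [zero_smul, zero_add] at hw'
    exact hbc ((Projectivization.mk_eq_mk_iff' F _ _ hw hv).2 ⟨y, hw'⟩).symm
  have hy : y ≠ 0 := by
    rintro rfl
    rw [zero_smul, add_zero] at hw'
    exact hac ((Projectivization.mk_eq_mk_iff' F _ _ hw hu).2 ⟨x, hw'⟩).symm
  rw [← hw', smul_add g, smul_comm g x, smul_comm g y, ← hα, ← hβ, smul_add γ] at hγ
  have h2 := LinearIndependent.pair_iff.1 hli (γ * x - x * α) (γ * y - y * β)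
    (by linear_combination (norm := module) hγ)
  have e1 : γ = α := mul_right_cancel₀ hx (by linear_combination h2.1)
  have e2 : γ = β := mul_right_cancel₀ hy (by linear_combination h2.2)
  have hscal : ∀ z : Fin 2 → F, g • z = α • z := by
    intro z
    have hz : z ∈ Submodule.span F (Set.range ![u, v]) := htop ▸ Submodule.mem_top
    rw [Matrix.range_cons_cons_empty, Submodule.mem_span_pair] at hz
    obtain ⟨r, s, rfl⟩ := hz
    rw [smul_add, smul_comm g r, smul_comm g s, ← hα, ← hβ, ← e2, e1, smul_add, smul_comm r α,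
      smul_comm s α]
  have hα0 : α ≠ 0 := by
    rintro rfl
    rw [zero_smul] at hα
    exact (smul_ne_zero_iff_ne g).2 hu hα.symm
  have hg : g = GeneralLinearGroup.scalar (Fin 2) (Units.mk0 α hα0) := by
    refine Units.ext (Matrix.ext_iff_smul.2 fun z => ?_)
    have h := hscal z
    simp only [Units.smul_def, Matrix.smul_eq_mulVec] at h ⊢
    rw [h, GeneralLinearGroup.coe_scalar]
    simp [Matrix.scalar_apply, Matrix.diagonal_const_mulVec]
  rw [hg, ProjGenLinGroup.mk_scalar]

theorem exists_gl_of_triple (a b c : ℙ F (Fin 2 → F)) (hab : a ≠ b) (hac : a ≠ c) (hbc : b ≠ c) :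
    ∃ g : GL (Fin 2) F, g • basePoint F 0 = a ∧ g • basePoint F 1 = b ∧
      g • Projectivization.mk F (Pi.single 0 1 + Pi.single 1 1 : Fin 2 → F)
        (fun h => by simpa using congrFun h 0) = c := by
  induction a using Projectivization.ind with | _ u hu =>
  induction b using Projectivization.ind with | _ v hv =>
  induction c using Projectivization.ind with | _ w hw =>
  have hli : LinearIndependent F ![u, v] := by
    rw [LinearIndependent.pair_iff' hu]
    intro x hx
    exact hab ((Projectivization.mk_eq_mk_iff' F _ _ hv hu).2 ⟨x, hx⟩).symm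
  have htop : Submodule.span F (Set.range ![u, v]) = ⊤ :=
    hli.span_eq_top_of_card_eq_finrank (by simp)
  have hwm : w ∈ Submodule.span F (Set.range ![u, v]) := htop ▸ Submodule.mem_top
  rw [Matrix.range_cons_cons_empty, Submodule.mem_span_pair] at hwm
  obtain ⟨x, y, hw'⟩ := hwm
  have hx : x ≠ 0 := by
    rintro rfl
    rw [zero_smul, zero_add] at hw'
    exact hbc ((Projectivization.mk_eq_mk_iff' F _ _ hw hv).2 ⟨y, hw'⟩).symm
  have hy : y ≠ 0 := by
    rintro rfl
    rw [zero_smul, add_zero] at hw'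
    exact hac ((Projectivization.mk_eq_mk_iff' F _ _ hw hu).2 ⟨x, hw'⟩).symm
  let M : Matrix (Fin 2) (Fin 2) F := Matrix.of fun i j => (![x • u, y • v] j) i
  have hli' : LinearIndependent F ![x • u, y • v] := by
    rw [LinearIndependent.pair_iff] at hli ⊢
    intro r s hrs
    rw [smul_smul, smul_smul] at hrs
    obtain ⟨h1, h2⟩ := hli _ _ hrs
    exact ⟨(mul_eq_zero.1 h1).resolve_right hx, (mul_eq_zero.1 h2).resolve_right hy⟩
  have hdet : M.det ≠ 0 := by
    have hcol : M.col = ![x • u, y • v] := rfl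
    have h : IsUnit M := Matrix.linearIndependent_cols_iff_isUnit.1 (hcol ▸ hli')
    exact ((Matrix.isUnit_iff_isUnit_det M).1 h).ne_zero
  let g := GeneralLinearGroup.mkOfDetNeZero M hdet
  have h0 : g • (Pi.single 0 1 : Fin 2 → F) = x • u := by
    rw [Units.smul_def, Matrix.smul_eq_mulVec]
    exact (Matrix.mulVec_single_one _ _).trans rfl
  have h1 : g • (Pi.single 1 1 : Fin 2 → F) = y • v := by
    rw [Units.smul_def, Matrix.smul_eq_mulVec]
    exact (Matrix.mulVec_single_one _ _).trans rfl
  refine ⟨g, ?_, ?_, ?_⟩ <;> rw [Projectivization.smul_mk, Projectivization.mk_eq_mk_iff']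
  · exact ⟨x, h0.symm⟩
  · exact ⟨y, h1.symm⟩
  · exact ⟨1, by rw [one_smul, smul_add, h0, h1, hw']⟩

theorem isMultiplyPretransitive_of_exists {G : Type*} [Group G] [MulAction G (ℙ F (Fin 2 → F))]
    (h : ∀ a b c : ℙ F (Fin 2 → F), a ≠ b → a ≠ c → b ≠ c → ∃ g : G, g • basePoint F 0 = a ∧
      g • basePoint F 1 = b ∧ g • Projectivization.mk F (Pi.single 0 1 + Pi.single 1 1 : Fin 2 → F)
        (fun h => by simpa using congrFun h 0) = c) :
    MulAction.IsMultiplyPretransitive G (ℙ F (Fin 2 → F)) 3 := by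
  refine ⟨fun x y => ?_⟩
  obtain ⟨g, g0, g1, g2⟩ := h (x 0) (x 1) (x 2) (x.injective.ne (by decide))
    (x.injective.ne (by decide)) (x.injective.ne (by decide))
  obtain ⟨k, k0, k1, k2⟩ := h (y 0) (y 1) (y 2) (y.injective.ne (by decide))
    (y.injective.ne (by decide)) (y.injective.ne (by decide))
  refine ⟨k * g⁻¹, Function.Embedding.ext fun i => ?_⟩
  rw [Function.Embedding.smul_apply, mul_smul]
  fin_cases i
  · simp [← g0, k0]
  · simp [← g1, k1]
  · simp [← g2, k2]

theorem isMultiplyPretransitive_PGL :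
    MulAction.IsMultiplyPretransitive (ProjGenLinGroup (Fin 2) F) (ℙ F (Fin 2 → F)) 3 :=
  isMultiplyPretransitive_of_exists fun a b c hab hac hbc => by
    obtain ⟨g, g0, g1, g2⟩ := exists_gl_of_triple a b c hab hac hbc
    exact ⟨ProjGenLinGroup.mk g, g0, g1, g2⟩

theorem mk_toGL_smul (s : SL(2, F)) (p : ℙ F (Fin 2 → F)) :
    (ProjGenLinGroup.mk (SpecialLinearGroup.toGL s) : ProjGenLinGroup (Fin 2) F) • p = s • p := by
  induction p using Projectivization.ind with | _ v hv => rfl

theorem isMultiplyPretransitive_SL_iff [Fintype F] :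
    MulAction.IsMultiplyPretransitive SL(2, F) (ℙ F (Fin 2 → F)) 3 ↔ ringChar F = 2 := by
  constructor
  · intro hpre
    by_contra h2
    obtain ⟨d, hd⟩ := FiniteField.exists_nonsquare h2
    have hd0 : d ≠ 0 := by rintro rfl; simp at hd
    let g : GL (Fin 2) F := GeneralLinearGroup.mkOfDetNeZero !![d, 0; 0, 1]
      (by simp [Matrix.det_fin_two, hd0])
    have h11 : (Pi.single 0 1 + Pi.single 1 1 : Fin 2 → F) ≠ 0 :=
      fun h => by simpa using congrFun h 0
    let T : Fin 3 ↪ ℙ F (Fin 2 → F) := ⟨![basePoint F 0, basePoint F 1,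
      Projectivization.mk F _ h11], by
      intro i j h
      have key : ∀ (u v : Fin 2 → F) (hu : u ≠ 0) (hv : v ≠ 0),
          Projectivization.mk F u hu = Projectivization.mk F v hv → u 0 * v 1 = u 1 * v 0 := by
        intro u v hu hv h
        obtain ⟨a, ha⟩ := (Projectivization.mk_eq_mk_iff' F _ _ _ _).1 h
        rw [← ha]
        simp
        ring
      fin_cases i <;> fin_cases j <;>
        first | rfl | (have := key _ _ _ _ h; simp at this)⟩
    let T' : Fin 3 ↪ ℙ F (Fin 2 → F) :=
      ⟨fun i => (ProjGenLinGroup.mk g : ProjGenLinGroup (Fin 2) F) • T i,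
        fun i j h => T.injective (MulAction.injective _ h)⟩
    obtain ⟨s, hs⟩ := hpre.exists_smul_eq T T'
    have hs' : ∀ i, s • T i = (ProjGenLinGroup.mk g : ProjGenLinGroup (Fin 2) F) • T i :=
      fun i => congrArg (fun E : Fin 3 ↪ ℙ F (Fin 2 → F) => E i) hs
    have hfix := eq_one_of_fix_three
      ((ProjGenLinGroup.mk g : ProjGenLinGroup (Fin 2) F)⁻¹ *
        ProjGenLinGroup.mk (SpecialLinearGroup.toGL s))
      (T 0) (T 1) (T 2) (T.injective.ne (by decide)) (T.injective.ne (by decide))
      (T.injective.ne (by decide))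
      (by rw [mul_smul, mk_toGL_smul, hs', inv_smul_smul])
      (by rw [mul_smul, mk_toGL_smul, hs', inv_smul_smul])
      (by rw [mul_smul, mk_toGL_smul, hs', inv_smul_smul])
    rw [inv_mul_eq_one] at hfix
    obtain ⟨r, hr⟩ := ProjGenLinGroup.mk_eq_mk_iff.1 hfix
    have h := congrArg (fun x : GL (Fin 2) F => (GeneralLinearGroup.det x : F)) hr
    simp [GeneralLinearGroup.det_scalar, g, Matrix.det_fin_two] at h
    apply hd
    exact ⟨(r : F)⁻¹, by field_simp; linear_combination h⟩
  · intro h2
    refine isMultiplyPretransitive_of_exists fun a b c hab hac hbc => ?_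
    obtain ⟨g, g0, g1, g2⟩ := exists_gl_of_triple a b c hab hac hbc
    obtain ⟨r, hr⟩ := FiniteField.isSquare_of_char_two h2 ((g : Matrix (Fin 2) (Fin 2) F).det)⁻¹
    have hdet : (g : Matrix (Fin 2) (Fin 2) F).det ≠ 0 := GeneralLinearGroup.det_ne_zero g
    have hr0 : r ≠ 0 := by rintro rfl; simp [hdet] at hr
    let s : SL(2, F) := ⟨r • (g : Matrix (Fin 2) (Fin 2) F), by
      rw [Matrix.det_smul, Fintype.card_fin, pow_two, ← hr, inv_mul_cancel₀ hdet]⟩
    have hs : ∀ p : ℙ F (Fin 2 → F), s • p = g • p := by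
      intro p
      induction p using Projectivization.ind with | _ v hv =>
      rw [Projectivization.smul_mk, Projectivization.smul_mk, Projectivization.mk_eq_mk_iff']
      refine ⟨r, ?_⟩
      rw [Matrix.SpecialLinearGroup.smul_def, Units.smul_def]
      simp [s, Matrix.smul_eq_mulVec, Matrix.smul_mulVec]
    exact ⟨s, by rw [hs, g0], by rw [hs, g1], by rw [hs, g2]⟩

end CfsgLib.Classical.Two
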