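import Cfsg.Agent.Lib.ZStar.FusionCenter
import Cfsg.Agent.Lib.Transfer.Abelian

/-!
Abelian Sylow 2-subgroups.

* `fixed_in_coset`: a normaliser-fixed element in a prescribed coset.
* `inner_of_fixed`: a 2-power automorphism fixing an abelian Sylow 2-subgroup pointwise is inner.
* `center_eq_bot_cover`: perfect central 2-extensions when the Sylow subgroup has order 8 with a
  fixed-point-free automiser.
-/

set_option autoImplicit false

namespace CfsgLib.Classical.AbSylow

open Cfsg
open scoped commutatorElement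

universe u v

instance fact_two : Fact (Nat.Prime 2) := ⟨Nat.prime_two⟩

section

variable {G : Type u} [Group G] [Finite G]

/-- An element of an abelian Sylow subgroup centralised by its normaliser is fixed in the fusion. -/
theorem fixed_of_normalizer_fixed (P : Sylow 2 G) (hab : IsMulCommutative (P : Subgroup G)) {x : G}
    (hx : x ∈ (P : Subgroup G))
    (hfix : ∀ n ∈ Subgroup.normalizer ((P : Subgroup G) : Set G), n * x * n⁻¹ = x) :
    CfsgLib.ZStar.Fixed (P : Subgroup G) x := by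
  refine ⟨hx, fun g k hg => ?_⟩
  have hcen : ∀ y ∈ (P : Subgroup G), y ∈ Subgroup.centralizer ((P : Subgroup G) : Set G) :=
    fun y hy => Subgroup.mem_centralizer_iff.2 fun z hz =>
      congrArg Subtype.val ((IsMulCommutative.is_comm (M := (P : Subgroup G))).comm ⟨z, hz⟩ ⟨y, hy⟩)
  obtain ⟨n, hn, h⟩ := Sylow.conj_eq_normalizer_conj_of_mem_centralizer P (x ^ k) g⁻¹
    (hcen _ (pow_mem hx k)) (hcen _ (by rwa [inv_inv]))
  rw [inv_inv] at h
  rw [h]
  have h' := hfix n⁻¹ (inv_mem hn)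
  rw [inv_inv] at h'
  calc n⁻¹ * x ^ k * n = (n⁻¹ * x * n) ^ k := by
        simpa using (conj_pow (i := k) (a := n⁻¹) (b := x)).symm
    _ = x ^ k := by rw [h']

theorem odd_index (P : Sylow 2 G) : Odd (P : Subgroup G).index :=
  Nat.not_even_iff_odd.1 fun h => P.not_dvd_index (even_iff_two_dvd.1 h)

/-- A normaliser-fixed element in the coset `xK`, for a normal `K` with abelian quotient. -/
theorem fixed_in_coset (P : Sylow 2 G) (hab : IsMulCommutative (P : Subgroup G)) (K : Subgroup G)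
    [K.Normal] (hK : commutator G ≤ K) {x : G} (hx : x ∈ (P : Subgroup G)) :
    ∃ y, CfsgLib.ZStar.Fixed (P : Subgroup G) y ∧ y⁻¹ * x ∈ K := by
  classical
  let _ : CommGroup (P : Subgroup G) :=
    { (inferInstance : Group (P : Subgroup G)) with
      mul_comm := (IsMulCommutative.is_comm (M := (P : Subgroup G))).comm }
  let ρ := (P : Subgroup G).normalizerMonoidHom
  let W := ρ.range
  let _ : Fintype W := Fintype.ofFinite W
  have hW : Odd (Fintype.card W) := by
    rw [← Nat.card_eq_fintype_card]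
    refine CfsgLib.ZStar.odd_of_dvd ?_ (odd_index P)
    rw [← Subgroup.index_ker]
    have h1 : (P : Subgroup G).subgroupOf (Subgroup.normalizer ((P : Subgroup G) : Set G)) ≤ ρ.ker := by
      intro a ha
      rw [Subgroup.normalizerMonoidHom_ker, Subgroup.mem_subgroupOf, Subgroup.mem_centralizer_iff]
      exact fun z hz =>
        congrArg Subtype.val (mul_comm (⟨z, hz⟩ : (P : Subgroup G)) ⟨(a : G), ha⟩)
    exact (Subgroup.index_dvd_of_le h1).trans (Subgroup.relIndex_dvd_index_of_le Subgroup.le_normalizer)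
  let x' : (P : Subgroup G) := ⟨x, hx⟩
  let f : (P : Subgroup G) := ∏ w : W, (w : MulAut (P : Subgroup G)) x'
  obtain ⟨j, hj⟩ := IsPGroup.iff_orderOf.1 P.isPGroup' x'
  obtain ⟨m, hm⟩ := exists_pow_eq_self_of_coprime (x := x') (n := Fintype.card W)
    (by rw [hj]; exact (Nat.coprime_two_right.2 hW).pow_right j)
  have hfix : ∀ n ∈ Subgroup.normalizer ((P : Subgroup G) : Set G),
      n * (f ^ m : (P : Subgroup G)) * n⁻¹ = ((f ^ m : (P : Subgroup G)) : G) := by
    intro n hn
    have h1 : ρ ⟨n, hn⟩ f = f := by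
      rw [map_prod]
      refine Fintype.prod_equiv (Equiv.mulLeft (⟨ρ ⟨n, hn⟩, ⟨_, rfl⟩⟩ : W)) _ _ fun w => ?_
      simp
    have h2 : ρ ⟨n, hn⟩ (f ^ m) = f ^ m := by rw [map_pow, h1]
    exact congrArg Subtype.val h2
  refine ⟨_, fixed_of_normalizer_fixed P hab (f ^ m).2 hfix, ?_⟩
  rw [← QuotientGroup.eq]
  let π := (QuotientGroup.mk' K).comp (P : Subgroup G).subtype
  let _ : CommGroup (G ⧸ K) :=
    { (inferInstance : Group (G ⧸ K)) with
      mul_comm := fun a b => by
        induction a using QuotientGroup.induction_on with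
        | H a =>
          induction b using QuotientGroup.induction_on with
          | H b =>
            rw [← QuotientGroup.mk_mul, ← QuotientGroup.mk_mul, QuotientGroup.eq]
            have h := hK (Subgroup.commutator_mem_commutator (Subgroup.mem_top b⁻¹)
              (Subgroup.mem_top a⁻¹))
            rw [commutatorElement_def] at h
            simpa [mul_assoc] using h }
  have hw : ∀ w : W, π ((w : MulAut (P : Subgroup G)) x') = π x' := by
    rintro ⟨w, n, rfl⟩
    show QuotientGroup.mk' K ((n : G) * x * (n : G)⁻¹) = QuotientGroup.mk' K x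
    rw [map_mul, map_mul, mul_right_comm, ← map_mul _ (n : G) (n : G)⁻¹, mul_inv_cancel, map_one,
      one_mul]
  show π (f ^ m) = π x'
  rw [map_pow, map_prod, Finset.prod_congr rfl (fun w _ => hw w), Finset.prod_const, Finset.card_univ]
  rw [← pow_mul, ← map_pow, pow_mul, hm]

theorem commute_of_fixed_inner {A : Type v} [Group A] [Finite A] (c : G →* A)
    (hc : Function.Injective c) (hcn : c.range.Normal) (hO : oddCore G = ⊥) (P : Sylow 2 A) {y : A}
    (hy : CfsgLib.ZStar.Fixed (P : Subgroup A) y) (g : G) : y * c g = c g * y := by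
  have h1 := CfsgLib.ZStar.commutator_mem_oddCore_of_fixed P hy (c g)
  have h2 : y * c g * y⁻¹ * (c g)⁻¹ ∈ c.range :=
    mul_mem (hcn.conj_mem _ ⟨g, rfl⟩ y) (inv_mem ⟨g, rfl⟩)
  obtain ⟨z, hz⟩ := h2
  have hz' : z ∈ (oddCore A).comap c := by rw [Subgroup.mem_comap, hz]; exact h1
  have hodd : Odd (Nat.card ((oddCore A).comap c)) :=
    CfsgLib.ZStar.odd_of_dvd (Subgroup.card_comap_dvd_of_injective _ c hc)
      (CfsgLib.ZStar.odd_card_oddCore A)
  have hnA : (oddCore A).Normal := CfsgLib.Core.normal_pPrimeCore 2 A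
  have h3 := CfsgLib.ZStar.le_oddCore (hnA.comap c) hodd hz'
  rw [hO, Subgroup.mem_bot] at h3
  rw [h3, map_one, eq_comm, mul_inv_eq_one, mul_inv_eq_iff_eq_mul] at hz
  exact hz

/-- An automorphism of 2-power order fixing an abelian Sylow 2-subgroup pointwise is inner. -/
theorem inner_of_fixed (hO : oddCore G = ⊥) (hZ : Subgroup.center G = ⊥) (P : Sylow 2 G)
    (hab : IsMulCommutative (P : Subgroup G)) (α : MulAut G) {k : ℕ} (hα : α ^ (2 ^ k) = 1)
    (hfix : ∀ x ∈ (P : Subgroup G), α x = x) :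
    ∃ g : G, ∀ x : G, α x = g * x * g⁻¹ := by
  classical
  have : Finite (MulAut G) := Finite.of_injective (fun β : MulAut G => (β : G → G)) DFunLike.coe_injective
  let A : Subgroup (MulAut G) := (MulAut.conj : G →* MulAut G).range ⊔ Subgroup.zpowers α
  let c : G →* A := (MulAut.conj : G →* MulAut G).codRestrict A fun g =>
    Subgroup.mem_sup_left ⟨g, rfl⟩
  let a : A := ⟨α, Subgroup.mem_sup_right (Subgroup.mem_zpowers α)⟩
  have hc : Function.Injective c := by
    rw [injective_iff_map_eq_one]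
    intro g hg
    have hz : g ∈ Subgroup.center G := Subgroup.mem_center_iff.2 fun x => by
      have h1 := congrArg (fun β : A => (β : MulAut G) x) hg
      have h2 : g * x * g⁻¹ = x := h1
      exact (mul_inv_eq_iff_eq_mul.1 h2).symm
    rwa [hZ, Subgroup.mem_bot] at hz
  have conjc : ∀ (β : A) (g : G), β * c g * β⁻¹ = c ((β : MulAut G) g) := by
    intro β g
    refine Subtype.ext (MulEquiv.ext fun x => ?_)
    show (β : MulAut G) (g * ((β : MulAut G).symm x) * g⁻¹) = _
    rw [map_mul, map_mul, MulEquiv.apply_symm_apply, map_inv]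
    rfl
  have hcn : c.range.Normal := ⟨by rintro _ ⟨g, rfl⟩ β; exact ⟨_, (conjc β g).symm⟩⟩
  have hgen : ∀ β : A, ∃ g : G, ∃ i : ℤ, β = c g * a ^ i := by
    intro β
    have hn : ((MulAut.conj : G →* MulAut G).range).Normal := ⟨by
      rintro _ ⟨g, rfl⟩ b
      refine ⟨b g, MulEquiv.ext fun x => ?_⟩
      show b g * x * (b g)⁻¹ = b (g * (b.symm x) * g⁻¹)
      rw [map_mul, map_mul, MulEquiv.apply_symm_apply, map_inv]⟩
    have hβ : (β : MulAut G) ∈ (MulAut.conj : G →* MulAut G).range ⊔ Subgroup.zpowers α := β.2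
    obtain ⟨u, ⟨g, hg⟩, w, hw, hβw⟩ := Subgroup.mem_sup_of_normal_left.1 hβ
    obtain ⟨i, rfl⟩ := Subgroup.mem_zpowers_iff.1 hw
    refine ⟨g, i, Subtype.ext ?_⟩
    rw [← hβw, ← hg]
    simp [c, a]
  have hcomm : commutator A ≤ c.range := by
    rw [commutator_def, Subgroup.commutator_le]
    intro β _ γ _
    obtain ⟨g, i, rfl⟩ := hgen β
    obtain ⟨g', i', rfl⟩ := hgen γ
    rw [← QuotientGroup.eq_one_iff (N := c.range)]
    have e : ∀ h : G, ((c h : A) : A ⧸ c.range) = 1 := fun h =>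
      (QuotientGroup.eq_one_iff _).2 ⟨h, rfl⟩
    rw [commutatorElement_def]
    simp [e]
    rw [zpow_mul_comm, mul_inv_cancel_right, mul_inv_cancel]
  -- the Sylow subgroup
  let S₀ : Subgroup A := (P : Subgroup G).map c
  have hSa : ∀ s ∈ (P : Subgroup G), a * c s * a⁻¹ = c s := fun s hs => by
    rw [conjc a s]; exact congrArg c (hfix s hs)
  have hS₀p : IsPGroup 2 S₀ := P.isPGroup'.map c
  have hap : IsPGroup 2 (Subgroup.zpowers a) := by
    have h : orderOf a ∣ 2 ^ k := orderOf_dvd_of_pow_eq_one (Subtype.ext (by simpa [a] using hα))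
    obtain ⟨j, -, hj⟩ := (Nat.dvd_prime_pow Nat.prime_two).1 h
    exact IsPGroup.of_card (n := j) (by rw [Nat.card_zpowers, hj])
  have hnorm : Subgroup.zpowers a ≤ Subgroup.normalizer (S₀ : Set A) := by
    refine Subgroup.zpowers_le.2 ?_
    rw [Subgroup.mem_normalizer_iff]
    intro β
    constructor
    · rintro ⟨s, hs, rfl⟩
      exact ⟨s, hs, (hSa s hs).symm⟩
    · rintro ⟨s, hs, h⟩
      refine ⟨s, hs, ?_⟩
      have h' := hSa s hs
      rw [h] at h'
      exact h.trans (mul_left_cancel (mul_right_cancel h'))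
  obtain ⟨Q, hQ⟩ := (IsPGroup.to_sup_of_normal_right' hap hS₀p hnorm).exists_le_sylow
  have hPmax : ∀ g : G, c g ∈ (Q : Subgroup A) → g ∈ (P : Subgroup G) := by
    intro g hg
    have hp : IsPGroup 2 ((Q : Subgroup A).comap c) := Q.isPGroup'.comap_of_injective c hc
    have := P.is_maximal' hp (fun s hs => hQ (Subgroup.mem_sup_right ⟨s, hs, rfl⟩))
    exact this ▸ (show g ∈ (Q : Subgroup A).comap c from hg)
  have haQ : a ∈ (Q : Subgroup A) := hQ (Subgroup.mem_sup_left (Subgroup.mem_zpowers a))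
  have hQgen : ∀ β ∈ (Q : Subgroup A), ∃ s ∈ (P : Subgroup G), ∃ i : ℤ, β = c s * a ^ i := by
    intro β hβ
    obtain ⟨g, i, rfl⟩ := hgen β
    exact ⟨g, hPmax g ((Subgroup.mul_mem_cancel_right _ (zpow_mem haQ i)).1 hβ), i, rfl⟩
  have hQab : IsMulCommutative (Q : Subgroup A) := ⟨⟨by
    rintro ⟨β, hβ⟩ ⟨γ, hγ⟩
    obtain ⟨s, hs, i, rfl⟩ := hQgen β hβ
    obtain ⟨t, ht, i', rfl⟩ := hQgen γ hγ
    have hst : c s * c t = c t * c s := by
      rw [← map_mul, ← map_mul]
      exact congrArg c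
        (congrArg Subtype.val (hab.is_comm.comm (⟨s, hs⟩ : (P : Subgroup G)) ⟨t, ht⟩) :)
    have e1 : Commute (a ^ i) (c t) := (show Commute a (c t) from
      mul_inv_eq_iff_eq_mul.1 (hSa t ht)).zpow_left i
    have e2 : Commute (a ^ i') (c s) := (show Commute a (c s) from
      mul_inv_eq_iff_eq_mul.1 (hSa s hs)).zpow_left i'
    have e0 : Commute (c s) (c t) := hst
    exact Subtype.ext ((e0.mul_right e2.symm).mul_left (e1.mul_right (Commute.zpow_zpow_self a i i'))).eq⟩⟩
  obtain ⟨y, hy, hyK⟩ := fixed_in_coset Q hQab c.range hcomm haQ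
  obtain ⟨g, hg⟩ := hyK
  refine ⟨g, fun x => ?_⟩
  have key : ∀ h : G, (y : MulAut G) h = h := fun h => hc (by
    rw [← conjc y h, commute_of_fixed_inner c hc hcn hO Q hy h, mul_inv_cancel_right])
  have ha' : a = y * c g := by rw [hg, mul_inv_cancel_left]
  calc α x = ((y * c g : A) : MulAut G) x := by rw [← ha']
    _ = (y : MulAut G) (g * x * g⁻¹) := rfl
    _ = _ := key _

omit [Finite G] in
theorem center_eq_bot_simple [IsSimpleGroup G] (hG : ¬ IsMulCommutative G) :
    Subgroup.center G = ⊥ := by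
  refine (Subgroup.Normal.eq_bot_or_eq_top inferInstance).resolve_right fun h => hG ⟨⟨fun a b => ?_⟩⟩
  exact (Subgroup.mem_center_iff.1 (h ▸ Subgroup.mem_top b : b ∈ Subgroup.center G) a)

theorem oddCore_eq_bot_simple [IsSimpleGroup G] {t : G} (ht : orderOf t = 2) : oddCore G = ⊥ := by
  refine (Subgroup.Normal.eq_bot_or_eq_top (CfsgLib.Core.normal_pPrimeCore 2 G)).resolve_right
    fun h => ?_
  have h1 := CfsgLib.ZStar.odd_card_oddCore G
  rw [show oddCore G = ⊤ from h, Subgroup.card_top] at h1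
  exact Nat.not_even_iff_odd.2 h1 (even_iff_two_dvd.2 (ht ▸ orderOf_dvd_natCard t))

end

/-! ### Groups with an abelian Sylow subgroup of order eight -/

section Eight

variable {G : Type u} [Group G] [Finite G]

/-- An element of the normaliser inducing a seven-cycle. -/
theorem exists_seven_cycle [IsSimpleGroup G] (hG : ¬ IsMulCommutative G) (S : Sylow 2 G)
    (hab : IsMulCommutative (S : Subgroup G)) (h8 : Nat.card (S : Subgroup G) = 8) :
    ∃ n ∈ Subgroup.normalizer ((S : Subgroup G) : Set G), ∃ s ∈ (S : Subgroup G), s ≠ 1 ∧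
      n ^ 7 * s * (n ^ 7)⁻¹ = s ∧
      ∀ x ∈ (S : Subgroup G), x ≠ 1 → ∃ i < 7, x = n ^ i * s * (n ^ i)⁻¹ := by
  classical
  have h8' : 1 < Nat.card (S : Subgroup G) := by omega
  obtain ⟨t, ht⟩ := exists_prime_orderOf_dvd_card' (G := G) 2
    ((show 2 ∣ Nat.card (S : Subgroup G) by rw [h8]; norm_num).trans
      (Subgroup.card_subgroup_dvd_card _))
  let ρ := (S : Subgroup G).normalizerMonoidHom
  let W := ρ.range
  let T := {x : (S : Subgroup G) // x ≠ 1}
  have hT : Nat.card T = 7 := by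
    have := Fintype.ofFinite (S : Subgroup G)
    rw [Nat.card_eq_fintype_card, Fintype.card_subtype_compl, Fintype.card_subtype_eq,
      ← Nat.card_eq_fintype_card, h8]
  letI : MulAction W T :=
    { smul := fun w x => ⟨(w : MulAut (S : Subgroup G)) x.1, fun h => x.2 (by
        simpa using congrArg (w : MulAut (S : Subgroup G)).symm h)⟩
      one_smul := fun x => rfl
      mul_smul := fun w w' x => rfl }
  have hW : Odd (Nat.card W) := by
    refine CfsgLib.ZStar.odd_of_dvd ?_ (odd_index S)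
    rw [← Subgroup.index_ker]
    have h1 : (S : Subgroup G).subgroupOf (Subgroup.normalizer ((S : Subgroup G) : Set G)) ≤ ρ.ker := by
      intro a ha
      rw [Subgroup.normalizerMonoidHom_ker, Subgroup.mem_subgroupOf, Subgroup.mem_centralizer_iff]
      exact fun z hz =>
        congrArg Subtype.val (hab.is_comm.comm (⟨z, hz⟩ : (S : Subgroup G)) ⟨(a : G), ha⟩)
    exact (Subgroup.index_dvd_of_le h1).trans (Subgroup.relIndex_dvd_index_of_le Subgroup.le_normalizer)
  have horb : ∀ x : T, Odd (Nat.card (MulAction.orbit W x)) := fun x => by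
    refine CfsgLib.ZStar.odd_of_dvd ?_ hW
    rw [Nat.card_congr (MulAction.orbitEquivQuotientStabilizer W x)]
    exact Subgroup.card_quotient_dvd_card _
  have hne1 : ∀ x : T, Nat.card (MulAction.orbit W x) ≠ 1 := by
    intro x hx
    have hfix : ∀ n ∈ Subgroup.normalizer ((S : Subgroup G) : Set G),
        n * (x.1 : G) * n⁻¹ = x.1 := by
      intro n hn
      have hs : Subsingleton (MulAction.orbit W x) := (Nat.card_eq_one_iff_unique.1 hx).1
      have := hs.elim ⟨(⟨ρ ⟨n, hn⟩, ⟨_, rfl⟩⟩ : W) • x, MulAction.mem_orbit _ _⟩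
        ⟨x, MulAction.mem_orbit_self x⟩
      exact congrArg (fun z : MulAction.orbit W x => ((z.1.1 : (S : Subgroup G)) : G)) this
    have hcen : (x.1 : G) ∈ Subgroup.center G := Subgroup.mem_center_iff.2 fun g => by
      have h := CfsgLib.ZStar.commutator_mem_oddCore_of_fixed S
        (fixed_of_normalizer_fixed S hab x.1.2 hfix) g
      rw [oddCore_eq_bot_simple ht, Subgroup.mem_bot, mul_inv_eq_one, mul_inv_eq_iff_eq_mul] at h
      exact h.symm
    rw [center_eq_bot_simple hG, Subgroup.mem_bot] at hcen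
    exact x.2 (Subtype.ext hcen)
  have h3 : ∀ x : T, 3 ≤ Nat.card (MulAction.orbit W x) := fun x => by
    have h1 := Nat.odd_iff.1 (horb x)
    have h2 := hne1 x
    omega
  -- there is one orbit
  obtain ⟨x₀⟩ : Nonempty T := (Nat.card_pos_iff.1 (by rw [hT]; omega)).1
  have h7 : 7 ∣ Nat.card W := by
    by_contra h7
    have hle : ∀ x : T, Nat.card (MulAction.orbit W x) ≠ 7 := fun x h => h7 (by
      rw [← h, Nat.card_congr (MulAction.orbitEquivQuotientStabilizer W x)]
      exact Subgroup.card_quotient_dvd_card _)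
    have hcompl : ∀ s : Set T, Nat.card s + Nat.card (sᶜ : Set T) = 7 := fun s => by
      rw [Nat.card_coe_set_eq, Nat.card_coe_set_eq, Set.ncard_add_ncard_compl, hT]
    set O₁ := MulAction.orbit W x₀
    obtain ⟨x₁, hx₁⟩ : ∃ x, x ∉ O₁ := by
      by_contra hcon
      simp only [not_exists, not_not] at hcon
      refine hle x₀ ?_
      rw [← hT]
      exact Nat.card_congr (Equiv.subtypeUnivEquiv hcon)
    set O₂ := MulAction.orbit W x₁
    have hd : Disjoint O₁ O₂ := Set.disjoint_left.2 fun z h1 h2 => hx₁ (by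
      rw [← MulAction.orbit_eq_iff] at h1 h2 ⊢
      exact h2.symm.trans h1)
    obtain ⟨x₂, hx₂⟩ : ∃ x, x ∉ O₁ ∪ O₂ := by
      by_contra hcon
      simp only [not_exists, not_not] at hcon
      have h := hcompl (O₁ ∪ O₂)
      rw [show (O₁ ∪ O₂)ᶜ = (∅ : Set T) from Set.compl_empty_iff.2 (Set.eq_univ_of_forall hcon)] at h
      rw [Nat.card_coe_set_eq, Set.ncard_union_eq hd, Nat.card_coe_set_eq, Set.ncard_empty] at h
      have a1 := Nat.odd_iff.1 (horb x₀)
      have a2 := Nat.odd_iff.1 (horb x₁)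
      simp only [Nat.card_coe_set_eq] at a1 a2
      change O₁.ncard % 2 = 1 at a1
      change O₂.ncard % 2 = 1 at a2
      omega
    set O₃ := MulAction.orbit W x₂
    have hd' : Disjoint (O₁ ∪ O₂) O₃ := Set.disjoint_left.2 fun z h1 h2 => hx₂ (by
      rcases h1 with h1 | h1
      · left; rw [← MulAction.orbit_eq_iff] at h1 h2 ⊢; exact h2.symm.trans h1
      · right; rw [← MulAction.orbit_eq_iff] at h1 h2 ⊢; exact h2.symm.trans h1)
    have h := hcompl (O₁ ∪ O₂ ∪ O₃)
    rw [Nat.card_coe_set_eq, Set.ncard_union_eq hd', Set.ncard_union_eq hd,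
      Nat.card_coe_set_eq] at h
    have a1 := h3 x₀
    have a2 := h3 x₁
    have a3 := h3 x₂
    simp only [Nat.card_coe_set_eq] at *
    change 3 ≤ O₁.ncard at a1
    change 3 ≤ O₂.ncard at a2
    change 3 ≤ O₃.ncard at a3
    omega
  have : Fact (Nat.Prime 7) := ⟨by norm_num⟩
  obtain ⟨w, hw⟩ := exists_prime_orderOf_dvd_card' 7 h7
  obtain ⟨⟨n, hn⟩, hnw⟩ := w.2
  have hpow : ∀ (i : ℕ) (x : (S : Subgroup G)),
      n ^ i * (x : G) * (n ^ i)⁻¹ = ((w : MulAut (S : Subgroup G)) ^ i) x := by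
    intro i x
    rw [← hnw, ← map_pow]
    rfl
  -- some point has seven images
  obtain ⟨x, hx⟩ : ∃ x : T, w • x ≠ x := by
    by_contra hcon
    simp only [not_exists, ne_eq, not_not] at hcon
    have : w = 1 := Subtype.ext (MulEquiv.ext fun y => by
      by_cases hy : y = 1
      · simp [hy]
      · exact congrArg Subtype.val (hcon ⟨y, hy⟩))
    rw [this, orderOf_one] at hw
    omega
  have hper : Function.minimalPeriod (w • · : T → T) x = 7 := by
    have hdvd : Function.minimalPeriod (w • · : T → T) x ∣ 7 := by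
      refine Function.IsPeriodicPt.minimalPeriod_dvd ?_
      rw [Function.IsPeriodicPt, Function.IsFixedPt, smul_iterate]
      show w ^ 7 • x = x
      rw [← hw, pow_orderOf_eq_one, one_smul]
    rcases (Nat.dvd_prime (by norm_num)).1 hdvd with h | h
    · exact absurd (Function.minimalPeriod_eq_one_iff_isFixedPt.1 h) hx
    · exact h
  have hinj : Function.Injective fun i : Fin 7 => w ^ (i : ℕ) • x := by
    intro i i' h
    refine Fin.ext (Function.iterate_injOn_Iio_minimalPeriod (f := (w • · : T → T)) (x := x)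
      (by rw [hper]; exact i.2) (by rw [hper]; exact i'.2) ?_)
    simp only [smul_iterate]
    exact h
  have hsur := (hinj.bijective_of_nat_card_le (by rw [hT, Nat.card_fin])).2
  refine ⟨n, hn, x.1, x.1.2, fun h => x.2 (Subtype.ext h), ?_, fun y hy hy1 => ?_⟩
  · rw [hpow, show (w : MulAut (S : Subgroup G)) ^ 7 = 1 by
      rw [← SubgroupClass.coe_pow, ← hw, pow_orderOf_eq_one]; rfl]
    rfl
  · obtain ⟨i, hi⟩ := hsur ⟨⟨y, hy⟩, fun h => hy1 (congrArg Subtype.val h)⟩
    refine ⟨i, i.2, ?_⟩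
    rw [hpow]
    exact (congrArg (fun z : T => ((z.1 : (S : Subgroup G)) : G)) hi).symm

theorem commutator_mul_left {L : Type*} [Group L] (a b y : L)
    (hz : ⁅b, y⁆ ∈ Subgroup.center L) : ⁅a * b, y⁆ = ⁅a, y⁆ * ⁅b, y⁆ := by
  have h := Subgroup.mem_center_iff.1 hz
  calc ⁅a * b, y⁆ = a * ⁅b, y⁆ * y * a⁻¹ * y⁻¹ := by simp only [commutatorElement_def]; group
    _ = ⁅b, y⁆ * (a * y * a⁻¹ * y⁻¹) := by rw [h a]; group
    _ = ⁅a, y⁆ * ⁅b, y⁆ := by rw [← h (a * y * a⁻¹ * y⁻¹), commutatorElement_def a y]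

theorem cases_seven {M : Type*} [CommGroup M] (c : ℕ → M) (k : ℕ) (hk : 2 ≤ k) (hk7 : k < 7)
    (h0 : c 0 = 1) (hsq : ∀ i, c i * c i = 1) (hper : ∀ i, c (i + 7) = c i)
    (hsym : ∀ i ≤ 7, c (7 - i) = c i) (hrel : ∀ i, c (i + k) = c i * c (i + 1)) :
    ∀ i, c i = 1 := by
  have r0 := hrel 0
  have r1 := hrel 1
  have r2 := hrel 2
  have r3 := hrel 3
  have r4 := hrel 4
  have r5 := hrel 5
  have r6 := hrel 6
  have e4 : c 4 = c 3 := hsym 3 (by norm_num)
  have e5 : c 5 = c 2 := hsym 2 (by norm_num)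
  have e6 : c 6 = c 1 := hsym 1 (by norm_num)
  have e7 : c 7 = 1 := (hper 0).trans h0
  have s1 := hsq 1
  have s2 := hsq 2
  have s3 := hsq 3
  have base : c 1 = 1 ∧ c 2 = 1 ∧ c 3 = 1 := by
    interval_cases k <;>
      simp only [Nat.reduceAdd, hper 1, hper 2, hper 3, hper 4, hper 5, show c 8 = c 1 from hper 1,
        show c 9 = c 2 from hper 2, show c 10 = c 3 from hper 3, show c 11 = c 4 from hper 4,
        show c 12 = c 5 from hper 5, e4, e5, e6, e7, h0, one_mul, mul_one]
        at r0 r1 r2 r3 r4 r5 r6 <;>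
      grind
  intro i
  induction i using Nat.strong_induction_on with
  | _ i ih =>
    by_cases hi : i < 7
    · interval_cases i <;> simp [h0, base.1, base.2.1, base.2.2, e4, e5, e6]
    · obtain ⟨d, rfl⟩ : ∃ d, i = d + 7 := ⟨i - 7, by omega⟩
      rw [hper]
      exact ih d (by omega)

theorem center_eq_bot_cover [IsSimpleGroup G] (hG : ¬ IsMulCommutative G) (S : Sylow 2 G)
    (hab : IsMulCommutative (S : Subgroup G)) (h8 : Nat.card (S : Subgroup G) = 8)
    (h2 : ∀ x ∈ (S : Subgroup G), x * x = 1) {L : Type v} [Group L] [Finite L] (f : L →* G)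
    (hf : Function.Surjective f) (hker : f.ker ≤ Subgroup.center L) (hZ : IsPGroup 2 f.ker)
    (hperf : commutator L = ⊤) : f.ker = ⊥ := by
  classical
  obtain ⟨n, hn, s, hs, hs1, hn7, hall⟩ := exists_seven_cycle hG S hab h8
  obtain ⟨x, hx⟩ := hf s
  obtain ⟨m, hm⟩ := hf n
  let u : ℕ → L := fun i => m ^ i * x * (m ^ i)⁻¹
  have hu : ∀ i, f (u i) = n ^ i * s * (n ^ i)⁻¹ := fun i => by simp [u, hx, hm]
  have husucc : ∀ i j, u (i + j) = m ^ j * u i * (m ^ j)⁻¹ := fun i j => by
    simp only [u, pow_add]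
    rw [← pow_add, add_comm, pow_add]
    group
  have huS : ∀ i, f (u i) ∈ (S : Subgroup G) := fun i => by
    rw [hu]; exact (Subgroup.mem_normalizer_iff.1 (pow_mem hn i) s).1 hs
  have hcentral : ∀ a b : L, f a ∈ (S : Subgroup G) → f b ∈ (S : Subgroup G) →
      ⁅a, b⁆ ∈ Subgroup.center L := fun a b ha hb => hker (by
    rw [MonoidHom.mem_ker, map_commutatorElement, commutatorElement_eq_one_iff_mul_comm]
    exact congrArg Subtype.val (hab.is_comm.comm (⟨f a, ha⟩ : (S : Subgroup G)) ⟨f b, hb⟩))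
  have hclass : ∀ a b a' b' : L, f a = f a' → f b = f b' → f a' ∈ (S : Subgroup G) →
      ⁅a, b⁆ = ⁅a', b'⁆ := by
    intro a b a' b' h h' _
    have key : ∀ a a' b : L, f a = f a' → ⁅a, b⁆ = ⁅a', b⁆ := fun a a' b h => by
      have hz : a⁻¹ * a' ∈ Subgroup.center L := hker (by simp [MonoidHom.mem_ker, h])
      obtain ⟨z, hz', rfl⟩ : ∃ z, z ∈ Subgroup.center L ∧ a' = a * z := ⟨_, hz, by group⟩
      have e := Subgroup.mem_center_iff.1 hz'
      rw [commutatorElement_def, commutatorElement_def, mul_inv_rev, mul_assoc a z b, ← e b]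
      simp [mul_assoc]
    rw [key a a' b h, ← commutatorElement_inv b a', key b b' a' h', commutatorElement_inv]
  let c : ℕ → Subgroup.center L := fun i => ⟨⁅x, u i⁆, hcentral _ _ (hx ▸ hs) (huS i)⟩
  letI : CommGroup (Subgroup.center L) :=
    { (inferInstance : Group (Subgroup.center L)) with
      mul_comm := fun a b => Subtype.ext (Subgroup.mem_center_iff.1 b.2 a) }
  have shift : ∀ i j, ⁅u j, u (i + j)⁆ = ⁅x, u i⁆ := fun i j => by
    rw [husucc, show u j = m ^ j * x * (m ^ j)⁻¹ from rfl]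
    have h := Subgroup.mem_center_iff.1 (hcentral _ _ (hx ▸ hs : f x ∈ _) (huS i)) (m ^ j)
    calc ⁅m ^ j * x * (m ^ j)⁻¹, m ^ j * u i * (m ^ j)⁻¹⁆ = m ^ j * ⁅x, u i⁆ * (m ^ j)⁻¹ := by
          simp only [commutatorElement_def]; group
      _ = _ := by rw [h, mul_inv_cancel_right]
  have hper : ∀ i, f (u (i + 7)) = f (u i) := fun i => by
    rw [hu, hu, pow_add]
    calc n ^ i * n ^ 7 * s * (n ^ i * n ^ 7)⁻¹ = n ^ i * (n ^ 7 * s * (n ^ 7)⁻¹) * (n ^ i)⁻¹ := by
          group
      _ = _ := by rw [hn7]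
  have hu0 : u 0 = x := by simp [u]
  have hf1 : f (u 1) ∈ (S : Subgroup G) := huS 1
  obtain ⟨k, hk7, hk⟩ := hall (s * (n * s * n⁻¹))
    (mul_mem hs ((Subgroup.mem_normalizer_iff.1 hn s).1 hs)) (by
      intro h
      have h' : n * s * n⁻¹ = s := (mul_left_cancel (h.trans (h2 s hs).symm))
      have hpw : ∀ i : ℕ, n ^ i * s * (n ^ i)⁻¹ = s := fun i => by
        induction i with
        | zero => simp
        | succ i ih =>
          rw [pow_succ, show n ^ i * n * s * (n ^ i * n)⁻¹ = n ^ i * (n * s * n⁻¹) * (n ^ i)⁻¹ by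
            group, h', ih]
      have hsub : (S : Subgroup G) ≤ Subgroup.zpowers s := fun y hy => by
        by_cases hy1 : y = 1
        · exact hy1 ▸ one_mem _
        · obtain ⟨i, -, rfl⟩ := hall y hy hy1
          rw [hpw i]; exact Subgroup.mem_zpowers s
      have hcard := Subgroup.card_le_of_le hsub
      rw [h8, Nat.card_zpowers] at hcard
      have := Nat.le_of_dvd (by norm_num) (orderOf_dvd_of_pow_eq_one
        (show s ^ 2 = 1 by rw [pow_two, h2 s hs]))
      omega)
  have hk2 : 2 ≤ k := by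
    by_contra hlt
    rcases (show k = 0 ∨ k = 1 by omega) with rfl | rfl
    · simp at hk
      exact hs1 hk
    · simp at hk
      exact hs1 hk
  have hrel : ∀ i, f (u (i + k)) = f (u i * u (i + 1)) := fun i => by
    rw [map_mul f (u i) (u (i + 1)), hu, hu, hu, pow_add, pow_add, pow_one,
      show n ^ i * n ^ k * s * (n ^ i * n ^ k)⁻¹ = n ^ i * (n ^ k * s * (n ^ k)⁻¹) * (n ^ i)⁻¹ by
        group, ← hk]
    group
  have hcsq : ∀ i, c i * c i = 1 := fun i => by
    refine Subtype.ext ?_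
    show ⁅x, u i⁆ * ⁅x, u i⁆ = 1
    rw [← commutator_mul_left _ _ _ (hcentral _ _ (hx ▸ hs) (huS i)),
      hclass (x * x) (u i) 1 (u i) (by rw [map_mul, hx, map_one, h2 s hs]) rfl
        (by simp), commutatorElement_one_left]
  have hcinv : ∀ i, (c i)⁻¹ = c i := fun i => inv_eq_of_mul_eq_one_left (hcsq i)
  have hall1 := cases_seven c k hk2 hk7
    (Subtype.ext (by show ⁅x, u 0⁆ = 1; rw [hu0, commutatorElement_self]))
    hcsq
    (fun i => Subtype.ext (hclass x _ x _ rfl (hper i) (hx ▸ hs)))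
    (fun i hi => by
      rw [← hcinv i]
      refine Subtype.ext ?_
      show ⁅x, u (7 - i)⁆ = ⁅x, u i⁆⁻¹
      rw [commutatorElement_inv, ← shift (7 - i) i, Nat.sub_add_cancel hi]
      exact hclass _ _ _ _ rfl (by rw [show (7 : ℕ) = 0 + 7 from rfl, hper, hu0]) (huS i))
    (fun i => Subtype.ext (by
      show ⁅x, u (i + k)⁆ = ⁅x, u i⁆ * ⁅x, u (i + 1)⁆
      rw [hclass x _ x _ rfl (hrel i) (hx ▸ hs), ← commutatorElement_inv (u i * u (i + 1)) x,
        commutator_mul_left _ _ _ (hcentral _ _ (huS _) (hx ▸ hs)), mul_inv_rev,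
        commutatorElement_inv, commutatorElement_inv]
      exact Subgroup.mem_center_iff.1 (hcentral _ _ (hx ▸ hs) (huS i)) _))
  -- the preimage of `S` is abelian
  have hc1 : ∀ i, ⁅x, u i⁆ = 1 := fun i => congrArg Subtype.val (hall1 i)
  have huu : ∀ i j, ⁅u i, u j⁆ = 1 := by
    intro i j
    rcases le_total i j with hij | hij
    · obtain ⟨d, rfl⟩ := Nat.exists_eq_add_of_le hij
      rw [add_comm i d, shift d i, hc1]
    · obtain ⟨d, rfl⟩ := Nat.exists_eq_add_of_le hij
      rw [← commutatorElement_inv, add_comm j d, shift d j, hc1, inv_one]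
  let P : Subgroup L := (S : Subgroup G).comap f
  have hPab : IsMulCommutative P := ⟨⟨by
    rintro ⟨a, ha⟩ ⟨b, hb⟩
    refine Subtype.ext (commutatorElement_eq_one_iff_mul_comm.1 ?_)
    show ⁅a, b⁆ = 1
    have rep : ∀ a : L, f a ∈ (S : Subgroup G) → f a = 1 ∨ ∃ i, f a = f (u i) := fun a ha => by
      by_cases h : f a = 1
      · exact Or.inl h
      · obtain ⟨i, -, hi⟩ := hall _ ha h
        exact Or.inr ⟨i, hi.trans (hu i).symm⟩
    rcases rep a ha with h | ⟨i, h⟩
    · rw [hclass a b 1 b (h.trans (map_one f).symm) rfl (by simp), commutatorElement_one_left]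
    rcases rep b hb with h' | ⟨j, h'⟩
    · rw [hclass a b a 1 rfl (h'.trans (map_one f).symm) ha, commutatorElement_one_right]
    rw [hclass a b (u i) (u j) h h' (huS i), huu]⟩⟩
  have hPidx : P.index = (S : Subgroup G).index := Subgroup.index_comap_of_surjective _ hf
  have hcop : (Nat.card P).Coprime P.index := by
    rw [hPidx]
    have hPp : IsPGroup 2 P := S.isPGroup'.comap_of_ker_isPGroup f hZ
    obtain ⟨j, hj⟩ := hPp.exists_card_eq
    rw [hj]
    exact (Nat.coprime_two_left.2 (odd_index S)).pow_left j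
  have hbot := CfsgLib.Transfer.inf_commutator_inf_center_eq_bot P hcop
  refine eq_bot_iff.2 fun z hz => ?_
  rw [← hbot]
  refine ⟨⟨?_, hperf ▸ Subgroup.mem_top z⟩, hker hz⟩
  show f z ∈ (S : Subgroup G)
  rw [MonoidHom.mem_ker.1 hz]
  exact one_mem _

end Eight

end CfsgLib.Classical.AbSylow
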