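import Mathlib

/-!
Orders of GL, SL, PSL, PGL over a finite field and of their centres.
-/

set_option autoImplicit false

namespace CfsgLib.Classical

open Matrix

section Card

variable {F : Type*} [Field F] [Fintype F]

theorem card_GL (n : ℕ) :
    Nat.card (GeneralLinearGroup (Fin n) F) =
      ∏ i : Fin n, (Fintype.card F ^ n - Fintype.card F ^ (i : ℕ)) :=
  Matrix.card_GL_field n

theorem card_units_field : Nat.card Fˣ = Fintype.card F - 1 := by
  classical
  rw [Nat.card_eq_fintype_card, Fintype.card_units]

omit [Fintype F] in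
theorem toGL_range_eq_ker_det {ι : Type*} [Fintype ι] [DecidableEq ι] :
    (SpecialLinearGroup.toGL : SpecialLinearGroup ι F →* GeneralLinearGroup ι F).range =
      (GeneralLinearGroup.det : GeneralLinearGroup ι F →* Fˣ).ker := by
  ext g
  constructor
  · rintro ⟨s, rfl⟩
    rw [MonoidHom.mem_ker]
    ext
    simp
  · intro hg
    rw [MonoidHom.mem_ker] at hg
    have h : (g : Matrix ι ι F).det = 1 := by
      have := congrArg Units.val hg
      simpa using this
    exact ⟨⟨(g : Matrix ι ι F), h⟩, Units.ext rfl⟩

theorem card_SL_mul {ι : Type*} [Fintype ι] [DecidableEq ι] [Nonempty ι] :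
    (Fintype.card F - 1) * Nat.card (SpecialLinearGroup ι F) =
      Nat.card (GeneralLinearGroup ι F) := by
  have h1 := (GeneralLinearGroup.det : GeneralLinearGroup ι F →* Fˣ).ker.card_mul_index
  rw [Subgroup.index_ker,
    MonoidHom.range_eq_top.2 GeneralLinearGroup.det_surjective, Subgroup.card_top,
    card_units_field, ← toGL_range_eq_ker_det,
    Nat.card_congr (MonoidHom.ofInjective SpecialLinearGroup.toGL_injective).toEquiv.symm] at h1
  rw [← h1, mul_comm]

theorem card_SL (n : ℕ) (hn : 1 ≤ n) :
    (Fintype.card F - 1) * Nat.card (SpecialLinearGroup (Fin n) F) =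
      ∏ i : Fin n, (Fintype.card F ^ n - Fintype.card F ^ (i : ℕ)) := by
  have : Nonempty (Fin n) := ⟨⟨0, hn⟩⟩
  rw [card_SL_mul, card_GL]

theorem card_rootsOfUnity_field (k : ℕ) :
    Nat.card (rootsOfUnity k F) = Nat.gcd k (Fintype.card F - 1) := by
  have h : rootsOfUnity k F = (powMonoidHom k : Fˣ →* Fˣ).ker := by
    ext x; simp
  rw [h, IsCyclic.card_powMonoidHom_ker, card_units_field, Nat.gcd_comm]

theorem card_center_SL {ι : Type*} [Fintype ι] [DecidableEq ι] [Nonempty ι] :
    Nat.card (Subgroup.center (SpecialLinearGroup ι F)) =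
      Nat.gcd (Fintype.card ι) (Fintype.card F - 1) := by
  rw [Nat.card_congr (SpecialLinearGroup.center_equiv_rootsOfUnity'
    (Classical.arbitrary ι)).toEquiv, card_rootsOfUnity_field]

theorem card_SL_eq_gcd_mul_card_PSL {ι : Type*} [Fintype ι] [DecidableEq ι] [Nonempty ι] :
    Nat.card (SpecialLinearGroup ι F) =
      Nat.gcd (Fintype.card ι) (Fintype.card F - 1) *
        Nat.card (ProjectiveSpecialLinearGroup ι F) := by
  rw [Subgroup.card_eq_card_quotient_mul_card_subgroup
    (Subgroup.center (SpecialLinearGroup ι F)), card_center_SL, mul_comm]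

theorem card_center_GL {ι : Type*} [Fintype ι] [DecidableEq ι] [Nonempty ι] :
    Nat.card (Subgroup.center (GeneralLinearGroup ι F)) = Fintype.card F - 1 := by
  rw [GeneralLinearGroup.center_eq_range_scalar, ← card_units_field (F := F)]
  refine (Nat.card_congr (MonoidHom.ofInjective ?_).toEquiv).symm
  intro a b h
  have h2 := congrArg
    (fun g : GeneralLinearGroup ι F =>
      (g : Matrix ι ι F) (Classical.arbitrary ι) (Classical.arbitrary ι)) h
  exact Units.ext (by simpa using h2)

theorem card_PGL_eq_card_SL {ι : Type*} [Fintype ι] [DecidableEq ι] :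
    Nat.card (ProjGenLinGroup ι F) = Nat.card (SpecialLinearGroup ι F) := by
  cases isEmpty_or_nonempty ι with
  | inl h =>
    have : Subsingleton (GeneralLinearGroup ι F) := ⟨fun a b => Units.ext (Subsingleton.elim _ _)⟩
    have : Subsingleton (ProjGenLinGroup ι F) := ProjGenLinGroup.mk_surjective.subsingleton
    rw [Nat.card_unique, Nat.card_unique]
  | inr h =>
    have h1 := Subgroup.card_eq_card_quotient_mul_card_subgroup
      (Subgroup.center (GeneralLinearGroup ι F))
    rw [card_center_GL, ← card_SL_mul, mul_comm] at h1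
    have hpos : 0 < Fintype.card F - 1 := by
      have := Fintype.one_lt_card (α := F)
      omega
    exact (Nat.eq_of_mul_eq_mul_right hpos h1).symm

omit [Fintype F] in
theorem range_toPGL_eq {ι : Type*} [Fintype ι] [DecidableEq ι] :
    (ProjectiveSpecialLinearGroup.toPGL :
      ProjectiveSpecialLinearGroup ι F →* ProjGenLinGroup ι F).range =
      (GeneralLinearGroup.det : GeneralLinearGroup ι F →* Fˣ).ker.map ProjGenLinGroup.mk := by
  rw [← toGL_range_eq_ker_det, MonoidHom.map_range]
  ext x
  constructor
  · rintro ⟨a, rfl⟩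
    induction a using QuotientGroup.induction_on with
    | H g => exact ⟨g, rfl⟩
  · rintro ⟨g, rfl⟩
    exact ⟨(g : ProjectiveSpecialLinearGroup ι F), rfl⟩

end Card

end CfsgLib.Classical
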