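import Cfsg.Agent.Lib.Classical.SimpleQuot
import Cfsg.Agent.Lib.Classical.LinearOrder

/-!
Generation, perfectness and simplicity for SL, GL and PSL over an arbitrary field.
-/

set_option autoImplicit false

namespace CfsgLib.Classical

open Matrix
open scoped commutatorElement Pointwise LinearAlgebra.Projectivization

variable {ι : Type*} [Fintype ι] [DecidableEq ι] {F : Type*} [Field F]

theorem transvection_smul_apply {i j : ι} (hij : i ≠ j) (b : F) (x : ι → F) (k : ι) :
    (SpecialLinearGroup.transvection hij b • x) k = x k + if k = i then b * x j else 0 := by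
  simp [Matrix.SpecialLinearGroup.smul_def, Matrix.smul_eq_mulVec, SpecialLinearGroup.transvection_coe, Matrix.add_mulVec,
    Matrix.single_mulVec_eq, Pi.single_apply]

theorem diag2n_smul_apply {i j : ι} (hij : i ≠ j) {a : F} (ha : a ≠ 0) (x : ι → F) (k : ι) :
    (SpecialLinearGroup.diag2n hij a ha • x) k =
      (if k = i then a else if k = j then a⁻¹ else 1) * x k := by
  simp [Matrix.SpecialLinearGroup.smul_def, Matrix.smul_eq_mulVec, SpecialLinearGroup.diag2n_coe, Matrix.mulVec_diagonal]

theorem sl_ext_smul {g h : SpecialLinearGroup ι F} (H : ∀ x : ι → F, g • x = h • x) : g = h :=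
  Subtype.ext (Matrix.ext_iff_smul.2 fun x => by
    simpa [Matrix.SpecialLinearGroup.smul_def, Matrix.smul_eq_mulVec] using H x)

theorem diag2n_eq_prod {i j : ι} (hij : i ≠ j) {a : F} (ha : a ≠ 0) :
    SpecialLinearGroup.diag2n hij a ha =
      SpecialLinearGroup.transvection hij a * SpecialLinearGroup.transvection hij.symm (-a⁻¹) *
      SpecialLinearGroup.transvection hij a * SpecialLinearGroup.transvection hij (-1) *
      SpecialLinearGroup.transvection hij.symm 1 * SpecialLinearGroup.transvection hij (-1) := by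
  refine sl_ext_smul fun x => funext fun k => ?_
  simp only [mul_smul, transvection_smul_apply, diag2n_smul_apply]
  by_cases hki : k = i
  · subst hki
    simp only [if_true, if_neg hij, if_neg hij.symm]
    field_simp
    ring
  · by_cases hkj : k = j
    · subst hkj
      simp only [if_true, if_neg hij, if_neg hij.symm]
      field_simp
      ring
    · simp [hki, hkj]

theorem closure_transvection_eq_top [Nontrivial ι] (H : Subgroup (SpecialLinearGroup ι F))
    (h : ∀ (i j : ι) (hij : i ≠ j) (c : F), SpecialLinearGroup.transvection hij c ∈ H) :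
    H = ⊤ := by
  refine eq_top_iff.2 fun g _ => ?_
  refine SpecialLinearGroup.diagonal_transvection_induction' (· ∈ H) g ?_ h
    (fun _ _ => mul_mem)
  intro i j hij c hc
  rw [diag2n_eq_prod hij hc]
  exact mul_mem (mul_mem (mul_mem (mul_mem (mul_mem (h _ _ _ _) (h _ _ _ _)) (h _ _ _ _))
    (h _ _ _ _)) (h _ _ _ _)) (h _ _ _ _)

theorem transvection_eq_commutator {i j k : ι} (hij : i ≠ j) (hik : i ≠ k) (hkj : k ≠ j) (c : F) :
    ⁅SpecialLinearGroup.transvection hik c, SpecialLinearGroup.transvection hkj (1 : F)⁆ =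
      SpecialLinearGroup.transvection hij c := by
  rw [commutatorElement_def, SpecialLinearGroup.transvection_inv,
    SpecialLinearGroup.transvection_inv]
  refine sl_ext_smul fun x => funext fun l => ?_
  simp only [mul_smul, transvection_smul_apply]
  by_cases hli : l = i
  · subst hli
    simp [hik, hij, hij.symm, hik.symm, hkj, hkj.symm]
    ring
  · by_cases hlk : l = k
    · subst hlk
      simp [hik, hij, hij.symm, hik.symm, hkj, hkj.symm]
    · simp [hli, hlk]

theorem exists_third {n : ℕ} (hn : 3 ≤ n) (i j : Fin n) : ∃ k, k ≠ i ∧ k ≠ j := by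
  by_contra h
  push Not at h
  have hsub : (Finset.univ : Finset (Fin n)) ⊆ {i, j} := fun k _ => by
    rcases eq_or_ne k i with hk | hk
    · simp [hk]
    · simp [h k hk]
  have h1 := Finset.card_le_card hsub
  rw [Finset.card_univ, Fintype.card_fin] at h1
  have h2 : ({i, j} : Finset (Fin n)).card ≤ 2 := Finset.card_le_two
  omega

theorem commutator_SL_eq_top {n : ℕ} (hn : 3 ≤ n) :
    commutator (SpecialLinearGroup (Fin n) F) = ⊤ := by
  have : Nontrivial (Fin n) := Fin.nontrivial_iff_two_le.2 (by omega)
  refine closure_transvection_eq_top _ fun i j hij c => ?_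
  obtain ⟨k, hki, hkj⟩ := exists_third hn i j
  rw [← transvection_eq_commutator hij hki.symm hkj c]
  exact Subgroup.commutator_mem_commutator (Subgroup.mem_top _) (Subgroup.mem_top _)

/-- The Iwasawa structure of SL on projective space. -/
noncomputable def slIwasawa [Nontrivial ι] :
    MulAction.IwasawaStructure (SpecialLinearGroup ι F) (ℙ F (ι → F)) where
  T p := SpecialLinearGroup.lineStab p.submodule
  is_comm p := by
    rw [← Projectivization.mk_rep p, Projectivization.submodule_mk]
    exact SpecialLinearGroup.lineStab_isMulCommutative_of_span p.rep p.rep_nonzero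
  is_conj g p := by
    rw [PSL.smul_submodule, SpecialLinearGroup.lineStab_smul]
  is_generator := by
    refine closure_transvection_eq_top _ fun i j hij c => ?_
    refine Subgroup.mem_iSup_of_mem
      (Projectivization.mk F (Pi.single i 1) (Pi.single_ne_zero_iff.2 one_ne_zero)) ?_
    rw [Projectivization.submodule_mk]
    exact SL2Gen.transvection_mem_lineStab hij c

theorem exists_not_mem_center_SL [Nontrivial ι] :
    ∃ g : SpecialLinearGroup ι F, g ∉ Subgroup.center (SpecialLinearGroup ι F) := by
  obtain ⟨i, j, hij⟩ := exists_pair_ne ι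
  exact ⟨SpecialLinearGroup.transvection hij 1, fun h =>
    one_ne_zero ((SpecialLinearGroup.transvection_mem_center_iff hij 1).1 h)⟩

theorem isSimpleGroup_PSL_of_perfect [Nontrivial ι]
    (h : commutator (SpecialLinearGroup ι F) = ⊤) :
    IsSimpleGroup (ProjectiveSpecialLinearGroup ι F) :=
  isSimpleGroup_quotient_center_of_iwasawa slIwasawa h exists_not_mem_center_SL fun g hg => by
    rw [← Projectivization.SL_mulAction_ker]
    exact Equiv.ext hg

theorem isSimpleGroup_PSL {n : ℕ} (hn : 3 ≤ n) :
    IsSimpleGroup (ProjectiveSpecialLinearGroup (Fin n) F) := by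
  have : Nontrivial (Fin n) := Fin.nontrivial_iff_two_le.2 (by omega)
  exact isSimpleGroup_PSL_of_perfect (commutator_SL_eq_top hn)

theorem commutator_GL_eq_ker_det {n : ℕ} (h : n = 2 → ∃ a : F, a ≠ 0 ∧ a ≠ 1) :
    commutator (GeneralLinearGroup (Fin n) F) =
      (GeneralLinearGroup.det : GeneralLinearGroup (Fin n) F →* Fˣ).ker := by
  refine le_antisymm (Abelianization.commutator_subset_ker _) ?_
  rw [← toGL_range_eq_ker_det]
  rintro _ ⟨g, rfl⟩
  by_cases hn : n ≤ 1
  · have : Subsingleton (Fin n) := Fin.subsingleton_iff_le_one.2 hn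
    have : g = 1 := Subsingleton.elim _ _
    simp [this]
  by_cases hn2 : n = 2
  · obtain ⟨a, ha, ha1⟩ := h hn2
    subst hn2
    suffices ∀ (i j : Fin 2) (hij : i ≠ j) (c : F),
        SpecialLinearGroup.toGL (SpecialLinearGroup.transvection hij c) ∈
          commutator (GeneralLinearGroup (Fin 2) F) by
      have htop := closure_transvection_eq_top
        ((commutator (GeneralLinearGroup (Fin 2) F)).comap SpecialLinearGroup.toGL) this
      exact (htop.ge (Subgroup.mem_top g) :)
    intro i j hij c
    let d : GeneralLinearGroup (Fin 2) F :=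
      GeneralLinearGroup.mkOfDetNeZero (diagonal fun k => if k = i then a else 1)
        (by rw [det_diagonal, Finset.prod_ite_eq' Finset.univ i (fun _ => a)]; simp [ha])
    have hd : a - 1 ≠ 0 := sub_ne_zero.2 ha1
    have key : ⁅d, SpecialLinearGroup.toGL (SpecialLinearGroup.transvection hij (c / (a - 1)))⁆ =
        SpecialLinearGroup.toGL (SpecialLinearGroup.transvection hij c) := by
      rw [commutatorElement_def, mul_inv_eq_iff_eq_mul, mul_inv_eq_iff_eq_mul]
      refine Units.ext ?_
      simp only [Units.val_mul, SpecialLinearGroup.coe_GL_coe_matrix,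
        SpecialLinearGroup.transvection_coe, d]
      show diagonal _ * _ = _ * _ * diagonal _
      ext k l
      simp only [Matrix.mul_apply, Fin.sum_univ_two, Matrix.add_apply, Matrix.one_apply,
        Matrix.single_apply, Matrix.diagonal_apply]
      fin_cases i <;> fin_cases j <;> simp at hij <;> fin_cases k <;> fin_cases l <;>
        simp <;> field_simp <;> ring
    rw [← key]
    exact Subgroup.commutator_mem_commutator (Subgroup.mem_top _) (Subgroup.mem_top _)
  · have hmem : g ∈ commutator (SpecialLinearGroup (Fin n) F) := by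
      rw [commutator_SL_eq_top (by omega)]; exact Subgroup.mem_top _
    have h1 := Subgroup.mem_map_of_mem
      (SpecialLinearGroup.toGL : SpecialLinearGroup (Fin n) F →* GeneralLinearGroup (Fin n) F) hmem
    rw [map_commutator_eq] at h1
    exact Subgroup.commutator_mono le_top le_top h1

theorem exists_smul_eq_SL {n : ℕ} {v w : Fin (n + 2) → F} (hv : v ≠ 0) (hw : w ≠ 0) :
    ∃ g : SpecialLinearGroup (Fin (n + 2)) F, g • v = w := by
  suffices ∀ u : Fin (n + 2) → F, u ≠ 0 →
      ∃ g : SpecialLinearGroup (Fin (n + 2)) F, g • (Pi.single 0 1 : Fin (n + 2) → F) = u by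
    obtain ⟨g, hg⟩ := this v hv
    obtain ⟨h, hh⟩ := this w hw
    exact ⟨h * g⁻¹, by rw [mul_smul, ← hg, inv_smul_smul, hh]⟩
  intro u hu
  have he : (Pi.single 0 1 : Fin (n + 2) → F) ≠ 0 := Pi.single_ne_zero_iff.2 one_ne_zero
  obtain ⟨g, hg⟩ := MulAction.exists_smul_eq (SpecialLinearGroup (Fin (n + 2)) F)
    (Projectivization.mk F (Pi.single 0 1 : Fin (n + 2) → F) he) (Projectivization.mk F u hu)
  rw [Projectivization.smul_mk, Projectivization.mk_eq_mk_iff'] at hg
  obtain ⟨a, ha⟩ := hg
  have ha0 : a ≠ 0 := by
    rintro rfl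
    rw [zero_smul] at ha
    exact (smul_ne_zero_iff_ne g).2 he ha.symm
  refine ⟨g * SpecialLinearGroup.diag2n (zero_ne_one : (0 : Fin (n + 2)) ≠ 1) a⁻¹
    (inv_ne_zero ha0), ?_⟩
  have hd : SpecialLinearGroup.diag2n (zero_ne_one : (0 : Fin (n + 2)) ≠ 1) a⁻¹
      (inv_ne_zero ha0) • (Pi.single 0 1 : Fin (n + 2) → F) = a⁻¹ • Pi.single 0 1 := by
    funext k
    rw [diag2n_smul_apply]
    by_cases hk : k = 0 <;> simp [hk]
  rw [mul_smul, hd, smul_comm, ← ha, inv_smul_smul₀ ha0]

end CfsgLib.Classical
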