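import Cfsg.Agent.Lib.Classical.SylowGL
import Cfsg.Agent.Lib.Classical.SLGroup

/-!
Sylow subgroups of GL(2,q) and SL(2,q) in the defining characteristic, in terms of points of the
projective line.
-/

set_option autoImplicit false

namespace CfsgLib.Classical.Two

open Matrix
open scoped LinearAlgebra.Projectivization Pointwise MatrixGroups

variable {F : Type*} [Field F]

theorem single_ne_zero (i : Fin 2) : (Pi.single i 1 : Fin 2 → F) ≠ 0 :=
  Pi.single_ne_zero_iff.2 one_ne_zero

variable (F) in
/-- The point `[e_i]` of the projective line. -/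
abbrev basePoint (i : Fin 2) : ℙ F (Fin 2 → F) :=
  Projectivization.mk F (Pi.single i 1) (single_ne_zero i)

/-- The root group attached to a point of the projective line. -/
abbrev rootGroup (p : ℙ F (Fin 2 → F)) : Subgroup SL(2, F) :=
  SpecialLinearGroup.lineStab p.submodule

theorem rootGroup_smul (g : SL(2, F)) (p : ℙ F (Fin 2 → F)) :
    rootGroup (g • p) = MulAut.conj g • rootGroup p := by
  rw [rootGroup, PSL.smul_submodule, SpecialLinearGroup.lineStab_smul]

theorem rootGroup_basePoint :
    rootGroup (basePoint F 0) = Set.range (fun b : F =>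
      SpecialLinearGroup.transvection (zero_ne_one : (0 : Fin 2) ≠ 1) b) := by
  ext A
  rw [SetLike.mem_coe, rootGroup, Projectivization.submodule_mk]
  constructor
  · intro hA
    refine ⟨(A : Matrix (Fin 2) (Fin 2) F) 0 1, sl_ext_smul fun x => funext fun k => ?_⟩
    have h0 := congrFun (SpecialLinearGroup.lineStab_fix_of_span _ (single_ne_zero 0) A hA)
    obtain ⟨c, hc⟩ := Submodule.mem_span_singleton.1 (hA (Pi.single 1 1))
    have h1 := congrFun hc
    simp only [Matrix.SpecialLinearGroup.smul_def, Matrix.smul_eq_mulVec] at h0 h1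
    have a00 := h0 0
    have a10 := h0 1
    have a11 := h1 1
    simp [Matrix.mulVec, dotProduct, Fin.sum_univ_two] at a00 a10 a11
    rw [transvection_smul_apply, Matrix.SpecialLinearGroup.smul_def, Matrix.smul_eq_mulVec]
    fin_cases k
    · simp [Matrix.mulVec, dotProduct, Fin.sum_univ_two, a00]
    · simp [Matrix.mulVec, dotProduct, Fin.sum_univ_two, a10, sub_eq_zero.1 a11.symm]
  · rintro ⟨b, rfl⟩
    exact SL2Gen.transvection_mem_lineStab _ b

theorem card_rootGroup (p : ℙ F (Fin 2 → F)) : Nat.card (rootGroup p) = Nat.card F := by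
  obtain ⟨g, rfl⟩ := MulAction.exists_smul_eq SL(2, F) (basePoint F 0) p
  rw [rootGroup_smul, ← Nat.card_congr (Subgroup.equivSMul (MulAut.conj g) _).toEquiv]
  have h : Nat.card (rootGroup (basePoint F 0)) =
      Nat.card (Set.range fun b : F =>
        SpecialLinearGroup.transvection (zero_ne_one : (0 : Fin 2) ≠ 1) b) := by
    rw [← rootGroup_basePoint]; rfl
  rw [h, Nat.card_range_of_injective]
  intro a b hab
  have := congrFun (congrFun (congrArg Subtype.val hab) 0) 1
  simpa [SpecialLinearGroup.transvection_coe] using this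

theorem rootGroup_disjoint {p r : ℙ F (Fin 2 → F)} (h : p ≠ r) :
    rootGroup p ⊓ rootGroup r = ⊥ := by
  rw [eq_bot_iff]
  intro A hA
  have hp := hA.1
  have hr := hA.2
  rw [SetLike.mem_coe, rootGroup] at hp hr
  rw [← p.mk_rep, Projectivization.submodule_mk] at hp
  rw [← r.mk_rep, Projectivization.submodule_mk] at hr
  have h1 := SpecialLinearGroup.lineStab_fix_of_span _ p.rep_nonzero A hp
  have h2 := SpecialLinearGroup.lineStab_fix_of_span _ r.rep_nonzero A hr
  have hli : LinearIndependent F ![p.rep, r.rep] := by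
    rw [LinearIndependent.pair_iff' p.rep_nonzero]
    intro a ha
    apply h
    rw [← p.mk_rep, ← r.mk_rep]
    exact ((Projectivization.mk_eq_mk_iff' F _ _ r.rep_nonzero p.rep_nonzero).2 ⟨a, ha⟩).symm
  have htop : Submodule.span F (Set.range ![p.rep, r.rep]) = ⊤ :=
    hli.span_eq_top_of_card_eq_finrank (by simp)
  rw [Subgroup.mem_bot]
  refine sl_ext_smul fun x => ?_
  have hx : x ∈ Submodule.span F (Set.range ![p.rep, r.rep]) := htop ▸ Submodule.mem_top
  rw [Matrix.range_cons_cons_empty, Submodule.mem_span_pair] at hx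
  obtain ⟨a, b, rfl⟩ := hx
  rw [smul_add, smul_comm A a, smul_comm A b, h1, h2, one_smul]

theorem rootGroup_sup_eq_top {p r : ℙ F (Fin 2 → F)} (h : p ≠ r) :
    rootGroup p ⊔ rootGroup r = ⊤ := by
  have hne : basePoint F 0 ≠ basePoint F 1 := by
    intro hc
    obtain ⟨a, ha⟩ := (Projectivization.mk_eq_mk_iff' F _ _ _ _).1 hc
    simpa using congrFun ha 0
  obtain ⟨g, hg0, hg1⟩ := MulAction.is_two_pretransitive_iff.1
    (inferInstance : MulAction.IsMultiplyPretransitive SL(2, F) (ℙ F (Fin 2 → F)) 2) hne h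
  rw [← hg0, ← hg1, rootGroup_smul, rootGroup_smul, ← Subgroup.smul_sup]
  have h01 : rootGroup (basePoint F 0) ⊔ rootGroup (basePoint F 1) = ⊤ := by
    rw [rootGroup, rootGroup, Projectivization.submodule_mk, Projectivization.submodule_mk]
    exact SL2Gen.SL_card_two_lineStab_sup_eq_top
  rw [h01, eq_top_iff]
  intro x _
  rw [Subgroup.mem_pointwise_smul_iff_inv_smul_mem]
  exact Subgroup.mem_top _

variable [Fintype F]

theorem card_line : Nat.card (ℙ F (Fin 2 → F)) = Fintype.card F + 1 := by
  rw [Projectivization.card_of_finrank_two _ _ (by simp), Nat.card_eq_fintype_card]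

theorem card_SL_two :
    Nat.card SL(2, F) = Fintype.card F * (Fintype.card F ^ 2 - 1) := by
  have h := card_SL (F := F) 2 (by norm_num)
  rw [prod_pow_sub_pow_eq] at h
  simp [Finset.prod_range_succ] at h
  have hq := Fintype.one_lt_card (α := F)
  apply Nat.eq_of_mul_eq_mul_left (show 0 < Fintype.card F - 1 by omega)
  rw [h]
  ring

variable (p : ℕ) [Fact p.Prime] [CharP F p]

theorem not_dvd_card_sq_sub_one : ¬ p ∣ Fintype.card F ^ 2 - 1 := by
  obtain ⟨f, hf, hq⟩ := exists_card_eq_prime_pow (F := F) p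
  exact not_dvd_pow_sub_one Fact.out (hq ▸ dvd_pow_self p (by omega))
    (by have := Fintype.one_lt_card (α := F); omega) (by norm_num)

theorem card_sylow_SL_two (P : Sylow p SL(2, F)) : Nat.card P = Fintype.card F := by
  obtain ⟨f, hf, hq⟩ := exists_card_eq_prime_pow (F := F) p
  have h := card_sylow_eq_of_card_eq P (f := f) (e := 1) (M := Fintype.card F ^ 2 - 1)
    (by rw [card_SL_two, ← hq, pow_one]) (not_dvd_card_sq_sub_one p)
  rw [h, hq, pow_one]

theorem rootGroup_isPGroup (x : ℙ F (Fin 2 → F)) : IsPGroup p (rootGroup x) := by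
  obtain ⟨f, hf, hq⟩ := exists_card_eq_prime_pow (F := F) p
  exact IsPGroup.of_card (n := f) (by rw [card_rootGroup, Nat.card_eq_fintype_card, hq])

theorem exists_point_sylow_SL (P : Sylow p SL(2, F)) :
    ∃ x : ℙ F (Fin 2 → F), (P : Subgroup SL(2, F)) = rootGroup x := by
  obtain ⟨Q, hQ⟩ := (rootGroup_isPGroup p (basePoint F 0)).exists_le_sylow
  have hQ' : rootGroup (basePoint F 0) = (Q : Subgroup SL(2, F)) :=
    Subgroup.eq_of_le_of_card_ge hQ (by
      rw [card_rootGroup, Nat.card_eq_fintype_card (α := F)]; exact (card_sylow_SL_two p Q).le)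
  obtain ⟨g, rfl⟩ := MulAction.exists_smul_eq SL(2, F) Q P
  exact ⟨g • basePoint F 0, by rw [rootGroup_smul, hQ']; rfl⟩

theorem det_eq_one_of_isPGroup (P : Subgroup (GL (Fin 2) F)) (hP : IsPGroup p P) :
    P ≤ (GeneralLinearGroup.det : GL (Fin 2) F →* Fˣ).ker := by
  intro g hg
  rw [MonoidHom.mem_ker]
  obtain ⟨k, hk⟩ := hP ⟨g, hg⟩
  have h1 : GeneralLinearGroup.det g ^ p ^ k = 1 := by
    rw [← map_pow]
    have := congrArg Subtype.val hk
    simp only [Subgroup.coe_pow, Subgroup.coe_one] at this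
    rw [this, map_one]
  obtain ⟨f, hf, hq⟩ := exists_card_eq_prime_pow (F := F) p
  have h2 : GeneralLinearGroup.det g ^ (Fintype.card F - 1) = 1 := by
    rw [← card_units_field, pow_card_eq_one']
  have hcop : Nat.Coprime (p ^ k) (Fintype.card F - 1) := by
    refine Nat.Coprime.pow_left _ ((Nat.Prime.coprime_iff_not_dvd Fact.out).2 ?_)
    have := not_dvd_pow_sub_one (k := 1) (Fact.out : p.Prime)
      (hq ▸ dvd_pow_self p (by omega) : p ∣ Fintype.card F)
      (by have := Fintype.one_lt_card (α := F); omega) one_ne_zero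
    simpa using this
  have := (pow_gcd_eq_one (m := p ^ k) (n := Fintype.card F - 1)).2 ⟨h1, h2⟩
  rwa [hcop.gcd_eq_one, pow_one] at this

theorem card_sylow_GL_two (P : Sylow p (GL (Fin 2) F)) : Nat.card P = Fintype.card F := by
  rw [card_sylow_GL p 2 P]; norm_num

theorem exists_point_sylow_GL (P : Sylow p (GL (Fin 2) F)) :
    ∃ x : ℙ F (Fin 2 → F),
      (P : Subgroup (GL (Fin 2) F)) = (rootGroup x).map SpecialLinearGroup.toGL := by
  have hle := det_eq_one_of_isPGroup p _ P.isPGroup'
  rw [← toGL_range_eq_ker_det] at hle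
  obtain ⟨x, hx⟩ := exists_point_sylow_SL p (P.comapOfInjective _
    SpecialLinearGroup.toGL_injective hle)
  rw [Sylow.coe_comapOfInjective] at hx
  exact ⟨x, by rw [← hx, Subgroup.map_comap_eq_self hle]⟩

theorem exists_sylow_GL_of_point (x : ℙ F (Fin 2 → F)) :
    ∃ P : Sylow p (GL (Fin 2) F),
      (P : Subgroup (GL (Fin 2) F)) = (rootGroup x).map SpecialLinearGroup.toGL := by
  obtain ⟨Q, hQ⟩ := ((rootGroup_isPGroup p x).map
    (SpecialLinearGroup.toGL : SL(2, F) →* GL (Fin 2) F)).exists_le_sylow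
  refine ⟨Q, (Subgroup.eq_of_le_of_card_ge hQ (le_of_eq ?_)).symm⟩
  rw [Subgroup.card_map_of_injective SpecialLinearGroup.toGL_injective, card_rootGroup,
    Nat.card_eq_fintype_card (α := F)]
  exact card_sylow_GL_two p Q

omit [Fintype F] in
theorem rootGroup_injective : Function.Injective (rootGroup : ℙ F (Fin 2 → F) → Subgroup SL(2, F)) := by
  intro x y hxy
  by_contra h
  have h1 := rootGroup_disjoint h
  rw [← hxy, inf_idem] at h1
  have h2 := rootGroup_basePoint (F := F)
  obtain ⟨g, hg⟩ := MulAction.exists_smul_eq SL(2, F) (basePoint F 0) x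
  have hmem : SpecialLinearGroup.transvection (zero_ne_one : (0 : Fin 2) ≠ 1) (1 : F) ∈
      rootGroup (basePoint F 0) := by
    rw [← SetLike.mem_coe, h2]; exact ⟨1, rfl⟩
  have hmem' := Subgroup.smul_mem_pointwise_smul _ (MulAut.conj g) _ hmem
  rw [← rootGroup_smul, hg, h1, Subgroup.mem_bot] at hmem'
  have h3 : SpecialLinearGroup.transvection (zero_ne_one : (0 : Fin 2) ≠ 1) (1 : F) = 1 := by
    rwa [MulAut.smul_def, EmbeddingLike.map_eq_one_iff] at hmem'
  exact one_ne_zero ((SpecialLinearGroup.transvection_mem_center_iff _ _).1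
    (h3 ▸ one_mem _ : SpecialLinearGroup.transvection _ (1 : F) ∈ Subgroup.center SL(2, F)))

theorem card_sylow_GL_two_set : Nat.card (Sylow p (GL (Fin 2) F)) = Fintype.card F + 1 := by
  rw [← card_line (F := F)]
  choose φ hφ using exists_point_sylow_GL (F := F) p
  refine Nat.card_congr (Equiv.ofBijective φ ⟨fun P Q h => ?_, fun x => ?_⟩)
  · exact Sylow.ext (by rw [hφ, hφ, h])
  · obtain ⟨P, hP⟩ := exists_sylow_GL_of_point p x
    refine ⟨P, rootGroup_injective ?_⟩
    apply Subgroup.map_injective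
      (SpecialLinearGroup.toGL_injective : Function.Injective (SpecialLinearGroup.toGL :
        SL(2, F) → GL (Fin 2) F))
    rw [← hφ, hP]

theorem card_normalizer_sylow_GL_two (P : Sylow p (GL (Fin 2) F)) :
    Nat.card (Subgroup.normalizer ((P : Subgroup (GL (Fin 2) F)) : Set (GL (Fin 2) F))) =
      Fintype.card F * (Fintype.card F - 1) ^ 2 := by
  have h1 := card_sylow_GL_two_set (F := F) p
  rw [P.card_eq_index_normalizer] at h1
  change (Subgroup.normalizer
    ((P : Subgroup (GL (Fin 2) F)) : Set (GL (Fin 2) F))).index = _ at h1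
  have h2 := (Subgroup.normalizer
    ((P : Subgroup (GL (Fin 2) F)) : Set (GL (Fin 2) F))).card_mul_index
  rw [h1, card_GL_eq] at h2
  simp [Finset.prod_range_succ] at h2
  apply Nat.eq_of_mul_eq_mul_right (show 0 < Fintype.card F + 1 by omega)
  refine h2.trans ?_
  rw [show Fintype.card F ^ 2 - 1 = (Fintype.card F + 1) * (Fintype.card F - 1) by
    rw [← Nat.sq_sub_sq, one_pow]]
  ring

end CfsgLib.Classical.Two
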