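import Mathlib.LinearAlgebra.Matrix.SpecialLinearGroup
import Mathlib.LinearAlgebra.Matrix.Adjugate
import Mathlib.LinearAlgebra.Matrix.ProjectiveSpecialLinearGroup
import Mathlib.LinearAlgebra.Matrix.GeneralLinearGroup.Defs
import Mathlib.FieldTheory.Finite.Basic
import Mathlib.Tactic

/-!
# Conjugacy by trace and products of two conjugates in `SL₂`

* `exists_conj`: elements of `SL₂` of equal trace outside the centre are conjugate when the norm
  form of the trace is surjective
* `exists_mul_eq`: every noncentral element (of trace not two, in odd characteristic) is a product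
  of two elements of a given trace
-/

set_option autoImplicit false

namespace CfsgLib.Classical.Trace

open Matrix
open scoped MatrixGroups

variable {F : Type*} [Field F]

/-- The norm form of a trace represents everything. -/
def NormSurj (t : F) : Prop := ∀ d : F, ∃ α β : F, α ^ 2 + t * α * β + β ^ 2 = d

/-- The trace of an element of `SL₂`. -/
def trc (x : SL(2, F)) : F := (x : Matrix (Fin 2) (Fin 2) F) 0 0 + (x : Matrix (Fin 2) (Fin 2) F) 1 1

/-- Being a scalar matrix. -/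
def IsScalar (x : SL(2, F)) : Prop :=
  (x : Matrix (Fin 2) (Fin 2) F) 0 1 = 0 ∧ (x : Matrix (Fin 2) (Fin 2) F) 1 0 = 0 ∧
    (x : Matrix (Fin 2) (Fin 2) F) 0 0 = (x : Matrix (Fin 2) (Fin 2) F) 1 1

theorem det_eq (x : SL(2, F)) :
    (x : Matrix (Fin 2) (Fin 2) F) 0 0 * (x : Matrix (Fin 2) (Fin 2) F) 1 1 -
      (x : Matrix (Fin 2) (Fin 2) F) 0 1 * (x : Matrix (Fin 2) (Fin 2) F) 1 0 = 1 := by
  have h := x.2
  rwa [Matrix.det_fin_two] at h

theorem not_isScalar_of_trc {x : SL(2, F)} (h : trc x ^ 2 ≠ 4) : ¬ IsScalar x := by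
  rintro ⟨h1, h2, h3⟩
  apply h
  have hd := det_eq x
  rw [h1, h2, h3] at hd
  rw [trc, h3]
  linear_combination (4 : F) * hd

theorem not_isScalar_iff_not_mem_center {x : SL(2, F)} :
    ¬ IsScalar x ↔ x ∉ Subgroup.center SL(2, F) := by
  rw [not_iff_not, Matrix.SpecialLinearGroup.mem_center_iff]
  constructor
  · rintro ⟨h1, h2, h3⟩
    refine ⟨(x : Matrix (Fin 2) (Fin 2) F) 0 0, ?_, ?_⟩
    · have hd := det_eq x
      rw [h1, h2, ← h3] at hd
      rw [Fintype.card_fin]
      linear_combination hd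
    · ext i j
      fin_cases i <;> fin_cases j <;> simp [h1, h2, h3]
  · rintro ⟨r, -, hr⟩
    simp [IsScalar, ← hr]

/-- The companion matrix. -/
def comp (t : F) : Matrix (Fin 2) (Fin 2) F := !![0, -1; 1, t]

theorem exists_frame {x : SL(2, F)} (hx : ¬ IsScalar x) :
    ∃ P : Matrix (Fin 2) (Fin 2) F, P.det ≠ 0 ∧
      (x : Matrix (Fin 2) (Fin 2) F) * P = P * comp (trc x) := by
  have hd := det_eq x
  by_cases h10 : (x : Matrix (Fin 2) (Fin 2) F) 1 0 ≠ 0
  · refine ⟨!![1, (x : Matrix (Fin 2) (Fin 2) F) 0 0; 0, (x : Matrix (Fin 2) (Fin 2) F) 1 0],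
      by simpa [Matrix.det_fin_two] using h10, ?_⟩
    ext i j
    fin_cases i <;> fin_cases j <;>
      simp [comp, trc, Matrix.mul_apply, Fin.sum_univ_two] <;>
      first | ring1 | linear_combination hd | linear_combination -hd
  push Not at h10
  by_cases h01 : (x : Matrix (Fin 2) (Fin 2) F) 0 1 ≠ 0
  · refine ⟨!![0, (x : Matrix (Fin 2) (Fin 2) F) 0 1; 1, (x : Matrix (Fin 2) (Fin 2) F) 1 1],
      by simpa [Matrix.det_fin_two] using h01, ?_⟩
    ext i j
    fin_cases i <;> fin_cases j <;>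
      simp [comp, trc, Matrix.mul_apply, Fin.sum_univ_two] <;>
      first | ring1 | linear_combination hd | linear_combination -hd
  push Not at h01
  have hne : (x : Matrix (Fin 2) (Fin 2) F) 0 0 ≠ (x : Matrix (Fin 2) (Fin 2) F) 1 1 :=
    fun h => hx ⟨h01, h10, h⟩
  rw [h01, h10] at hd
  refine ⟨!![1, (x : Matrix (Fin 2) (Fin 2) F) 0 0; 1, (x : Matrix (Fin 2) (Fin 2) F) 1 1],
    by simpa [Matrix.det_fin_two, sub_eq_zero] using hne.symm, ?_⟩
  ext i j
  fin_cases i <;> fin_cases j <;>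
    simp [comp, trc, Matrix.mul_apply, Fin.sum_univ_two, h01, h10] <;>
    first | ring1 | linear_combination hd | linear_combination -hd

/-- Elements of equal trace are conjugate when the norm form is surjective. -/
theorem exists_conj {x y : SL(2, F)} (hx : ¬ IsScalar x) (hy : ¬ IsScalar y)
    (ht : trc y = trc x) (hN : NormSurj (trc x)) : ∃ h : SL(2, F), h * x * h⁻¹ = y := by
  obtain ⟨P, hP, hxP⟩ := exists_frame hx
  obtain ⟨Q, hQ, hyQ⟩ := exists_frame hy
  rw [ht] at hyQ
  obtain ⟨α, β, hαβ⟩ := hN (P.det / Q.det)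
  set C := comp (trc x) with hC
  set N : Matrix (Fin 2) (Fin 2) F := α • 1 + β • C with hNdef
  have hNd : N.det = P.det / Q.det := by
    rw [← hαβ, hNdef, hC, Matrix.det_fin_two]
    simp [comp]
    ring
  have hNC : N * C = C * N := by
    rw [hNdef, add_mul, mul_add, smul_mul_assoc, smul_mul_assoc, mul_smul_comm, mul_smul_comm,
      one_mul, mul_one]
  have hPu : IsUnit P.det := isUnit_iff_ne_zero.mpr hP
  have hdet : (Q * N * P⁻¹).det = 1 := by
    rw [Matrix.det_mul, Matrix.det_mul, hNd, Matrix.det_nonsing_inv, Ring.inverse_eq_inv']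
    field_simp
  refine ⟨⟨_, hdet⟩, mul_inv_eq_of_eq_mul (Subtype.ext ?_)⟩
  show Q * N * P⁻¹ * (x : Matrix (Fin 2) (Fin 2) F) = (y : Matrix (Fin 2) (Fin 2) F) * (Q * N * P⁻¹)
  have h1 : P⁻¹ * (x : Matrix (Fin 2) (Fin 2) F) = C * P⁻¹ := by
    calc P⁻¹ * (x : Matrix (Fin 2) (Fin 2) F)
        = P⁻¹ * ((x : Matrix (Fin 2) (Fin 2) F) * P) * P⁻¹ := by
          rw [mul_assoc, mul_assoc, Matrix.mul_nonsing_inv P hPu, mul_one]
      _ = C * P⁻¹ := by rw [hxP, ← mul_assoc P⁻¹, Matrix.nonsing_inv_mul P hPu, one_mul]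
  calc Q * N * P⁻¹ * (x : Matrix (Fin 2) (Fin 2) F) = Q * (N * C) * P⁻¹ := by
        rw [mul_assoc (Q * N), h1]; simp only [mul_assoc]
    _ = Q * C * N * P⁻¹ := by rw [hNC]; simp only [mul_assoc]
    _ = (y : Matrix (Fin 2) (Fin 2) F) * (Q * N * P⁻¹) := by rw [← hyQ]; simp only [mul_assoc]

/-- The entries of a factorisation in companion coordinates. -/
theorem exists_mul_eq_of_conic {g : SL(2, F)} (hg : ¬ IsScalar g) {t a b : F}
    (h : a ^ 2 - trc g * a * b + b ^ 2 - t * a + t * b + 1 = 0) :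
    ∃ y z : SL(2, F), trc y = t ∧ trc z = t ∧ y * z = g := by
  obtain ⟨P, hP, hgP⟩ := exists_frame hg
  have hPu : IsUnit P.det := isUnit_iff_ne_zero.mpr hP
  set s := trc g with hs
  set X : Matrix (Fin 2) (Fin 2) F := !![a, b; t + b - a * s, t - a] with hX
  have hXd : X.det = 1 := by
    simp [hX, Matrix.det_fin_two]
    linear_combination -h
  have hdet : (P * X * P⁻¹).det = 1 := by
    rw [Matrix.det_mul, Matrix.det_mul, hXd, Matrix.det_nonsing_inv, Ring.inverse_eq_inv', mul_one,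
      mul_inv_cancel₀ hP]
  obtain ⟨y, hy⟩ : ∃ y : SL(2, F), (y : Matrix (Fin 2) (Fin 2) F) = P * X * P⁻¹ := ⟨⟨_, hdet⟩, rfl⟩
  have htr : ∀ A : Matrix (Fin 2) (Fin 2) F, (P * A * P⁻¹).trace = A.trace := fun A => by
    rw [Matrix.trace_mul_comm, ← mul_assoc, Matrix.nonsing_inv_mul P hPu, one_mul]
  have htrc : ∀ u : SL(2, F), trc u = (u : Matrix (Fin 2) (Fin 2) F).trace := fun u =>
    (Matrix.trace_fin_two _).symm
  refine ⟨y, y⁻¹ * g, ?_, ?_, mul_inv_cancel_left y g⟩
  · rw [htrc, hy, htr, hX, Matrix.trace_fin_two]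
    simp
  · have hg' : (g : Matrix (Fin 2) (Fin 2) F) = P * comp s * P⁻¹ := by
      rw [← hgP, mul_assoc, Matrix.mul_nonsing_inv P hPu, mul_one]
    have hyinv : ((y⁻¹ : SL(2, F)) : Matrix (Fin 2) (Fin 2) F) = P * X.adjugate * P⁻¹ := by
      have e1 : (y : Matrix (Fin 2) (Fin 2) F) * (P * X.adjugate * P⁻¹) = 1 := by
        rw [hy]
        calc P * X * P⁻¹ * (P * X.adjugate * P⁻¹) = P * (X * (P⁻¹ * P) * X.adjugate) * P⁻¹ := by
              simp only [mul_assoc]
          _ = 1 := by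
              rw [Matrix.nonsing_inv_mul P hPu, mul_one, Matrix.mul_adjugate, hXd, one_smul, mul_one,
                Matrix.mul_nonsing_inv P hPu]
      have e2 : ((y⁻¹ : SL(2, F)) : Matrix (Fin 2) (Fin 2) F) * (y : Matrix (Fin 2) (Fin 2) F) = 1 := by
        rw [← Matrix.SpecialLinearGroup.coe_mul, inv_mul_cancel, Matrix.SpecialLinearGroup.coe_one]
      calc ((y⁻¹ : SL(2, F)) : Matrix (Fin 2) (Fin 2) F)
          = ((y⁻¹ : SL(2, F)) : Matrix (Fin 2) (Fin 2) F) *
              ((y : Matrix (Fin 2) (Fin 2) F) * (P * X.adjugate * P⁻¹)) := by rw [e1, mul_one]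
        _ = _ := by rw [← mul_assoc, e2, one_mul]
    rw [htrc, Matrix.SpecialLinearGroup.coe_mul, hyinv, hg']
    have e : P * X.adjugate * P⁻¹ * (P * comp s * P⁻¹) = P * (X.adjugate * comp s) * P⁻¹ := by
      calc P * X.adjugate * P⁻¹ * (P * comp s * P⁻¹)
          = P * X.adjugate * (P⁻¹ * P) * comp s * P⁻¹ := by simp only [mul_assoc]
        _ = _ := by rw [Matrix.nonsing_inv_mul P hPu, mul_one]; simp only [mul_assoc]
    rw [e, htr, hX, Matrix.adjugate_fin_two, Matrix.trace_fin_two]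
    simp [comp, Matrix.mul_apply, Fin.sum_univ_two]

variable [Fintype F]

theorem exists_conic {k c : F} (hodd : Fintype.card F % 2 = 1) (hk : k ≠ 0) :
    ∃ u v : F, u ^ 2 + k * v ^ 2 + c = 0 := by
  obtain ⟨u, v, h⟩ := FiniteField.exists_root_sum_quadratic
    (f := (Polynomial.X : Polynomial F) ^ 2) (g := Polynomial.C k * Polynomial.X ^ 2 + Polynomial.C c)
    (Polynomial.degree_X_pow 2) (by
      rw [Polynomial.degree_add_eq_left_of_degree_lt]
      · exact Polynomial.degree_C_mul_X_pow 2 hk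
      · rw [Polynomial.degree_C_mul_X_pow 2 hk]
        exact lt_of_le_of_lt Polynomial.degree_C_le (by norm_num)) hodd
  exact ⟨u, v, by simpa [add_assoc] using h⟩

theorem normSurj_of_odd (hodd : Fintype.card F % 2 = 1) (h2 : (2 : F) ≠ 0) {t : F}
    (ht : t ^ 2 ≠ 4) : NormSurj t := by
  intro d
  obtain ⟨u, v, h⟩ := exists_conic (F := F) (k := 4 - t ^ 2) (c := -4 * d) hodd
    (sub_ne_zero.mpr (Ne.symm ht))
  refine ⟨(u - t * v) / 2, v, ?_⟩
  field_simp
  linear_combination h

theorem normSurj_of_two [CharP F 2] (t : F) : NormSurj t := by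
  intro d
  obtain ⟨α, hα⟩ : ∃ α : F, α ^ 2 = d := (frobeniusEquiv F 2).surjective d
  exact ⟨α, 0, by simpa using hα⟩

/-- Products of two elements of trace `t`. -/
theorem exists_mul_eq (h2 : (2 : F) ≠ 0) (hodd : Fintype.card F % 2 = 1) {g : SL(2, F)}
    (hg : ¬ IsScalar g) {t : F} (ht : t ≠ 0) (hs : trc g ≠ 2) :
    ∃ y z : SL(2, F), trc y = t ∧ trc z = t ∧ y * z = g := by
  set s := trc g with hsdef
  have h4 : (4 : F) = 2 * 2 := by norm_num
  by_cases hs2 : s = -2
  · refine exists_mul_eq_of_conic hg (a := 1 / (2 * t)) (b := -(1 / (2 * t))) ?_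
    rw [← hsdef, hs2]
    field_simp
    ring
  · have hne : (4 : F) - s ^ 2 ≠ 0 := fun h => by
      rcases mul_eq_zero.mp (show (2 - s) * (2 + s) = 0 by linear_combination h) with e | e
      · exact hs (by linear_combination -e)
      · exact hs2 (by linear_combination e)
    have hsp : (2 : F) + s ≠ 0 := fun h => hs2 (by linear_combination h)
    obtain ⟨u, v, h⟩ := exists_conic (F := F) (k := (4 - s ^ 2))
      (c := 4 - t ^ 2 - (4 - s ^ 2) * (t / (2 + s)) ^ 2) hodd hne
    refine exists_mul_eq_of_conic hg (b := v - t / (2 + s))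
      (a := (u + s * (v - t / (2 + s)) + t) / 2) ?_
    rw [← hsdef]
    field_simp at h ⊢
    linear_combination h

omit [Fintype F] in
theorem exists_mul_eq_of_split {g : SL(2, F)} (hg : ¬ IsScalar g) {t l : F}
    (hl : l ^ 2 - t * l + 1 = 0) : ∃ y z : SL(2, F), trc y = t ∧ trc z = t ∧ y * z = g :=
  exists_mul_eq_of_conic hg (a := l) (b := 0) (by linear_combination hl)

omit [Fintype F] in
theorem trc_neg (x : SL(2, F)) : trc (-x) = -trc x := by simp [trc]; ring

omit [Fintype F] in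
theorem sq_eq (x : SL(2, F)) : (x : Matrix (Fin 2) (Fin 2) F) * x = trc x • (x : Matrix (Fin 2) (Fin 2) F) - 1 := by
  have hd := det_eq x
  ext i j
  fin_cases i <;> fin_cases j <;> simp [trc, Matrix.mul_apply, Fin.sum_univ_two] <;>
    first | ring1 | linear_combination -hd | linear_combination hd

end CfsgLib.Classical.Trace
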