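import Cfsg.Agent.Lib.Classical.SL2Sylow

/-!
Centralisers of unipotent elements, involutions, and orders of elements in GL(2,q) and SL(2,q).
-/

set_option autoImplicit false

namespace CfsgLib.Classical.Two

open Matrix Polynomial
open scoped MatrixGroups Pointwise

variable {F : Type*} [Field F]

theorem mem_centralizer_upper_iff {b : F} (hb : b ≠ 0) (g : GL (Fin 2) F) :
    g ∈ Subgroup.centralizer ({SpecialLinearGroup.toGL (SpecialLinearGroup.transvection
      (zero_ne_one : (0 : Fin 2) ≠ 1) b)} : Set (GL (Fin 2) F)) ↔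
    (g : Matrix (Fin 2) (Fin 2) F) 1 0 = 0 ∧
      (g : Matrix (Fin 2) (Fin 2) F) 1 1 = (g : Matrix (Fin 2) (Fin 2) F) 0 0 := by
  rw [Subgroup.mem_centralizer_singleton_iff, Units.ext_iff, Units.val_mul, Units.val_mul,
    SpecialLinearGroup.coe_GL_coe_matrix, SpecialLinearGroup.transvection_coe]
  constructor
  · intro h
    have h00 := congrFun (congrFun h 0) 0
    have h01 := congrFun (congrFun h 0) 1
    simp [Matrix.mul_apply, Fin.sum_univ_two, Matrix.single_apply, hb] at h00 h01
    refine ⟨h00, ?_⟩
    apply mul_left_cancel₀ hb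
    linear_combination -h01
  · rintro ⟨h1, h2⟩
    ext i j
    fin_cases i <;> fin_cases j <;>
      (simp [Matrix.mul_apply, Fin.sum_univ_two, Matrix.single_apply, h1, h2]; try ring)

theorem card_centralizer_upper [Fintype F] {b : F} (hb : b ≠ 0) :
    Nat.card (Subgroup.centralizer ({SpecialLinearGroup.toGL (SpecialLinearGroup.transvection
      (zero_ne_one : (0 : Fin 2) ≠ 1) b)} : Set (GL (Fin 2) F))) =
      Fintype.card F * (Fintype.card F - 1) := by
  rw [← card_units_field (F := F), ← Nat.card_eq_fintype_card (α := F), ← Nat.card_prod]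
  refine Nat.card_congr (Equiv.ofBijective (fun g =>
    (((g : GL (Fin 2) F) : Matrix (Fin 2) (Fin 2) F) 0 1,
      Units.mk0 (((g : GL (Fin 2) F) : Matrix (Fin 2) (Fin 2) F) 0 0) ?_)) ⟨?_, ?_⟩)
  · obtain ⟨h1, -⟩ := (mem_centralizer_upper_iff hb _).1 g.2
    have h := GeneralLinearGroup.det_ne_zero (g : GL (Fin 2) F)
    rw [Matrix.det_fin_two, h1, mul_zero, sub_zero] at h
    exact left_ne_zero_of_mul h
  · intro g h hgh
    obtain ⟨g1, g2⟩ := (mem_centralizer_upper_iff hb _).1 g.2
    obtain ⟨h1, h2⟩ := (mem_centralizer_upper_iff hb _).1 h.2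
    rw [Prod.ext_iff, Units.ext_iff] at hgh
    apply Subtype.ext
    apply Units.ext
    ext i j
    fin_cases i <;> fin_cases j <;> simp_all
  · rintro ⟨y, x⟩
    refine ⟨⟨GeneralLinearGroup.mkOfDetNeZero !![(x : F), y; 0, (x : F)]
      (by simp [Matrix.det_fin_two]),
      (mem_centralizer_upper_iff hb _).2 (by constructor <;> rfl)⟩, ?_⟩
    exact Prod.ext rfl (Units.ext rfl)

variable [Fintype F] (p : ℕ) [Fact p.Prime] [CharP F p]

theorem card_centralizer_sylow_GL (P : Sylow p (GL (Fin 2) F)) {a : GL (Fin 2) F} (ha : a ∈ P)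
    (ha1 : a ≠ 1) :
    Nat.card (Subgroup.centralizer ({a} : Set (GL (Fin 2) F))) =
      Fintype.card F * (Fintype.card F - 1) := by
  obtain ⟨x, hx⟩ := exists_point_sylow_GL p P
  rw [← SetLike.mem_coe] at ha
  change a ∈ (P : Subgroup (GL (Fin 2) F)) at ha
  rw [hx] at ha
  obtain ⟨s, hs, rfl⟩ := ha
  obtain ⟨g, rfl⟩ := MulAction.exists_smul_eq SL(2, F) (basePoint F 0) x
  rw [rootGroup_smul] at hs
  obtain ⟨u, hu, rfl⟩ := hs
  rw [rootGroup_basePoint] at hu
  obtain ⟨b, rfl⟩ := hu
  have hb : b ≠ 0 := by rintro rfl; simp at ha1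
  rw [← card_centralizer_upper hb]
  refine Nat.card_congr ?_
  refine ((MulAut.conj (SpecialLinearGroup.toGL g)).toEquiv.subtypeEquiv fun h => ?_).symm
  simp only [MulEquiv.toEquiv_eq_coe, EquivLike.coe_coe, MulAut.conj_apply,
    Subgroup.mem_centralizer_singleton_iff, MulDistribMulAction.toMonoidEnd_apply,
    MulDistribMulAction.toMonoidHom_apply, MulAut.smul_def, map_mul, map_inv]
  generalize (SpecialLinearGroup.toGL g) = c
  generalize (SpecialLinearGroup.toGL
    (SpecialLinearGroup.transvection (zero_ne_one : (0 : Fin 2) ≠ 1) b)) = d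
  constructor
  · intro e
    calc c * h * c⁻¹ * (c * d * c⁻¹) = c * (h * d) * c⁻¹ := by group
      _ = c * (d * h) * c⁻¹ := by rw [e]
      _ = c * d * c⁻¹ * (c * h * c⁻¹) := by group
  · intro e
    calc h * d = c⁻¹ * (c * h * c⁻¹ * (c * d * c⁻¹)) * c := by group
      _ = c⁻¹ * (c * d * c⁻¹ * (c * h * c⁻¹)) * c := by rw [e]
      _ = d * h := by group

omit [Fintype F] [Fact p.Prime] [CharP F p] in
theorem eq_one_or_neg_one_of_sq (h2 : (2 : F) ≠ 0) (g : SL(2, F)) (hg : g * g = 1) :
    (g : Matrix (Fin 2) (Fin 2) F) = 1 ∨ (g : Matrix (Fin 2) (Fin 2) F) = -1 := by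
  have hinv : g⁻¹ = g := inv_eq_of_mul_eq_one_right hg
  have h := congrArg Subtype.val hinv
  rw [Matrix.SpecialLinearGroup.coe_inv, Matrix.adjugate_fin_two] at h
  have h01 := congrFun (congrFun h 0) 1
  have h10 := congrFun (congrFun h 1) 0
  have h00 := congrFun (congrFun h 0) 0
  simp at h01 h10 h00
  have hb : (g : Matrix (Fin 2) (Fin 2) F) 0 1 = 0 := by
    apply mul_left_cancel₀ h2
    linear_combination (-1 : F) * h01
  have hc : (g : Matrix (Fin 2) (Fin 2) F) 1 0 = 0 := by
    apply mul_left_cancel₀ h2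
    linear_combination (-1 : F) * h10
  have hdet := g.det_coe
  rw [Matrix.det_fin_two, hb, hc, h00] at hdet
  have hsq : (g : Matrix (Fin 2) (Fin 2) F) 0 0 ^ 2 = 1 := by linear_combination hdet
  rcases sq_eq_one_iff.1 hsq with h1 | h1 <;> [left; right] <;>
    (ext i j; fin_cases i <;> fin_cases j <;> simp [hb, hc, h00, h1])

theorem orderOf_dvd_of_coprime (g : SL(2, F)) (hg : Nat.Coprime (orderOf g) p) :
    orderOf g ∣ Fintype.card F - 1 ∨ orderOf g ∣ Fintype.card F + 1 := by
  classical
  set q := Fintype.card F with hq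
  have hq2 : 2 ≤ q := Fintype.one_lt_card
  obtain ⟨f, hf, hqf⟩ := exists_card_eq_prime_pow (F := F) p
  set M : Matrix (Fin 2) (Fin 2) F := (g : Matrix (Fin 2) (Fin 2) F) with hM
  set t := M.trace with ht
  have hcp : M.charpoly = X ^ 2 - C t * X + 1 := by
    rw [Matrix.charpoly_fin_two, g.det_coe, map_one]
  -- divisibility by the characteristic polynomial gives the order
  have key : ∀ k : ℕ, M.charpoly ∣ X ^ k - 1 → g ^ k = 1 := by
    rintro k ⟨r, hr⟩
    apply Subtype.ext
    have := congrArg (Polynomial.aeval M) hr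
    rw [map_mul, Matrix.aeval_self_charpoly, zero_mul, map_sub, map_one, map_pow,
      Polynomial.aeval_X, sub_eq_zero] at this
    exact (g.coe_pow k).trans this
  by_cases hroot : ∃ a : F, a ^ 2 - t * a + 1 = 0
  · obtain ⟨a, ha⟩ := hroot
    have ha0 : a ≠ 0 := by rintro rfl; simp at ha
    have hta : t = a + a⁻¹ := by field_simp; linear_combination -ha
    have hfac : M.charpoly = (X - C a) * (X - C a⁻¹) := by
      have h1 : C a * C a⁻¹ = (1 : F[X]) := by rw [← map_mul, mul_inv_cancel₀ ha0, map_one]
      rw [hcp, hta, map_add]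
      linear_combination (-1 : F[X]) * h1
    by_cases haa : a = a⁻¹
    · -- repeated eigenvalue ±1: the element has order dividing 2p
      have ha2 : a ^ 2 = 1 := by rw [pow_two]; nth_rewrite 2 [haa]; exact mul_inv_cancel₀ ha0
      have h2p : g ^ (2 * p) = 1 := by
        apply key
        rw [hfac, ← haa, ← pow_two]
        have hC : (C a : F[X]) ^ 2 = 1 := by rw [← map_pow, ha2, map_one]
        have hsub : (X ^ (2 * p) - 1 : F[X]) = ((X + C a) * (X - C a)) ^ p := by
          rw [show (X + C a) * (X - C a) = (X ^ 2 - 1 : F[X]) by rw [← hC]; ring,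
            sub_pow_char, one_pow, pow_mul]
        rw [hsub, mul_pow]
        exact dvd_mul_of_dvd_right (pow_dvd_pow _ (Fact.out : p.Prime).two_le) _
      have h2 : orderOf g ∣ 2 := hg.dvd_of_dvd_mul_right (orderOf_dvd_of_pow_eq_one h2p)
      rcases (Nat.dvd_prime Nat.prime_two).1 h2 with h1 | h1
      · left; rw [h1]; exact one_dvd _
      · left
        rw [h1] at hg ⊢
        have hodd : Odd p := Nat.coprime_two_left.1 hg
        have : Odd q := by rw [hq, hqf]; exact hodd.pow
        obtain ⟨r, hr⟩ := this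
        exact ⟨r, by omega⟩
    · left
      refine orderOf_dvd_of_pow_eq_one (key _ ?_)
      rw [hfac]
      have hd : ∀ x : F, x ≠ 0 → (X - C x) ∣ (X ^ (q - 1) - 1 : F[X]) := fun x hx => by
        rw [Polynomial.dvd_iff_isRoot]
        simp [FiniteField.pow_card_sub_one_eq_one x hx, hq]
      exact IsCoprime.mul_dvd
        (Polynomial.isCoprime_X_sub_C_of_isUnit_sub (sub_ne_zero.2 haa).isUnit)
        (hd a ha0) (hd _ (inv_ne_zero ha0))
  · right
    refine orderOf_dvd_of_pow_eq_one (key _ ?_)
    push Not at hroot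
    have hmon : M.charpoly.Monic := M.charpoly_monic
    have hdeg : M.charpoly.natDegree = 2 := by rw [M.charpoly_natDegree_eq_dim, Fintype.card_fin]
    have hirr : Irreducible M.charpoly := by
      rw [hmon.irreducible_iff_roots_eq_zero_of_degree_le_three (by omega) (by omega),
        Multiset.eq_zero_iff_forall_notMem]
      intro a ha
      rw [Polynomial.mem_roots hmon.ne_zero, hcp] at ha
      exact hroot a (by simpa using ha)
    have := Fact.mk hirr
    let K := AdjoinRoot M.charpoly
    let α : K := AdjoinRoot.root M.charpoly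
    have hchar : CharP K p := charP_of_injective_algebraMap (algebraMap F K).injective p
    have hα : α ^ 2 - algebraMap F K t * α + 1 = 0 := by
      have h := AdjoinRoot.aeval_eq (R := F) (f := M.charpoly) M.charpoly
      rw [AdjoinRoot.mk_self] at h
      have h' := congrArg (fun P : F[X] => Polynomial.aeval α P) hcp
      simp only [map_add, map_sub, map_pow, map_mul, map_one, Polynomial.aeval_X,
        Polynomial.aeval_C] at h'
      rw [← h']
      exact h
    have hα' : (α ^ q) ^ 2 - algebraMap F K t * α ^ q + 1 = 0 := by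
      have h := congrArg (iterateFrobenius K p f) hα
      simp only [map_add, map_sub, map_mul, map_pow, map_one, map_zero, iterateFrobenius_def] at h
      rw [← hqf, ← map_pow, FiniteField.pow_card] at h
      rw [← h]
    have hne : α ^ q ≠ α := by
      intro h
      -- the roots of X^q - X lie in F
      have hpoly : ((X ^ q - X : F[X]).map (algebraMap F K)).IsRoot α := by simp [h]
      have hsplit : (X ^ q - X : F[X]).roots.map (algebraMap F K) =
          ((X ^ q - X : F[X]).map (algebraMap F K)).roots := by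
        apply Polynomial.roots_map_of_map_ne_zero_of_card_eq_natDegree
        · exact (Polynomial.map_ne_zero_iff (algebraMap F K).injective).2
            (FiniteField.X_pow_card_sub_X_ne_zero F hq2)
        · rw [hq, FiniteField.roots_X_pow_card_sub_X,
            FiniteField.X_pow_card_sub_X_natDegree_eq F hq2]
          rfl
      have hmem : α ∈ ((X ^ q - X : F[X]).map (algebraMap F K)).roots :=
        (Polynomial.mem_roots ((Polynomial.map_ne_zero_iff (algebraMap F K).injective).2
          (FiniteField.X_pow_card_sub_X_ne_zero F hq2))).2 hpoly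
      rw [← hsplit, Multiset.mem_map] at hmem
      obtain ⟨a, -, ha⟩ := hmem
      apply hroot a
      apply (algebraMap F K).injective
      rw [map_add, map_sub, map_pow, map_mul, ha, map_one, map_zero, hα]
    have hsum : α ^ q + α = algebraMap F K t := by
      have h : (α ^ q - α) * (α ^ q + α - algebraMap F K t) = 0 := by linear_combination hα' - hα
      rcases mul_eq_zero.1 h with h | h
      · exact absurd (sub_eq_zero.1 h) hne
      · exact sub_eq_zero.1 h
    have hprod : α ^ (q + 1) = 1 := by
      rw [pow_succ]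
      linear_combination α * hsum - hα
    rw [← AdjoinRoot.mk_eq_zero, map_sub, map_pow, map_one, AdjoinRoot.mk_X, sub_eq_zero]
    exact hprod

end CfsgLib.Classical.Two
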