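import Cfsg.Agent.Lib.PLocal.SLTwo.Generation
import Cfsg.Agent.Lib.Classical.SL2Elements
import Cfsg.Agent.Lib.Classical.SL2Sylow
import Cfsg.Agent.Lib.Classical.SmallIso
import Cfsg.Agent.Lib.Core.UniqueOrderP

/-!
Sylow subgroups of `SL(2, q)` and of its subgroups.
-/

set_option autoImplicit false

namespace CfsgLib.Classical.Two

open Matrix
open scoped MatrixGroups
open CfsgLib.PLocal.SLTwo

variable {F : Type*} [Field F]

theorem two_ne_zero_of_char {p : ℕ} [Fact p.Prime] [CharP F p] (hp : p ≠ 2) : (2 : F) ≠ 0 :=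
  fun h => hp ((Nat.prime_dvd_prime_iff_eq Fact.out Nat.prime_two).1
    ((CharP.cast_eq_zero_iff F p 2).1 (by simpa using h)))

theorem neg_one_ne_one_SL (h2 : (2 : F) ≠ 0) : (-1 : SL(2, F)) ≠ 1 := fun h => by
  have := congrArg (fun g : SL(2, F) => (g : Matrix (Fin 2) (Fin 2) F) 0 0) h
  simp at this
  exact h2 (by linear_combination (-1 : F) * this)

theorem eq_neg_one_of_orderOf_two (h2 : (2 : F) ≠ 0) {g : SL(2, F)} (hg : orderOf g = 2) :
    g = -1 := by
  have hsq : g * g = 1 := by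
    have := pow_orderOf_eq_one g
    rwa [hg, pow_two] at this
  rcases eq_one_or_neg_one_of_sq h2 g hsq with h | h
  · have : g = 1 := Subtype.ext h
    rw [this, orderOf_one] at hg
    omega
  · exact Subtype.ext (by rw [h]; simp)

theorem subgroup_two_unique (h2 : (2 : F) ≠ 0) {G : Type*} [Group G] (f : G →* SL(2, F))
    (hf : Function.Injective f) {H K : Subgroup G} (hH : Nat.card H = 2) (hK : Nat.card K = 2) :
    H = K := by
  have gen : ∀ L : Subgroup G, Nat.card L = 2 → ∃ g ∈ L, f g = -1 ∧ ∀ y ∈ L, y = 1 ∨ y = g := by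
    intro L hL
    have : Finite L := Nat.finite_of_card_ne_zero (by omega)
    have hLn : L ≠ ⊥ := fun h => by rw [h, Subgroup.card_bot] at hL; omega
    obtain ⟨g, hgL, hg1⟩ := (Subgroup.bot_or_exists_ne_one L).resolve_left hLn
    have hord : ∀ y ∈ L, y ≠ 1 → f y = -1 := fun y hy hy1 => by
      refine eq_neg_one_of_orderOf_two h2 ?_
      rw [orderOf_injective f hf]
      have h1 : orderOf y ∣ 2 := hL ▸ Subgroup.orderOf_dvd_natCard L hy
      rcases (Nat.dvd_prime Nat.prime_two).1 h1 with h | h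
      · exact absurd (orderOf_eq_one_iff.1 h) hy1
      · exact h
    exact ⟨g, hgL, hord g hgL hg1, fun y hy => (em (y = 1)).imp id fun hy1 =>
      hf ((hord y hy hy1).trans (hord g hgL hg1).symm)⟩
  obtain ⟨g, hgH, hg, hH'⟩ := gen H hH
  obtain ⟨k, hkK, hk, hK'⟩ := gen K hK
  obtain rfl : g = k := hf (hg.trans hk.symm)
  ext y
  constructor
  · intro hy; rcases hH' y hy with rfl | rfl
    · exact one_mem _
    · exact hkK
  · intro hy; rcases hK' y hy with rfl | rfl
    · exact one_mem _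
    · exact hgH

/-- The homomorphism from the quaternion group given by two generators with its relations. -/
def quatOfPair {G : Type*} [Group G] (m x : G) (h4 : m ^ 4 = 1) (hx2 : x * x = m ^ 2)
    (hxmx : x * m * x = m) : QuaternionGroup 2 →* G where
  toFun
    | .a i => m ^ i.val
    | .xa i => x * m ^ i.val
  map_one' := by
    show m ^ (0 : ZMod (2 * 2)).val = 1
    rw [ZMod.val_zero, pow_zero]
  map_mul' := by
    have hmx : m * x = x * m⁻¹ := by
      calc m * x = x⁻¹ * (x * m * x) := by group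
        _ = x⁻¹ * m := by rw [hxmx]
        _ = x * m⁻¹ := by
          rw [inv_mul_eq_iff_eq_mul, ← mul_assoc, hx2, pow_two, mul_inv_cancel_right]
    have hpow : ∀ k : ℕ, m ^ k * x = x * (m ^ k)⁻¹ := by
      intro k
      induction k with
      | zero => simp
      | succ k ih => rw [pow_succ, mul_assoc, hmx, ← mul_assoc, ih, mul_assoc, ← _root_.mul_inv_rev,
          ← pow_succ', pow_succ]
    have hmod : ∀ k : ℕ, m ^ (k % (2 * 2)) = m ^ k := fun k => (pow_eq_pow_mod k h4).symm
    have hneg : ∀ i : ZMod (2 * 2), (m ^ i.val)⁻¹ = m ^ (-i).val := fun i => by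
      refine inv_eq_of_mul_eq_one_right ?_
      rw [← pow_add, ← hmod, ← ZMod.val_add, add_neg_cancel, ZMod.val_zero, pow_zero]
    have hadd : ∀ i j : ZMod (2 * 2), m ^ i.val * m ^ j.val = m ^ (i + j).val := fun i j => by
      rw [ZMod.val_add, hmod, pow_add]
    rintro (i | i) (j | j)
    · simp only [QuaternionGroup.a_mul_a]
      rw [hadd]
    · simp only [QuaternionGroup.a_mul_xa]
      rw [← mul_assoc, hpow, mul_assoc, hneg, hadd, neg_add_eq_sub]
    · simp only [QuaternionGroup.xa_mul_a]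
      rw [mul_assoc, hadd]
    · simp only [QuaternionGroup.xa_mul_xa]
      have h2 : m ^ 2 = m ^ (2 : ZMod (2 * 2)).val := rfl
      rw [mul_assoc, ← mul_assoc (m ^ i.val) x, hpow, mul_assoc, ← mul_assoc x x, hx2, hneg, hadd,
        h2, hadd]
      congr 2
      push_cast
      ring

theorem exists_quat_SL {p : ℕ} [Fact p.Prime] (hp : p ≠ 2) :
    ∃ φ : QuaternionGroup 2 →* SL(2, ZMod p), φ (.a 1) * φ (.xa 0) ≠ φ (.xa 0) * φ (.a 1) ∧
      φ (.a 1) ^ 2 = -1 ∧ φ (.xa 0) ^ 2 = -1 := by
  obtain ⟨i, j, hi, hj, hij, hne⟩ := exists_quaternion (p := p) hp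
  have h4 : i ^ 4 = 1 := by
    rw [show 4 = 2 * 2 from rfl, pow_mul, hi, CfsgLib.PLocal.SLTwo.neg_one_sq]
  have hji : j * i = -(i * j) := by rw [hij, neg_neg]
  refine ⟨quatOfPair i j h4 (by rw [← pow_two, hi, hj]) ?_, ?_, ?_, ?_⟩
  · rw [hji, neg_mul, mul_assoc, ← pow_two, hj, mul_neg_one, neg_neg]
  all_goals
    have ha : (1 : ZMod (2 * 2)).val = 1 := rfl
    simp [quatOfPair, ha, hne, hi, hj]

theorem sylow_two_quaternion {p : ℕ} [Fact p.Prime] [CharP F p] (hp : p ≠ 2) {G : Type*} [Group G]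
    [Finite G] (f : G →* SL(2, F)) (hf : Function.Injective f) (ψ : SL(2, ZMod p) →* G)
    (hψ : Function.Injective ψ) (S : Sylow 2 G) :
    ∃ k : ℕ, 1 ≤ k ∧ Nonempty ((S : Subgroup G) ≃* QuaternionGroup (2 ^ k)) := by
  obtain ⟨φ, hne, -, -⟩ := exists_quat_SL (p := p) hp
  let χ := ψ.comp φ
  have hp2 : IsPGroup 2 χ.range := by
    have h8 : IsPGroup 2 (QuaternionGroup 2) := IsPGroup.of_card (n := 3) (by
      rw [Nat.card_eq_fintype_card, QuaternionGroup.card]; norm_num)
    exact h8.of_surjective χ.rangeRestrict χ.rangeRestrict_surjective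
  obtain ⟨S', hS'⟩ := hp2.exists_le_sylow
  have e : (S : Subgroup G) ≃* (S' : Subgroup G) := Sylow.equiv S S'
  have huniq : ∀ H K : Subgroup (S' : Subgroup G), Nat.card H = 2 → Nat.card K = 2 → H = K :=
    fun H K hH hK => subgroup_two_unique (two_ne_zero_of_char hp) (f.comp (S' : Subgroup G).subtype)
      (hf.comp Subtype.val_injective) hH hK
  have hnc : ¬ ∀ a b : (S' : Subgroup G), a * b = b * a := by
    intro hc
    have h1 : ψ (φ (.a 1) * φ (.xa 0)) = ψ (φ (.xa 0) * φ (.a 1)) := by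
      rw [map_mul, map_mul]
      exact congrArg Subtype.val (hc ⟨χ (.a 1), hS' ⟨_, rfl⟩⟩ ⟨χ (.xa 0), hS' ⟨_, rfl⟩⟩)
    exact hne (hψ h1)
  rcases CfsgLib.Core.UniqueOrderP.isCyclic_or_quaternion_of_unique S'.isPGroup' huniq with
    hcyc | ⟨-, n, ⟨e'⟩⟩
  · exact absurd (fun a b => (IsCyclic.commGroup (α := (S' : Subgroup G))).mul_comm a b) hnc
  · refine ⟨n, Nat.one_le_iff_ne_zero.2 ?_, ⟨e.trans e'⟩⟩
    rintro rfl
    refine hnc fun a b => e'.injective ?_
    rw [map_mul, map_mul]
    have : ∀ u v : QuaternionGroup (2 ^ 0), u * v = v * u := by decide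
    exact this _ _

theorem tr_eq_two_of_pow {p : ℕ} [Fact p.Prime] [CharP F p] {x : SL(2, F)} {k : ℕ}
    (h : x ^ p ^ k = 1) : CfsgLib.PLocal.SLTwo.tr x = 2 := by
  have hN : IsNilpotent ((x : Matrix (Fin 2) (Fin 2) F) - 1) := by
    refine ⟨p ^ k, ?_⟩
    rw [sub_pow_char_pow_of_commute p k (Commute.one_right _), one_pow,
      ← Matrix.SpecialLinearGroup.coe_pow, h, Matrix.SpecialLinearGroup.coe_one, sub_self]
  have h2 := (Matrix.isNilpotent_trace_of_isNilpotent hN).eq_zero
  rw [Matrix.trace_sub, Matrix.trace_one, sub_eq_zero, Matrix.trace_fin_two] at h2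
  simpa [CfsgLib.PLocal.SLTwo.tr] using h2

theorem exists_sl_two_prime_of_two_sylows {p : ℕ} [Fact p.Prime] [CharP F p] (hp : p ≠ 2)
    [Finite F] (H : Subgroup SL(2, F)) (hH : 1 < Nat.card (Sylow p H)) :
    ∃ ψ : SL(2, ZMod p) →* SL(2, F), Function.Injective ψ ∧ ψ.range ≤ H := by
  have : Nontrivial (Sylow p H) := Finite.one_lt_card_iff_nontrivial.1 hH
  obtain ⟨P, Q, hPQ⟩ := exists_pair_ne (Sylow p H)
  have key : ∃ u ∈ (P : Subgroup H), ∃ v ∈ (Q : Subgroup H), u * v ≠ v * u := by
    by_contra hc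
    push Not at hc
    have hle : (Q : Subgroup H) ≤ Subgroup.normalizer ((P : Subgroup H) : Set H) := fun v hv =>
      Subgroup.mem_normalizer_fintype fun u hu => by
        rw [show v * u * v⁻¹ = u by rw [← hc u hu v hv, mul_inv_cancel_right]]
        exact hu
    have hsup : IsPGroup p ((Q : Subgroup H) ⊔ (P : Subgroup H) : Subgroup H) :=
      IsPGroup.to_sup_of_normal_right' Q.isPGroup' P.isPGroup' hle
    exact hPQ (Sylow.ext ((P.is_maximal' hsup le_sup_right).symm.trans
      (Q.is_maximal' hsup le_sup_left)))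
  obtain ⟨u, hu, v, hv, hne⟩ := key
  obtain ⟨ku, hku⟩ := P.isPGroup' ⟨u, hu⟩
  obtain ⟨kv, hkv⟩ := Q.isPGroup' ⟨v, hv⟩
  have hku' : ((u : H) : SL(2, F)) ^ p ^ ku = 1 := by
    simpa using congrArg (fun t : (P : Subgroup H) => ((t : H) : SL(2, F))) hku
  have hkv' : ((v : H) : SL(2, F)) ^ p ^ kv = 1 := by
    simpa using congrArg (fun t : (Q : Subgroup H) => ((t : H) : SL(2, F))) hkv
  obtain ⟨ψ, hψ, hle⟩ := exists_hom_SLTwo hp H u.2 v.2 (tr_eq_two_of_pow hku')
    (tr_eq_two_of_pow hkv') (fun h => hne (Subtype.ext h))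
  exact ⟨ψ, hψ, hle⟩

theorem isCyclic_centralizer [Finite F] {x : SL(2, F)} (hx : NonScalar x)
    (hd : CfsgLib.PLocal.SLTwo.tr x ^ 2 ≠ 4) :
    IsCyclic (Subgroup.centralizer ({x} : Set SL(2, F))) := by
  classical
  let K := AlgebraicClosure F
  let t := CfsgLib.PLocal.SLTwo.tr x
  obtain ⟨lam, hlam⟩ : ∃ l : K, l ^ 2 - algebraMap F K t * l + 1 = 0 := by
    obtain ⟨l, hl⟩ := IsAlgClosed.exists_root
      (Polynomial.X ^ 2 - Polynomial.C (algebraMap F K t) * Polynomial.X + 1 : Polynomial K)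
      (by
        rw [show (Polynomial.X ^ 2 - Polynomial.C (algebraMap F K t) * Polynomial.X + 1 :
          Polynomial K) = Polynomial.C 1 * Polynomial.X ^ 2 +
            Polynomial.C (-algebraMap F K t) * Polynomial.X + Polynomial.C 1 by simp [sub_eq_add_neg],
          Polynomial.degree_quadratic one_ne_zero]
        decide)
    exact ⟨l, by simpa [Polynomial.IsRoot] using hl⟩
  have hmem : ∀ y : Subgroup.centralizer ({x} : Set SL(2, F)),
      x * (y : SL(2, F)) = (y : SL(2, F)) * x := fun y =>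
    Subgroup.mem_centralizer_iff.1 y.2 x rfl
  choose α β h00 h01 h10 h11 using fun y => exists_affine hx (hmem y)
  have uniq : ∀ (a b a' b' : F), a * x.1 0 0 + b = a' * x.1 0 0 + b' →
      a * x.1 0 1 = a' * x.1 0 1 → a * x.1 1 0 = a' * x.1 1 0 →
      a * x.1 1 1 + b = a' * x.1 1 1 + b' → a = a' ∧ b = b' := by
    intro a b a' b' e1 e2 e3 e4
    have ha : a = a' := by
      by_contra hne
      have hne' : a - a' ≠ 0 := sub_ne_zero.2 hne
      refine hx ⟨(mul_eq_zero.1 (show (a - a') * x.1 0 1 = 0 by linear_combination e2)).resolve_left hne',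
        (mul_eq_zero.1 (show (a - a') * x.1 1 0 = 0 by linear_combination e3)).resolve_left hne',
        sub_eq_zero.1 ((mul_eq_zero.1 (show (a - a') * (x.1 0 0 - x.1 1 1) = 0 by
          linear_combination e1 - e4)).resolve_left hne')⟩
    subst ha
    exact ⟨rfl, add_left_cancel e1⟩
  let m : Subgroup.centralizer ({x} : Set SL(2, F)) → K := fun y =>
    algebraMap F K (α y) * lam + algebraMap F K (β y)
  have hdx := det2 x
  have hm1 : m 1 = 1 := by
    obtain ⟨ha, hb⟩ := uniq (α 1) (β 1) 0 1 (by rw [← h00]; simp) (by rw [← h01]; simp)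
      (by rw [← h10]; simp) (by rw [← h11]; simp)
    simp [m, ha, hb]
  have hmm : ∀ y z, m (y * z) = m y * m z := by
    intro y z
    obtain ⟨ha, hb⟩ := uniq (α (y * z)) (β (y * z)) (α y * β z + β y * α z + α y * α z * t)
      (β y * β z - α y * α z)
      (by
        rw [← h00, Subgroup.coe_mul, m00, h00, h01, h00, h10]
        simp only [t, CfsgLib.PLocal.SLTwo.tr]
        linear_combination (-(α y * α z)) * hdx)
      (by
        rw [← h01, Subgroup.coe_mul, m01, h00, h01, h01, h11]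
        simp only [t, CfsgLib.PLocal.SLTwo.tr]
        ring)
      (by
        rw [← h10, Subgroup.coe_mul, m10, h10, h11, h00, h10]
        simp only [t, CfsgLib.PLocal.SLTwo.tr]
        ring)
      (by
        rw [← h11, Subgroup.coe_mul, m11, h10, h11, h01, h11]
        simp only [t, CfsgLib.PLocal.SLTwo.tr]
        linear_combination (-(α y * α z)) * hdx)
    simp only [m, ha, hb, map_add, map_sub, map_mul]
    linear_combination (-(algebraMap F K (α y) * algebraMap F K (α z))) * hlam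
  let φ : Subgroup.centralizer ({x} : Set SL(2, F)) →* K := ⟨⟨m, hm1⟩, hmm⟩
  refine isCyclic_of_subgroup_isDomain φ ((injective_iff_map_eq_one φ).2 fun y hy => ?_)
  have hy' : algebraMap F K (α y) * lam + algebraMap F K (β y) = 1 := hy
  have hdet := det2 (y : SL(2, F))
  rw [h00, h01, h10, h11] at hdet
  have hdet' : α y ^ 2 + α y * β y * t + β y ^ 2 = 1 := by
    simp only [t, CfsgLib.PLocal.SLTwo.tr]
    linear_combination hdet - α y ^ 2 * hdx
  have hα : α y = 0 := by
    by_contra hne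
    have hneK : algebraMap F K (α y) ≠ 0 := by simpa using hne
    have hdK := congrArg (algebraMap F K) hdet'
    simp only [map_add, map_mul, map_pow, map_one] at hdK
    have h2l : 2 * lam = algebraMap F K t := by
      apply mul_left_cancel₀ hneK
      have h3 : algebraMap F K (β y) = 1 - algebraMap F K (α y) * lam := by linear_combination hy'
      rw [h3] at hdK
      linear_combination (algebraMap F K (α y)) * (0 : K) - hdK + algebraMap F K (α y) ^ 2 * hlam
    refine hd ((algebraMap F K).injective ?_)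
    rw [map_pow, map_ofNat]
    show algebraMap F K t ^ 2 = 4
    linear_combination (-4 : K) * hlam + (2 * lam - algebraMap F K t) * h2l
  have hβ : β y = 1 := by
    rw [hα, map_zero, zero_mul, zero_add] at hy'
    exact (algebraMap F K).injective (hy'.trans (map_one _).symm)
  refine Subtype.ext (ext2 ?_ ?_ ?_ ?_)
  · rw [h00, hα, hβ]; simp
  · rw [h01, hα]; simp
  · rw [h10, hα]; simp
  · rw [h11, hα, hβ]; simp

theorem isCyclic_sylow_odd [Fintype F] (p : ℕ) [Fact p.Prime] [CharP F p] (r : ℕ) [Fact r.Prime]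
    (hr : r ≠ 2) (hrp : r ≠ p) (R : Sylow r SL(2, F)) : IsCyclic (R : Subgroup SL(2, F)) := by
  by_cases htriv : Subsingleton (R : Subgroup SL(2, F))
  · exact isCyclic_of_subsingleton
  have : Nontrivial (R : Subgroup SL(2, F)) := not_subsingleton_iff_nontrivial.1 htriv
  have := R.isPGroup'.center_nontrivial
  obtain ⟨⟨x, hxc⟩, hx1⟩ := exists_ne (1 : Subgroup.center (R : Subgroup SL(2, F)))
  have hx1' : (x : SL(2, F)) ≠ 1 := fun h => hx1 (Subtype.ext (Subtype.ext h))
  obtain ⟨k, hk⟩ := R.isPGroup' x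
  have hk' : (x : SL(2, F)) ^ r ^ k = 1 := congrArg Subtype.val hk
  have hr' : Nat.Prime r := Fact.out
  have hns : NonScalar (x : SL(2, F)) := by
    by_contra hc
    rcases scalar_cases hc with h | h
    · exact hx1' h
    · have hodd : Odd (r ^ k) := (hr'.odd_of_ne_two hr).pow
      have h1 : ((-1 : SL(2, F))) ^ r ^ k = -1 := by
        obtain ⟨j, hj⟩ := hodd
        rw [hj, pow_succ, pow_mul, CfsgLib.PLocal.SLTwo.neg_one_sq, one_pow, one_mul]
      rw [h] at hk' hx1'
      exact hx1' (h1.symm.trans hk')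
  have hcop : Nat.Coprime p (r ^ k) :=
    Nat.Coprime.pow_right k ((Nat.coprime_primes Fact.out hr').2 (Ne.symm hrp))
  have htr : ∀ z : SL(2, F), CfsgLib.PLocal.SLTwo.tr z = 2 → z ^ r ^ k = 1 → z = 1 := by
    intro z hz hzr
    have h1 := pow_p_of_trace_two (p := p) hz
    have h2 := Nat.dvd_gcd (orderOf_dvd_of_pow_eq_one h1) (orderOf_dvd_of_pow_eq_one hzr)
    rw [hcop.gcd_eq_one] at h2
    exact orderOf_eq_one_iff.1 (Nat.dvd_one.1 h2)
  have hd : CfsgLib.PLocal.SLTwo.tr (x : SL(2, F)) ^ 2 ≠ 4 := by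
    intro h
    have h' : (CfsgLib.PLocal.SLTwo.tr (x : SL(2, F)) - 2) *
        (CfsgLib.PLocal.SLTwo.tr (x : SL(2, F)) + 2) = 0 := by linear_combination h
    rcases mul_eq_zero.1 h' with h' | h'
    · exact hx1' (htr _ (sub_eq_zero.1 h') hk')
    · have hneg : CfsgLib.PLocal.SLTwo.tr (-(x : SL(2, F))) = 2 := by
        simp only [CfsgLib.PLocal.SLTwo.tr] at h' ⊢
        simp only [neg_entry]
        linear_combination (-1 : F) * h'
      have hsq : (-(x : SL(2, F))) ^ (2 * r ^ k) = 1 := by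
        rw [pow_mul, neg_sq, ← pow_mul, mul_comm, pow_mul, hk', one_pow]
      have h1 := pow_p_of_trace_two (p := p) hneg
      by_cases hp : p = 2
      · subst hp
        have : (-(x : SL(2, F))) = x := by
          refine ext2 ?_ ?_ ?_ ?_ <;> simp [neg_entry, CharTwo.neg_eq]
        rw [this] at hneg
        exact hx1' (htr _ hneg hk')
      · have hc2 : Nat.Coprime p (2 * r ^ k) :=
          Nat.Coprime.mul_right ((Nat.coprime_primes Fact.out Nat.prime_two).2 hp) hcop
        have h2 := Nat.dvd_gcd (orderOf_dvd_of_pow_eq_one h1) (orderOf_dvd_of_pow_eq_one hsq)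
        rw [hc2.gcd_eq_one] at h2
        have h3 := orderOf_eq_one_iff.1 (Nat.dvd_one.1 h2)
        have h4 : (x : SL(2, F)) = -1 := by rw [← h3, neg_neg]
        rw [h4] at hns
        exact not_nonScalar_neg_one hns
  have hle : (R : Subgroup SL(2, F)) ≤ Subgroup.centralizer {(x : SL(2, F))} := fun y hy =>
    Subgroup.mem_centralizer_iff.2 fun g hg => by
      rw [Set.mem_singleton_iff.1 hg]
      exact congrArg Subtype.val (Subgroup.mem_center_iff.1 hxc ⟨y, hy⟩).symm
  have := isCyclic_centralizer hns hd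
  exact isCyclic_of_injective (Subgroup.inclusion hle) (Subgroup.inclusion_injective hle)

theorem isKleinFour_sylow_PSL [Fintype F] {q : ℕ} (hF : Fintype.card F = q)
    (hq : q % 8 = 3 ∨ q % 8 = 5) (P : Sylow 2 (ProjectiveSpecialLinearGroup (Fin 2) F)) :
    IsKleinFour (P : Subgroup (ProjectiveSpecialLinearGroup (Fin 2) F)) := by
  obtain ⟨p, hp⟩ := CharP.exists F
  obtain ⟨n, hpp, hn⟩ := FiniteField.card F p
  have : Fact p.Prime := ⟨hpp⟩
  have hp2 : p ≠ 2 := by
    rintro rfl
    rw [hF] at hn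
    have : 2 ∣ q := hn ▸ dvd_pow_self 2 n.ne_zero
    omega
  have h2 : (2 : F) ≠ 0 := two_ne_zero_of_char hp2
  obtain ⟨φ, hne, hi, hj⟩ := exists_quat_SL (p := p) hp2
  let G := ProjectiveSpecialLinearGroup (Fin 2) F
  let π : SL(2, ZMod p) →* G :=
    (QuotientGroup.mk' (Subgroup.center SL(2, F))).comp (ofZMod (K := F) p)
  let χ := π.comp φ
  have hneg : (-1 : SL(2, F)) ∈ Subgroup.center SL(2, F) := Subgroup.mem_center_iff.2 fun g => by
    rw [mul_neg, neg_mul, mul_one, one_mul]
  have hofneg : ofZMod (K := F) p (-1) = -1 := by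
    refine ext2 ?_ ?_ ?_ ?_ <;> simp [ofZMod_entry]
  have hsq : ∀ g : QuaternionGroup 2, χ g ^ 2 = 1 := by
    have hχ1 : χ (.a 2) = 1 := by
      have h1 : φ (.a 2) = -1 := by
        rw [show (QuaternionGroup.a (n := 2) 2) = .a 1 ^ 2 from by decide, map_pow, hi]
      show π (φ (.a 2)) = 1
      rw [h1]
      exact (QuotientGroup.eq_one_iff _).2 (by rw [hofneg]; exact hneg)
    intro g
    have key : ∀ g : QuaternionGroup 2, g ^ 2 = 1 ∨ g ^ 2 = .a 2 := by decide
    rcases key g with h | h <;> rw [← map_pow, h]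
    · exact map_one χ
    · exact hχ1
  have hncomm : χ (.a 1) ≠ 1 ∧ χ (.xa 0) ≠ 1 ∧ χ (.a 1) ≠ χ (.xa 0) := by
    have central : ∀ g : SL(2, ZMod p), π g = 1 → ∀ h, g * h = h * g := fun g hg h => by
      apply ofZMod_injective (K := F)
      rw [map_mul, map_mul]
      exact (Subgroup.mem_center_iff.1 ((QuotientGroup.eq_one_iff _).1 hg) _).symm
    refine ⟨fun h => hne (central _ h _), fun h => hne (central _ h _).symm, fun h => ?_⟩
    have h1 : π ((φ (.xa 0))⁻¹ * φ (.a 1)) = 1 := by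
      rw [map_mul, map_inv, inv_mul_eq_one]; exact h.symm
    have h2 := central _ h1 (φ (.xa 0))
    rw [mul_assoc, ← mul_assoc (φ (.xa 0)), mul_inv_cancel, one_mul, inv_mul_eq_iff_eq_mul] at h2
    exact hne h2
  obtain ⟨P', hP'⟩ := ((IsPGroup.of_card (p := 2) (n := 3)
    (show Nat.card (QuaternionGroup 2) = 2 ^ 3 by
      rw [Nat.card_eq_fintype_card, QuaternionGroup.card]; norm_num)).of_surjective
        χ.rangeRestrict χ.rangeRestrict_surjective).exists_le_sylow
  have e := Sylow.equiv P P'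
  suffices hK : IsKleinFour (P' : Subgroup G) from
    { card_four := (Nat.card_congr e.toEquiv).trans hK.card_four
      exponent_two := (Monoid.exponent_eq_of_mulEquiv e).trans hK.exponent_two }
  have hcard : Nat.card (P' : Subgroup G) = 4 := by
    rw [Sylow.card_eq_multiplicity]
    suffices (Nat.card G).factorization 2 = 2 by rw [this]; norm_num
    have h := card_PSL_two (F := F)
    rw [hF] at h
    obtain ⟨m, hm, hm'⟩ : ∃ m, Nat.card G = 4 * m ∧ ¬ 2 ∣ m := by
      obtain ⟨j, hj | hj⟩ : ∃ j, q = 8 * j + 3 ∨ q = 8 * j + 5 := ⟨q / 8, by omega⟩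
      · refine ⟨(8 * j + 3) * (8 * j ^ 2 + 6 * j + 1), ?_, ?_⟩
        · subst hj
          rw [show Nat.gcd 2 (8 * j + 3 - 1) = 2 from
            Nat.gcd_eq_left (by omega)] at h
          have h' : (8 * j + 3) ^ 2 - 1 = 8 * (8 * j ^ 2 + 6 * j + 1) := by
            apply Nat.sub_eq_of_eq_add; ring
          rw [h'] at h
          linarith
        · simp [Nat.dvd_iff_mod_eq_zero, Nat.add_mod, Nat.mul_mod, Nat.pow_mod]
      · refine ⟨(8 * j + 5) * (8 * j ^ 2 + 10 * j + 3), ?_, ?_⟩
        · subst hj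
          rw [show Nat.gcd 2 (8 * j + 5 - 1) = 2 from
            Nat.gcd_eq_left (by omega)] at h
          have h' : (8 * j + 5) ^ 2 - 1 = 8 * (8 * j ^ 2 + 10 * j + 3) := by
            apply Nat.sub_eq_of_eq_add; ring
          rw [h'] at h
          linarith
        · simp [Nat.dvd_iff_mod_eq_zero, Nat.add_mod, Nat.mul_mod, Nat.pow_mod]
    rw [hm, Nat.factorization_mul (by norm_num) (by rintro rfl; simp at hm'), Finsupp.add_apply,
      show (4 : ℕ) = 2 ^ 2 from rfl, Nat.prime_two.factorization_pow, Finsupp.single_eq_same,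
      Nat.factorization_eq_zero_of_not_dvd hm']
  refine ⟨hcard, ?_⟩
  have hdvd : Monoid.exponent (P' : Subgroup G) ∣ 2 := by
    refine Monoid.exponent_dvd_of_forall_pow_eq_one fun y => ?_
    have hle : Nat.card χ.range ∣ 4 := hcard ▸ Subgroup.card_dvd_of_le hP'
    have h3 : 3 ≤ Nat.card χ.range := by
      classical
      have : Fintype χ.range := Fintype.ofFinite _
      rw [Nat.card_eq_fintype_card, ← Finset.card_univ]
      refine le_trans (le_of_eq ?_) (Finset.card_le_card
        (Finset.subset_univ {1, (⟨χ (.a 1), _, rfl⟩ : χ.range), ⟨χ (.xa 0), _, rfl⟩}))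
      rw [Finset.card_insert_of_notMem, Finset.card_pair]
      · exact fun h => hncomm.2.2 (congrArg Subtype.val h)
      · simp only [Finset.mem_insert, Finset.mem_singleton, not_or]
        exact ⟨fun h => hncomm.1 (congrArg Subtype.val h).symm,
          fun h => hncomm.2.1 (congrArg Subtype.val h).symm⟩
    have h4 : Nat.card χ.range = 4 := by
      rcases (Nat.dvd_prime_pow Nat.prime_two).1 (show Nat.card χ.range ∣ 2 ^ 2 from hle) with
        ⟨i, hi2, hi3⟩
      interval_cases i <;> omega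
    have heq := Subgroup.eq_of_le_of_card_ge hP' (by rw [h4, hcard])
    have hy := y.2
    simp only [← heq] at hy
    obtain ⟨g, hg⟩ := hy
    exact Subtype.ext (by rw [Subgroup.coe_pow, ← hg, hsq]; rfl)
  rcases (Nat.dvd_prime Nat.prime_two).1 hdvd with h | h
  · exfalso
    have := Monoid.exp_eq_one_iff.1 h
    rw [Nat.card_eq_one_iff_unique.2 ⟨this, inferInstance⟩] at hcard
    omega
  · exact h

end CfsgLib.Classical.Two
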