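import Cfsg.Agent.Lib.ZStar.Main
import Cfsg.Agent.Lib.Classical.SL2Structure

/-!
An involution centraliser `(L₁ ∘ L₂)⟨n⟩` with `L_i ≅ SL(2,q_i)`, `n² = j` interchanging the factors:
the involution `j` is isolated.

* `sup_oddCore_eq_top_of_isolated`: `G = C(u) O(G)` for an isolated involution `u`.
-/

set_option autoImplicit false

namespace CfsgLib.Classical.SwapPair

open Matrix
open scoped MatrixGroups

universe u v

/-! ### `G = C(u) O(G)` -/

theorem sup_oddCore_eq_top_of_isolated {G : Type u} [Group G] [Finite G] {u : G}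
    (hu : Cfsg.IsIsolatedInvolution u) :
    Subgroup.centralizer ({u} : Set G) ⊔ Cfsg.oddCore G = ⊤ := by
  refine eq_top_iff.2 fun g _ => ?_
  have hu2 : u * u = 1 := by
    have := pow_orderOf_eq_one u
    rwa [hu.1, pow_two] at this
  set y := u * g * u⁻¹ * g⁻¹ with hy
  have hyO : y ∈ Cfsg.oddCore G := ZStar.mem_oddCore_of_isolated hu g
  obtain ⟨m, hm⟩ : Odd (orderOf y) := CfsgLib.ZStar.odd_of_dvd
    (Subgroup.orderOf_dvd_natCard _ hyO) (CfsgLib.ZStar.odd_card_oddCore G)
  have hu' : u⁻¹ = u := inv_eq_of_mul_eq_one_right hu2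
  have hinv : u * y * u = y⁻¹ := by
    rw [hy, hu']
    calc u * (u * g * u * g⁻¹) * u = (u * u) * g * u * g⁻¹ * u := by group
      _ = g * u * g⁻¹ * u := by rw [hu2, one_mul]
      _ = _ := by simp [_root_.mul_inv_rev, hu', mul_assoc]
  have hpow : ∀ k : ℕ, u * y ^ k = (y ^ k)⁻¹ * u := by
    intro k
    have h := map_pow (MulAut.conj u) y k
    simp only [MulAut.conj_apply, hu'] at h
    rw [hinv, inv_pow] at h
    rw [← h, mul_assoc _ u u, hu2, mul_one]
  set d := y ^ m with hd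
  have hdd : d * d = y⁻¹ := by
    refine eq_inv_of_mul_eq_one_left ?_
    rw [hd, ← pow_add, ← pow_succ, ← pow_orderOf_eq_one y, hm]
    congr 1
    omega
  have hdO : d ∈ Cfsg.oddCore G := pow_mem hyO m
  have hdu : d * u * d⁻¹ = g * u * g⁻¹ := by
    have h1 : u * d⁻¹ = d * u := by
      have := hpow m
      rw [← hd] at this
      calc u * d⁻¹ = d * (d⁻¹ * u) * d⁻¹ := by group
        _ = d * (u * d) * d⁻¹ := by rw [this]
        _ = _ := by group
    rw [mul_assoc, h1, ← mul_assoc, hdd, hy, hu']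
    simp [_root_.mul_inv_rev, hu', mul_assoc, hu2]
  have hc : d⁻¹ * g ∈ Subgroup.centralizer ({u} : Set G) := by
    rw [Subgroup.mem_centralizer_singleton_iff]
    calc d⁻¹ * g * u = d⁻¹ * (g * u * g⁻¹) * g := by group
      _ = d⁻¹ * (d * u * d⁻¹) * g := by rw [hdu]
      _ = u * (d⁻¹ * g) := by group
  rw [show g = d * (d⁻¹ * g) by group]
  exact mul_mem (Subgroup.mem_sup_right hdO) (Subgroup.mem_sup_left hc)

/-! ### Facts about elements of order four in `SL(2,q)` -/

section SL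

variable {F : Type v} [Field F] [Finite F]

omit [Finite F] in
theorem eq_one_or_neg_one (h2 : (2 : F) ≠ 0) {a : SL(2, F)} (ha : a * a = 1) : a = 1 ∨ a = -1 := by
  by_cases h : a = 1
  · exact Or.inl h
  · exact Or.inr (CfsgLib.Classical.Two.eq_neg_one_of_orderOf_two h2
      (orderOf_eq_prime (by rw [pow_two, ha]) h))

theorem exists_sq_add_sq (h2 : (2 : F) ≠ 0) (c : F) : ∃ a b : F, a * a + b * b = c := by
  have := Fintype.ofFinite F
  obtain ⟨a, b, hab⟩ := FiniteField.exists_root_sum_quadratic (R := F)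
    (f := Polynomial.X ^ 2) (g := Polynomial.X ^ 2 - Polynomial.C c)
    (Polynomial.degree_X_pow 2) (Polynomial.degree_X_pow_sub_C (by norm_num) c)
    (FiniteField.odd_card_of_char_ne_two fun hch => h2 (by
      have := CharP.cast_eq_zero F (ringChar F)
      rw [hch] at this
      exact_mod_cast this))
  refine ⟨a, b, ?_⟩
  simp only [Polynomial.eval_pow, Polynomial.eval_X, Polynomial.eval_sub, Polynomial.eval_C] at hab
  linear_combination hab

/-- The standard element of order four. -/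
def quarter (F : Type v) [Field F] : SL(2, F) :=
  ⟨!![0, -1; 1, 0], by simp [Matrix.det_fin_two]⟩

omit [Finite F] in
theorem entries_of_sq {a : SL(2, F)} (h2 : (2 : F) ≠ 0) (ha : a * a = -1) :
    a.1 1 1 = -a.1 0 0 ∧ a.1 0 0 * a.1 0 0 + a.1 0 1 * a.1 1 0 = -1 := by
  have h : (a.1 * a.1) = -1 := by
    rw [← Matrix.SpecialLinearGroup.coe_mul, ha]; simp
  have h00 := congrFun (congrFun h 0) 0
  have h01 := congrFun (congrFun h 0) 1
  have h10 := congrFun (congrFun h 1) 0
  have h11 := congrFun (congrFun h 1) 1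
  have hd : a.1.det = 1 := a.2
  rw [Matrix.det_fin_two] at hd
  simp [Matrix.mul_apply, Fin.sum_univ_two] at h00 h01 h10 h11
  refine ⟨?_, h00⟩
  by_cases hb : a.1 0 1 = 0
  · have h3 : a.1 0 0 * a.1 0 0 = -1 := by rw [hb] at h00; linear_combination h00
    have h4 : a.1 0 0 * a.1 1 1 = 1 := by rw [hb] at hd; linear_combination hd
    have h5 : a.1 0 0 * (a.1 1 1 + a.1 0 0) = 0 := by linear_combination h4 + h3
    rcases mul_eq_zero.1 h5 with h | h
    · rw [h, zero_mul] at h4
      exact absurd h4 zero_ne_one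
    · linear_combination h
  · have h5 : a.1 0 1 * (a.1 1 1 + a.1 0 0) = 0 := by linear_combination h01
    linear_combination (mul_eq_zero.1 h5).resolve_left hb

theorem exists_std (h2 : (2 : F) ≠ 0) {a : SL(2, F)} (ha : a * a = -1) :
    ∃ s : SL(2, F), a = s * quarter F * s⁻¹ := by
  obtain ⟨hd, hdet⟩ := entries_of_sq h2 ha
  set p := a.1 0 0 with hp
  set q := a.1 0 1 with hq
  set r := a.1 1 0 with hr
  obtain ⟨x, y, hxy⟩ : ∃ x y : F, r * x * x - 2 * p * x * y - q * y * y = 1 := by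
    by_cases hr0 : r = 0
    · have hp0 : p ≠ 0 := by
        intro h
        rw [h, hr0] at hdet
        simp at hdet
      refine ⟨-(1 + q) / (2 * p), 1, ?_⟩
      rw [hr0]
      field_simp
      ring
    · obtain ⟨u, w, huw⟩ := exists_sq_add_sq h2 r
      refine ⟨(u + p * w) / r, w, ?_⟩
      field_simp
      linear_combination huw + w ^ 2 * (-1 : F) * hdet
  have hav : a.1 = !![p, q; r, -p] := by
    ext i j
    fin_cases i <;> fin_cases j <;> simp [hp, hq, hr, hd]
  let s : SL(2, F) := ⟨!![x, p * x + q * y; y, r * x - p * y], by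
    simp [Matrix.det_fin_two]; linear_combination hxy⟩
  refine ⟨s, eq_mul_inv_iff_mul_eq.2 (Subtype.ext ?_)⟩
  rw [Matrix.SpecialLinearGroup.coe_mul, Matrix.SpecialLinearGroup.coe_mul, hav]
  ext i j
  fin_cases i <;> fin_cases j <;> simp [s, quarter, Matrix.mul_apply, Fin.sum_univ_two]
  all_goals first
    | ring1
    | linear_combination x * hdet
    | linear_combination y * hdet

theorem exists_conj_of_sq (h2 : (2 : F) ≠ 0) {a b : SL(2, F)} (ha : a * a = -1)
    (hb : b * b = -1) : ∃ s : SL(2, F), s * a * s⁻¹ = b := by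
  obtain ⟨s, rfl⟩ := exists_std h2 ha
  obtain ⟨t, rfl⟩ := exists_std h2 hb
  exact ⟨t * s⁻¹, by group⟩

theorem exists_anticommuting (h2 : (2 : F) ≠ 0) {a : SL(2, F)} (ha : a * a = -1) :
    ∃ b : SL(2, F), b * b = -1 ∧ b * a = -1 * (a * b) := by
  obtain ⟨u, w, huw⟩ := exists_sq_add_sq h2 (-1)
  obtain ⟨s, rfl⟩ := exists_std h2 ha
  let b₀ : SL(2, F) := ⟨!![u, w; w, -u], by simp [Matrix.det_fin_two]; linear_combination -huw⟩
  have h1 : b₀ * b₀ = -1 := by
    refine Subtype.ext ?_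
    rw [Matrix.SpecialLinearGroup.coe_mul]
    ext i j
    fin_cases i <;> fin_cases j <;>
      simp [b₀, Matrix.mul_apply, Fin.sum_univ_two] <;>
      first | linear_combination huw | ring
  have h3 : b₀ * quarter F = -1 * (quarter F * b₀) := by
    refine Subtype.ext ?_
    rw [Matrix.SpecialLinearGroup.coe_mul, Matrix.SpecialLinearGroup.coe_mul,
      Matrix.SpecialLinearGroup.coe_mul]
    ext i j
    fin_cases i <;> fin_cases j <;> simp [b₀, quarter, Matrix.mul_apply, Fin.sum_univ_two]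
  refine ⟨s * b₀ * s⁻¹, ?_, ?_⟩
  · calc s * b₀ * s⁻¹ * (s * b₀ * s⁻¹) = s * (b₀ * b₀) * s⁻¹ := by group
      _ = _ := by rw [h1]; simp
  · calc s * b₀ * s⁻¹ * (s * quarter F * s⁻¹) = s * (b₀ * quarter F) * s⁻¹ := by group
      _ = s * (-1 * (quarter F * b₀)) * s⁻¹ := by rw [h3]
      _ = -1 * (s * quarter F * b₀ * s⁻¹) := by simp [mul_assoc]
      _ = _ := by group

theorem eq_one_or_neg_one_of_commute (h2 : (2 : F) ≠ 0) {a b c : SL(2, F)} (ha : a * a = -1)
    (hb : b * b = -1) (hab : b * a = -1 * (a * b)) (hca : c * a = a * c) (hcb : c * b = b * c) :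
    c = 1 ∨ c = -1 := by
  obtain ⟨s, rfl⟩ := exists_std h2 ha
  obtain ⟨c, rfl⟩ : ∃ c', c = s * c' * s⁻¹ := ⟨s⁻¹ * c * s, by group⟩
  obtain ⟨b, rfl⟩ : ∃ b', b = s * b' * s⁻¹ := ⟨s⁻¹ * b * s, by group⟩
  have hm : (-1 : SL(2, F)) * s = s * -1 := by simp
  have hca' : c * quarter F = quarter F * c := by
    have := congrArg (fun x => s⁻¹ * x * s) hca
    simpa [mul_assoc] using this
  have hcb' : c * b = b * c := by
    have := congrArg (fun x => s⁻¹ * x * s) hcb
    simpa [mul_assoc] using this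
  have hab' : b * quarter F = -1 * (quarter F * b) := by
    have := congrArg (fun x => s⁻¹ * x * s) hab
    simpa [mul_assoc] using this
  have e1 := congrArg Subtype.val hca'
  have e2 := congrArg Subtype.val hcb'
  have e3 := congrArg Subtype.val hab'
  rw [Matrix.SpecialLinearGroup.coe_mul, Matrix.SpecialLinearGroup.coe_mul] at e1 e2
  rw [neg_one_mul] at e3
  rw [Matrix.SpecialLinearGroup.coe_neg, Matrix.SpecialLinearGroup.coe_mul,
    Matrix.SpecialLinearGroup.coe_mul] at e3
  have a00 := congrFun (congrFun e1 0) 0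
  have a01 := congrFun (congrFun e1 0) 1
  have b00 := congrFun (congrFun e3 0) 0
  have b01 := congrFun (congrFun e3 0) 1
  have c00 := congrFun (congrFun e2 0) 0
  have c01 := congrFun (congrFun e2 0) 1
  have hdb : b.1.det = 1 := b.2
  have hdc : c.1.det = 1 := c.2
  simp [quarter, Matrix.mul_apply, Matrix.vecMul, dotProduct, Fin.sum_univ_two] at a00 a01 b00 b01 c00 c01
  rw [Matrix.det_fin_two] at hdb hdc
  -- `c = [[x, -y], [y, x]]`, `b = [[u, w], [w, -u]]`, and `y u = y w = 0`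
  have y1 : c.1 0 1 = -c.1 1 0 := by first | linear_combination a00 | linear_combination -a00
  have x1 : c.1 1 1 = c.1 0 0 := by first | linear_combination a01 | linear_combination -a01
  have u1 : b.1 1 0 = b.1 0 1 := by first | linear_combination b00 | linear_combination -b00
  have u2 : b.1 1 1 = -b.1 0 0 := by first | linear_combination b01 | linear_combination -b01
  rw [y1, u1] at c00
  rw [y1, x1, u2] at c01
  have yw : c.1 1 0 * b.1 0 1 = 0 := by
    have : (2 : F) * (c.1 1 0 * b.1 0 1) = 0 := by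
      first | linear_combination c00 | linear_combination -c00
    exact (mul_eq_zero.1 this).resolve_left h2
  have yu : c.1 1 0 * b.1 0 0 = 0 := by
    have : (2 : F) * (c.1 1 0 * b.1 0 0) = 0 := by
      first | linear_combination c01 | linear_combination -c01
    exact (mul_eq_zero.1 this).resolve_left h2
  rw [u1, u2] at hdb
  have y0 : c.1 1 0 = 0 := by
    linear_combination (-c.1 1 0) * hdb + (-b.1 0 0) * yu + (-b.1 0 1) * yw
  rw [x1, y0, mul_zero, sub_zero] at hdc
  rcases mul_self_eq_one_iff.1 hdc with h | h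
  · left
    rw [show c = 1 from Subtype.ext (by
      ext i j; fin_cases i <;> fin_cases j <;> simp [h, y0, y1, x1])]
    simp
  · right
    rw [show c = -1 from Subtype.ext (by
      ext i j; fin_cases i <;> fin_cases j <;> simp [h, y0, y1, x1])]
    simp

end SL

/-! ### The group -/

section Main

variable {G : Type u} [Group G]

/-- The facts about a factor which are used. -/
structure Factor (L : Subgroup G) (j : G) : Prop where
  mem : j ∈ L
  sq : ∀ a ∈ L, a * a = 1 → a = 1 ∨ a = j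
  conj : ∀ a ∈ L, ∀ b ∈ L, a * a = j → b * b = j → ∃ s ∈ L, s * a * s⁻¹ = b
  anti : ∀ a ∈ L, a * a = j → ∃ b ∈ L, b * b = j ∧ b * a = j * (a * b)
  cent : ∀ a ∈ L, ∀ b ∈ L, a * a = j → b * b = j → b * a = j * (a * b) →
    ∀ c ∈ L, c * a = a * c → c * b = b * c → c = 1 ∨ c = j

theorem factor_of_equiv {F : Type v} [Field F] [Finite F] (h2 : (2 : F) ≠ 0) {L : Subgroup G}
    (e : L ≃* SL(2, F)) {j : G} (hj : orderOf j = 2) (hjL : j ∈ L) : Factor L j := by
  have ej : e ⟨j, hjL⟩ = -1 := CfsgLib.Classical.Two.eq_neg_one_of_orderOf_two h2 (by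
    rw [e.orderOf_eq, ← Subgroup.orderOf_coe]; exact hj)
  have back : ∀ (x : L) (t : SL(2, F)), e x = t → t = -1 → (x : G) = j := by
    intro x t h1 h3
    rw [h3, ← ej] at h1
    exact congrArg Subtype.val (e.injective h1)
  have fwd : ∀ x : L, (x : G) = j → e x = -1 := fun x h => by
    rw [← ej]; exact congrArg e (Subtype.ext h)
  have sqe : ∀ a (ha : a ∈ L), a * a = j → e ⟨a, ha⟩ * e ⟨a, ha⟩ = -1 := fun a ha h => by
    rw [← map_mul]; exact fwd _ h
  have antie : ∀ a (ha : a ∈ L) b (hb : b ∈ L), b * a = j * (a * b) →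
      e ⟨b, hb⟩ * e ⟨a, ha⟩ = -1 * (e ⟨a, ha⟩ * e ⟨b, hb⟩) := fun a ha b hb h => by
    rw [← ej, ← map_mul, ← map_mul, ← map_mul]
    exact congrArg e (Subtype.ext h)
  refine ⟨hjL, fun a ha h => ?_, fun a ha b hb h1 h3 => ?_, fun a ha h => ?_,
    fun a ha b hb h1 h3 h4 c hc h5 h6 => ?_⟩
  · rcases eq_one_or_neg_one h2 (a := e ⟨a, ha⟩)
      (by rw [← map_mul, ← map_one e]; exact congrArg e (Subtype.ext h)) with h | h
    · exact Or.inl (congrArg Subtype.val (e.map_eq_one_iff.1 h) : _)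
    · exact Or.inr (back ⟨a, ha⟩ _ rfl h)
  · obtain ⟨s, hs⟩ := exists_conj_of_sq h2 (sqe a ha h1) (sqe b hb h3)
    refine ⟨(e.symm s : G), (e.symm s).2, ?_⟩
    have : e.symm s * ⟨a, ha⟩ * (e.symm s)⁻¹ = ⟨b, hb⟩ := e.injective (by simp [hs])
    exact congrArg Subtype.val this
  · obtain ⟨b, hb1, hb2⟩ := exists_anticommuting h2 (sqe a ha h)
    refine ⟨(e.symm b : G), (e.symm b).2, ?_, ?_⟩
    · exact back (e.symm b * e.symm b) _ rfl (by rw [map_mul, e.apply_symm_apply, hb1])
    · have : e.symm b * ⟨a, ha⟩ = ⟨j, hjL⟩ * (⟨a, ha⟩ * e.symm b) :=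
        e.injective (by simp only [map_mul, e.apply_symm_apply, ej, hb2])
      exact congrArg Subtype.val this
  · rcases eq_one_or_neg_one_of_commute h2 (sqe a ha h1) (sqe b hb h3) (antie a ha b hb h4)
      (c := e ⟨c, hc⟩) (by rw [← map_mul, ← map_mul]; exact congrArg e (Subtype.ext h5))
      (by rw [← map_mul, ← map_mul]; exact congrArg e (Subtype.ext h6)) with h | h
    · exact Or.inl (congrArg Subtype.val (e.map_eq_one_iff.1 h) : _)
    · exact Or.inr (back ⟨c, hc⟩ _ rfl h)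

/-- The hypotheses. -/
structure Setup (L₁ L₂ : Subgroup G) (j n : G) : Prop where
  ne : j ≠ 1
  sq : j * j = 1
  f₁ : Factor L₁ j
  f₂ : Factor L₂ j
  comm : ∀ x ∈ L₁, ∀ y ∈ L₂, x * y = y * x
  inter : ∀ x ∈ L₁, x ∈ L₂ → x = 1 ∨ x = j
  n_sq : n * n = j
  n_not : ∀ a ∈ L₁, ∀ b ∈ L₂, n ≠ a * b
  swap₁ : ∀ a ∈ L₁, n * a * n⁻¹ ∈ L₂
  swap₂ : ∀ b ∈ L₂, n * b * n⁻¹ ∈ L₁
  cases : ∀ x : G, x * j = j * x → ∃ a ∈ L₁, ∃ b ∈ L₂, x = a * b ∨ x = a * b * n

variable {L₁ L₂ : Subgroup G} {j n : G}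

theorem Setup.j_comm₁ (S : Setup L₁ L₂ j n) {a : G} (ha : a ∈ L₁) : a * j = j * a :=
  S.comm a ha j S.f₂.mem

theorem Setup.j_comm₂ (S : Setup L₁ L₂ j n) {b : G} (hb : b ∈ L₂) : b * j = j * b :=
  (S.comm j S.f₁.mem b hb).symm

theorem Setup.eq_of_mul_eq (S : Setup L₁ L₂ j n) {a a' b b' : G} (ha : a ∈ L₁) (hb : b ∈ L₂)
    (ha' : a' ∈ L₁) (hb' : b' ∈ L₂) (h : a * b = a' * b') :
    (a = a' ∧ b = b') ∨ (a = a' * j ∧ b = j * b') := by
  have h' : a'⁻¹ * a = b' * b⁻¹ := by
    have := congrArg (fun x => a'⁻¹ * x * b⁻¹) h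
    simpa [mul_assoc] using this
  rcases S.inter (a'⁻¹ * a) (mul_mem (inv_mem ha') ha) (h' ▸ mul_mem hb' (inv_mem hb)) with h1 | h1
  · left
    exact ⟨(inv_mul_eq_one.1 h1).symm, (mul_inv_eq_one.1 (h'.symm.trans h1)).symm⟩
  · right
    have h3 := h'.symm.trans h1
    refine ⟨inv_mul_eq_iff_eq_mul.1 h1, ?_⟩
    rw [mul_inv_eq_iff_eq_mul] at h3
    rw [h3, ← mul_assoc, S.sq, one_mul]

theorem Setup.mem_product (S : Setup L₁ L₂ j n) {x : G} (hxj : x * j = j * x) (hx : x * x = 1)
    (h1 : x ≠ 1) (hj : x ≠ j) : ∃ a ∈ L₁, ∃ b ∈ L₂, x = a * b ∧ a * a = j ∧ b * b = j := by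
  obtain ⟨a, ha, b, hb, rfl | rfl⟩ := S.cases x hxj
  · refine ⟨a, ha, b, hb, rfl, ?_⟩
    have e : a * b * (a * b) = a * a * (b * b) := by
      calc a * b * (a * b) = a * (b * a) * b := by group
        _ = a * (a * b) * b := by rw [S.comm a ha b hb]
        _ = _ := by group
    rw [e] at hx
    rcases S.eq_of_mul_eq (mul_mem ha ha) (mul_mem hb hb) (one_mem L₁) (one_mem L₂)
        (by rw [hx, one_mul]) with ⟨k1, k2⟩ | ⟨k1, k2⟩
    · exfalso
      rcases S.f₁.sq a ha k1 with rfl | rfl <;> rcases S.f₂.sq b hb k2 with rfl | rfl <;>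
        simp [S.sq] at h1 hj
    · exact ⟨by simpa using k1, by simpa using k2⟩
  · exfalso
    set a' := n * b * n⁻¹ with ha'
    set b' := n * a * n⁻¹ with hb'
    have ha'm : a' ∈ L₁ := S.swap₂ b hb
    have hb'm : b' ∈ L₂ := S.swap₁ a ha
    have e : a * b * n * (a * b * n) = a * a' * (b * b' * j) := by
      calc a * b * n * (a * b * n) = a * b * (b' * a') * (n * n) := by rw [ha', hb']; group
        _ = a * b * (a' * b') * (n * n) := by rw [S.comm a' ha'm b' hb'm]
        _ = a * (b * a') * b' * j := by rw [S.n_sq]; group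
        _ = a * (a' * b) * b' * j := by rw [S.comm a' ha'm b hb]
        _ = _ := by group
    rw [e] at hx
    rcases S.eq_of_mul_eq (mul_mem ha ha'm) (mul_mem (mul_mem hb hb'm) S.f₂.mem) (one_mem L₁)
        (one_mem L₂) (by rw [hx, one_mul]) with ⟨k1, k2⟩ | ⟨k1, k2⟩
    · -- `a' = a⁻¹` and `b b' = j`
      have hbb : b * b' = j := by
        rw [← mul_inv_eq_one, inv_eq_of_mul_eq_one_right S.sq, k2]
      have hbe : b = j * b'⁻¹ := by rw [← hbb]; group
      have ea : a * (n * b * n⁻¹) = j := by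
        calc a * (n * b * n⁻¹) = a * (n * j * (n * a⁻¹) * (n⁻¹ * n⁻¹)) := by rw [hbe, hb']; group
          _ = a * (j * (n * n) * a⁻¹ * (n * n)⁻¹) := by
            rw [show n * j = j * n by rw [← S.n_sq]; group]; group
          _ = a * (a⁻¹ * j) := by
            rw [S.n_sq, S.sq, one_mul, inv_eq_of_mul_eq_one_right S.sq]
          _ = j := by group
      exact S.ne (by rw [← ea, ← ha', k1])
    · simp only [one_mul, mul_one] at k1 k2
      have hbb : b * b' = 1 := mul_right_cancel (k2.trans (one_mul j).symm)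
      have hbe : b = b'⁻¹ := eq_inv_of_mul_eq_one_left hbb
      have ea : a * (n * b * n⁻¹) = 1 := by
        calc a * (n * b * n⁻¹) = a * ((n * n) * a⁻¹ * (n * n)⁻¹) := by rw [hbe, hb']; group
          _ = a * (a⁻¹ * (n * n) * (n * n)⁻¹) := by
            rw [S.n_sq, S.j_comm₁ (inv_mem ha)]
          _ = 1 := by group
      exact S.ne (by rw [← k1, ha', ea])

/-- An element commuting with two independent involutions of `C(j)` other than `j` squares into
`⟨j⟩`. -/
theorem Setup.sq_mem (S : Setup L₁ L₂ j n) {e f x : G} (hej : e * j = j * e) (he : e * e = 1)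
    (he1 : e ≠ 1) (hej' : e ≠ j) (hfj : f * j = j * f) (hf : f * f = 1) (hf1 : f ≠ 1)
    (hfj' : f ≠ j) (hef : e * f = f * e) (hef1 : e * f ≠ 1) (hef2 : e * f ≠ j)
    (hxj : x * j = j * x) (hxe : x * e = e * x) (hxf : x * f = f * x) :
    x * x = 1 ∨ x * x = j := by
  obtain ⟨a, ha, b, hb, rfl, haa, hbb⟩ := S.mem_product hej he he1 hej'
  obtain ⟨c, hc, d, hd, rfl, hcc, hdd⟩ := S.mem_product hfj hf hf1 hfj'
  have anti : c * a = j * (a * c) ∧ d * b = j * (b * d) := by
    have h0 : c * a * (d * b) = a * c * (b * d) := by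
      calc c * a * (d * b) = c * (a * d) * b := by group
        _ = c * (d * a) * b := by rw [S.comm a ha d hd]
        _ = c * d * (a * b) := by group
        _ = a * b * (c * d) := hef.symm
        _ = a * (b * c) * d := by group
        _ = a * (c * b) * d := by rw [S.comm c hc b hb]
        _ = _ := by group
    rcases S.eq_of_mul_eq (mul_mem hc ha) (mul_mem hd hb) (mul_mem ha hc) (mul_mem hb hd) h0 with
      ⟨k1, k2⟩ | ⟨k1, k2⟩
    · exfalso
      have q1 : a * c = 1 ∨ a * c = j := S.f₁.sq _ (mul_mem ha hc) (by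
        calc a * c * (a * c) = a * (c * a) * c := by group
          _ = a * (a * c) * c := by rw [k1]
          _ = (a * a) * (c * c) := by group
          _ = 1 := by rw [haa, hcc, S.sq])
      have q2 : b * d = 1 ∨ b * d = j := S.f₂.sq _ (mul_mem hb hd) (by
        calc b * d * (b * d) = b * (d * b) * d := by group
          _ = b * (b * d) * d := by rw [k2]
          _ = (b * b) * (d * d) := by group
          _ = 1 := by rw [hbb, hdd, S.sq])
      have e1 : a * b * (c * d) = a * c * (b * d) := by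
        calc a * b * (c * d) = a * (b * c) * d := by group
          _ = a * (c * b) * d := by rw [S.comm c hc b hb]
          _ = _ := by group
      rw [e1] at hef1 hef2
      rcases q1 with h | h <;> rcases q2 with h' | h' <;> simp [h, h', S.sq] at hef1 hef2
    · exact ⟨by rw [k1, S.j_comm₁ (mul_mem ha hc)], k2⟩
  have key : ∀ p ∈ L₁, ∀ q ∈ L₂, x * (p * q) = p * q * x →
      x * x * p = p * (x * x) ∧ x * x * q = q * (x * x) := by
    intro p hp q hq hxpq
    have h0 : x * p * x⁻¹ * (x * q * x⁻¹) = p * q := by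
      calc x * p * x⁻¹ * (x * q * x⁻¹) = x * (p * q) * x⁻¹ := by group
        _ = _ := by rw [hxpq]; group
    suffices h : x * (x * p * x⁻¹) * x⁻¹ = p ∧ x * (x * q * x⁻¹) * x⁻¹ = q by
      constructor
      · calc x * x * p = x * (x * p * x⁻¹) * x⁻¹ * (x * x) := by group
          _ = _ := by rw [h.1]
      · calc x * x * q = x * (x * q * x⁻¹) * x⁻¹ * (x * x) := by group
          _ = _ := by rw [h.2]
    have hxjc : x * j * x⁻¹ = j := by rw [hxj]; group
    obtain ⟨u, hu, w, hw, hx⟩ := S.cases x hxj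
    rcases hx with hx | hx
    · have m1 : x * p * x⁻¹ ∈ L₁ := by
        rw [hx, show u * w * p * (u * w)⁻¹ = u * (w * p * w⁻¹) * u⁻¹ by group,
          ← S.comm p hp w hw, mul_inv_cancel_right]
        exact mul_mem (mul_mem hu hp) (inv_mem hu)
      have m2 : x * q * x⁻¹ ∈ L₂ := by
        rw [hx, show u * w * q * (u * w)⁻¹ = u * (w * q * w⁻¹) * u⁻¹ by group,
          S.comm u hu _ (mul_mem (mul_mem hw hq) (inv_mem hw)), mul_inv_cancel_right]
        exact mul_mem (mul_mem hw hq) (inv_mem hw)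
      rcases S.eq_of_mul_eq m1 m2 hp hq h0 with ⟨k1, k2⟩ | ⟨k1, k2⟩
      · rw [k1, k2]; exact ⟨k1, k2⟩
      · constructor
        · rw [k1, show x * (p * j) * x⁻¹ = x * p * x⁻¹ * (x * j * x⁻¹) by group, k1, hxjc,
            mul_assoc, S.sq, mul_one]
        · rw [k2, show x * (j * q) * x⁻¹ = x * j * x⁻¹ * (x * q * x⁻¹) by group, k2, hxjc,
            ← mul_assoc, S.sq, one_mul]
    · have m1 : x * p * x⁻¹ ∈ L₂ := by
        have hb' := S.swap₁ p hp
        rw [hx, show u * w * n * p * (u * w * n)⁻¹ = u * (w * (n * p * n⁻¹) * w⁻¹) * u⁻¹ by group,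
          S.comm u hu _ (mul_mem (mul_mem hw hb') (inv_mem hw)), mul_inv_cancel_right]
        exact mul_mem (mul_mem hw hb') (inv_mem hw)
      have m2 : x * q * x⁻¹ ∈ L₁ := by
        have ha' := S.swap₂ q hq
        rw [hx, show u * w * n * q * (u * w * n)⁻¹ = u * (w * (n * q * n⁻¹) * w⁻¹) * u⁻¹ by group,
          ← S.comm _ ha' w hw, mul_inv_cancel_right]
        exact mul_mem (mul_mem hu ha') (inv_mem hu)
      rw [← S.comm _ m2 _ m1] at h0
      rcases S.eq_of_mul_eq m2 m1 hp hq h0 with ⟨k1, k2⟩ | ⟨k1, k2⟩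
      · rw [k2, k1]; exact ⟨rfl, k2⟩
      · constructor
        · rw [k2, show x * (j * q) * x⁻¹ = x * j * x⁻¹ * (x * q * x⁻¹) by group, k1, hxjc,
            S.j_comm₁ hp, ← mul_assoc, S.sq, one_mul]
        · rw [k1, show x * (p * j) * x⁻¹ = x * p * x⁻¹ * (x * j * x⁻¹) by group, k2, hxjc,
            mul_assoc, S.j_comm₂ hq, ← mul_assoc, S.sq, one_mul]
  obtain ⟨ka, kb⟩ := key a ha b hb hxe
  obtain ⟨kc, kd⟩ := key c hc d hd hxf
  obtain ⟨u, hu, w, hw, hxx⟩ : ∃ u ∈ L₁, ∃ w ∈ L₂, x * x = u * w := by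
    obtain ⟨u, hu, w, hw, hx | hx⟩ := S.cases x hxj
    · refine ⟨u * u, mul_mem hu hu, w * w, mul_mem hw hw, ?_⟩
      rw [hx]
      calc u * w * (u * w) = u * (w * u) * w := by group
        _ = u * (u * w) * w := by rw [S.comm u hu w hw]
        _ = _ := by group
    · have ha' := S.swap₂ w hw
      have hb' := S.swap₁ u hu
      refine ⟨u * (n * w * n⁻¹), mul_mem hu ha', w * (n * u * n⁻¹) * j,
        mul_mem (mul_mem hw hb') S.f₂.mem, ?_⟩
      rw [hx]
      calc u * w * n * (u * w * n) = u * w * ((n * u * n⁻¹) * (n * w * n⁻¹)) * (n * n) := by group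
        _ = u * w * ((n * w * n⁻¹) * (n * u * n⁻¹)) * (n * n) := by rw [S.comm _ ha' _ hb']
        _ = u * (w * (n * w * n⁻¹)) * (n * u * n⁻¹) * j := by rw [S.n_sq]; group
        _ = u * ((n * w * n⁻¹) * w) * (n * u * n⁻¹) * j := by rw [S.comm _ ha' w hw]
        _ = _ := by group
  have c1 : ∀ p ∈ L₁, x * x * p = p * (x * x) → u * p = p * u := fun p hp h => by
    rw [hxx, mul_assoc, ← S.comm p hp w hw, ← mul_assoc, ← mul_assoc] at h
    exact mul_right_cancel h
  have c2 : ∀ q ∈ L₂, x * x * q = q * (x * x) → w * q = q * w := fun q hq h => by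
    rw [hxx, mul_assoc, ← mul_assoc q, ← S.comm u hu q hq, mul_assoc] at h
    exact mul_left_cancel h
  rcases S.f₁.cent a ha c hc haa hcc anti.1 u hu (c1 a ha ka) (c1 c hc kc) with h | h <;>
    rcases S.f₂.cent b hb d hd hbb hdd anti.2 w hw (c2 b hb kb) (c2 d hd kd) with h' | h' <;>
    simp [hxx, h, h', S.sq]

theorem Setup.isolated (S : Setup L₁ L₂ j n) : Cfsg.IsIsolatedInvolution j := by
  refine ⟨orderOf_eq_prime (by rw [pow_two, S.sq]) S.ne, fun g hg => ?_⟩
  by_contra hne
  set k := g * j * g⁻¹ with hk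
  have kk : k * k = 1 := by
    rw [hk, show g * j * g⁻¹ * (g * j * g⁻¹) = g * (j * j) * g⁻¹ by group, S.sq]; group
  have k1 : k ≠ 1 := fun h => S.ne (by
    rwa [hk, mul_inv_eq_one, mul_eq_left] at h)
  obtain ⟨a, ha, b, hb, hab, haa, hbb⟩ := S.mem_product hg.symm kk k1 hne
  -- move `n` so that it carries `a` to `b`
  have hb0 : n * a * n⁻¹ ∈ L₂ := S.swap₁ a ha
  have hnj : n * j = j * n := by rw [← S.n_sq]; group
  have hb0' : n * a * n⁻¹ * (n * a * n⁻¹) = j := by
    rw [show n * a * n⁻¹ * (n * a * n⁻¹) = n * (a * a) * n⁻¹ by group, haa, hnj]; group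
  obtain ⟨s, hs, hsb⟩ := S.f₂.conj _ hb0 b hb hb0' hbb
  set z := s * n * s⁻¹ with hz
  have zz : z * z = j := by
    rw [hz, show s * n * s⁻¹ * (s * n * s⁻¹) = s * (n * n) * s⁻¹ by group, S.n_sq,
      S.j_comm₂ hs]
    group
  have za : z * a * z⁻¹ = b := by
    rw [hz, show s * n * s⁻¹ * a * (s * n * s⁻¹)⁻¹ = s * (n * (s⁻¹ * a * s) * n⁻¹) * s⁻¹ by group,
      ← S.comm a ha s⁻¹ (inv_mem hs), inv_mul_cancel_right, hsb]
  have zL : ∀ p ∈ L₁, z * p * z⁻¹ ∈ L₂ := fun p hp => by
    rw [hz, show s * n * s⁻¹ * p * (s * n * s⁻¹)⁻¹ = s * (n * (s⁻¹ * p * s) * n⁻¹) * s⁻¹ by group,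
      ← S.comm p hp s⁻¹ (inv_mem hs), inv_mul_cancel_right]
    exact mul_mem (mul_mem hs (S.swap₁ p hp)) (inv_mem hs)
  have zj : z * j = j * z := by rw [← zz]; group
  have zback : ∀ p ∈ L₁, z * (z * p * z⁻¹) * z⁻¹ = p := fun p hp => by
    rw [show z * (z * p * z⁻¹) * z⁻¹ = z * z * p * (z * z)⁻¹ by group, zz, ← S.j_comm₁ hp,
      mul_inv_cancel_right]
  have zfix : ∀ p ∈ L₁, z * (p * (z * p * z⁻¹)) = p * (z * p * z⁻¹) * z := fun p hp => by
    calc z * (p * (z * p * z⁻¹))
        = z * p * z⁻¹ * (z * (z * p * z⁻¹) * z⁻¹) * z := by group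
      _ = z * p * z⁻¹ * p * z := by rw [zback p hp]
      _ = _ := by rw [S.comm p hp _ (zL p hp)]
  obtain ⟨c, hc, hcc, hca⟩ := S.f₁.anti a ha haa
  set d := z * c * z⁻¹ with hd
  have hdm : d ∈ L₂ := zL c hc
  have hdd : d * d = j := by
    rw [hd, show z * c * z⁻¹ * (z * c * z⁻¹) = z * (c * c) * z⁻¹ by group, hcc, zj]; group
  have hdb : d * b = j * (b * d) := by
    rw [hd, ← za]
    calc z * c * z⁻¹ * (z * a * z⁻¹) = z * (c * a) * z⁻¹ := by group
      _ = z * j * (a * c) * z⁻¹ := by rw [hca]; group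
      _ = _ := by rw [zj]; group
  set e := c * d with he
  have ee : e * e = 1 := by
    calc e * e = c * (d * c) * d := by rw [he]; group
      _ = c * (c * d) * d := by rw [S.comm c hc d hdm]
      _ = c * c * (d * d) := by group
      _ = 1 := by rw [hcc, hdd, S.sq]
  have cnot : c ≠ 1 ∧ c ≠ j := by
    constructor <;> intro h <;> rw [h] at hcc <;>
      first | exact S.ne (by simpa using hcc.symm) | exact S.ne (by rw [← hcc, S.sq])
  have e1 : e ≠ 1 ∧ e ≠ j := by
    constructor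
    · intro h
      rcases S.eq_of_mul_eq hc hdm (one_mem L₁) (one_mem L₂) (by rw [← he, h, one_mul]) with h | h
      · exact cnot.1 h.1
      · exact cnot.2 (by simpa using h.1)
    · intro h
      rcases S.eq_of_mul_eq hc hdm S.f₁.mem (one_mem L₂) (by rw [← he, h, mul_one]) with h | h
      · exact cnot.2 h.1
      · exact cnot.1 (h.1.trans S.sq)
  have ekcomm : e * k = k * e := by
    rw [hab, he]
    calc c * d * (a * b) = c * (d * a) * b := by group
      _ = c * (a * d) * b := by rw [S.comm a ha d hdm]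
      _ = c * a * (d * b) := by group
      _ = j * (a * c) * j * (b * d) := by rw [hca, hdb]; group
      _ = (a * c) * (j * j) * (b * d) := by rw [← S.j_comm₁ (mul_mem ha hc)]; group
      _ = a * (c * b) * d := by rw [S.sq]; group
      _ = a * (b * c) * d := by rw [S.comm c hc b hb]
      _ = _ := by group
  have notcomm : ¬ c * a = a * c := fun h => S.ne (by
    rw [hca] at h; exact mul_eq_right.1 h)
  have ek1 : e * k ≠ 1 ∧ e * k ≠ j := by
    have e' : e * k = c * a * (d * b) := by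
      rw [hab, he]
      calc c * d * (a * b) = c * (d * a) * b := by group
        _ = c * (a * d) * b := by rw [S.comm a ha d hdm]
        _ = _ := by group
    have key : ∀ t ∈ L₂, (t = 1 ∨ t = j) → e * k = t → False := by
      intro t ht htt h
      rw [e'] at h
      rcases S.eq_of_mul_eq (mul_mem hc ha) (mul_mem hdm hb) (one_mem L₁) ht
        (by rw [h, one_mul]) with h' | h'
      · exact notcomm (by rw [h'.1, eq_inv_of_mul_eq_one_left h'.1, mul_inv_cancel])
      · have hc' : c = j * a⁻¹ := by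
          have := h'.1
          rw [one_mul] at this
          rw [← this]; group
        exact notcomm (by
          calc c * a = j := by rw [hc']; group
            _ = a * j * a⁻¹ := by rw [S.j_comm₁ ha]; group
            _ = _ := by rw [hc']; group)
    exact ⟨key 1 (one_mem L₂) (Or.inl rfl), key j S.f₂.mem (Or.inr rfl)⟩
  have ze : z * e = e * z := zfix c hc
  have zk : z * k = k * z := by rw [hab, ← za]; exact zfix a ha
  have ej : e * j = j * e := by
    rw [he, mul_assoc, S.j_comm₂ hdm, ← mul_assoc, S.j_comm₁ hc, mul_assoc]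
  have kj : k * j = j * k := hg.symm
  -- transport by `h = g⁻¹`
  have hkj : g⁻¹ * k * g = j := by rw [hk]; group
  let φ := MulAut.conj g⁻¹
  have φk : φ k = j := by simp [φ, hk, mul_assoc]
  have inC : ∀ y : G, y * k = k * y → φ y * j = j * φ y := fun y hy => by
    rw [← φk, ← map_mul, ← map_mul, hy]
  have nej : ∀ y : G, y ≠ k → φ y ≠ j := fun y hy h => hy (φ.injective (h.trans φk.symm))
  have ne1 : ∀ y : G, y ≠ 1 → φ y ≠ 1 := fun y hy h => hy (φ.map_eq_one_iff.1 h)
  have := S.sq_mem (e := φ j) (f := φ e) (x := φ z) (inC j kj.symm)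
    (by rw [← map_mul, S.sq, map_one]) (ne1 j S.ne) (nej j fun h => hne h.symm) (inC e ekcomm)
    (by rw [← map_mul, ee, map_one]) (ne1 e e1.1)
    (nej e fun h => ek1.1 (by rw [h, kk]))
    (by rw [← map_mul, ← map_mul, ej])
    (by rw [← map_mul]; exact ne1 _ fun h => e1.2 (by
      rw [← inv_eq_of_mul_eq_one_right h, inv_eq_of_mul_eq_one_right S.sq]))
    (by rw [← map_mul]; exact nej _ fun h => ek1.2 (by rw [← h, ← mul_assoc, ej, mul_assoc, ee, mul_one]))
    (inC z zk) (by rw [← map_mul, ← map_mul, zj]) (by rw [← map_mul, ← map_mul, ze])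
  rw [← map_mul, zz] at this
  rcases this with h | h
  · exact ne1 j S.ne h
  · exact nej j (fun h => hne h.symm) h

end Main

end CfsgLib.Classical.SwapPair
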