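import Cfsg.Agent.Lib.Classical.LinearOrder

/-!
Factorisation of the order of GL and the order of its Sylow subgroup in the defining characteristic.
-/

set_option autoImplicit false

namespace CfsgLib.Classical

open Matrix Finset

variable {F : Type*} [Field F] [Fintype F]

theorem prod_pow_sub_pow_eq (q n : ℕ) :
    ∏ i : Fin n, (q ^ n - q ^ (i : ℕ)) =
      q ^ (n * (n - 1) / 2) * ∏ i ∈ range n, (q ^ (i + 1) - 1) := by
  rw [Fin.prod_univ_eq_prod_range (fun i => q ^ n - q ^ i) n, ← sum_range_id, ← prod_pow_eq_pow_sum,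
    ← prod_range_reflect (fun i => q ^ (i + 1) - 1) n, ← prod_mul_distrib]
  refine prod_congr rfl fun i hi => ?_
  rw [mem_range] at hi
  have h : n - 1 - i + 1 = n - i := by omega
  rw [h, Nat.mul_sub, ← pow_add, mul_one]
  congr 1
  congr 1
  omega

theorem card_GL_eq (n : ℕ) :
    Nat.card (GeneralLinearGroup (Fin n) F) =
      Fintype.card F ^ (n * (n - 1) / 2) * ∏ i ∈ range n, (Fintype.card F ^ (i + 1) - 1) := by
  rw [card_GL, prod_pow_sub_pow_eq]

theorem exists_card_eq_prime_pow (p : ℕ) [Fact p.Prime] [CharP F p] :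
    ∃ f : ℕ, 1 ≤ f ∧ Fintype.card F = p ^ f := by
  obtain ⟨f, _, hf⟩ := FiniteField.card F p
  exact ⟨f, f.pos, hf⟩

/-- If `|G| = q^e * M` with `M` prime to `p`, a Sylow `p`-subgroup has order `q^e`. -/
theorem card_sylow_eq_of_card_eq {G : Type*} [Group G] [Finite G] {p : ℕ} [Fact p.Prime]
    (P : Sylow p G) {f e M : ℕ} (hG : Nat.card G = (p ^ f) ^ e * M) (hM : ¬ p ∣ M) :
    Nat.card P = (p ^ f) ^ e := by
  have hp : p.Prime := Fact.out
  have hM0 : M ≠ 0 := fun h => hM (h ▸ dvd_zero p)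
  rw [P.card_eq_multiplicity, hG, ← pow_mul,
    Nat.factorization_mul (pow_ne_zero _ hp.ne_zero) hM0, Finsupp.add_apply,
    hp.factorization_pow, Finsupp.single_eq_same, Nat.factorization_eq_zero_of_not_dvd hM,
    add_zero]

theorem not_dvd_pow_sub_one {p q k : ℕ} (hp : p.Prime) (hpq : p ∣ q) (hq : 1 ≤ q) (hk : k ≠ 0) :
    ¬ p ∣ q ^ k - 1 := by
  intro h
  have h1 : p ∣ q ^ k := dvd_pow hpq hk
  have h2 : 1 ≤ q ^ k := Nat.one_le_pow _ _ hq
  have h3 := Nat.dvd_sub h1 h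
  rw [Nat.sub_sub_self h2] at h3
  exact hp.one_lt.ne' (Nat.dvd_one.1 h3)

theorem not_dvd_prod {p : ℕ} (hp : p.Prime) {ι : Type*} {s : Finset ι} {f : ι → ℕ}
    (h : ∀ i ∈ s, ¬ p ∣ f i) : ¬ p ∣ ∏ i ∈ s, f i := by
  intro hd
  obtain ⟨i, hi, hi'⟩ := (hp.prime.dvd_finsetProd_iff _).1 hd
  exact h i hi hi'

theorem card_sylow_GL (p : ℕ) [Fact p.Prime] [CharP F p] (n : ℕ)
    (P : Sylow p (GeneralLinearGroup (Fin n) F)) :
    Nat.card P = Fintype.card F ^ (n * (n - 1) / 2) := by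
  obtain ⟨f, hf, hq⟩ := exists_card_eq_prime_pow (F := F) p
  have hp : p.Prime := Fact.out
  rw [hq]
  refine card_sylow_eq_of_card_eq P (M := ∏ i ∈ range n, ((p ^ f) ^ (i + 1) - 1)) ?_ ?_
  · rw [card_GL_eq, hq]
  · exact not_dvd_prod hp fun i _ =>
      not_dvd_pow_sub_one hp (dvd_pow_self p (by omega)) (Nat.one_le_pow _ _ hp.pos) (by omega)

end CfsgLib.Classical
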