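import Mathlib

/-!
Simplicity of a group modulo its centre from a criterion on normal subgroups, and the use of the
Iwasawa criterion for it.
-/

set_option autoImplicit false

namespace CfsgLib.Classical

variable {G : Type*} [Group G]

theorem isSimpleGroup_quotient_center (hperf : commutator G = ⊤)
    (hne : ∃ g : G, g ∉ Subgroup.center G)
    (key : ∀ N : Subgroup G, N.Normal → ¬ N ≤ Subgroup.center G → commutator G ≤ N) :
    IsSimpleGroup (G ⧸ Subgroup.center G) := by
  obtain ⟨g, hg⟩ := hne
  have : Nontrivial (G ⧸ Subgroup.center G) :=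
    ⟨⟨(g : G ⧸ Subgroup.center G), 1, fun h => hg ((QuotientGroup.eq_one_iff g).1 h)⟩⟩
  refine IsSimpleGroup.mk fun N hN => ?_
  have hsurj : Function.Surjective (QuotientGroup.mk' (Subgroup.center G)) :=
    QuotientGroup.mk'_surjective _
  by_cases h : N.comap (QuotientGroup.mk' (Subgroup.center G)) ≤ Subgroup.center G
  · left
    rw [← Subgroup.map_comap_eq_self_of_surjective hsurj N]
    refine (Subgroup.map_eq_bot_iff _).2 ?_
    rwa [QuotientGroup.ker_mk']
  · right
    have h2 := key _ inferInstance h
    rw [hperf, top_le_iff] at h2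
    rw [← Subgroup.map_comap_eq_self_of_surjective hsurj N, h2]
    exact Subgroup.map_top_of_surjective _ hsurj

/-- The Iwasawa criterion for a group modulo its centre. -/
theorem isSimpleGroup_quotient_center_of_iwasawa {X : Type*} [MulAction G X]
    [MulAction.IsQuasiPreprimitive G X] (I : MulAction.IwasawaStructure G X)
    (hperf : commutator G = ⊤) (hne : ∃ g : G, g ∉ Subgroup.center G)
    (hker : ∀ g : G, (∀ x : X, g • x = x) → g ∈ Subgroup.center G) :
    IsSimpleGroup (G ⧸ Subgroup.center G) :=
  isSimpleGroup_quotient_center hperf hne fun N _ hN => I.commutator_le N fun h =>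
    hN fun g hg => hker g fun x => Set.eq_univ_iff_forall.1 h x ⟨g, hg⟩

end CfsgLib.Classical
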