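import Mathlib

/-!
Non-degenerate bilinear forms: dual vectors, and Witt extension for alternating forms.
-/

set_option autoImplicit false

namespace CfsgLib.Classical.Bilin

open LinearMap (BilinForm)

variable {F : Type*} [Field F] {V : Type*} [AddCommGroup V] [Module F V] [FiniteDimensional F V]
  {B : BilinForm F V}

theorem exists_right_dual (hB : B.Nondegenerate) (φ : Module.Dual F V) :
    ∃ a, ∀ z, B z a = φ z := by
  have hf : (LinearMap.flip B : BilinForm F V).Nondegenerate := by
    constructor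
    · intro x hx; exact hB.2 x fun y => hx y
    · intro x hx; exact hB.1 x fun y => hx y
  exact ⟨(LinearMap.BilinForm.toDual _ hf).symm φ, fun z =>
    LinearMap.BilinForm.apply_toDual_symm_apply (B := (LinearMap.flip B : BilinForm F V)) φ z⟩

theorem exists_sep (hB : B.Nondegenerate) {U : Submodule F V} {x : V} (hx : x ∉ U) :
    ∃ a, B x a = 1 ∧ ∀ u ∈ U, B u a = 0 := by
  obtain ⟨φ, hφx, hφU⟩ := Submodule.exists_le_ker_of_notMem hx
  obtain ⟨a, ha⟩ := exists_right_dual hB ((φ x)⁻¹ • φ)
  exact ⟨a, by rw [ha, LinearMap.smul_apply, smul_eq_mul, inv_mul_cancel₀ hφx],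
    fun u hu => by rw [ha, LinearMap.smul_apply, LinearMap.mem_ker.1 (hφU hu), smul_zero]⟩

theorem exists_partner_perp (hB : B.Nondegenerate) (hform : B.IsAlt ∨ (B.IsSymm ∧ (2 : F) ≠ 0))
    {x : V} {Z : Submodule F V} (hxZ : x ∉ Z) (hx : B x x = 0) (hxz : ∀ z ∈ Z, B x z = 0) :
    ∃ y : V, B y y = 0 ∧ B x y = 1 ∧ ∀ z ∈ Z, B z y = 0 := by
  obtain ⟨a, ha, haZ⟩ := exists_sep hB hxZ
  rcases hform with hA | ⟨hS, h2⟩
  · exact ⟨a, hA a, ha, haZ⟩
  · refine ⟨a - (B a a / 2) • x, ?_, ?_, fun z hz => ?_⟩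
    · simp only [map_sub, map_smul, LinearMap.sub_apply, LinearMap.smul_apply, smul_eq_mul, hx,
        hS.eq a x, ha]
      field_simp
      ring
    · rw [map_sub, map_smul, smul_eq_mul, hx, mul_zero, sub_zero, ha]
    · rw [map_sub, map_smul, smul_eq_mul, haZ z hz, hS.eq z x, hxz z hz, mul_zero, sub_zero]

theorem witt_alt (hB : B.Nondegenerate) (hA : B.IsAlt) (X : Submodule F V) (φ : X →ₗ[F] V)
    (hinj : Function.Injective φ) (hφ : ∀ x x' : X, B (φ x) (φ x') = B (x : V) x') :
    ∃ g : V ≃ₗ[F] V, (∀ u v : V, B (g u) (g v) = B u v) ∧ ∀ x : X, g (x : V) = φ x := by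
  induction hk : Module.finrank F V - Module.finrank F X using Nat.strong_induction_on
    generalizing X with
  | _ k ih =>
  subst hk
  by_cases htop : X = ⊤
  · subst htop
    let g := LinearEquiv.ofInjectiveEndo
      (φ ∘ₗ (Submodule.topEquiv (R := F) (M := V)).symm.toLinearMap)
      (hinj.comp (Submodule.topEquiv (R := F) (M := V)).symm.injective)
    exact ⟨g, fun u v => hφ ⟨u, trivial⟩ ⟨v, trivial⟩, fun x => rfl⟩
  obtain ⟨y, hy⟩ : ∃ y, y ∉ X := by
    by_contra hc
    push Not at hc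
    exact htop (eq_top_iff.2 fun y _ => hc y)
  have hswap : ∀ u v, B v u = -B u v := fun u v => (LinearMap.IsAlt.neg hA u v).symm
  -- the required products
  obtain ⟨ψ, hψ⟩ := LinearMap.exists_extend
    (((LinearMap.flip B y).comp X.subtype).comp (LinearEquiv.ofInjective φ hinj).symm.toLinearMap)
  obtain ⟨z₀, hz₀⟩ := exists_right_dual hB ψ
  have hz₀' : ∀ x : X, B (φ x) z₀ = B (x : V) y := fun x => by
    rw [hz₀]
    have := LinearMap.congr_fun hψ ⟨φ x, x, rfl⟩
    simp only [LinearMap.comp_apply, Submodule.subtype_apply, LinearEquiv.coe_coe,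
      LinearMap.flip_apply] at this
    rw [show ((LinearEquiv.ofInjective φ hinj).symm ⟨φ x, x, rfl⟩) = x from
      (LinearEquiv.ofInjective φ hinj).injective (by
        rw [LinearEquiv.apply_symm_apply]; rfl)] at this
    exact this
  obtain ⟨z, hzY, hz⟩ : ∃ z, z ∉ LinearMap.range φ ∧ ∀ x : X, B (φ x) z = B (x : V) y := by
    by_contra hc
    push Not at hc
    have hperp : ∀ t, (∀ x : X, B (φ x) t = 0) → t ∈ LinearMap.range φ := by
      intro t ht
      have h1 : z₀ + t ∈ LinearMap.range φ := by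
        by_contra hne
        obtain ⟨x, hx⟩ := hc _ hne
        exact hx (by rw [map_add, hz₀', ht, add_zero])
      have h2 : z₀ ∈ LinearMap.range φ := by
        by_contra hne
        obtain ⟨x, hx⟩ := hc _ hne
        exact hx (hz₀' x)
      simpa using (LinearMap.range φ).sub_mem h1 h2
    obtain ⟨x₁, hx₁⟩ : z₀ ∈ LinearMap.range φ := by
      by_contra hne
      obtain ⟨x, hx⟩ := hc _ hne
      exact hx (hz₀' x)
    -- the radical of `X` is all of `X⊥`
    have hdim : Module.finrank F (B.orthogonal X) = Module.finrank F (B.orthogonal (LinearMap.range φ)) := by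
      rw [LinearMap.BilinForm.finrank_orthogonal hB, LinearMap.BilinForm.finrank_orthogonal hB,
        LinearMap.finrank_range_of_inj hinj]
    let R := (B.orthogonal X).comap X.subtype
    have hmap : R.map φ = B.orthogonal (LinearMap.range φ) := by
      ext t
      constructor
      · rintro ⟨r, hr, rfl⟩ _ ⟨x, rfl⟩
        show B (φ x) (φ r) = 0
        rw [hφ]
        exact hr (x : V) x.2
      · intro ht
        obtain ⟨r, rfl⟩ := hperp t fun x => ht _ ⟨x, rfl⟩
        refine ⟨r, fun n hn => ?_, rfl⟩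
        show B n (r : V) = 0
        exact (hφ ⟨n, hn⟩ r).symm.trans (ht _ ⟨⟨n, hn⟩, rfl⟩)
    have h1 : Module.finrank F R = Module.finrank F (B.orthogonal X) := by
      rw [hdim, ← hmap]
      exact (Submodule.equivMapOfInjective φ hinj R).finrank_eq
    have h2 : R.map X.subtype = B.orthogonal X := by
      refine Submodule.eq_of_le_of_finrank_eq (Submodule.map_comap_le _ _) ?_
      rw [← h1]
      exact (Submodule.equivMapOfInjective X.subtype Subtype.val_injective R).finrank_eq.symm
    have hmem : y - (x₁ : V) ∈ B.orthogonal X := fun n hn => by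
      show B n (y - x₁) = 0
      rw [map_sub, sub_eq_zero, ← hz₀' ⟨n, hn⟩, ← hx₁, hφ]
    rw [← h2] at hmem
    obtain ⟨r, -, hr⟩ := hmem
    refine hy ?_
    rw [show y = (r : V) + x₁ by rw [show (r : V) = y - x₁ from hr, sub_add_cancel]]
    exact X.add_mem r.2 x₁.2
  let X' := X ⊔ Submodule.span F {y}
  let p : V →ₗ.[F] V := ⟨X, φ⟩
  let p' := p.supSpanSingleton y z hy
  let φ' : X' →ₗ[F] V := p'.toFun
  have hp : ∀ (x : X) (c : F) (hmem : (x : V) + c • y ∈ X'),
      φ' ⟨(x : V) + c • y, hmem⟩ = φ x + c • z := fun x c hmem =>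
    LinearPMap.supSpanSingleton_apply_mk p y z hy x x.2 c
  have hdec : ∀ a : X', ∃ (x : X) (c : F), (a : V) = (x : V) + c • y := fun a => by
    obtain ⟨x, hx, w, hw, e⟩ := Submodule.mem_sup.1 a.2
    obtain ⟨c, rfl⟩ := Submodule.mem_span_singleton.1 hw
    exact ⟨⟨x, hx⟩, c, e.symm⟩
  have hval : ∀ (a : X') (x : X) (c : F), (a : V) = (x : V) + c • y →
      φ' a = φ x + c • z := fun a x c e => by
    obtain ⟨a, ha⟩ := a
    subst e
    exact hp x c ha
  have hφ'' : ∀ a b : X', B (φ' a) (φ' b) = B (a : V) b := by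
    intro a b
    obtain ⟨x, c, ea⟩ := hdec a
    obtain ⟨x', c', eb⟩ := hdec b
    rw [hval a x c ea, hval b x' c' eb, ea, eb]
    simp only [map_add, map_smul, LinearMap.add_apply, LinearMap.smul_apply, smul_eq_mul, hφ, hz,
      hA z, hA y, hswap (φ x') z, hswap (x' : V) y]
  have hinj' : Function.Injective φ' := by
    rw [injective_iff_map_eq_zero]
    intro a ha
    obtain ⟨x, c, ea⟩ := hdec a
    rw [hval a x c ea] at ha
    by_cases hc : c = 0
    · rw [hc, zero_smul, add_zero, map_eq_zero_iff _ hinj] at ha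
      exact Subtype.ext (by rw [ea, hc, ha]; simp)
    · exfalso
      refine hzY ⟨-(c⁻¹ • x), ?_⟩
      rw [map_neg, map_smul, eq_neg_of_add_eq_zero_left ha, smul_neg, neg_neg, inv_smul_smul₀ hc]
  have hlt : Module.finrank F X < Module.finrank F X' :=
    Submodule.finrank_lt_finrank_of_lt (lt_of_le_of_ne le_sup_left fun h => hy (by
      rw [h]; exact Submodule.mem_sup_right (Submodule.mem_span_singleton_self y)))
  have hle := Submodule.finrank_le X'
  obtain ⟨g, hg, hgX⟩ := ih _ (by omega) X' φ' hinj' hφ'' rfl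
  refine ⟨g, hg, fun x => ?_⟩
  have hxm : (x : V) ∈ X' := Submodule.mem_sup_left x.2
  rw [hgX ⟨x, hxm⟩, hval ⟨x, hxm⟩ x 0 (by simp), zero_smul, add_zero]

end CfsgLib.Classical.Bilin
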