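import Cfsg.Agent.Lib.Classical.SylowGL
import Cfsg.Agent.Lib.Classical.Symplectic.Matrix
import Cfsg.Agent.Lib.Known.FieldExtension
import Mathlib.FieldTheory.Finite.Extension
import Mathlib.RingTheory.Polynomial.Cyclotomic.Eval

/-!
# Sylow subgroups of classical groups for primes larger than the rank
-/

set_option autoImplicit false
set_option linter.all false

namespace CfsgLib.Classical.Homocyclic

open Finset Polynomial

section Arith

variable {q r : ℕ} [Fact r.Prime]

theorem orderOf_pos' (hrq : ¬ r ∣ q) : 0 < orderOf (q : ZMod r) := by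
  have h : (q : ZMod r) ≠ 0 := fun h => hrq ((ZMod.natCast_eq_zero_iff _ _).1 h)
  rw [show (q : ZMod r) = ((Units.mk0 _ h : (ZMod r)ˣ) : ZMod r) from rfl, orderOf_units]
  exact orderOf_pos _

theorem dvd_pow_sub_one_iff (hq : 1 ≤ q) (i : ℕ) :
    r ∣ q ^ i - 1 ↔ orderOf (q : ZMod r) ∣ i := by
  rw [← ZMod.natCast_eq_zero_iff, Nat.cast_sub (Nat.one_le_pow _ _ hq), Nat.cast_pow, Nat.cast_one,
    sub_eq_zero, orderOf_dvd_iff_pow_eq_one]

/-- lifting the exponent for exponents prime to `r` -/
theorem val_pow_sub_one {x k : ℕ} (hx : 1 < x) (hrx : r ∣ x - 1) (hk : ¬ r ∣ k) :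
    padicValNat r (x ^ k - 1) = padicValNat r (x - 1) := by
  have hk0 : k ≠ 0 := fun h => hk (h ▸ dvd_zero r)
  have e : x ^ k - 1 = (x - 1) * ∑ i ∈ range k, x ^ i := by
    zify [Nat.one_le_pow k x (by omega), hx.le]
    rw [mul_geom_sum]
  have hs : ((∑ i ∈ range k, x ^ i : ℕ) : ZMod r) = k := by
    have h1 : ((x : ℕ) : ZMod r) = 1 := by
      rw [← sub_eq_zero, ← Nat.cast_one, ← Nat.cast_sub hx.le, ZMod.natCast_eq_zero_iff]
      exact hrx
    rw [Nat.cast_sum]
    simp [h1]
  have hsr : ¬ r ∣ ∑ i ∈ range k, x ^ i := fun h => hk (by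
    rwa [← ZMod.natCast_eq_zero_iff, hs, ZMod.natCast_eq_zero_iff] at h)
  rw [e, padicValNat.mul (by omega) (fun h => hsr (by rw [h]; exact dvd_zero r)),
    padicValNat.eq_zero_of_not_dvd hsr, add_zero]

/-- the `r`-part of `Φ_d(q)` is the `r`-part of `q ^ d - 1` -/
theorem val_cyclotomic (hq : 1 < q) (hrq : ¬ r ∣ q) :
    padicValNat r ((cyclotomic (orderOf (q : ZMod r)) ℤ).eval (q : ℤ)).natAbs
      = padicValNat r (q ^ orderOf (q : ZMod r) - 1) := by
  set d := orderOf (q : ZMod r)
  have hd : 0 < d := orderOf_pos' hrq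
  have hcast : ∀ e, ((q ^ e - 1 : ℕ) : ℤ) = ((X : ℤ[X]) ^ e - 1).eval (q : ℤ) := fun e => by
    rw [eval_sub, eval_pow, eval_X, eval_one, Nat.cast_sub (Nat.one_le_pow _ _ (by omega))]
    push_cast; rfl
  set Φ : ℕ → ℕ := fun e => ((cyclotomic e ℤ).eval (q : ℤ)).natAbs with hΦ
  have hdvd : ∀ e, Φ e ∣ q ^ e - 1 := fun e => by
    have h := eval_dvd (x := (q : ℤ)) (cyclotomic.dvd_X_pow_sub_one e ℤ)
    rw [← hcast] at h
    exact Int.natAbs_dvd_natAbs.2 h
  have hprod : q ^ d - 1 = ∏ e ∈ d.divisors, Φ e := by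
    have h := congrArg (fun f : ℤ[X] => (f.eval (q : ℤ)).natAbs) (prod_cyclotomic_eq_X_pow_sub_one hd ℤ)
    simp only [eval_prod, ← hcast, Int.natAbs_natCast] at h
    rw [← h]
    exact (map_prod Int.natAbsHom _ _)
  have hne : q ^ d - 1 ≠ 0 := by
    have := Nat.one_lt_pow hd.ne' hq
    omega
  rw [hprod, ← mul_prod_erase _ _ (Nat.mem_divisors_self d hd.ne')] at hne ⊢
  rw [mul_ne_zero_iff] at hne
  rw [padicValNat.mul hne.1 hne.2, padicValNat.eq_zero_of_not_dvd (n := ∏ e ∈ _, Φ e) ?_, add_zero]
  intro h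
  obtain ⟨e, he, hre⟩ := ((Fact.out : r.Prime).prime.dvd_finsetProd_iff _).1 h
  obtain ⟨hne', hed⟩ := Finset.mem_erase.1 he
  have he' := (dvd_pow_sub_one_iff (by omega) e).1 (hre.trans (hdvd e))
  exact hne' (Nat.dvd_antisymm (Nat.dvd_of_mem_divisors hed) he')

/-- `r`-part of a product of terms `q ^ i - 1` -/
theorem val_prod (hq : 1 < q) (hrq : ¬ r ∣ q) (S : Finset ℕ) (hS : ∀ i ∈ S, ¬ r ∣ i) :
    padicValNat r (∏ i ∈ S, (q ^ i - 1))
      = (S.filter (fun i => orderOf (q : ZMod r) ∣ i)).card *
        padicValNat r (q ^ orderOf (q : ZMod r) - 1) := by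
  classical
  set d := orderOf (q : ZMod r)
  induction S using Finset.induction with
  | empty => simp
  | insert i S hi ih =>
    have hi0 : i ≠ 0 := fun h => hS i (Finset.mem_insert_self _ _) (h ▸ dvd_zero r)
    have hpos : ∀ j, j ≠ 0 → q ^ j - 1 ≠ 0 := fun j hj => by
      have := Nat.one_lt_pow hj hq
      omega
    rw [Finset.prod_insert hi, padicValNat.mul (hpos i hi0) (Finset.prod_ne_zero_iff.2 fun j hj =>
      hpos j fun h => hS j (Finset.mem_insert_of_mem hj) (h ▸ dvd_zero r)),
      ih fun j hj => hS j (Finset.mem_insert_of_mem hj), Finset.filter_insert]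
    by_cases hdi : d ∣ i
    · obtain ⟨k, rfl⟩ := id hdi
      rw [if_pos hdi, Finset.card_insert_of_notMem (by simp [hi]), pow_mul,
        val_pow_sub_one (Nat.one_lt_pow (orderOf_pos' hrq).ne' hq)
          ((dvd_pow_sub_one_iff hq.le d).2 dvd_rfl)
          (fun h => hS _ (Finset.mem_insert_self _ _) (h.mul_left d))]
      ring
    · rw [if_neg hdi, padicValNat.eq_zero_of_not_dvd fun h => hdi ((dvd_pow_sub_one_iff hq.le i).1 h),
        zero_add]

theorem card_filter_Icc (n d : ℕ) : ((Icc 1 n).filter (fun i => d ∣ i)).card = n / d := by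
  rw [← Nat.Ioc_filter_dvd_card_eq_div n d]
  rfl

end Arith

section Group

/-- embedding of an elementary homocyclic group gives the Sylow subgroup -/
theorem sylow_homocyclic {G : Type*} [Group G] [Finite G] {r : ℕ} [Fact r.Prime] {a v : ℕ}
    (φ : (Fin a → Multiplicative (ZMod (r ^ v))) →* G) (hφ : Function.Injective φ)
    (hG : padicValNat r (Nat.card G) = a * v) (P : Sylow r G) :
    Nonempty (↥(P : Subgroup G) ≃* (Fin a → Multiplicative (ZMod (r ^ v)))) := by
  have : NeZero (r ^ v) := ⟨pow_ne_zero _ (Fact.out : r.Prime).ne_zero⟩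
  let e := MonoidHom.ofInjective hφ
  have hc : Nat.card φ.range = r ^ (a * v) := by
    rw [← Nat.card_congr e.toEquiv, Nat.card_fun, Nat.card_congr Multiplicative.toAdd, Nat.card_zmod,
      Nat.card_fin, ← pow_mul, Nat.mul_comm]
  obtain ⟨Q, hQ⟩ := (IsPGroup.of_card hc).exists_le_sylow
  have hQe : φ.range = (Q : Subgroup G) := Subgroup.eq_of_le_of_card_ge hQ (by
    rw [Q.card_eq_multiplicity, Nat.factorization_def _ Fact.out, hG, hc])
  exact ⟨(P.equiv Q).trans ((MulEquiv.subgroupCongr hQe.symm).trans e.symm)⟩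

theorem exists_cyclic_hom {H : Type*} [CommGroup H] [Finite H] [IsCyclic H] {N : ℕ}
    (h : N ∣ Nat.card H) :
    ∃ ψ : Multiplicative (ZMod N) →* H, Function.Injective ψ := by
  obtain ⟨z, hz⟩ := IsCyclic.exists_ofOrder_eq_natCard (α := H)
  obtain ⟨c, hc⟩ := h
  have hc0 : c ≠ 0 := fun h => by
    rw [h, Nat.mul_zero] at hc
    exact Nat.card_pos.ne' hc
  have hzc : orderOf (z ^ c) = N := by
    rw [orderOf_pow' _ hc0, hz, hc, Nat.gcd_eq_right (Dvd.intro_left N rfl),
      Nat.mul_div_cancel _ (Nat.pos_of_ne_zero hc0)]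
  rw [← hzc, ← Nat.card_zpowers]
  let e := zmodCyclicMulEquiv (inferInstance : IsCyclic (Subgroup.zpowers (z ^ c)))
  exact ⟨(Subgroup.zpowers (z ^ c)).subtype.comp e.toMonoidHom,
    (Subgroup.zpowers (z ^ c)).subtype_injective.comp e.injective⟩

end Group

section Field

variable {F : Type*} [Field F] [Fintype F]

/-- multiplication on a product of copies of `L`, trivial on a complement -/
noncomputable def mulHom (L : Type*) [Field L] [Algebra F L] (a : ℕ) (W : Type*) [AddCommGroup W]
    [Module F W] : (Fin a → Lˣ) →* (((Fin a → L) × W) ≃ₗ[F] ((Fin a → L) × W)) :=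
  (LinearMap.GeneralLinearGroup.generalLinearEquiv F ((Fin a → L) × W)).toMonoidHom.comp
    ((Units.map
      { toFun := fun x : Fin a → L => (LinearMap.mulLeft F x).prodMap LinearMap.id
        map_one' := by ext <;> simp
        map_mul' := fun x y => by ext <;> simp [mul_assoc] }).comp
      MulEquiv.piUnits.symm.toMonoidHom)

theorem mulHom_apply {L : Type*} [Field L] [Algebra F L] {a : ℕ} {W : Type*} [AddCommGroup W]
    [Module F W] (x : Fin a → Lˣ) (v : (Fin a → L) × W) :
    mulHom (F := F) L a W x v = ((fun i => (x i : L) * v.1 i), v.2) := rfl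

theorem mulHom_injective {L : Type*} [Field L] [Algebra F L] {a : ℕ} {W : Type*} [AddCommGroup W]
    [Module F W] : Function.Injective (mulHom (F := F) L a W) := by
  intro x y h
  have h1 := congrArg Prod.fst (LinearEquiv.congr_fun h (1, 0))
  rw [mulHom_apply, mulHom_apply] at h1
  funext i
  refine Units.ext ?_
  simpa using congrFun h1 i

/-- the extension of degree `d` -/
theorem exists_extension (d : ℕ) (hd : 0 < d) :
    ∃ (L : Type) (_ : Field L) (_ : Fintype L) (_ : Algebra F L),
      Fintype.card L = Fintype.card F ^ d ∧ Module.finrank F L = d := by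
  classical
  obtain ⟨p, hc⟩ := CharP.exists F
  haveI := hc
  obtain ⟨f, hp, -⟩ := FiniteField.card F p
  haveI : Fact p.Prime := ⟨hp⟩
  haveI : NeZero d := ⟨hd.ne'⟩
  haveI : Finite (FiniteField.Extension F p d) := Module.finite_of_finite F
  letI : Fintype (FiniteField.Extension F p d) := Fintype.ofFinite _
  refine ⟨FiniteField.Extension F p d, inferInstance, inferInstance, inferInstance, ?_,
    FiniteField.finrank_extension F p d⟩
  rw [← Nat.card_eq_fintype_card, ← Nat.card_eq_fintype_card]
  exact FiniteField.natCard_extension F p d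

theorem exists_hom_GL (n : ℕ) {r : ℕ} [Fact r.Prime] (hrq : ¬ r ∣ Fintype.card F) :
    ∃ φ : (Fin (n / orderOf (Fintype.card F : ZMod r)) → Multiplicative (ZMod (r ^ padicValNat r
      (Fintype.card F ^ orderOf (Fintype.card F : ZMod r) - 1)))) →* GL (Fin n) F,
      Function.Injective φ := by
  classical
  set d := orderOf (Fintype.card F : ZMod r)
  have hd : 0 < d := orderOf_pos' hrq
  obtain ⟨L, _, _, _, hL, hrk⟩ := exists_extension (F := F) d hd
  obtain ⟨ψ, hψ⟩ := exists_cyclic_hom (H := Lˣ)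
    (N := r ^ padicValNat r (Fintype.card F ^ d - 1))
    (by rw [Nat.card_eq_fintype_card, Fintype.card_units, hL]; exact pow_padicValNat_dvd)
  let V := (Fin (n / d) → L) × (Fin (n - n / d * d) → F)
  haveI : FiniteDimensional F L := Module.Finite.of_finite
  let e : V ≃ₗ[F] (Fin n → F) := LinearEquiv.ofFinrankEq V _ (by
    have := Nat.div_mul_le_self n d
    rw [Module.finrank_prod, Module.finrank_pi_fintype, Module.finrank_fin_fun, Module.finrank_fin_fun,
      Finset.sum_const, Finset.card_univ, Fintype.card_fin, hrk, smul_eq_mul]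
    omega)
  let A : Module.End F V ≃ₐ[F] Matrix (Fin n) (Fin n) F :=
    (e.conjAlgEquiv F).trans LinearMap.toMatrixAlgEquiv'
  refine ⟨(Units.mapEquiv A.toRingEquiv.toMulEquiv).toMonoidHom.comp
    ((LinearMap.GeneralLinearGroup.generalLinearEquiv F V).symm.toMonoidHom.comp
      ((mulHom L _ _).comp (Pi.monoidHom fun i => ψ.comp (Pi.evalMonoidHom _ i)))),
    (Units.mapEquiv A.toRingEquiv.toMulEquiv).injective.comp
      ((LinearMap.GeneralLinearGroup.generalLinearEquiv F V).symm.injective.comp
        (mulHom_injective.comp fun x y h => funext fun i => hψ (congrFun h i)))⟩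

theorem val_card_GL (n : ℕ) {r : ℕ} [Fact r.Prime] (hrn : n < r) (hrq : ¬ r ∣ Fintype.card F) :
    padicValNat r (Nat.card (GL (Fin n) F)) = n / orderOf (Fintype.card F : ZMod r) *
      padicValNat r (Fintype.card F ^ orderOf (Fintype.card F : ZMod r) - 1) := by
  have hq : 1 < Fintype.card F := Fintype.one_lt_card
  have e : ∏ i ∈ range n, (Fintype.card F ^ (i + 1) - 1) = ∏ i ∈ Icc 1 n, (Fintype.card F ^ i - 1) := by
    rw [← Finset.Ico_add_one_right_eq_Icc, Finset.prod_Ico_eq_prod_range]
    exact Finset.prod_congr (by simp) fun i _ => by rw [add_comm]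
  rw [card_GL_eq, e, padicValNat.mul (pow_ne_zero _ (by omega))
    (Finset.prod_ne_zero_iff.2 fun i hi => by
      have := Nat.one_lt_pow (show i ≠ 0 by simp at hi; omega) hq
      omega),
    padicValNat.eq_zero_of_not_dvd (fun h => hrq ((Fact.out : r.Prime).dvd_of_dvd_pow h)), zero_add,
    val_prod hq hrq _ (fun i hi h => by
      simp at hi
      have := Nat.le_of_dvd (by omega) h
      omega), card_filter_Icc]

theorem padicVal_sub_one {r : ℕ} [Fact r.Prime] (hrq : ¬ r ∣ Fintype.card F)
    (h : orderOf (Fintype.card F : ZMod r) ≠ 1) : ¬ r ∣ Fintype.card F - 1 := fun h' => h (by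
  have := (dvd_pow_sub_one_iff (q := Fintype.card F) (r := r) Fintype.card_pos 1).1 (by rwa [pow_one])
  exact Nat.dvd_one.1 this)

theorem val_card_SL (n : ℕ) {r : ℕ} [Fact r.Prime] (hrn : n < r) (hrq : ¬ r ∣ Fintype.card F) :
    padicValNat r (Nat.card (Matrix.SpecialLinearGroup (Fin n) F)) =
      ((Icc 2 n).filter (fun i => orderOf (Fintype.card F : ZMod r) ∣ i)).card *
      padicValNat r (Fintype.card F ^ orderOf (Fintype.card F : ZMod r) - 1) := by
  classical
  rcases Nat.eq_zero_or_pos n with rfl | hn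
  · have : Subsingleton (Matrix.SpecialLinearGroup (Fin 0) F) :=
      ⟨fun A B => Subtype.ext (Matrix.ext fun i => i.elim0)⟩
    rw [Nat.card_unique]
    simp
  have hq : 1 < Fintype.card F := Fintype.one_lt_card
  have h := val_card_GL (F := F) n hrn hrq
  haveI : Nonempty (Fin n) := ⟨⟨0, hn⟩⟩
  rw [← card_SL_mul, padicValNat.mul (by omega) Nat.card_pos.ne', ← card_filter_Icc,
    show Icc 1 n = insert 1 (Icc 2 n) by ext i; simp; omega, Finset.filter_insert] at h
  by_cases hd : orderOf (Fintype.card F : ZMod r) ∣ 1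
  · rw [if_pos hd, Finset.card_insert_of_notMem (by simp), Nat.dvd_one.1 hd, pow_one] at h
    rw [Nat.dvd_one.1 hd, pow_one]
    linarith
  · rw [if_neg hd, padicValNat.eq_zero_of_not_dvd
      (padicVal_sub_one hrq fun h => hd (by rw [h])), zero_add] at h
    exact h

theorem exists_hom_SL (n : ℕ) {r : ℕ} [Fact r.Prime] (hrq : ¬ r ∣ Fintype.card F) :
    ∃ φ : (Fin ((Icc 2 n).filter (fun i => orderOf (Fintype.card F : ZMod r) ∣ i)).card →
      Multiplicative (ZMod (r ^ padicValNat r
        (Fintype.card F ^ orderOf (Fintype.card F : ZMod r) - 1)))) →*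
        Matrix.SpecialLinearGroup (Fin n) F,
      Function.Injective φ := by
  classical
  set d := orderOf (Fintype.card F : ZMod r) with hd
  set v := padicValNat r (Fintype.card F ^ d - 1)
  by_cases hd1 : d = 1
  · obtain ⟨ψ, hψ⟩ := exists_cyclic_hom (H := Fˣ) (N := r ^ v) (by
      rw [Nat.card_eq_fintype_card, Fintype.card_units]
      exact (pow_dvd_pow r (le_of_eq (by simp [v, hd1]))).trans pow_padicValNat_dvd)
    rcases n with _ | m
    · exact ⟨1, fun x y _ => funext fun i => absurd i.2 (by simp)⟩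
    have hm : ((Icc 2 (m + 1)).filter (fun i => d ∣ i)).card = m := by simp [hd1]
    rw [hm]
    let diag : (Fin m → Fˣ) →* Matrix.SpecialLinearGroup (Fin (m + 1)) F :=
      { toFun := fun x => ⟨Matrix.diagonal (Fin.cons (((∏ i, x i)⁻¹ : Fˣ) : F) fun i => (x i : F)), by
          rw [Matrix.det_diagonal, Fin.prod_cons, ← Units.coe_prod, ← Units.val_mul, inv_mul_cancel,
            Units.val_one]⟩
        map_one' := by
          refine Subtype.ext ?_
          show Matrix.diagonal _ = 1
          rw [← Matrix.diagonal_one]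
          congr 1
          funext i
          refine Fin.cases ?_ (fun j => ?_) i <;> simp
        map_mul' := fun x y => by
          refine Subtype.ext ?_
          show Matrix.diagonal _ = Matrix.diagonal _ * Matrix.diagonal _
          rw [Matrix.diagonal_mul_diagonal]
          congr 1
          funext i
          refine Fin.cases ?_ (fun j => ?_) i
          · simp [Finset.prod_mul_distrib, mul_comm]
          · simp }
    have hdiag : Function.Injective diag := by
      intro x y h
      funext i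
      refine Units.ext ?_
      have h1 := congrFun (Matrix.diagonal_injective (congrArg Subtype.val h)) i.succ
      simpa using h1
    exact ⟨diag.comp (Pi.monoidHom fun i => ψ.comp (Pi.evalMonoidHom _ i)),
      hdiag.comp fun x y h => funext fun i => hψ (congrFun h i)⟩
  have hc : ((Icc 2 n).filter (fun i => d ∣ i)).card = n / d := by
    rw [← card_filter_Icc]
    congr 1
    ext i
    simp only [Finset.mem_filter, Finset.mem_Icc]
    refine ⟨fun h => ⟨⟨by omega, h.1.2⟩, h.2⟩, fun h => ⟨⟨?_, h.1.2⟩, h.2⟩⟩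
    by_contra hi
    exact hd1 (Nat.dvd_one.1 ((show i = 1 by omega) ▸ h.2))
  rw [hc]
  obtain ⟨φ, hφ⟩ := exists_hom_GL (F := F) n hrq
  have hdet : ∀ x, ((φ x : GL (Fin n) F) : Matrix (Fin n) (Fin n) F).det = 1 := by
    intro x
    have hx : x ^ (r ^ v) = 1 := funext fun i => by
      show x i ^ (r ^ v) = 1
      have := pow_card_eq_one' (x := x i)
      rwa [Nat.card_congr Multiplicative.toAdd, Nat.card_zmod] at this
    have h1 : (Matrix.GeneralLinearGroup.det (φ x)) ^ (r ^ v) = 1 := by
      rw [← map_pow, ← map_pow, hx, map_one, map_one]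
    have h2 : orderOf (Matrix.GeneralLinearGroup.det (φ x)) = 1 := by
      refine Nat.eq_one_of_dvd_coprimes (Nat.Coprime.pow_left v
        (((Fact.out : r.Prime).coprime_iff_not_dvd).2 (padicVal_sub_one hrq hd1)))
        (orderOf_dvd_of_pow_eq_one h1) ?_
      rw [← Fintype.card_units]
      exact orderOf_dvd_card
    rw [orderOf_eq_one_iff] at h2
    exact congrArg Units.val h2
  exact ⟨{ toFun := fun x => ⟨_, hdet x⟩
           map_one' := Subtype.ext (by simp)
           map_mul' := fun x y => Subtype.ext (by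
             show ((φ (x * y) : GL (Fin n) F) : Matrix (Fin n) (Fin n) F) = (φ x : GL (Fin n) F).val * (φ y : GL (Fin n) F).val
             rw [map_mul, Units.val_mul]) },
    fun x y h => hφ (Units.ext (congrArg Subtype.val h))⟩

/-- the Levi embedding -/
theorem exists_levi (n : ℕ) :
    ∃ φ : GL (Fin n) F →* ↥(Matrix.symplecticGroup (Fin n) F), Function.Injective φ := by
  refine ⟨{ toFun := fun g => ⟨Matrix.fromBlocks (g : Matrix (Fin n) (Fin n) F) 0 0
              ((g⁻¹ : GL (Fin n) F) : Matrix (Fin n) (Fin n) F).transpose, ?_⟩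
            map_one' := Subtype.ext (by simp)
            map_mul' := fun g h => Subtype.ext (by
              simp [Matrix.fromBlocks_multiply, mul_inv_rev, Matrix.transpose_mul]) },
    fun g h hgh => Units.ext (Matrix.fromBlocks_inj.1 (congrArg Subtype.val hgh)).1⟩
  rw [SymplecticGroup.mem_iff, Matrix.J, Matrix.fromBlocks_transpose, Matrix.fromBlocks_multiply,
    Matrix.fromBlocks_multiply]
  have h1 : (g : Matrix (Fin n) (Fin n) F) * ((g⁻¹ : GL (Fin n) F) : Matrix (Fin n) (Fin n) F) = 1 := by
    rw [← Units.val_mul, mul_inv_cancel, Units.val_one]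
  have h2 : ((g⁻¹ : GL (Fin n) F) : Matrix (Fin n) (Fin n) F).transpose *
      (g : Matrix (Fin n) (Fin n) F).transpose = 1 := by
    rw [← Matrix.transpose_mul, h1, Matrix.transpose_one]
  simp [h1, h2, ← Matrix.coe_units_inv]

theorem val_card_Sp (n : ℕ) {r : ℕ} [Fact r.Prime] (hr2 : r ≠ 2) (hrn : n < r)
    (hrq : ¬ r ∣ Fintype.card F) :
    padicValNat r (Nat.card ↥(Matrix.symplecticGroup (Fin n) F)) =
      ((Icc 1 n).filter (fun i => orderOf (Fintype.card F : ZMod r) ∣ 2 * i)).card *
      padicValNat r (Fintype.card F ^ orderOf (Fintype.card F : ZMod r) - 1) := by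
  classical
  have hq : 1 < Fintype.card F := Fintype.one_lt_card
  have e : ∏ i ∈ range n, (Fintype.card F ^ (2 * (i + 1)) - 1)
      = ∏ i ∈ (Icc 1 n).image (2 * ·), (Fintype.card F ^ i - 1) := by
    rw [Finset.prod_image (fun a _ b _ (h : 2 * a = 2 * b) => by omega),
      ← Finset.Ico_add_one_right_eq_Icc, Finset.prod_Ico_eq_prod_range]
    exact Finset.prod_congr (by simp) fun i _ => by rw [add_comm]
  rw [CfsgLib.Classical.Symp.card_symplecticGroup, e, padicValNat.mul (pow_ne_zero _ (by omega))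
    (Finset.prod_ne_zero_iff.2 fun i hi => by
      have := Nat.one_lt_pow (show i ≠ 0 by simp at hi; omega) hq
      omega),
    padicValNat.eq_zero_of_not_dvd (fun h => hrq ((Fact.out : r.Prime).dvd_of_dvd_pow h)), zero_add,
    val_prod hq hrq _ (fun i hi h => by
      simp at hi
      obtain ⟨j, hj, rfl⟩ := hi
      rcases (Fact.out : r.Prime).dvd_mul.1 h with h' | h'
      · exact hr2 ((Nat.prime_dvd_prime_iff_eq Fact.out Nat.prime_two).1 h')
      · have := Nat.le_of_dvd (by omega) h'
        omega),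
    Finset.filter_image, Finset.card_image_of_injective _ (fun a b (h : 2 * a = 2 * b) => by omega)]

theorem frobenius_pow_apply {L : Type*} [Field L] [Algebra F L] (e : ℕ) (x : L) :
    ((FiniteField.frobeniusAlgHom F L) ^ e) x = x ^ (Fintype.card F ^ e) := by
  induction e generalizing x with
  | zero => simp
  | succ e ih =>
    rw [pow_succ, AlgHom.mul_apply, ih, FiniteField.coe_frobeniusAlgHom, ← pow_mul, ← pow_succ']

/-- norm-one tori in `Sp` -/
theorem exists_hom_Sp_even (n e : ℕ) (he : 0 < e) {N : ℕ} (hN : N ∣ Fintype.card F ^ e + 1) :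
    ∃ φ : (Fin (n / e) → Multiplicative (ZMod N)) →* ↥(Matrix.symplecticGroup (Fin n) F),
      Function.Injective φ := by
  classical
  obtain ⟨L, _, _, _, hL, hrk⟩ := exists_extension (F := F) (2 * e) (by omega)
  haveI : FiniteDimensional F L := Module.Finite.of_finite
  set Q := Fintype.card F ^ e with hQ
  have hQ1 : 1 < Q := Nat.one_lt_pow he.ne' Fintype.one_lt_card
  have hL2 : Fintype.card L = Q * Q := by rw [hL, hQ, two_mul, pow_add]
  obtain ⟨ψ, hψ⟩ := exists_cyclic_hom (H := Lˣ) (N := N) (by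
    rw [Nat.card_eq_fintype_card, Fintype.card_units, hL2, ← pow_two, ← one_pow 2, Nat.sq_sub_sq]
    exact hN.mul_right _)
  let σ : L →ₐ[F] L := (FiniteField.frobeniusAlgHom F L) ^ e
  have hσ : ∀ x : L, σ x = x ^ Q := frobenius_pow_apply e
  have hσσ : ∀ x : L, σ (σ x) = x := fun x => by
    rw [hσ, hσ, ← pow_mul, ← hL2, FiniteField.pow_card]
  obtain ⟨z₀, hz₀⟩ : ∃ z : L, z ^ Q ≠ z := by
    by_contra hcon
    push Not at hcon
    have hsub : (Finset.univ : Finset L) ⊆ (X ^ Q - X : L[X]).roots.toFinset := fun z _ => by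
      rw [Multiset.mem_toFinset, mem_roots (FiniteField.X_pow_card_sub_X_ne_zero L hQ1)]
      simp [hcon z]
    have h1 := (Finset.card_le_card hsub).trans ((Multiset.toFinset_card_le _).trans (card_roots' _))
    rw [Finset.card_univ, hL2, FiniteField.X_pow_card_sub_X_natDegree_eq L hQ1] at h1
    nlinarith
  have hw₀ : z₀ ^ Q - z₀ ≠ 0 := sub_ne_zero.2 hz₀
  obtain ⟨ℓ, hℓ⟩ : ∃ ℓ : L →ₗ[F] F, ℓ (z₀ ^ Q - z₀) ≠ 0 := by
    obtain ⟨ℓ, -, h⟩ := CfsgLib.Known.FieldExtension.exists_functional (F := F) (x := (0 : L))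
      (y := z₀ ^ Q - z₀) (by simpa using hw₀)
    exact ⟨ℓ, by rw [h]; exact one_ne_zero⟩
  let a := n / e
  let s := n - a * e
  let W := Fin s ⊕ Fin s → F
  let B : LinearMap.BilinForm F ((Fin a → L) × W) :=
    LinearMap.mk₂ F (fun u v => ℓ (∑ i, (σ (u.1 i) * v.1 i - u.1 i * σ (v.1 i)))
        + Symp.sympBil s F u.2 v.2)
      (fun u u' v => by
        simp only [Prod.fst_add, Prod.snd_add, Pi.add_apply, map_add, LinearMap.add_apply,
          Finset.sum_add_distrib, add_mul, Finset.sum_sub_distrib, map_sub]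
        ring)
      (fun c u v => by
        simp only [Prod.smul_fst, Prod.smul_snd, Pi.smul_apply, map_smul, LinearMap.smul_apply,
          smul_mul_assoc, ← smul_sub, ← Finset.smul_sum, ← smul_add])
      (fun u v v' => by
        simp only [Prod.fst_add, Prod.snd_add, Pi.add_apply, map_add,
          Finset.sum_add_distrib, mul_add, Finset.sum_sub_distrib, map_sub]
        ring)
      (fun c u v => by
        simp only [Prod.smul_fst, Prod.smul_snd, Pi.smul_apply, map_smul,
          mul_smul_comm, ← smul_sub, ← Finset.smul_sum, ← smul_add])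
  have hB : ∀ u v, B u v = ℓ (∑ i, (σ (u.1 i) * v.1 i - u.1 i * σ (v.1 i)))
      + Symp.sympBil s F u.2 v.2 := fun u v => rfl
  have halt : B.IsAlt := fun u => by
    rw [hB, Symp.sympBil_isAlt s F u.2, Finset.sum_eq_zero (fun i _ => by rw [mul_comm, sub_self]),
      map_zero, add_zero]
  have hnd : ∀ u, (∀ v, B u v = 0) → u = 0 := by
    intro u hu
    refine Prod.ext (funext fun i => ?_) ((Symp.sympBil_nondegenerate s F).1 u.2 fun w => ?_)
    · by_contra hui
      change u.1 i ≠ 0 at hui
      have hs : σ (u.1 i) ≠ 0 := by rw [hσ]; exact pow_ne_zero _ hui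
      have h := hu (Pi.single i ((σ (u.1 i))⁻¹ * σ z₀), 0)
      rw [hB, map_zero, add_zero, Finset.sum_eq_single i (fun j _ hj => by simp [hj]) (by simp)] at h
      simp only [Pi.single_eq_same] at h
      rw [← mul_assoc, mul_inv_cancel₀ hs, one_mul, map_mul, map_inv₀, hσσ,
        hσσ, ← mul_assoc, mul_inv_cancel₀ hui, one_mul, hσ] at h
      exact hℓ h
    · have h := hu (0, w)
      rw [hB] at h
      simpa using h
  have hpres : ∀ (x : Fin a → Multiplicative (ZMod N)) (u v : (Fin a → L) × W),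
      B (mulHom (F := F) L a W (fun i => ψ (x i)) u) (mulHom (F := F) L a W (fun i => ψ (x i)) v) = B u v := by
    intro x u v
    rw [hB, hB, mulHom_apply, mulHom_apply]
    congr 2
    refine Finset.sum_congr rfl fun i _ => ?_
    have hnorm : σ (ψ (x i) : L) * (ψ (x i) : L) = 1 := by
      rw [hσ, ← pow_succ, ← Units.val_pow_eq_pow_val, ← map_pow]
      have hx : x i ^ (Q + 1) = 1 := by
        obtain ⟨c, hc⟩ := hN
        rw [hc, pow_mul]
        have : x i ^ N = 1 := by
          have := pow_card_eq_one' (x := x i)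
          rwa [Nat.card_congr Multiplicative.toAdd, Nat.card_zmod] at this
        rw [this, one_pow]
      rw [hx, map_one, Units.val_one]
    calc σ ((ψ (x i) : L) * u.1 i) * ((ψ (x i) : L) * v.1 i)
          - (ψ (x i) : L) * u.1 i * σ ((ψ (x i) : L) * v.1 i)
        = (σ (ψ (x i) : L) * (ψ (x i) : L)) * (σ (u.1 i) * v.1 i - u.1 i * σ (v.1 i)) := by
          rw [map_mul, map_mul]; ring
      _ = _ := by rw [hnorm, one_mul]
  refine CfsgLib.Known.FieldExtension.exists_hom_symplectic B halt
    ⟨hnd, fun u hu => hnd u fun v => neg_eq_zero.1 ((LinearMap.IsAlt.neg halt u v).trans (hu v))⟩ ?_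
    ((mulHom (F := F) L a W).comp (Pi.monoidHom fun i => ψ.comp (Pi.evalMonoidHom _ i)))
    (mulHom_injective.comp fun x y h => funext fun i => hψ (congrFun h i)) hpres
  have := Nat.div_mul_le_self n e
  rw [Module.finrank_prod, Module.finrank_pi_fintype, Finset.sum_const, Finset.card_univ,
    Fintype.card_fin, hrk, smul_eq_mul, Symp.finrank_sympSpace]
  show n / e * (2 * e) + 2 * (n - n / e * e) = 2 * n
  rw [show n / e * (2 * e) = 2 * (n / e * e) by ring]
  omega

theorem exists_hom_Sp (n : ℕ) {r : ℕ} [Fact r.Prime] (hrq : ¬ r ∣ Fintype.card F) :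
    ∃ φ : (Fin ((Icc 1 n).filter (fun i => orderOf (Fintype.card F : ZMod r) ∣ 2 * i)).card →
      Multiplicative (ZMod (r ^ padicValNat r
        (Fintype.card F ^ orderOf (Fintype.card F : ZMod r) - 1)))) →*
        ↥(Matrix.symplecticGroup (Fin n) F),
      Function.Injective φ := by
  classical
  set q := Fintype.card F
  set d := orderOf (q : ZMod r) with hd
  have hd0 : 0 < d := orderOf_pos' hrq
  rcases Nat.even_or_odd d with ⟨e, he⟩ | hodd
  · have hc : ((Icc 1 n).filter (fun i => d ∣ 2 * i)).card = n / e := by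
      rw [← card_filter_Icc]
      congr 1
      exact Finset.filter_congr fun i _ => by
        rw [he, ← two_mul, Nat.mul_dvd_mul_iff_left two_pos]
    rw [hc]
    refine exists_hom_Sp_even n e (by omega) ?_
    have hq : 1 < q := Fintype.one_lt_card
    have hne : ¬ r ∣ q ^ e - 1 := fun h => by
      have := Nat.le_of_dvd (by omega) ((dvd_pow_sub_one_iff hq.le e).1 h)
      omega
    refine (Nat.Coprime.dvd_of_dvd_mul_right
      (((Fact.out : r.Prime).coprime_iff_not_dvd.2 hne).pow_left _) ?_)
    have : (q ^ e + 1) * (q ^ e - 1) = q ^ d - 1 := by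
      rw [he, pow_add, ← Nat.sq_sub_sq, one_pow, pow_two]
    rw [this]
    exact pow_padicValNat_dvd
  · have hc : ((Icc 1 n).filter (fun i => d ∣ 2 * i)).card = n / d := by
      rw [← card_filter_Icc]
      congr 1
      exact Finset.filter_congr fun i _ =>
        (Nat.coprime_two_right.2 hodd).dvd_mul_left
    rw [hc]
    obtain ⟨φ, hφ⟩ := exists_hom_GL (F := F) n hrq
    obtain ⟨l, hl⟩ := exists_levi (F := F) n
    exact ⟨l.comp φ, hl.comp hφ⟩

end Field

end CfsgLib.Classical.Homocyclic
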