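import Cfsg.Agent.Lib.PLocal.Thompson
import Cfsg.Prelude.Def_CaseTheorems
import Cfsg.Prelude.Def_EvenType
import Mathlib.LinearAlgebra.Basis.VectorSpace
import Mathlib.GroupTheory.SemidirectProduct
import Mathlib.GroupTheory.Sylow

/-!
# Elementary abelian `2`-groups of linear maps in odd characteristic
-/

set_option autoImplicit false
set_option linter.all false

namespace CfsgLib.Classical.SignRank

open Finset Module

universe u v

section Weights

variable {F : Type*} [Field F] {V : Type*} [AddCommGroup V] [Module F V] [FiniteDimensional F V]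
  {E : Type*} [Group E] [Finite E] (ρ : E →* (V ≃ₗ[F] V))

omit [FiniteDimensional F V] in
theorem span_signs (h2 : (2 : F) ≠ 0) (he : ∀ e : E, e * e = 1) (s : Finset E) :
    Submodule.span F {u : V | ∀ e ∈ s, ρ e u = u ∨ ρ e u = -u} = ⊤ := by
  classical
  have hcomm : ∀ e e' : E, e * e' = e' * e := fun e e' => by
    calc e * e' = (e * e')⁻¹ := (inv_eq_of_mul_eq_one_right (he _)).symm
      _ = e' * e := by
        rw [mul_inv_rev, inv_eq_of_mul_eq_one_right (he e), inv_eq_of_mul_eq_one_right (he e')]
  induction s using Finset.induction with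
  | empty => simp
  | insert a s ha ih =>
    rw [eq_top_iff, ← ih, Submodule.span_le]
    intro w hw
    have haa : ρ a (ρ a w) = w := by
      rw [← LinearEquiv.mul_apply, ← map_mul, he a, map_one]; rfl
    have hhalf : w = (2 : F)⁻¹ • (w + ρ a w) + (2 : F)⁻¹ • (w - ρ a w) := by
      rw [← smul_add, add_add_sub_cancel, ← two_smul F w, smul_smul, inv_mul_cancel₀ h2, one_smul]
    have key : ∀ b, ρ b (ρ a w) = ρ a (ρ b w) := fun b => by
      rw [← LinearEquiv.mul_apply, ← map_mul, hcomm, map_mul, LinearEquiv.mul_apply]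
    rw [hhalf]
    refine add_mem (Submodule.smul_mem _ _ (Submodule.subset_span ?_))
      (Submodule.smul_mem _ _ (Submodule.subset_span ?_))
    · intro b hb
      rcases Finset.mem_insert.1 hb with rfl | hb
      · left
        rw [map_add, haa, add_comm]
      · rcases hw b hb with h | h
        · left
          rw [map_add, key b, h]
        · right
          rw [map_add, key b, h, map_neg, neg_add]
    · intro b hb
      rcases Finset.mem_insert.1 hb with rfl | hb
      · right
        rw [map_sub, haa, neg_sub]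
      · rcases hw b hb with h | h
        · left
          rw [map_sub, key b, h]
        · right
          rw [map_sub, key b, h, map_neg]
          abel

/-- a basis of common eigenvectors with signs as eigenvalues -/
theorem exists_sign_basis (h2 : (2 : F) ≠ 0) (he : ∀ e : E, e * e = 1) :
    ∃ (n : ℕ) (b : Basis (Fin n) F V) (w : Fin n → E → F),
      (∀ i e, w i e = 1 ∨ w i e = -1) ∧ ∀ i e, ρ e (b i) = w i e • b i := by
  classical
  haveI : Fintype E := Fintype.ofFinite E
  set S := {u : V | ∀ e ∈ (Finset.univ : Finset E), ρ e u = u ∨ ρ e u = -u}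
  obtain ⟨t, htS, htsp, htli⟩ := exists_linearIndependent F S
  let B0 : Basis t F V := Basis.mk htli (by
    rw [Subtype.range_coe, htsp, span_signs ρ h2 he])
  let B := B0.reindex (B0.indexEquiv (finBasis F V))
  have hB : ∀ i, B i ∈ S := fun i => by
    simp only [B, Basis.reindex_apply, B0, Basis.mk_apply]
    exact htS (Subtype.prop _)
  refine ⟨_, B, fun i e => if ρ e (B i) = B i then 1 else -1, fun i e => ?_, fun i e => ?_⟩
  · dsimp only
    split_ifs <;> simp
  · dsimp only
    split_ifs with h
    · rw [one_smul, h]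
    · rw [neg_one_smul, (hB i e (Finset.mem_univ _)).resolve_left h]

variable {ρ} {n : ℕ} {b : Basis (Fin n) F V} {w : Fin n → E → F}

theorem repr_eq_zero (hb : ∀ i e, ρ e (b i) = w i e • b i) {v : V} {χ : E → F}
    (hv : ∀ e, ρ e v = χ e • v) {j : Fin n} (hj : w j ≠ χ) : b.repr v j = 0 := by
  obtain ⟨e, he⟩ := Function.ne_iff.1 hj
  have h1 : ρ e v = ∑ i, (b.repr v i * w i e) • b i := by
    conv_lhs => rw [← b.sum_repr v]
    rw [map_sum]
    exact Finset.sum_congr rfl fun i _ => by rw [map_smul, hb, smul_smul]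
  have h2 : b.repr (ρ e v) j = b.repr v j * w j e := by rw [h1, b.repr_sum_self]
  rw [hv, map_smul, Finsupp.smul_apply, smul_eq_mul, mul_comm] at h2
  by_contra h
  exact he (mul_left_cancel₀ h h2).symm

/-- eigenvectors with distinct weights are independent -/
theorem linearIndependent_of_weights (hb : ∀ i e, ρ e (b i) = w i e • b i) {ι : Type*} [Fintype ι]
    {u : ι → V} {χ : ι → E → F} (hu : ∀ k e, ρ e (u k) = χ k e • u k) (hu0 : ∀ k, u k ≠ 0)
    (hχ : Function.Injective χ) : LinearIndependent F u := by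
  rw [Fintype.linearIndependent_iff]
  intro c hc k
  obtain ⟨j, hj⟩ : ∃ j, b.repr (u k) j ≠ 0 := by
    by_contra h
    push Not at h
    exact hu0 k (b.repr.injective (by ext j; simp [h j]))
  have hwj : w j = χ k := by
    by_contra h
    exact hj (repr_eq_zero hb (hu k) h)
  have h := congrArg (fun v => b.repr v j) hc
  simp only [map_sum, map_smul, Finsupp.finsetSum_apply, Finsupp.smul_apply, smul_eq_mul, map_zero,
    Finsupp.coe_zero, Pi.zero_apply] at h
  rw [Finset.sum_eq_single k (fun l _ hl => by
    rw [repr_eq_zero hb (hu l) (fun h => hl (hχ (h.symm.trans hwj))), mul_zero]) (by simp)] at h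
  exact (mul_eq_zero.1 h).resolve_right hj

/-- the vectors of the weight of a singleton class -/
theorem eq_smul_of_single (hb : ∀ i e, ρ e (b i) = w i e • b i) {i : Fin n}
    (hi : ∀ j, w j = w i → j = i) {v : V} (hv : ∀ e, ρ e v = w i e • v) :
    v = b.repr v i • b i := by
  conv_lhs => rw [← b.sum_repr v]
  refine Finset.sum_eq_single i (fun j _ hj => ?_) (by simp)
  rw [repr_eq_zero hb hv (fun h => hj (hi j h)), zero_smul]

omit [FiniteDimensional F V] in
/-- the group embeds into the signs indexed by the weights -/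
theorem card_le_two_pow (hρ : Function.Injective ρ) (hw : ∀ i e, w i e = 1 ∨ w i e = -1)
    (hb : ∀ i e, ρ e (b i) = w i e • b i) {k : ℕ}
    (hk : ∀ [DecidableEq (E → F)], 2 * (Finset.univ.image w).card ≤ 2 * k + 1) :
    Nat.card E ≤ 2 ^ k := by
  classical
  have hinj : Function.Injective fun (e : E) (χ : (Finset.univ.image w : Finset (E → F))) =>
      decide (χ.1 e = 1) := by
    intro e e' h
    refine hρ (LinearEquiv.toLinearMap_injective (b.ext fun i => ?_))
    show ρ e (b i) = ρ e' (b i)
    have h1 : decide (w i e = 1) = decide (w i e' = 1) :=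
      congrFun h ⟨w i, Finset.mem_image_of_mem w (Finset.mem_univ i)⟩
    rw [decide_eq_decide] at h1
    rw [hb, hb]
    rcases hw i e with h' | h'
    · rw [h', h1.1 h']
    · rcases hw i e' with h'' | h''
      · rw [h'', h1.2 h'']
      · rw [h', h'']
  refine (Nat.card_le_card_of_injective _ hinj).trans ?_
  rw [Nat.card_fun, Nat.card_eq_fintype_card, Fintype.card_bool, Nat.card_eq_fintype_card,
    Fintype.card_coe]
  exact Nat.pow_le_pow_right two_pos (by have := hk; omega)

theorem two_mul_image_le [DecidableEq (E → F)] {m : ℕ}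
    (hm : (Finset.univ.filter fun i => ∀ j, w j = w i → j = i).card ≤ m) :
    2 * (Finset.univ.image w).card ≤ n + m := by
  set T := (Finset.univ.image w).filter fun χ =>
    (Finset.univ.filter fun i => w i = χ).card = 1 with hT
  have hTm : T.card ≤ m := by
    refine le_trans ?_ hm
    refine le_trans (Finset.card_le_card (t := (Finset.univ.filter fun i => ∀ j, w j = w i → j = i).image w) ?_)
      Finset.card_image_le
    intro χ hχ
    obtain ⟨hχ1, hχ2⟩ := Finset.mem_filter.1 hχ
    obtain ⟨i, -, rfl⟩ := Finset.mem_image.1 hχ1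
    refine Finset.mem_image.2 ⟨i, Finset.mem_filter.2 ⟨Finset.mem_univ _, fun j hj => ?_⟩, rfl⟩
    exact Finset.card_le_one.1 hχ2.le j (by simp [hj]) i (by simp)
  have h1 : ∀ χ ∈ Finset.univ.image w,
      2 ≤ (Finset.univ.filter fun i => w i = χ).card + if χ ∈ T then 1 else 0 := by
    intro χ hχ
    have hpos : 0 < (Finset.univ.filter fun i => w i = χ).card := by
      obtain ⟨i, -, rfl⟩ := Finset.mem_image.1 hχ
      exact Finset.card_pos.2 ⟨i, by simp⟩
    split_ifs with h
    · omega
    · have : (Finset.univ.filter fun i => w i = χ).card ≠ 1 := fun h' =>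
        h (Finset.mem_filter.2 ⟨hχ, h'⟩)
      omega
  have h2 := Finset.sum_le_sum h1
  rw [Finset.sum_const, smul_eq_mul, Finset.sum_add_distrib, ← Finset.card_eq_sum_card_image,
    Finset.card_univ, Fintype.card_fin, Finset.sum_ite_mem, Finset.sum_const, smul_eq_mul, mul_one] at h2
  have h3 : (Finset.univ.image w ∩ T).card ≤ T.card := Finset.card_le_card Finset.inter_subset_right
  omega

end Weights

section Bounds

variable {F : Type*} [Field F] {V : Type*} [AddCommGroup V] [Module F V] [FiniteDimensional F V]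
  {E : Type*} [Group E] [Finite E] (ρ : E →* (V ≃ₗ[F] V))

/-- `2`-rank of `GL` -/
theorem card_le_of_linear (h2 : (2 : F) ≠ 0) (hρ : Function.Injective ρ) (he : ∀ e : E, e * e = 1) :
    Nat.card E ≤ 2 ^ finrank F V := by
  classical
  obtain ⟨n, b, w, hw, hb⟩ := exists_sign_basis ρ h2 he
  rw [finrank_eq_card_basis b, Fintype.card_fin]
  refine card_le_two_pow hρ hw hb fun {_} => ?_
  have := Finset.card_image_le (s := (Finset.univ : Finset (Fin n))) (f := w)
  rw [Finset.card_univ, Fintype.card_fin] at this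
  omega

/-- `2`-rank of the isometry group of a nondegenerate alternating form -/
theorem card_le_of_alternating (h2 : (2 : F) ≠ 0) (hρ : Function.Injective ρ)
    (he : ∀ e : E, e * e = 1) (B : LinearMap.BilinForm F V) (hA : B.IsAlt) (hB : B.Nondegenerate)
    (hpres : ∀ e u v, B (ρ e u) (ρ e v) = B u v) {k : ℕ} (hk : finrank F V = 2 * k) :
    Nat.card E ≤ 2 ^ k := by
  classical
  obtain ⟨n, b, w, hw, hb⟩ := exists_sign_basis ρ h2 he
  have hn : n = 2 * k := by rw [← hk, finrank_eq_card_basis b, Fintype.card_fin]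
  have hm : ∀ [DecidableEq (E → F)],
      (Finset.univ.filter fun i => ∀ j, w j = w i → j = i).card ≤ 0 := by
    intro _
    rw [Nat.le_zero, Finset.card_eq_zero, Finset.filter_eq_empty_iff]
    intro i _ hi
    have horth : ∀ j, B (b i) (b j) = 0 := by
      intro j
      by_cases hj : j = i
      · subst hj; exact hA _
      obtain ⟨e, he'⟩ := Function.ne_iff.1 (fun h : w j = w i => hj (hi j h))
      have h := hpres e (b i) (b j)
      simp only [hb, map_smul, LinearMap.smul_apply, smul_eq_mul] at h
      rw [← mul_assoc, mul_comm (w j e)] at h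
      have h3 : w i e * w j e = -1 := by
        rcases hw i e with h1 | h1 <;> rcases hw j e with h4 | h4 <;> rw [h1, h4] at he' ⊢ <;>
          simp at he' ⊢
      rw [h3, neg_one_mul, neg_eq_iff_add_eq_zero, ← two_mul, mul_eq_zero] at h
      exact h.resolve_left h2
    refine b.ne_zero i (hB.1 (b i) fun v => ?_)
    rw [← b.sum_repr v, map_sum]
    exact Finset.sum_eq_zero fun j _ => by rw [map_smul, horth, smul_zero]
  refine card_le_two_pow hρ hw hb (k := k) ?_
  intro _
  have := two_mul_image_le (w := w) hm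
  omega

/-- bound from an element moving all weight lines outside `W` -/
theorem card_le_of_normalizing (h2 : (2 : F) ≠ 0) (hρ : Function.Injective ρ)
    (he : ∀ e : E, e * e = 1) (z : V ≃ₗ[F] V) (σ : E → E) (hσs : Function.Surjective σ)
    (hσ : ∀ e v, ρ e (z v) = z (ρ (σ e) v))
    {k : ℕ} (hz : z ^ 2 ^ k = 1) (hroot : ∀ a : F, ∀ j : ℕ, a ^ 2 ^ j = 1 → a = 1 ∨ a = -1)
    (hcyc : ∀ v, ∃ U : Submodule F V, finrank F U ≤ 3 ∧ ∀ j : ℕ, (z ^ j) v ∈ U)
    (W : Submodule F V) (hW : finrank F W ≤ 1) (hfix : ∀ v, (z ^ 4) v = v → v ∈ W) {r : ℕ}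
    (hr : finrank F V + 1 ≤ 2 * r + 1) : Nat.card E ≤ 2 ^ r := by
  classical
  obtain ⟨n, b, w, hw, hb⟩ := exists_sign_basis ρ h2 he
  have hn : n = finrank F V := by rw [finrank_eq_card_basis b, Fintype.card_fin]
  have hσj : ∀ (j : ℕ) (e : E) (v : V), ρ e ((z ^ j) v) = (z ^ j) (ρ (σ^[j] e) v) := by
    intro j
    induction j with
    | zero => intro e v; rfl
    | succ j ih =>
      intro e v
      rw [pow_succ', LinearEquiv.mul_apply, hσ, ih, Function.iterate_succ_apply]
      rfl
  have hsingle : ∀ i, (∀ j, w j = w i → j = i) → b i ∈ W := by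
    intro i hi
    have hwt : ∀ (j : ℕ) (e : E), ρ e ((z ^ j) (b i)) = (w i ∘ σ^[j]) e • (z ^ j) (b i) :=
      fun j e => by rw [hσj, hb, map_smul]; rfl
    obtain ⟨l, hl0, hl3, hl⟩ : ∃ l, 0 < l ∧ l ≤ 3 ∧ w i ∘ σ^[l] = w i := by
      by_contra hcon
      push Not at hcon
      obtain ⟨U, hU, hUj⟩ := hcyc (b i)
      have hinj : Function.Injective fun j : Fin 4 => w i ∘ σ^[(j : ℕ)] := by
        intro j j' h
        by_contra hne
        wlog hlt : (j : ℕ) < j' generalizing j j'
        · exact this h.symm (fun h' => hne h'.symm)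
            (lt_of_le_of_ne (not_lt.1 hlt) fun h' => hne (Fin.ext h'.symm))
        refine hcon (j' - j) (by omega) (by omega) ((hσs.iterate j).injective_comp_right ?_)
        show (w i ∘ σ^[(j' : ℕ) - j]) ∘ σ^[(j : ℕ)] = w i ∘ σ^[(j : ℕ)]
        rw [Function.comp_assoc, ← Function.iterate_add, Nat.sub_add_cancel hlt.le]
        exact h.symm
      have hli := linearIndependent_of_weights hb (u := fun j : Fin 4 => (z ^ (j : ℕ)) (b i))
        (fun j e => hwt j e) (fun j h => b.ne_zero i ((z ^ (j : ℕ)).map_eq_zero_iff.1 h)) hinj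
      have hli' : LinearIndependent F fun j : Fin 4 => (⟨_, hUj j⟩ : U) :=
        LinearIndependent.of_comp U.subtype hli
      have := hli'.fintype_card_le_finrank
      rw [Fintype.card_fin] at this
      omega
    have hline : (z ^ l) (b i) = b.repr ((z ^ l) (b i)) i • b i :=
      eq_smul_of_single hb hi fun e => by rw [hwt, hl]
    generalize b.repr ((z ^ l) (b i)) i = a at hline
    have hpow : ∀ j : ℕ, ((z ^ l) ^ j) (b i) = a ^ j • b i := by
      intro j
      induction j with
      | zero => simp
      | succ j ih => rw [pow_succ, LinearEquiv.mul_apply, hline, map_smul, ih, smul_smul, pow_succ']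
    have ha : a ^ 2 ^ k = 1 := by
      have h := hpow (2 ^ k)
      rw [← pow_mul, mul_comm l, pow_mul, hz, one_pow] at h
      exact smul_left_injective F (b.ne_zero i) (h.symm.trans (one_smul F _).symm)
    refine hfix _ ?_
    let S : Subgroup (V ≃ₗ[F] V) := MulAction.stabilizer _ (b i)
    have hS : ∀ g : V ≃ₗ[F] V, g ∈ S ↔ g (b i) = b i := fun g => Iff.rfl
    have h2l : z ^ (l * 2) ∈ S := by
      rw [hS, pow_mul, hpow]
      rcases hroot a k ha with rfl | rfl <;> simp
    have hsix : ∀ j : ℕ, z ^ (2 * 2 ^ j) ∈ S → z ^ 6 ∈ S → z ^ 2 ∈ S := by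
      intro j
      induction j with
      | zero => intro h _; simpa using h
      | succ j ih =>
        intro h h6
        refine ih ?_ h6
        have h3 : z ^ (2 * 2 ^ j) = (z ^ 6) ^ (2 ^ j) * (z ^ (2 * 2 ^ (j + 1)))⁻¹ := by
          rw [eq_mul_inv_iff_mul_eq, ← pow_add, ← pow_mul]
          congr 1
          rw [pow_succ]; ring
        rw [h3]
        exact S.mul_mem (S.pow_mem h6 _) (S.inv_mem h)
    show z ^ 4 ∈ S
    interval_cases l
    · rw [show z ^ 4 = (z ^ (1 * 2)) ^ 2 by rw [← pow_mul]]
      exact S.pow_mem h2l 2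
    · exact h2l
    · rw [show z ^ 4 = (z ^ 2) ^ 2 by rw [← pow_mul]]
      refine S.pow_mem (hsix k ?_ h2l) 2
      rw [mul_comm, pow_mul, hz, one_pow]
      exact S.one_mem
  have hm : ∀ [DecidableEq (E → F)],
      (Finset.univ.filter fun i => ∀ j, w j = w i → j = i).card ≤ 1 := by
    intro _
    set T := Finset.univ.filter fun i => ∀ j, w j = w i → j = i
    have hli : LinearIndependent F fun i : T => (⟨b i, hsingle i (Finset.mem_filter.1 i.2).2⟩ : W) :=
      LinearIndependent.of_comp W.subtype (b.linearIndependent.comp _ Subtype.val_injective)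
    have := hli.fintype_card_le_finrank
    rw [Fintype.card_coe] at this
    omega
  refine card_le_two_pow hρ hw hb (k := r) ?_
  intro _
  have := two_mul_image_le (w := w) hm
  omega

end Bounds

section Transfer

variable {G : Type u} [Group G] [Finite G]

/-- a normal elementary abelian subgroup of a subgroup of odd index gives one in each Sylow -/
theorem exists_normal_of_hom {M : Type v} [Group M] [Finite M] (φ : M →* G) (hφ : Function.Injective φ)
    (hv : padicValNat 2 (Nat.card G) = padicValNat 2 (Nat.card M)) (E : Subgroup M) (hEn : E.Normal)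
    (hE : Cfsg.IsElementaryAbelian 2 E) (P : Sylow 2 G) :
    ∃ E' : Subgroup ↥(P : Subgroup G), E'.Normal ∧ Cfsg.IsElementaryAbelian 2 E' ∧
      Nat.card E' = Nat.card E := by
  haveI : Fact (Nat.Prime 2) := ⟨Nat.prime_two⟩
  haveI := hEn
  obtain ⟨Q, hQ⟩ := (CfsgLib.PLocal.elementary_isPGroup hE).exists_le_sylow
  obtain ⟨R, hR⟩ := (Q.2.map φ).exists_le_sylow
  have hQR : (Q : Subgroup M).map φ = (R : Subgroup G) := Subgroup.eq_of_le_of_card_ge hR (by
    rw [Subgroup.card_map_of_injective hφ, R.card_eq_multiplicity, Q.card_eq_multiplicity,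
      Nat.factorization_def _ Nat.prime_two, Nat.factorization_def _ Nat.prime_two, hv])
  let e : ↥(Q : Subgroup M) ≃* ↥(P : Subgroup G) :=
    (((Q : Subgroup M).equivMapOfInjective φ hφ).trans (MulEquiv.subgroupCongr hQR)).trans (R.equiv P)
  refine ⟨(E.subgroupOf (Q : Subgroup M)).map e.toMonoidHom,
    Subgroup.Normal.map inferInstance _ e.surjective,
    CfsgLib.PLocal.elementary_map _
      (CfsgLib.PLocal.elementary_comap (Q : Subgroup M).subtype (Q : Subgroup M).subtype_injective hE), ?_⟩
  rw [Subgroup.card_map_of_injective e.injective]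
  exact Nat.card_congr (Subgroup.subgroupOfEquivOfLe hQ).toEquiv

/-- a bound for subgroups normalised by a `2`-element bounds the normal subgroups of a Sylow -/
theorem card_normal_le (z : G) {k : ℕ} (hz : z ^ 2 ^ k = 1) {N : ℕ}
    (h : ∀ E : Subgroup G, Cfsg.IsElementaryAbelian 2 E →
      z ∈ Subgroup.normalizer (E : Set G) → Nat.card E ≤ N)
    (P : Sylow 2 G) (E : Subgroup ↥(P : Subgroup G)) (hEn : E.Normal)
    (hE : Cfsg.IsElementaryAbelian 2 E) : Nat.card E ≤ N := by
  haveI : Fact (Nat.Prime 2) := ⟨Nat.prime_two⟩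
  haveI := hEn
  have hp : IsPGroup 2 (Subgroup.zpowers z) := by
    obtain ⟨j, -, hj⟩ := (Nat.dvd_prime_pow Nat.prime_two).1 (orderOf_dvd_of_pow_eq_one hz)
    exact IsPGroup.of_card (n := j) (by rw [Nat.card_zpowers, hj])
  obtain ⟨Q, hQ⟩ := hp.exists_le_sylow
  let e := P.equiv Q
  set E₁ := E.map e.toMonoidHom
  haveI : E₁.Normal := Subgroup.Normal.map inferInstance _ e.surjective
  have hc : Nat.card (E₁.map (Q : Subgroup G).subtype) = Nat.card E := by
    rw [Subgroup.card_map_of_injective (Q : Subgroup G).subtype_injective,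
      Subgroup.card_map_of_injective e.injective]
  rw [← hc]
  refine h _ (CfsgLib.PLocal.elementary_map _ (CfsgLib.PLocal.elementary_map _ hE)) ?_
  exact (Subgroup.le_normalizer_map (Q : Subgroup G).subtype) ⟨⟨z, hQ (Subgroup.mem_zpowers z)⟩,
    by rw [SetLike.mem_coe, Subgroup.normalizer_eq_top]; trivial, rfl⟩

end Transfer

section Wreath

variable {F : Type*} [Field F] {U W : Type*} [AddCommGroup U] [Module F U] [AddCommGroup W]
  [Module F W] {H K : Type*} [Group H] [Group K] (m : ℕ)

/-- the permutation action on tuples -/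
def permAut (H : Type*) [Group H] (m : ℕ) : Equiv.Perm (Fin m) →* MulAut (Fin m → H) where
  toFun σ :=
    { toFun := fun f i => f (σ.symm i)
      invFun := fun f i => f (σ i)
      left_inv := fun f => by funext i; simp
      right_inv := fun f => by funext i; simp
      map_mul' := fun f g => rfl }
  map_one' := rfl
  map_mul' σ τ := rfl

/-- the wreath action on a direct power -/
noncomputable def wreathAct (s : H →* (U ≃ₗ[F] U)) :
    (Fin m → H) ⋊[permAut H m] Equiv.Perm (Fin m) →* ((Fin m → U) ≃ₗ[F] (Fin m → U)) :=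
  SemidirectProduct.lift
    { toFun := fun f => LinearEquiv.piCongrRight fun i => s (f i)
      map_one' := by ext v i; simp
      map_mul' := fun f g => by ext v i; simp }
    { toFun := fun σ => LinearEquiv.funCongrLeft F U σ.symm
      map_one' := by ext v i; rfl
      map_mul' := fun σ τ => by ext v i; rfl }
    (fun σ => by
      refine MonoidHom.ext fun f => ?_
      refine LinearEquiv.ext fun v => funext fun i => ?_
      show s (f (σ.symm i)) (v i) = s (f (σ.symm i)) (v (σ (σ.symm i)))
      rw [Equiv.apply_symm_apply])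

theorem wreathAct_apply (s : H →* (U ≃ₗ[F] U))
    (x : (Fin m → H) ⋊[permAut H m] Equiv.Perm (Fin m)) (v : Fin m → U) (i : Fin m) :
    wreathAct m s x v i = s (x.left i) (v (x.right.symm i)) := rfl

theorem wreathAct_injective [Nontrivial U] (s : H →* (U ≃ₗ[F] U)) (hs : Function.Injective s) :
    Function.Injective (wreathAct m s) := by
  rw [injective_iff_map_eq_one]
  intro x hx
  have h : ∀ (v : Fin m → U) (i : Fin m), s (x.left i) (v (x.right.symm i)) = v i := fun v i => by
    rw [← wreathAct_apply, hx]; rfl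
  have hσ : ∀ i, x.right.symm i = i := by
    intro i
    by_contra hi
    obtain ⟨u, hu⟩ := exists_ne (0 : U)
    have := h (Pi.single i u) i
    rw [Pi.single_eq_of_ne hi, map_zero, Pi.single_eq_same] at this
    exact hu this.symm
  refine SemidirectProduct.ext (funext fun i => hs (LinearEquiv.ext fun u => ?_)) (Equiv.ext fun i => ?_)
  · have := h (fun _ => u) i
    simpa using this
  · show x.right i = i
    conv_lhs => rw [← hσ i]
    rw [Equiv.apply_symm_apply]

/-- the group `(H ≀ S_m) × K` acting on `U^m × W` -/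
noncomputable def blockAct (s : H →* (U ≃ₗ[F] U)) (t : K →* (W ≃ₗ[F] W)) :
    ((Fin m → H) ⋊[permAut H m] Equiv.Perm (Fin m)) × K →*
      (((Fin m → U) × W) ≃ₗ[F] ((Fin m → U) × W)) where
  toFun x := (wreathAct m s x.1).prodCongr (t x.2)
  map_one' := by
    refine LinearEquiv.ext fun v => ?_
    simp [map_one]
  map_mul' x y := by
    refine LinearEquiv.ext fun v => ?_
    simp [map_mul]

theorem blockAct_apply (s : H →* (U ≃ₗ[F] U)) (t : K →* (W ≃ₗ[F] W))
    (x : ((Fin m → H) ⋊[permAut H m] Equiv.Perm (Fin m)) × K) (v : (Fin m → U) × W) :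
    blockAct m s t x v = (wreathAct m s x.1 v.1, t x.2 v.2) := rfl

theorem blockAct_injective [Nontrivial U] (s : H →* (U ≃ₗ[F] U)) (hs : Function.Injective s)
    (t : K →* (W ≃ₗ[F] W)) (ht : Function.Injective t) : Function.Injective (blockAct m s t) := by
  intro x y h
  refine Prod.ext (wreathAct_injective m s hs (LinearEquiv.ext fun v => ?_))
    (ht (LinearEquiv.ext fun w => ?_))
  · exact congrArg Prod.fst (LinearEquiv.congr_fun h (v, 0))
  · exact congrArg Prod.snd (LinearEquiv.congr_fun h (0, w))

theorem card_block [Finite H] [Finite K] :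
    Nat.card (((Fin m → H) ⋊[permAut H m] Equiv.Perm (Fin m)) × K) =
      Nat.card H ^ m * m.factorial * Nat.card K := by
  rw [Nat.card_prod, SemidirectProduct.card, Nat.card_fun, Nat.card_fin, Nat.card_perm, Nat.card_fin]

/-- central involutions in each block give a normal elementary abelian subgroup -/
theorem exists_signs (c : ℤˣ →* H) (hc : Function.Injective c) (hcc : ∀ u h, c u * h = h * c u)
    {l : ℕ} (d : (Fin l → ℤˣ) →* K) (hd : Function.Injective d) (hdc : ∀ u k, d u * k = k * d u) :
    ∃ E : Subgroup (((Fin m → H) ⋊[permAut H m] Equiv.Perm (Fin m)) × K),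
      E.Normal ∧ Cfsg.IsElementaryAbelian 2 E ∧ Nat.card E = 2 ^ (m + l) := by
  let f : (Fin m → ℤˣ) →* (Fin m → H) := Pi.monoidHom fun i => c.comp (Pi.evalMonoidHom _ i)
  let φ : (Fin m → ℤˣ) × (Fin l → ℤˣ) →* ((Fin m → H) ⋊[permAut H m] Equiv.Perm (Fin m)) × K :=
    (SemidirectProduct.inl.comp f).prodMap d
  have hφ : Function.Injective φ := Function.Injective.prodMap
    (SemidirectProduct.inl_injective.comp fun a b h => funext fun i => hc (congrFun h i)) hd
  refine ⟨φ.range, ⟨?_⟩, ⟨inferInstance, ?_⟩, ?_⟩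
  · rintro _ ⟨⟨ε, δ⟩, rfl⟩ ⟨⟨g, σ⟩, k⟩
    refine ⟨⟨fun i => ε (σ.symm i), δ⟩, ?_⟩
    rw [eq_mul_inv_iff_mul_eq]
    refine Prod.ext (SemidirectProduct.ext (funext fun i => ?_) ?_) ?_
    · show c (ε (σ.symm i)) * g i = g i * c (ε (σ.symm i))
      rw [hcc]
    · show 1 * σ = σ * 1
      rw [one_mul, mul_one]
    · show d δ * k = k * d δ
      rw [hdc]
  · rintro _ ⟨x, rfl⟩
    rw [← map_pow, show x ^ 2 = 1 from Prod.ext (funext fun i => Int.units_sq _)
      (funext fun i => Int.units_sq _), map_one]
  · rw [← Nat.card_congr (MonoidHom.ofInjective hφ).toEquiv, Nat.card_prod, Nat.card_fun, Nat.card_fun,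
      Nat.card_fin, Nat.card_fin, Nat.card_eq_fintype_card, Fintype.card_units_int, pow_add]

end Wreath

end CfsgLib.Classical.SignRank
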