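import Cfsg.Agent.Lib.Classical.PSLTwoSimple
import Cfsg.Agent.Lib.Classical.Dickson.PlatonicIff

/-!
`PSL(2, 5) ≅ A₅` and `PSL(2, 9) ≅ A₆`.
-/

set_option autoImplicit false

namespace CfsgLib.Classical

open Matrix
open scoped MatrixGroups

variable {F : Type*} [Field F] [Fintype F]

theorem nonempty_psl_five_equiv_alt (hF : Fintype.card F = 5) :
    Nonempty (ProjectiveSpecialLinearGroup (Fin 2) F ≃* alternatingGroup (Fin 5)) := by
  obtain ⟨H, ⟨e⟩⟩ := (Dickson.alt_five_iff hF).2 (by norm_num)
  have hc := Two.card_PSL_two (F := F)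
  rw [hF, show Nat.gcd 2 (5 - 1) = 2 by norm_num] at hc
  have hc' : Nat.card (ProjectiveSpecialLinearGroup (Fin 2) F) = 60 := by omega
  have htop : H = ⊤ := by
    refine Subgroup.eq_top_of_card_eq H ?_
    rw [Nat.card_congr e.toEquiv, nat_card_alternatingGroup, Nat.card_fin]
    rw [hc']; decide
  exact ⟨((MulEquiv.subgroupCongr htop).trans Subgroup.topEquiv).symm.trans e⟩

theorem nonempty_psl_nine_equiv_alt (hF : Fintype.card F = 9) :
    Nonempty (ProjectiveSpecialLinearGroup (Fin 2) F ≃* alternatingGroup (Fin 6)) := by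
  classical
  obtain ⟨H, ⟨e⟩⟩ := (Dickson.alt_five_iff hF).2 (by norm_num)
  have hc₀ := Two.card_PSL_two (F := F)
  rw [hF, show Nat.gcd 2 (9 - 1) = 2 by norm_num] at hc₀
  have hc : Nat.card (ProjectiveSpecialLinearGroup (Fin 2) F) = 360 := by omega
  have hH : Nat.card H = 60 := by
    rw [Nat.card_congr e.toEquiv, nat_card_alternatingGroup, Nat.card_fin]; decide
  have hidx : H.index = 6 := by
    have := H.card_mul_index
    rw [hH, hc] at this
    omega
  have := isSimpleGroup_PSL_two (F := F) (by omega)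
  let eI : ProjectiveSpecialLinearGroup (Fin 2) F ⧸ H ≃ Fin 6 :=
    (Finite.equivFin _).trans (finCongr hidx)
  let φ : ProjectiveSpecialLinearGroup (Fin 2) F →* Equiv.Perm (Fin 6) :=
    eI.permCongrHom.toMonoidHom.comp
      (MulAction.toPermHom (ProjectiveSpecialLinearGroup (Fin 2) F) (ProjectiveSpecialLinearGroup (Fin 2) F ⧸ H))
  have hker : φ.ker = ⊥ := by
    refine ((φ.normal_ker).eq_bot_or_eq_top).resolve_right fun h => ?_
    have hHtop : H = ⊤ := by
      rw [eq_top_iff]
      intro g _
      have hg : φ g = 1 := MonoidHom.mem_ker.1 (h ▸ Subgroup.mem_top g)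
      have h2 : MulAction.toPermHom _ (ProjectiveSpecialLinearGroup (Fin 2) F ⧸ H) g = 1 :=
        eI.permCongrHom.map_eq_one_iff.1 hg
      have h3 := DFunLike.congr_fun h2 ((1 : ProjectiveSpecialLinearGroup (Fin 2) F) :
        ProjectiveSpecialLinearGroup (Fin 2) F ⧸ H)
      rw [MulAction.toPermHom_apply, MulAction.toPerm_apply, MulAction.Quotient.smul_coe,
        smul_eq_mul, mul_one, Equiv.Perm.one_apply, eq_comm, QuotientGroup.eq, inv_one, one_mul] at h3
      exact h3
    rw [hHtop, Subgroup.index_top] at hidx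
    omega
  have hinj : Function.Injective φ := (MonoidHom.ker_eq_bot_iff φ).1 hker
  have h2 : φ.range.index = 2 := by
    have h := φ.range.card_mul_index
    rw [← Nat.card_congr (MonoidHom.ofInjective hinj).toEquiv, Nat.card_perm, Nat.card_fin,
      hc] at h
    simp [Nat.factorial] at h
    omega
  exact ⟨(MonoidHom.ofInjective hinj).trans
    (MulEquiv.subgroupCongr (Equiv.Perm.eq_alternatingGroup_of_index_eq_two h2))⟩

end CfsgLib.Classical
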