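import Cfsg.Agent.Lib.ZStar.Main
import Cfsg.Agent.Lib.Signalizer.Embedded

/-!
# Weakly closed central 2-subgroups and an involution coset

If `W ≤ Z(T)` is weakly closed in the Sylow 2-subgroup `T`, it is strongly closed.  If in addition
every involution `x` of a coset `W t`, `t ∉ W`, has `W ≤ O_{2',2}(C(x))`, then the vectors
`χ ↦ χ(x)` on the principal block are stable under multiplication by `χ(z)/χ(1)`, `z ∈ W`, and
orthogonality of the sections of `1` and `x` forces a nontrivial character with `z` in its kernel.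
-/

namespace CfsgLib.Classical.CentralCoset

open Cfsg CfsgLib.Signalizer
open scoped Classical

variable {G : Type*} [Group G] [Finite G]

/-- Two 2-subgroups of `C` lie, after conjugating one inside `C`, in one 2-subgroup. -/
theorem exists_conj_sup {C A B : Subgroup G} (hA : IsPGroup 2 A) (hB : IsPGroup 2 B)
    (hAC : A ≤ C) (hBC : B ≤ C) :
    ∃ c ∈ C, ∃ P : Subgroup G, IsPGroup 2 P ∧ A ≤ P ∧ ∀ b ∈ B, c * b * c⁻¹ ∈ P := by
  have : Fact (Nat.Prime 2) := ⟨Nat.prime_two⟩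
  obtain ⟨Q, hQ⟩ := (hA.comap_subtype (K := C)).exists_le_sylow
  obtain ⟨R, hR⟩ := (hB.comap_subtype (K := C)).exists_le_sylow
  obtain ⟨c, hc⟩ := MulAction.exists_smul_eq C R Q
  refine ⟨c, c.2, (Q : Subgroup C).map C.subtype, Q.isPGroup'.map _,
    fun a ha => ⟨⟨a, hAC ha⟩, hQ ha, rfl⟩, fun b hb => ?_⟩
  refine ⟨c * ⟨b, hBC hb⟩ * c⁻¹, ?_, rfl⟩
  rw [← hc]
  exact ⟨⟨b, hBC hb⟩, hR hb, rfl⟩

variable (T : Sylow 2 G) {W : Subgroup G}

theorem exists_conj_mem {P : Subgroup G} (hP : IsPGroup 2 P) :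
    ∃ k : G, ∀ y ∈ P, k * y * k⁻¹ ∈ (T : Subgroup G) := by
  obtain ⟨T1, hT1⟩ := hP.exists_le_sylow
  obtain ⟨k, hk⟩ := MulAction.exists_smul_eq G T1 T
  refine ⟨k, fun y hy => ?_⟩
  rw [← hk]
  exact ⟨y, hT1 hy, rfl⟩

variable (hWT : W ≤ (T : Subgroup G)) (hWc : ∀ w ∈ W, ∀ s ∈ (T : Subgroup G), Commute w s)
  (hwc : IsWeaklyClosed W (T : Subgroup G))

omit [Finite G] in
include hwc in
theorem conj_mem_W {g : G} (h : ∀ w ∈ W, g * w * g⁻¹ ∈ (T : Subgroup G)) {w : G} :
    g * w * g⁻¹ ∈ W ↔ w ∈ W := by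
  have e := hwc.2 g (by rintro _ ⟨x, hx, rfl⟩; exact h x hx)
  constructor
  · intro hw
    rw [← e] at hw
    obtain ⟨x, hx, hx'⟩ := hw
    simp only [MulEquiv.coe_toMonoidHom, MulAut.conj_apply] at hx'
    exact mul_left_cancel (mul_right_cancel hx') ▸ hx
  · intro hw
    rw [← e]
    exact ⟨w, hw, rfl⟩

include hWT hWc hwc in
/-- `W` is strongly closed in `T`. -/
theorem mem_of_conj_mem {z g : G} (hz : z ∈ W) (h : g * z * g⁻¹ ∈ (T : Subgroup G)) :
    g * z * g⁻¹ ∈ W := by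
  set v := g * z * g⁻¹ with hv
  set C := Subgroup.centralizer ({v} : Set G)
  have hW2 : IsPGroup 2 W := T.isPGroup'.to_le hWT
  obtain ⟨c, hc, P, hP, hAP, hBP⟩ := exists_conj_sup (C := C) hW2 (hW2.map (MulAut.conj g).toMonoidHom)
    (fun w hw => Subgroup.mem_centralizer_singleton_iff.2 (hWc w hw v h))
    (by
      rintro _ ⟨w, hw, rfl⟩
      refine Subgroup.mem_centralizer_singleton_iff.2 ?_
      exact ((hWc w hw z (hWT hz)).map (MulAut.conj g).toMonoidHom))
  obtain ⟨k, hk⟩ := exists_conj_mem T hP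
  have h1 : ∀ w ∈ W, k * w * k⁻¹ ∈ (T : Subgroup G) := fun w hw => hk w (hAP hw)
  have h2 : ∀ w ∈ W, (k * c * g) * w * (k * c * g)⁻¹ ∈ (T : Subgroup G) := fun w hw => by
    have := hk _ (hBP _ ⟨w, hw, rfl⟩)
    simp only [MulEquiv.coe_toMonoidHom, MulAut.conj_apply] at this
    rwa [show k * c * g * w * (k * c * g)⁻¹ = k * (c * (g * w * g⁻¹) * c⁻¹) * k⁻¹ by group]
  have h3 : c * v * c⁻¹ = v := by
    rw [Subgroup.mem_centralizer_singleton_iff.1 hc]; group
  have h4 := (conj_mem_W T hwc h2).2 hz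
  rw [show k * c * g * z * (k * c * g)⁻¹ = k * (c * v * c⁻¹) * k⁻¹ by rw [hv]; group, h3] at h4
  exact (conj_mem_W T hwc h1).1 h4

include hWT hWc hwc in
theorem mem_of_conj_mem_pgroup {P : Subgroup G} (hP : IsPGroup 2 P) (hWP : W ≤ P) {z g : G}
    (hz : z ∈ W) (h : g * z * g⁻¹ ∈ P) : g * z * g⁻¹ ∈ W := by
  obtain ⟨k, hk⟩ := exists_conj_mem T hP
  have h1 := mem_of_conj_mem T hWT hWc hwc (g := k * g) hz (by
    rw [show k * g * z * (k * g)⁻¹ = k * (g * z * g⁻¹) * k⁻¹ by group]; exact hk _ h)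
  rw [show k * g * z * (k * g)⁻¹ = k * (g * z * g⁻¹) * k⁻¹ by group] at h1
  exact (conj_mem_W T hwc fun w hw => hk w (hWP hw)).1 h1

include hWT hWc hwc in
/-- A conjugate of an element of `W` is central in every 2-group containing it. -/
theorem commute_of_pgroup {P : Subgroup G} (hP : IsPGroup 2 P) {z g y : G} (hz : z ∈ W)
    (h : g * z * g⁻¹ ∈ P) (hy : y ∈ P) : Commute (g * z * g⁻¹) y := by
  obtain ⟨k, hk⟩ := exists_conj_mem T hP
  have h1 := mem_of_conj_mem T hWT hWc hwc (g := k * g) hz (by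
    rw [show k * g * z * (k * g)⁻¹ = k * (g * z * g⁻¹) * k⁻¹ by group]; exact hk _ h)
  rw [show k * g * z * (k * g)⁻¹ = k * (g * z * g⁻¹) * k⁻¹ by group] at h1
  have h2 := (hWc _ h1 _ (hk y hy)).eq
  rw [show k * (g * z * g⁻¹) * k⁻¹ * (k * y * k⁻¹) = k * (g * z * g⁻¹ * y) * k⁻¹ by group,
    show k * y * k⁻¹ * (k * (g * z * g⁻¹) * k⁻¹) = k * (y * (g * z * g⁻¹)) * k⁻¹ by group] at h2
  exact mul_left_cancel (mul_right_cancel h2)

/-- An element of odd order in `O_{2',2}` lies in the odd core. -/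
theorem mem_oddCore_of_mem_pPrimePCore {H : Type*} [Group H] [Finite H] {h : H}
    (hh : h ∈ pPrimePCore 2 H) (ho : Odd (orderOf h)) : h ∈ oddCore H := by
  have : Fact (Nat.Prime 2) := ⟨Nat.prime_two⟩
  obtain ⟨j, hj⟩ := IsPGroup.iff_orderOf.1 (Core.isPGroup_pCore (p := 2) (G := H ⧸ pPrimeCore 2 H))
    ⟨_, hh⟩
  rw [← Subgroup.orderOf_coe] at hj
  have hodd := CfsgLib.ZStar.odd_of_dvd (orderOf_map_dvd (QuotientGroup.mk' (pPrimeCore 2 H)) h) ho
  rw [hj] at hodd
  rcases Nat.eq_zero_or_pos j with rfl | hpos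
  · rw [pow_zero, orderOf_eq_one_iff] at hj
    exact (QuotientGroup.eq_one_iff h).1 hj
  · exact absurd hodd (Nat.not_odd_iff_even.2 (Nat.even_pow.2 ⟨even_two, hpos.ne'⟩))

omit [Finite G] in
/-- Powers of the product of an involution `x` with `v`: shape of the conjugate `x (x v)^m`. -/
theorem conj_eq_mul_pow {x v : G} (hx : orderOf x = 2) (hv : orderOf v = 2) (i : ℕ) :
    ((x * v) ^ i)⁻¹ * v * (x * v) ^ i = x * (x * v) ^ (2 * i + 1) := by
  induction i with
  | zero => simp [← mul_assoc, involution_sq hx]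
  | succ i ih =>
    calc ((x * v) ^ (i + 1))⁻¹ * v * (x * v) ^ (i + 1)
        = (x * v)⁻¹ * (((x * v) ^ i)⁻¹ * v * (x * v) ^ i) * (x * v) := by rw [pow_succ]; group
      _ = (v * x) * (x * (x * v) ^ (2 * i + 1)) * (x * v) := by
          rw [ih, mul_inv_rev, involution_inv hx, involution_inv hv]
      _ = v * ((x * v) ^ (2 * i + 1) * (x * v)) := by
          rw [← mul_assoc (v * x) x, mul_assoc v x x, involution_sq hx, mul_one, mul_assoc]
      _ = x * (x * v) ^ (2 * (i + 1) + 1) := by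
          rw [← pow_succ, show 2 * (i + 1) + 1 = (2 * i + 1 + 1) + 1 by ring, pow_succ' _ (2 * i + 1 + 1),
            ← mul_assoc x, ← mul_assoc x x v, involution_sq hx, one_mul]

variable {t : G}

include hWT hWc hwc in
theorem exists_section (htT : t ∈ (T : Subgroup G)) (htW : t ∉ W)
    (hcos : ∀ w ∈ W, orderOf (w * t) = 2 →
      W.subgroupOf (Subgroup.centralizer ({w * t} : Set G)) ≤
        pPrimePCore 2 (Subgroup.centralizer ({w * t} : Set G)))
    {z : G} (hz : z ∈ W) (hz2 : orderOf z = 2) {w : G} (hw : w ∈ W) (hx : orderOf (w * t) = 2)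
    (g : G) : ∃ w' ∈ W, orderOf (w' * t) = 2 ∧ ∀ [Fintype G] {M : Ideal AlgInt} [M.IsPrime],
      IsPModular 2 M → ∀ χ : IrrCharacter G, χ ∈ principalBlock M G →
        (χ : G → ℂ) (w * t * (g * z * g⁻¹)) = (χ : G → ℂ) (w' * t) := by
  have : Fact (Nat.Prime 2) := ⟨Nat.prime_two⟩
  set x := w * t with hxdef
  set v := g * z * g⁻¹ with hvdef
  have hv : orderOf v = 2 := by rw [hvdef, Signalizer.orderOf_conj, hz2]
  have hxT : x ∈ (T : Subgroup G) := mul_mem (hWT hw) htT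
  have heven : Even (orderOf (x * v)) := by
    rw [← Nat.not_odd_iff_even]
    intro hodd
    obtain ⟨d, -, hd⟩ := exists_conj_of_odd hx hv hodd
    have e : (d⁻¹ * g) * z * (d⁻¹ * g)⁻¹ = x :=
      calc (d⁻¹ * g) * z * (d⁻¹ * g)⁻¹ = d⁻¹ * v * d := by rw [hvdef]; group
        _ = x := by rw [← hd]; group
    have h1 := mem_of_conj_mem T hWT hWc hwc hz (g := d⁻¹ * g) (e.symm ▸ hxT)
    rw [e] at h1
    exact htW ((Subgroup.mul_mem_cancel_left W hw).1 h1)
  obtain ⟨a, m, hm, hn⟩ := Nat.exists_eq_two_pow_mul_odd (orderOf_pos (x * v)).ne'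
  set e := (x * v) ^ m with hedef
  obtain ⟨i, hi⟩ := hm
  have hconj : x * e = (((x * v) ^ i)⁻¹ * g) * z * (((x * v) ^ i)⁻¹ * g)⁻¹ := by
    rw [hedef, hi, ← conj_eq_mul_pow hx hv i, hvdef]
    group
  set v' := x * e with hv'def
  have hep : ∀ y ∈ Subgroup.zpowers e, x * y * x⁻¹ ∈ Subgroup.zpowers e := by
    rintro _ ⟨j, rfl⟩
    refine ⟨-j, ?_⟩
    simp only
    rw [conj_zpow_of_inverts (t := x) (x := e) ?_ j, zpow_neg]
    rw [hedef, ← zpow_natCast, conj_zpow_of_inverts (conj_mul_eq_inv hx hv), zpow_neg]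
  have he2g : IsPGroup 2 (Subgroup.zpowers e) := IsPGroup.of_card (p := 2) (n := a) (by
    rw [Nat.card_zpowers, hedef, orderOf_pow, hn, Nat.gcd_eq_right (dvd_mul_left m _),
      Nat.mul_div_cancel _ (by omega)])
  have hP : IsPGroup 2 (Subgroup.zpowers x ⊔ Subgroup.zpowers e : Subgroup G) := by
    refine (IsPGroup.of_card (p := 2) (n := 1) (by rw [Nat.card_zpowers, hx, pow_one])
      ).to_sup_of_normal_right' he2g ?_
    rw [Subgroup.zpowers_le, Subgroup.mem_normalizer_iff]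
    intro y
    refine ⟨hep y, fun hy => ?_⟩
    have h1 := hep _ hy
    rw [involution_inv hx, show x * (x * y * x) * x = (x * x) * y * (x * x) by group,
      involution_sq hx, one_mul, mul_one] at h1
    exact h1
  have hxP : x ∈ (Subgroup.zpowers x ⊔ Subgroup.zpowers e : Subgroup G) :=
    Subgroup.mem_sup_left (Subgroup.mem_zpowers x)
  have heP : e ∈ (Subgroup.zpowers x ⊔ Subgroup.zpowers e : Subgroup G) :=
    Subgroup.mem_sup_right (Subgroup.mem_zpowers e)
  have hcx : Commute v' x := by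
    rw [hconj]
    exact commute_of_pgroup T hWT hWc hwc hP hz (hconj ▸ mul_mem hxP heP) hxP
  have hxe : Commute x e := by
    have h1 := hcx.eq
    rw [hv'def, mul_assoc] at h1
    exact (mul_left_cancel h1).symm
  have he2 : e * e = 1 := by
    have hxi : x * e * x⁻¹ = e⁻¹ := by
      rw [hedef, ← zpow_natCast, conj_zpow_of_inverts (conj_mul_eq_inv hx hv), zpow_neg]
    rw [hxe.eq, mul_inv_cancel_right] at hxi
    exact eq_inv_iff_mul_eq_one.1 hxi
  have hene : e ≠ 1 := by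
    intro h
    have h1 := orderOf_dvd_of_pow_eq_one h
    have h2 : Even m := even_iff_two_dvd.2 ((even_iff_two_dvd.1 heven).trans h1)
    rw [hi] at h2
    exact absurd h2 (by simp [parity_simps])
  have heo : orderOf e = 2 := orderOf_eq_two_of hene he2
  have hev : Commute e v := by
    have h1 : Commute e (x * v) := by rw [hedef]; exact (Commute.refl (x * v)).pow_left m
    have h2 := hxe.symm.mul_right h1
    rwa [← mul_assoc, involution_sq hx, one_mul] at h2
  have hv'2 : orderOf v' = 2 := by rw [hconj, Signalizer.orderOf_conj, hz2]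
  -- move `v'` into `W` inside `C(x)`
  set C := Subgroup.centralizer ({x} : Set G)
  have hWC : W ≤ C := fun y hy => Subgroup.mem_centralizer_singleton_iff.2 (hWc y hy x hxT)
  obtain ⟨c, hc, P, hP', hAP, hBP⟩ := exists_conj_sup (C := C) (T.isPGroup'.to_le hWT)
    (IsPGroup.of_card (p := 2) (n := 1) (by rw [Nat.card_zpowers, hv'2, pow_one]) :
      IsPGroup 2 (Subgroup.zpowers v')) hWC
    (Subgroup.zpowers_le.2 (Subgroup.mem_centralizer_singleton_iff.2 hcx))
  have hcv : c * v' * c⁻¹ ∈ W := by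
    have h1 := hBP v' (Subgroup.mem_zpowers _)
    rw [hconj, show ∀ d : G, c * (d * z * d⁻¹) * c⁻¹ = (c * d) * z * (c * d)⁻¹ from
      fun d => by group] at h1 ⊢
    exact mem_of_conj_mem_pgroup T hWT hWc hwc hP' hAP hz h1
  set w'' := c * v' * c⁻¹ with hw''
  have hce : c * e * c⁻¹ = x * w'' := by
    have hcx' : c * x * c⁻¹ = x := by
      rw [Subgroup.mem_centralizer_singleton_iff.1 hc]; group
    calc c * e * c⁻¹ = (c * x * c⁻¹) * (c * (x * e) * c⁻¹) := by
          conv_lhs => rw [← one_mul e, ← involution_sq hx]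
          group
      _ = x * w'' := by rw [hcx', hw'']
  have hx' : x * w'' = (w * w'') * t := by
    rw [hxdef, mul_assoc, mul_assoc, (hWc w'' hcv t htT).eq]
  have hx'2 : orderOf ((w * w'') * t) = 2 := by
    rw [← hx', ← hce, Signalizer.orderOf_conj, heo]
  refine ⟨w * w'', mul_mem hw hcv, hx'2, ?_⟩
  intro _ M _ hM χ hχ
  set D := Subgroup.centralizer ({(w * w'') * t} : Set G) with hD
  have hWD := hcos (w * w'') (mul_mem hw hcv) hx'2
  have hWD' : W ≤ D := fun y hy => Subgroup.mem_centralizer_singleton_iff.2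
    (hWc y hy _ (mul_mem (hWT (mul_mem hw hcv)) htT))
  have hcvD : c * v * c⁻¹ ∈ D := by
    rw [hD, Subgroup.mem_centralizer_singleton_iff, ← hx', ← hce]
    exact ((hev.map (MulAut.conj c).toMonoidHom).symm).eq
  have hv1core : (⟨c * v * c⁻¹, hcvD⟩ : D) ∈ pPrimePCore 2 D := by
    obtain ⟨d, hd, P1, hP1, hA1, hB1⟩ := exists_conj_sup (C := D) (T.isPGroup'.to_le hWT)
      (IsPGroup.of_card (p := 2) (n := 1) (by
        rw [Nat.card_zpowers, Signalizer.orderOf_conj, hv, pow_one]) :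
        IsPGroup 2 (Subgroup.zpowers (c * v * c⁻¹))) hWD' (Subgroup.zpowers_le.2 hcvD)
    have h1 := hB1 _ (Subgroup.mem_zpowers _)
    have e1 : d * (c * v * c⁻¹) * d⁻¹ = (d * c * g) * z * (d * c * g)⁻¹ := by rw [hvdef]; group
    rw [e1] at h1
    have h2 := mem_of_conj_mem_pgroup T hWT hWc hwc hP1 hA1 hz h1
    rw [← e1] at h2
    have h3 : (⟨d, hd⟩ : D) * ⟨c * v * c⁻¹, hcvD⟩ * (⟨d, hd⟩ : D)⁻¹ ∈ pPrimePCore 2 D :=
      hWD (show d * (c * v * c⁻¹) * d⁻¹ ∈ W from h2)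
    have hn : (pPrimePCore 2 D).Normal := by unfold pPrimePCore; infer_instance
    have h4 := hn.conj_mem _ h3 (⟨d, hd⟩ : D)⁻¹
    rwa [show ∀ a b : D, a⁻¹ * (a * b * a⁻¹) * a⁻¹⁻¹ = b from fun a b => by group] at h4
  have hw''D : (⟨w'', hWD' hcv⟩ : D) ∈ pPrimePCore 2 D := hWD (show w'' ∈ W from hcv)
  set p : D := ⟨c * v * c⁻¹, hcvD⟩ * ⟨w'', hWD' hcv⟩ with hpdef
  have hpe : (p : G) = c * ((x * v) ^ (2 * i)) * c⁻¹ := by
    rw [hpdef]
    show c * v * c⁻¹ * (c * (x * e) * c⁻¹) = _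
    rw [hedef, hi, pow_succ' (x * v) (2 * i)]
    have : v * (x * ((x * v) * (x * v) ^ (2 * i))) = (x * v) ^ (2 * i) := by
      rw [← mul_assoc x, ← mul_assoc x x v, involution_sq hx, one_mul, ← mul_assoc,
        involution_sq hv, one_mul]
    calc c * v * c⁻¹ * (c * (x * (x * v * (x * v) ^ (2 * i))) * c⁻¹)
        = c * (v * (x * ((x * v) * (x * v) ^ (2 * i)))) * c⁻¹ := by group
      _ = _ := by rw [this]
  have hpodd : Odd (orderOf p) := by
    rw [← Subgroup.orderOf_coe, hpe, Signalizer.orderOf_conj]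
    refine CfsgLib.ZStar.odd_of_dvd (orderOf_dvd_of_pow_eq_one (n := m) ?_) ⟨i, hi⟩
    rw [← pow_mul, mul_comm, pow_mul, ← hedef, mul_comm 2 i, mul_comm i 2, pow_mul, pow_two, he2,
      one_pow]
  have hp : p ∈ oddCore D := mem_oddCore_of_mem_pPrimePCore (mul_mem hv1core hw''D) hpodd
  have hval := CfsgLib.ZStar.apply_mul_eq_of_mem (p := 2) hM (x := (w * w'') * t)
    ⟨1, by rw [hx'2, pow_one]⟩ (N := oddCore D) inferInstance (fun h2 => by
      rw [← even_iff_two_dvd] at h2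
      exact Nat.not_even_iff_odd.2 (CfsgLib.ZStar.odd_card_oddCore D) h2) hχ (inv_mem hp)
  rw [← hval, ← Char.IsIrr.isClassFunction χ.2 (x * v) c]
  rw [Subgroup.coe_inv, hpe, ← hx', ← hce]
  have : e * ((x * v) ^ (2 * i))⁻¹ = x * v := by
    rw [hedef, hi, pow_succ', mul_inv_cancel_right]
  refine congrArg (χ : G → ℂ) ?_
  calc c * (x * v) * c⁻¹ = c * (e * ((x * v) ^ (2 * i))⁻¹) * c⁻¹ := by rw [this]
    _ = _ := by group

/-- Moments: if `∑ c ω^n = 0` for all `n` then `∑ c · ∏_{s}(ω - a s) = 0`. -/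
theorem sum_mul_prod_eq_zero {ι : Type*} [DecidableEq ι] (A : Finset ι) (c ω : ι → ℂ)
    (h : ∀ n : ℕ, ∑ i ∈ A, c i * ω i ^ n = 0) (S : Finset ι) :
    ∀ n : ℕ, ∑ i ∈ A, c i * ω i ^ n * ∏ s ∈ S, (ω i - ω s) = 0 := by
  induction S using Finset.induction_on with
  | empty => intro n; simpa using h n
  | insert s S hs ih =>
    intro n
    have h1 := ih (n + 1)
    have h2 := ih n
    have : ∑ i ∈ A, c i * ω i ^ n * ∏ u ∈ insert s S, (ω i - ω u) =
        ∑ i ∈ A, (c i * ω i ^ (n + 1) * ∏ u ∈ S, (ω i - ω u)) -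
          ω s * ∑ i ∈ A, (c i * ω i ^ n * ∏ u ∈ S, (ω i - ω u)) := by
      rw [Finset.mul_sum, ← Finset.sum_sub_distrib]
      refine Finset.sum_congr rfl fun i _ => ?_
      rw [Finset.prod_insert hs]
      ring
    rw [this, h1, h2, mul_zero, sub_zero]

/-- A simple group cannot have such a coset. -/
theorem not_isSimpleGroup (T : Sylow 2 G) (W : Subgroup G) (hW1 : W ≠ ⊥)
    (hWZ : W ≤ (T : Subgroup G) ⊓ Subgroup.centralizer ((T : Subgroup G) : Set G))
    (hwc : IsWeaklyClosed W (T : Subgroup G)) (t : G) (ht : orderOf t = 2)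
    (htT : t ∈ (T : Subgroup G)) (htW : t ∉ W)
    (hcos : ∀ w ∈ W, orderOf (w * t) = 2 →
      W.subgroupOf (Subgroup.centralizer ({w * t} : Set G)) ≤
        pPrimePCore 2 (Subgroup.centralizer ({w * t} : Set G))) :
    ¬ IsSimpleGroup G := by
  intro _
  have : Fact (Nat.Prime 2) := ⟨Nat.prime_two⟩
  have hWT : W ≤ (T : Subgroup G) := fun w hw => (hWZ hw).1
  have hWc : ∀ w ∈ W, ∀ s ∈ (T : Subgroup G), Commute w s := fun w hw s hs =>
    (Subgroup.mem_centralizer_iff.1 (hWZ hw).2 s hs).symm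
  obtain ⟨z, hz, hz2⟩ := exists_involution_of_two_group (T.isPGroup'.to_le hWT) hW1
  cases nonempty_fintype G
  obtain ⟨M, hM⟩ := CfsgLib.ZStar.exists_isPModular Nat.prime_two
  have := hM.2.1.isPrime
  set B := (Set.toFinite (principalBlock M G)).toFinset with hB
  have hmem : ∀ χ : IrrCharacter G, χ ∈ B ↔ χ ∈ principalBlock M G := fun χ => by
    rw [hB, Set.Finite.mem_toFinset]
  set ω : IrrCharacter G → ℂ := fun χ => (χ : G → ℂ) z / (χ : G → ℂ) 1 with hω
  have hdeg : ∀ χ : IrrCharacter G, (χ : G → ℂ) 1 ≠ 0 := fun χ => by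
    obtain ⟨d, hd, hd'⟩ := Char.IsIrr.exists_degree χ.2
    rw [hd', Nat.cast_ne_zero]
    omega
  have hG : (Nat.card G : ℂ) ≠ 0 := Nat.cast_ne_zero.2 Nat.card_pos.ne'
  have key : ∀ n : ℕ, ∀ w ∈ W, orderOf (w * t) = 2 →
      ∑ χ ∈ B, (χ : G → ℂ) 1 * (χ : G → ℂ) (w * t) * ω χ ^ n = 0 := by
    intro n
    induction n with
    | zero =>
      intro w hw hx
      have hinv : (w * t)⁻¹ = w * t := involution_inv hx
      have h := CfsgLib.Blocks.sum_block_apply_mul_eq_zero hM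
        (CfsgLib.ZStar.isPBlock_principalBlock (G := G) (M := M))
        (g := 1) (h := w * t) (CfsgLib.Blocks.isPPart_one_of_isPRegular (by simp))
        (show IsPPart 2 (w * t) (w * t) from
          ⟨1, mul_one _, Commute.one_right _, ⟨1, by rw [hx, pow_one]⟩, by simp⟩)
        fun h => involution_ne_one hx (isConj_one_right.1 h)
      rw [finsum_mem_eq_finite_toFinset_sum _ (Set.toFinite _), hinv] at h
      simpa using h
    | succ n ih =>
      intro w hw hx
      choose f hfW hf2 hf using exists_section T hWT hWc hwc htT htW hcos hz hz2 hw hx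
      have hterm : ∀ χ ∈ B, (Nat.card G : ℂ) *
          ((χ : G → ℂ) 1 * (χ : G → ℂ) (w * t) * ω χ ^ (n + 1)) =
          ∑ g : G, (χ : G → ℂ) 1 * (χ : G → ℂ) (f g * t) * ω χ ^ n := by
        intro χ hχ
        have h := CharAction.apply_mul_apply χ.2 (w * t) z
        rw [Finset.sum_congr rfl fun g _ => hf g hM χ ((hmem χ).1 hχ)] at h
        rw [← Finset.sum_mul, ← Finset.mul_sum, pow_succ]
        have h' : (Nat.card G : ℂ) * ((χ : G → ℂ) (w * t) * (χ : G → ℂ) z) * ω χ ^ n =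
            (χ : G → ℂ) 1 * (∑ g : G, (χ : G → ℂ) (f g * t)) * ω χ ^ n := by rw [h]
        rw [← h']
        have h3 : (χ : G → ℂ) 1 * ω χ = (χ : G → ℂ) z := mul_div_cancel₀ _ (hdeg χ)
        rw [← h3]
        ring
      refine mul_left_cancel₀ hG ?_
      rw [mul_zero, Finset.mul_sum, Finset.sum_congr rfl hterm, Finset.sum_comm]
      exact Finset.sum_eq_zero fun g _ => ih _ (hfW g) (hf2 g)
  have h0 := sum_mul_prod_eq_zero B (fun χ => (χ : G → ℂ) 1 * (χ : G → ℂ) t) ω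
    (fun n => by simpa using key n 1 W.one_mem (by rwa [one_mul]))
    (B.erase (Char.trivChar G)) 0
  rw [Finset.sum_eq_single (Char.trivChar G)] at h0
  · simp only [Char.trivChar_apply, one_mul, pow_zero] at h0
    rw [Finset.prod_eq_zero_iff] at h0
    obtain ⟨χ, hχ, hχ0⟩ := h0
    have hne : χ ≠ Char.trivChar G := Finset.ne_of_mem_erase hχ
    rw [hω] at hχ0
    simp only [Char.trivChar_apply, div_one, sub_eq_zero] at hχ0
    have hker : (χ : G → ℂ) z = (χ : G → ℂ) 1 := ((div_eq_one_iff_eq (hdeg χ)).1 hχ0.symm)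
    have hN := CharDegree.kerSubgroup_normal χ
    have hzN : z ∈ CharDegree.kerSubgroup χ := CharDegree.mem_kerSubgroup.2 hker
    rcases IsSimpleGroup.eq_bot_or_eq_top_of_normal _ hN with h | h
    · rw [h, Subgroup.mem_bot] at hzN
      exact involution_ne_one hz2 hzN
    · refine hne ?_
      by_contra hne'
      have hi : Cfsg.classInner (χ : G → ℂ) (Char.trivChar G : G → ℂ) = 0 :=
        Char.classInner_irr_of_ne hne'
      have hconst : (χ : G → ℂ) = (χ : G → ℂ) 1 • (Char.trivChar G : G → ℂ) := funext fun g => by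
        rw [Pi.smul_apply, Char.trivChar_apply, smul_eq_mul, mul_one]
        exact CharDegree.mem_kerSubgroup.1 (h ▸ Subgroup.mem_top g)
      rw [hconst, Char.classInner_smul_left, Char.classInner_irr_self, mul_one] at hi
      exact hdeg χ hi
  · intro χ hχ hne
    rw [Finset.prod_eq_zero (Finset.mem_erase.2 ⟨hne, hχ⟩) (sub_self _), mul_zero]
  · exact fun h => absurd ((hmem _).2 CfsgLib.ZStar.trivChar_mem_principalBlock) h

end CfsgLib.Classical.CentralCoset
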