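import Cfsg.Agent.Lib.Known.Transvections

/-!
`PSL(3, 4)`: no element of order fifteen, one class of involutions.
-/

set_option autoImplicit false

namespace CfsgLib.Classical.PSLThreeFour

open Matrix
open scoped MatrixGroups

/-- Coordinates over the prime field of an element of the field with four elements. -/
abbrev Four := ZMod 2 × ZMod 2

/-- The product of two coordinate pairs, with `w² = w + 1`. -/
def fmul (x y : Four) : Four := (x.1 * y.1 + x.2 * y.2, x.1 * y.2 + x.2 * y.1 + x.2 * y.2)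

/-- The reduction of `X ^ n` modulo `X³ + a X² + b X + 1`, highest coefficient first. -/
def red (a b : Four) : ℕ → Four × Four × Four
  | 0 => (0, 0, (1, 0))
  | n + 1 => let r := red a b n
    (fmul r.1 a + r.2.1, fmul r.1 b + r.2.2, r.1)

theorem red_scalar : ∀ a b : Four, ∃ n ∈ [3, 4, 5, 7], (red a b n).1 = 0 ∧ (red a b n).2.1 = 0 := by
  decide +kernel

variable {F : Type*} [Field F] [Fintype F]

theorem exists_coords (hF : Fintype.card F = 4) :
    ∃ e : Four → F, Function.Surjective e ∧ (∀ x y, e (x + y) = e x + e y) ∧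
      (∀ x y, e (fmul x y) = e x * e y) ∧ e 0 = 0 ∧ e (1, 0) = 1 ∧ (2 : F) = 0 := by
  classical
  have h4 : ∀ x : F, x ^ 4 = x := fun x => hF ▸ FiniteField.pow_card x
  have h2 : (2 : F) = 0 := by
    have h : (4 : F) = 0 := by rw [show (4 : F) = ((Fintype.card F : ℕ) : F) by rw [hF]; norm_num, Nat.cast_card_eq_zero]
    rcases mul_eq_zero.1 (show (2 : F) * 2 = 0 by rw [← h]; norm_num) with e | e <;> exact e
  obtain ⟨w, -, hw⟩ := Finset.exists_mem_notMem_of_card_lt_card (s := ({0, 1} : Finset F))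
    (t := Finset.univ) (Finset.card_le_two.trans_lt (by rw [Finset.card_univ, hF]; norm_num))
  simp at hw
  have hw2 : w * w = w + 1 := by
    have h : w * (w - 1) * (w * w + w + 1) = 0 := by linear_combination h4 w
    have := (mul_eq_zero.1 h).resolve_left (mul_ne_zero hw.1 (sub_ne_zero.2 hw.2))
    linear_combination this - (w + 1) * h2
  have : CharP F 2 := CharTwo.of_one_ne_zero_of_two_eq_zero one_ne_zero h2
  let c : ZMod 2 →+* F := ZMod.castHom (dvd_refl 2) F
  refine ⟨fun x => c x.1 + c x.2 * w, ?_, ?_, ?_, by simp, by simp, h2⟩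
  · have hinj : Function.Injective fun x : Four => c x.1 + c x.2 * w := by
      rintro ⟨a, b⟩ ⟨a', b'⟩ h
      simp only at h
      by_cases hb : b = b'
      · subst hb
        rw [add_left_inj] at h
        rw [c.injective h]
      · exfalso
        have hb' : b' = b + 1 := (by decide : ∀ u v : ZMod 2, u ≠ v → v = u + 1) b b' hb
        rw [hb', map_add, map_one] at h
        have hw' : w = c a - c a' := by linear_combination -h
        rw [← map_sub] at hw'
        rcases (by decide : ∀ u : ZMod 2, u = 0 ∨ u = 1) (a - a') with e | e <;> rw [e] at hw'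
        · exact hw.1 (by simpa using hw')
        · exact hw.2 (by simpa using hw')
    exact ((Fintype.bijective_iff_injective_and_card _).2 ⟨hinj, by simp [hF]⟩).2
  · rintro ⟨a, b⟩ ⟨a', b'⟩
    simp only [Prod.mk_add_mk, map_add]
    ring
  · rintro ⟨a, b⟩ ⟨a', b'⟩
    simp only [fmul, map_add, map_mul]
    linear_combination -(c b * c b') * hw2

theorem exists_pow_scalar (hF : Fintype.card F = 4) (g : SL(3, F)) :
    ∃ n ∈ [3, 4, 5, 7], ∃ c : F, (g : Matrix (Fin 3) (Fin 3) F) ^ n = c • 1 := by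
  classical
  obtain ⟨e, hsurj, hadd, hmul, h0, h1, h2⟩ := exists_coords hF
  set A := (g : Matrix (Fin 3) (Fin 3) F)
  have hd : A.det = 1 := g.2
  rw [Matrix.det_fin_three] at hd
  -- Cayley–Hamilton
  set t := A 0 0 + A 1 1 + A 2 2 with ht
  set m := A 0 0 * A 1 1 - A 0 1 * A 1 0 + (A 0 0 * A 2 2 - A 0 2 * A 2 0) + (A 1 1 * A 2 2 - A 1 2 * A 2 1) with hm
  obtain ⟨a, ha⟩ := hsurj t
  obtain ⟨b, hb⟩ := hsurj m
  have hneg : ∀ x : F, -x = x := fun x => by linear_combination -x * h2
  have hCH : A ^ 3 = t • A ^ 2 + m • A + 1 := by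
    have h : A ^ 3 = t • A ^ 2 - m • A + 1 := by
      rw [pow_succ, pow_two]
      ext i j
      fin_cases i <;> fin_cases j <;>
        simp [Matrix.mul_apply, Fin.sum_univ_three, ht, hm] <;>
        first | ring1 | linear_combination hd
    rw [h, sub_eq_add_neg, ← neg_smul, hneg]
  have hred : ∀ n, A ^ n = e (red a b n).1 • A ^ 2 + e (red a b n).2.1 • A + e (red a b n).2.2 • 1 := by
    intro n
    induction n with
    | zero =>
      rw [pow_zero]
      simp [red, h0, h1]
    | succ n ih =>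
      rw [pow_succ, ih]
      simp only [red, hadd, hmul, ha, hb, add_mul, smul_mul_assoc, ← pow_succ, one_mul, ← pow_two]
      rw [show (2 + 1 : ℕ) = 3 by rfl, hCH]
      simp only [smul_add, smul_smul, add_smul]
      module
  obtain ⟨n, hn, hn1, hn2⟩ := red_scalar a b
  exact ⟨n, hn, e (red a b n).2.2, by rw [hred n, hn1, hn2, h0, zero_smul, zero_smul, zero_add, zero_add]⟩

theorem orderOf_ne_fifteen (hF : Fintype.card F = 4) (g : ProjectiveSpecialLinearGroup (Fin 3) F) :
    orderOf g ≠ 15 := by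
  classical
  obtain ⟨X, rfl⟩ := QuotientGroup.mk_surjective g
  obtain ⟨n, hn, c, hc⟩ := exists_pow_scalar hF X
  intro h15
  have h : (X : ProjectiveSpecialLinearGroup (Fin 3) F) ^ n = 1 := by
    rw [← QuotientGroup.mk_pow, QuotientGroup.eq_one_iff, Matrix.SpecialLinearGroup.mem_center_iff]
    refine ⟨c, ?_, ?_⟩
    · have h := congrArg Matrix.det hc
      rw [Matrix.det_pow, Matrix.det_smul, Matrix.det_one, mul_one, show (X : Matrix (Fin 3) (Fin 3) F).det = 1 from X.2, one_pow] at h
      exact h.symm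
    · rw [Matrix.SpecialLinearGroup.coe_pow, hc]
      simp [Matrix.smul_one_eq_diagonal]
  have hd := orderOf_dvd_of_pow_eq_one h
  rw [h15] at hd
  simp at hn
  rcases hn with rfl | rfl | rfl | rfl <;> omega

theorem exists_involution_lift (hF : Fintype.card F = 4) {x : ProjectiveSpecialLinearGroup (Fin 3) F}
    (hx : orderOf x = 2) :
    ∃ X : SL(3, F), (X : ProjectiveSpecialLinearGroup (Fin 3) F) = x ∧
      Cfsg.IsTransvection (X : Matrix (Fin 3) (Fin 3) F) := by
  classical
  obtain ⟨Y, rfl⟩ := QuotientGroup.mk_surjective x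
  have h := pow_orderOf_eq_one (Y : ProjectiveSpecialLinearGroup (Fin 3) F)
  rw [hx, ← QuotientGroup.mk_pow, QuotientGroup.eq_one_iff, Matrix.SpecialLinearGroup.mem_center_iff] at h
  obtain ⟨r, hr3, hr⟩ := h
  rw [Fintype.card_fin] at hr3
  have hr0 : r ≠ 0 := fun e => by simp [e] at hr3
  obtain ⟨-, -, -, -, -, -, h2⟩ := exists_coords hF
  have hrr : r * (r * r) = 1 := by linear_combination hr3
  let X : SL(3, F) := ⟨r • (Y : Matrix (Fin 3) (Fin 3) F), by
    rw [Matrix.det_smul, Fintype.card_fin, hr3, show (Y : Matrix (Fin 3) (Fin 3) F).det = 1 from Y.2, one_mul]⟩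
  have hXY : (X : ProjectiveSpecialLinearGroup (Fin 3) F) = Y := by
    rw [QuotientGroup.eq, Matrix.SpecialLinearGroup.mem_center_iff]
    refine ⟨r * r, by rw [Fintype.card_fin]; linear_combination (r ^ 3 + 1) * hr3, ?_⟩
    have e : (X⁻¹ : SL(3, F)).1 * (Y : Matrix (Fin 3) (Fin 3) F) = (r * r) • 1 := by
      have h1 : (X⁻¹ : SL(3, F)).1 * (r • (Y : Matrix (Fin 3) (Fin 3) F)) = 1 :=
        congrArg Subtype.val (inv_mul_cancel X)
      rw [Matrix.mul_smul] at h1
      rw [← h1, smul_smul, show r * r * r = 1 by linear_combination hrr, one_smul]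
    show Matrix.scalar (Fin 3) (r * r) = (X⁻¹ : SL(3, F)).1 * (Y : Matrix (Fin 3) (Fin 3) F)
    rw [e]
    simp [Matrix.smul_one_eq_diagonal]
  have hXX : (X : Matrix (Fin 3) (Fin 3) F) * X = 1 := by
    show (r • (Y : Matrix (Fin 3) (Fin 3) F)) * (r • (Y : Matrix (Fin 3) (Fin 3) F)) = 1
    have hr' : (Y : Matrix (Fin 3) (Fin 3) F) * Y = Matrix.scalar (Fin 3) r := by
      rw [hr, Matrix.SpecialLinearGroup.coe_pow, pow_two]
    rw [smul_mul_smul_comm, hr', Matrix.scalar_apply, ← Matrix.smul_one_eq_diagonal, smul_smul,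
      show r * r * r = 1 by linear_combination hrr, one_smul]
  refine ⟨X, hXY, ?_⟩
  set N := (X : Matrix (Fin 3) (Fin 3) F) - 1 with hN
  have hNN : N * N = 0 := by
    rw [hN, sub_mul, mul_sub, mul_sub, hXX, one_mul, mul_one, one_mul]
    have : (2 : F) • ((1 : Matrix (Fin 3) (Fin 3) F) - X) = 0 := by rw [h2, zero_smul]
    rw [← this, two_smul]
    abel
  have hN0 : N ≠ 0 := by
    intro e
    have hX1 : X = 1 := Subtype.ext (sub_eq_zero.1 e)
    rw [← hXY, hX1] at hx
    simp at hx
  refine ⟨?_, hNN⟩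
  have hle : LinearMap.range N.mulVecLin ≤ LinearMap.ker N.mulVecLin := by
    rintro _ ⟨v, rfl⟩
    simp [Matrix.mulVec_mulVec, hNN]
  have h1 := Submodule.finrank_mono hle
  have h3 := LinearMap.finrank_range_add_finrank_ker N.mulVecLin
  rw [Module.finrank_pi, Fintype.card_fin] at h3
  have hpos : 0 < Module.finrank F (LinearMap.range N.mulVecLin) := by
    rw [Nat.pos_iff_ne_zero, Ne, Submodule.finrank_eq_zero, LinearMap.range_eq_bot]
    intro e
    exact hN0 (Matrix.toLin'.injective (by rw [Matrix.toLin'_apply', e, map_zero]))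
  show N.rank = 1
  rw [Matrix.rank]
  omega

theorem involutions_conj (hF : Fintype.card F = 4) {x y : ProjectiveSpecialLinearGroup (Fin 3) F}
    (hx : orderOf x = 2) (hy : orderOf y = 2) : IsConj x y := by
  obtain ⟨X, rfl, hX⟩ := exists_involution_lift hF hx
  obtain ⟨Y, rfl, hY⟩ := exists_involution_lift hF hy
  exact (QuotientGroup.mk' _).map_isConj (CfsgLib.Known.Transvections.isConj_sl le_rfl X Y hX hY)

end CfsgLib.Classical.PSLThreeFour
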