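import Cfsg.Prelude.Def_ClassicalGeometry
import Mathlib.LinearAlgebra.SymplecticGroup
import Mathlib.Algebra.Field.ZMod

/-!
Matrix groups of isometries and ring isomorphisms; fields of two and three elements.
-/

set_option autoImplicit false

namespace CfsgLib.Classical

open scoped Matrix

variable {R S : Type*} [Field R] [Field S] {ι : Type} [Fintype ι] [DecidableEq ι]

theorem map_mulVec_eq (e : R ≃+* S) (A : Matrix ι ι R) (u : ι → S) :
    A.map e *ᵥ u = e ∘ (A *ᵥ (e.symm ∘ u)) := by
  funext i
  simp [Matrix.mulVec, dotProduct]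

theorem isometryGroup_map_mem (e : R ≃+* S) {Q : (ι → R) → R} {Q' : (ι → S) → S}
    (h : ∀ v, Q' (e ∘ v) = e (Q v)) {g : Matrix.GeneralLinearGroup ι R}
    (hg : g ∈ Cfsg.isometryGroup R Q) :
    Matrix.GeneralLinearGroup.map (e : R →+* S) g ∈ Cfsg.isometryGroup S Q' := by
  intro u v
  show Q' ((g.1.map e) *ᵥ u) = Q' u
  rw [map_mulVec_eq, h]
  have h1 : Q (g.1 *ᵥ (e.symm ∘ u)) = Q (e.symm ∘ u) := hg (e.symm ∘ u) (e.symm ∘ v)
  rw [h1, ← h]
  congr 1
  funext i
  simp

/-- Transport of a matrix isometry group along a ring isomorphism. -/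
def isometryGroupMap (e : R ≃+* S) {Q : (ι → R) → R} {Q' : (ι → S) → S}
    (h : ∀ v, Q' (e ∘ v) = e (Q v)) : Cfsg.isometryGroup R Q ≃* Cfsg.isometryGroup S Q' where
  toFun g := ⟨_, isometryGroup_map_mem e h g.2⟩
  invFun g := ⟨_, isometryGroup_map_mem (Q := Q') (Q' := Q) e.symm (fun v => by
    apply e.injective
    rw [← h]
    simp [Function.comp_def]) g.2⟩
  left_inv g := by
    apply Subtype.ext
    apply Units.ext
    ext i j
    simp [Matrix.GeneralLinearGroup.map]
  right_inv g := by
    apply Subtype.ext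
    apply Units.ext
    ext i j
    simp [Matrix.GeneralLinearGroup.map]
  map_mul' g g' := Subtype.ext (map_mul _ _ _)

theorem isometryGroupMap_det (e : R ≃+* S) {Q : (ι → R) → R} {Q' : (ι → S) → S}
    (h : ∀ v, Q' (e ∘ v) = e (Q v)) (g : Cfsg.isometryGroup R Q) :
    ((isometryGroupMap e h g : Matrix.GeneralLinearGroup ι S) : Matrix ι ι S).det =
      e ((g : Matrix.GeneralLinearGroup ι R) : Matrix ι ι R).det :=
  (RingHom.map_det (e : R →+* S) _).symm

/-- Transport of the symplectic group along a ring isomorphism. -/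
def symplecticMap (e : R ≃+* S) (l : Type) [Fintype l] [DecidableEq l] :
    Matrix.symplecticGroup l R ≃* Matrix.symplecticGroup l S where
  toFun A := ⟨A.1.map e, by
    have h := SymplecticGroup.mem_iff.1 A.2
    rw [SymplecticGroup.mem_iff]
    have h' := congrArg (fun M : Matrix (l ⊕ l) (l ⊕ l) R => M.map e) h
    simpa [Matrix.map_mul, Matrix.transpose_map, Matrix.J, Matrix.fromBlocks_map, Matrix.map_neg, map_neg] using h'⟩
  invFun A := ⟨A.1.map e.symm, by
    have h := SymplecticGroup.mem_iff.1 A.2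
    rw [SymplecticGroup.mem_iff]
    have h' := congrArg (fun M : Matrix (l ⊕ l) (l ⊕ l) S => M.map e.symm) h
    simpa [Matrix.map_mul, Matrix.transpose_map, Matrix.J, Matrix.fromBlocks_map, Matrix.map_neg, map_neg] using h'⟩
  left_inv A := by
    apply Subtype.ext
    ext i j
    simp
  right_inv A := by
    apply Subtype.ext
    ext i j
    simp
  map_mul' A B := Subtype.ext (Matrix.map_mul (f := (e : R →+* S)))

theorem exists_zmod_equiv (F : Type*) [Field F] [Fintype F] {p : ℕ} [Fact p.Prime]
    (hF : Fintype.card F = p) : Nonempty (ZMod p ≃+* F) :=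
  ⟨ZMod.ringEquivOfPrime F Fact.out hF⟩

theorem nonempty_mulEquiv_of_injective {G H : Type*} [Group G] [Group H] [Finite H]
    (f : G →* H) (hf : Function.Injective f) (hc : Nat.card H ≤ Nat.card G) : Nonempty (H ≃* G) := by
  have : Finite G := Finite.of_injective f hf
  exact ⟨(MulEquiv.ofBijective f ((Nat.bijective_iff_injective_and_card f).2
    ⟨hf, le_antisymm (Nat.card_le_card_of_injective f hf) hc⟩)).symm⟩

end CfsgLib.Classical
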