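import Cfsg.Agent.Lib.Classical.PermModule

/-!
The isometry groups in dimensions four and six over the field with two elements.
-/

set_option autoImplicit false

namespace CfsgLib.Classical

open scoped Matrix

/-- Projection rows for eight letters. -/
def rowsEight : Matrix (Fin 3 ⊕ Fin 3) (Fin 8) (ZMod 2) :=
  Matrix.of (Sum.elim
    ![![0,0,0,1,1,1,1,0], ![0,0,1,1,1,0,0,1], ![0,1,1,0,1,0,1,0]]
    ![![1,1,1,1,0,0,0,0], ![1,1,0,0,1,1,0,0], ![1,0,1,0,1,0,1,0]])

/-- Section rows for eight letters. -/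
def colsEight : Matrix (Fin 8) (Fin 3 ⊕ Fin 3) (ZMod 2) :=
  Matrix.of fun i x => rowsEight x.swap i

/-- The even section on eight letters. -/
def sectionEight : EvenSection 8 (Fin 3 ⊕ Fin 3 → ZMod 2) where
  T := Matrix.mulVecLin rowsEight
  S := Matrix.mulVecLin colsEight
  TS := by decide +kernel
  T_one := by decide +kernel
  sum_S := by decide +kernel
  ST := by decide +kernel

theorem isometryGroup_plus_six_two {F : Type*} [Field F] [Fintype F] (hF : Fintype.card F = 2) :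
    Nonempty (↥(Cfsg.isometryGroup F (Cfsg.quadFormPlus 3 F)) ≃* Equiv.Perm (Fin 8)) := by
  obtain ⟨e⟩ := exists_zmod_equiv F (p := 2) hF
  have h : ∀ v : Fin 8 → ZMod 2, ∑ i, v i = 0 →
      Cfsg.quadFormPlus 3 (ZMod 2) (sectionEight.T v) = halfWeight v := by decide +kernel
  obtain ⟨f, hf⟩ := exists_embedding_isometryGroup (by norm_num) (Quad.qPlus 3 (ZMod 2))
    sectionEight (fun v hv => by rw [Quad.coe_qPlus]; exact h v hv)
  let t := isometryGroupMap e (Q := ⇑(Quad.qPlus 3 (ZMod 2))) (Q' := Cfsg.quadFormPlus 3 F)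
    fun v => by simp [Quad.coe_qPlus, Cfsg.quadFormPlus, map_sum]
  refine nonempty_mulEquiv_of_injective (t.toMonoidHom.comp f) (t.injective.comp hf) ?_
  rw [← Nat.card_congr t.toEquiv, Quad.card_isometryGroup_eq (Quad.qPlus 3 (ZMod 2)) rfl,
    Quad.card_OQ_qPlus (ZMod.card 2) 2, Nat.card_perm, Nat.card_eq_fintype_card, Fintype.card_fin]
  simp [Finset.prod_range_succ, Nat.factorial]

/-- Projection rows for five letters. -/
def rowsFive : Matrix ((Fin 1 ⊕ Fin 1) ⊕ Fin 2) (Fin 5) (ZMod 2) :=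
  Matrix.of (Sum.elim (Sum.elim ![![1,1,1,0,1]] ![![1,1,1,1,0]]) ![![0,1,1,0,0], ![1,1,0,0,0]])

/-- Section columns for five letters. -/
def colsFive : Matrix (Fin 5) ((Fin 1 ⊕ Fin 1) ⊕ Fin 2) (ZMod 2) :=
  Matrix.of fun i x =>
    (Sum.elim (Sum.elim ![![1,1,1,1,0]] ![![1,1,1,0,1]]) ![![1,1,0,0,0], ![0,1,1,0,0]]) x i

/-- The even section on five letters. -/
def sectionFive : EvenSection 5 ((Fin 1 ⊕ Fin 1) ⊕ Fin 2 → ZMod 2) where
  T := Matrix.mulVecLin rowsFive
  S := Matrix.mulVecLin colsFive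
  TS := by decide +kernel
  T_one := by decide +kernel
  sum_S := by decide +kernel
  ST := by decide +kernel

theorem isometryGroup_minus_four_two {F : Type*} [Field F] [Fintype F] (hF : Fintype.card F = 2) :
    Nonempty (↥(Cfsg.isometryGroup F (Cfsg.quadFormMinus 1 F 1 1)) ≃* Equiv.Perm (Fin 5)) := by
  obtain ⟨e⟩ := exists_zmod_equiv F (p := 2) hF
  have h : ∀ v : Fin 5 → ZMod 2, ∑ i, v i = 0 →
      Cfsg.quadFormMinus 1 (ZMod 2) 1 1 (sectionFive.T v) = halfWeight v := by decide +kernel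
  obtain ⟨f, hf⟩ := exists_embedding_isometryGroup le_rfl (Quad.qMinus 1 (ZMod 2) 1 1)
    sectionFive (fun v hv => by rw [Quad.coe_qMinus]; exact h v hv)
  have hsq : ∀ x : ZMod 2, e x ^ 2 = e x := fun x => by
    rw [← map_pow, ZMod.pow_card]
  let t := isometryGroupMap e (Q := ⇑(Quad.qMinus 1 (ZMod 2) 1 1))
    (Q' := Cfsg.quadFormMinus 1 F 1 1)
    fun v => by simp [Quad.coe_qMinus, Cfsg.quadFormMinus, hsq]
  refine nonempty_mulEquiv_of_injective (t.toMonoidHom.comp f) (t.injective.comp hf) ?_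
  rw [← Nat.card_congr t.toEquiv, Quad.card_isometryGroup_eq (Quad.qMinus 1 (ZMod 2) 1 1) rfl,
    Quad.card_OQ_qMinus (ZMod.card 2) 1 (by decide +kernel), Nat.card_perm, Nat.card_eq_fintype_card,
    Fintype.card_fin]
  simp [Finset.prod_range_succ, Nat.factorial]

end CfsgLib.Classical
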