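import Cfsg.Agent.Lib.ZStar.Main
import Cfsg.Agent.Lib.PLocal.PConstrained
import Cfsg.Agent.Lib.LocalEvenB.CharP
import Cfsg.Agent.Lib.LocalEvenB.CoresGenerateOdd
import Cfsg.Agent.Lib.Signalizer.Transitivity
import Cfsg.Agent.Lib.Core.Coprime

/-!
Simple groups with 2-constrained 2-locals and an `SCN₃(2)` subgroup, all of whose odd signalizers
are trivial: some maximal 2-local has noncyclic `Z(O₂(M))`.

* `cent_oddCore_trivial`: `O(C(y)) = 1` for every involution.
-/

set_option autoImplicit false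

namespace CfsgLib.Classical.TwoType

open Cfsg Subgroup

universe u

variable {G : Type u} [Group G] [Finite G]

/-- `O(C(b))` in the ambient group. -/
def oC (b : G) : Subgroup G :=
  (Cfsg.oddCore ↥(centralizer ({b} : Set G))).map (centralizer ({b} : Set G)).subtype

/-- The hypotheses. -/
structure Hyp (S : Sylow 2 G) (E : Subgroup G) : Prop where
  elem : Cfsg.IsElementaryAbelian 2 E
  card : 8 ≤ Nat.card E
  le : E ≤ (S : Subgroup G)
  norm : (S : Subgroup G) ≤ normalizer (E : Set G)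
  inv : ∀ X : Subgroup G, Odd (Nat.card X) → (S : Subgroup G) ≤ normalizer (X : Set G) → X = ⊥
  con : ∀ b : G, orderOf b = 2 → Cfsg.IsPConstrained 2 ↥(centralizer ({b} : Set G))

omit [Finite G] in
theorem normalizer_zpowers {b : G} (hb : orderOf b = 2) :
    normalizer (zpowers b : Set G) = centralizer ({b} : Set G) := by
  ext g
  rw [mem_normalizer_iff, mem_centralizer_singleton_iff]
  have hb2 : b ^ 2 = 1 := hb ▸ pow_orderOf_eq_one b
  have hz : ∀ y : G, y ∈ zpowers b ↔ y = 1 ∨ y = b := by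
    intro y
    refine ⟨fun hy => ?_, ?_⟩
    · obtain ⟨k, rfl⟩ := mem_zpowers_iff.1 hy
      rw [zpow_eq_zpow_emod' k (n := 2) hb2]
      rcases Int.emod_two_eq k with h | h <;> simp [h]
    · rintro (rfl | rfl)
      · exact one_mem _
      · exact mem_zpowers y
  constructor
  · intro h
    rcases (hz _).1 ((h b).1 (mem_zpowers b)) with h' | h'
    · rw [mul_inv_eq_one, mul_eq_left] at h'
      simp [h'] at hb
    · exact mul_inv_eq_iff_eq_mul.1 h'
  · intro h y
    rw [hz, hz]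
    constructor
    · rintro (rfl | rfl)
      · left; group
      · right; rw [h, mul_inv_cancel_right]
    · rintro (h' | h')
      · left; rwa [mul_inv_eq_one, mul_eq_left] at h'
      · right
        refine mul_left_cancel (a := g) (mul_right_cancel (b := g⁻¹) ?_)
        rw [h', h, mul_inv_cancel_right]

theorem odd_oC (b : G) : Odd (Nat.card (oC b)) := by
  rw [oC, card_map_of_injective (Subgroup.subtype_injective _)]
  exact CfsgLib.ZStar.odd_card_oddCore _

theorem le_oC {b : G} {X : Subgroup G} (hX : Odd (Nat.card X))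
    (hle : X ≤ centralizer ({b} : Set G)) (hn : centralizer ({b} : Set G) ≤ normalizer (X : Set G)) :
    X ≤ oC b := by
  have : (X.subgroupOf (centralizer ({b} : Set G))).Normal := ⟨fun x hx g =>
    (mem_normalizer_iff.1 (hn g.2) _).1 hx⟩
  have hodd : Odd (Nat.card (X.subgroupOf (centralizer ({b} : Set G)))) := by
    rwa [Nat.card_congr (subgroupOfEquivOfLe hle).toEquiv]
  intro x hx
  exact ⟨⟨x, hle hx⟩, CfsgLib.ZStar.le_oddCore this hodd hx, rfl⟩

theorem oC_le (b : G) : oC b ≤ centralizer ({b} : Set G) := map_subtype_le _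

theorem le_normalizer_oC (b : G) : centralizer ({b} : Set G) ≤ normalizer (oC b : Set G) := by
  have h := le_normalizer_map (H := Cfsg.oddCore ↥(centralizer ({b} : Set G)))
    (centralizer ({b} : Set G)).subtype
  rw [normalizer_eq_top, ← MonoidHom.range_eq_map, range_subtype] at h
  exact h

omit [Finite G] in
theorem conj_centralizer {g b x : G} :
    x ∈ centralizer ({g * b * g⁻¹} : Set G) ↔ g⁻¹ * x * g ∈ centralizer ({b} : Set G) := by
  rw [mem_centralizer_singleton_iff, mem_centralizer_singleton_iff]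
  constructor
  · intro h
    calc g⁻¹ * x * g * b = g⁻¹ * (x * (g * b * g⁻¹)) * g := by group
      _ = g⁻¹ * (g * b * g⁻¹ * x) * g := by rw [h]
      _ = _ := by group
  · intro h
    calc x * (g * b * g⁻¹) = g * (g⁻¹ * x * g * b) * g⁻¹ := by group
      _ = g * (b * (g⁻¹ * x * g)) * g⁻¹ := by rw [h]
      _ = _ := by group

theorem map_oC_le (g b : G) : (oC b).map (MulAut.conj g).toMonoidHom ≤ oC (g * b * g⁻¹) := by
  refine le_oC ?_ ?_ ?_
  · rw [CfsgLib.Transfer.card_map_conj]; exact odd_oC b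
  · rintro _ ⟨x, hx, rfl⟩
    exact conj_centralizer.2 (by simpa [mul_assoc] using oC_le b hx)
  · intro c hc
    have hc' := conj_centralizer.1 hc
    rw [mem_normalizer_iff]
    intro y
    rw [CfsgLib.Transfer.mem_map_conj, CfsgLib.Transfer.mem_map_conj,
      show g⁻¹ * (c * y * c⁻¹) * g = (g⁻¹ * c * g) * (g⁻¹ * y * g) * (g⁻¹ * c * g)⁻¹ by group]
    exact mem_normalizer_iff.1 (le_normalizer_oC b hc') _

theorem balance {S : Sylow 2 G} {E : Subgroup G} (h : Hyp S E) {a b : G} (ha : orderOf a = 2)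
    (hb : orderOf b = 2) (hab : a * b = b * a) :
    oC a ⊓ centralizer ({b} : Set G) ≤ oC b := by
  set H := centralizer ({b} : Set G) with hH
  have : Fact (Nat.Prime 2) := ⟨Nat.prime_two⟩
  let a' : H := ⟨a, mem_centralizer_singleton_iff.2 hab⟩
  have ha' : orderOf a' = 2 := by rw [← Subgroup.orderOf_coe]; exact ha
  have hc := CfsgLib.PLocal.isPConstrained_iff.1 (h.con b hb)
  have key := (CfsgLib.PLocal.local_of_pConstrained hc (P := zpowers a')
    (IsPGroup.of_card (n := 1) (by rw [Nat.card_zpowers, ha', pow_one]))).1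
  rw [normalizer_zpowers ha'] at key
  rintro x ⟨hxa, hxb⟩
  let Y : Subgroup H := (oC a).subgroupOf H
  have hY : (⟨x, hxb⟩ : H) ∈ Y := hxa
  have hYle : Y ≤ centralizer ({a'} : Set H) := fun y hy =>
    mem_centralizer_singleton_iff.2 (Subtype.ext (mem_centralizer_singleton_iff.1 (oC_le a hy)))
  have hYn : (Y.subgroupOf (centralizer ({a'} : Set H))).Normal := ⟨fun y hy g => by
    have hg : ((g : H) : G) ∈ centralizer ({a} : Set G) :=
      mem_centralizer_singleton_iff.2 (congrArg Subtype.val (mem_centralizer_singleton_iff.1 g.2))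
    exact (mem_normalizer_iff.1 (le_normalizer_oC a hg) _).1 hy⟩
  have hYo : Odd (Nat.card (Y.subgroupOf (centralizer ({a'} : Set H)))) :=
    CfsgLib.ZStar.odd_of_dvd ((card_dvd_of_injective
      (MonoidHom.mk' (fun y : Y.subgroupOf (centralizer ({a'} : Set H)) =>
        (⟨(((y : centralizer ({a'} : Set H)) : H) : G), y.2⟩ : oC a)) fun _ _ => rfl)
      fun y y' hyy => Subtype.ext (Subtype.ext (Subtype.ext (congrArg (fun z : oC a => (z : G)) hyy)))))
      (odd_oC a)
  have hmem : (⟨x, hxb⟩ : H) ∈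
      (Cfsg.oddCore ↥(centralizer ({a'} : Set H))).map (centralizer ({a'} : Set H)).subtype :=
    ⟨⟨_, hYle hY⟩, CfsgLib.ZStar.le_oddCore hYn hYo hY, rfl⟩
  rw [show (Cfsg.oddCore ↥(centralizer ({a'} : Set H))).map (centralizer ({a'} : Set H)).subtype =
    Cfsg.pPrimeCore 2 ↥H ⊓ centralizer ({a'} : Set H) from key] at hmem
  exact ⟨⟨x, hxb⟩, hmem.1, rfl⟩

theorem orderOf_E {S : Sylow 2 G} {E : Subgroup G} (h : Hyp S E) {a : G} (ha : a ∈ E) (ha1 : a ≠ 1) :
    orderOf a = 2 := orderOf_eq_prime (h.elem.2 a ha) ha1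

theorem exists_central {S : Sylow 2 G} {E : Subgroup G} (h : Hyp S E) :
    ∃ z ∈ E, z ≠ 1 ∧ ∀ s ∈ (S : Subgroup G), s * z = z * s := by
  have : Fact (Nat.Prime 2) := ⟨Nat.prime_two⟩
  let _ : MulAction (S : Subgroup G) E :=
    { smul := fun s e => ⟨(s : G) * e * (s : G)⁻¹, (mem_normalizer_iff.1 (h.norm s.2) _).1 e.2⟩
      one_smul := fun e => Subtype.ext (by show (1 : G) * e * 1⁻¹ = e; group)
      mul_smul := fun s t e => Subtype.ext (by
        show ((s : G) * t) * e * ((s : G) * t)⁻¹ = (s : G) * ((t : G) * e * (t : G)⁻¹) * (s : G)⁻¹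
        group) }
  have hE2 : IsPGroup 2 E := fun x => ⟨1, Subtype.ext (by simpa using h.elem.2 x x.2)⟩
  have hdvd : 2 ∣ Nat.card E := by
    obtain ⟨k, hk⟩ := hE2.exists_card_eq
    rw [hk]
    refine dvd_pow_self 2 fun hk0 => ?_
    have := h.card
    rw [hk, hk0] at this
    norm_num at this
  obtain ⟨z, hz, hz1⟩ := S.isPGroup'.exists_fixed_point_of_prime_dvd_card_of_fixed_point E hdvd
    (a := 1) (fun s => Subtype.ext (by show (s : G) * 1 * (s : G)⁻¹ = 1; group))
  refine ⟨z, z.2, fun e => hz1 (Subtype.ext e.symm), fun s hs => ?_⟩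
  exact mul_inv_eq_iff_eq_mul.1 (congrArg Subtype.val (hz ⟨s, hs⟩))

/-- Members are permuted by any element fixing the data. -/
theorem map_mem_family {E : Subgroup G} {U : Subgroup G}
    (hU : U ∈ Cfsg.signalizerFamily 2 E oC) {g : G} (hg : g ∈ normalizer (E : Set G)) :
    U.map (MulAut.conj g).toMonoidHom ∈ Cfsg.signalizerFamily 2 E oC := by
  obtain ⟨hsol, hodd, hinv, hbal⟩ := hU
  refine ⟨haveI := hsol; solvable_of_surjective ((MulAut.conj g).toMonoidHom.subgroupMap_surjective U),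
    by rw [CfsgLib.Transfer.card_map_conj]; exact hodd, ?_, ?_⟩
  · rintro b hb _ ⟨u, hu, rfl⟩
    refine ⟨(g⁻¹ * b * g) * u * (g⁻¹ * b * g)⁻¹, hinv _ ?_ u hu, ?_⟩
    · simpa using (mem_normalizer_iff.1 (inv_mem hg) b).1 hb
    · show g * _ * g⁻¹ = b * (g * u * g⁻¹) * b⁻¹
      group
  · intro a ha ha1 x hx
    obtain ⟨⟨u, hu, rfl⟩, hxa⟩ := hx
    have ha' : g⁻¹ * a * g ∈ E := by simpa using (mem_normalizer_iff.1 (inv_mem hg) a).1 ha
    have ha1' : g⁻¹ * a * g ≠ 1 := fun e => ha1 (by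
      calc a = g * (g⁻¹ * a * g) * g⁻¹ := by group
        _ = 1 := by rw [e]; group)
    have hua : u ∈ centralizer ({g⁻¹ * a * g} : Set G) := by
      have e : g * (g⁻¹ * a * g) * g⁻¹ = a := by group
      rw [← e] at hxa
      simpa [mul_assoc] using conj_centralizer.1 hxa
    have := map_oC_le g (g⁻¹ * a * g) ⟨u, hbal _ ha' ha1' ⟨hu, hua⟩, rfl⟩
    rwa [show g * (g⁻¹ * a * g) * g⁻¹ = a by group] at this

theorem oC_trivial_E {S : Sylow 2 G} {E : Subgroup G} (h : Hyp S E) {a₀ : G} (ha₀ : a₀ ∈ E)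
    (ha₀1 : a₀ ≠ 1) : oC a₀ = ⊥ := by
  classical
  have : Fact (Nat.Prime 2) := ⟨Nat.prime_two⟩
  obtain ⟨z, hzE, hz1, hzS⟩ := exists_central h
  have hcomm : ∀ a ∈ E, ∀ b ∈ E, a * b = b * a := fun a ha b hb =>
    congrArg Subtype.val (h.elem.1.is_comm.comm (⟨a, ha⟩ : E) ⟨b, hb⟩)
  -- `O(C(z))` is normalised by `S`
  have hoz : oC z = ⊥ := h.inv _ (odd_oC z) fun s hs =>
    le_normalizer_oC z (mem_centralizer_singleton_iff.2 (hzS s hs))
  -- so `z` inverts every `O(C(a))`
  have hinvert : ∀ a ∈ E, a ≠ 1 → ∀ x ∈ oC a, z * x * z⁻¹ = x⁻¹ := by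
    intro a ha ha1
    refine CfsgLib.LocalEvenB.inverts_of_fixedPointFree (h.elem.2 z hzE)
      (le_normalizer_oC a (mem_centralizer_singleton_iff.2 (hcomm z hzE a ha))) (eq_bot_iff.2 ?_)
    exact (balance h (orderOf_E h ha ha1) (orderOf_E h hzE hz1) (hcomm a ha z hzE)).trans hoz.le
  have hθ : Cfsg.IsSolvableSignalizerFunctor 2 E oC := by
    refine ⟨⟨fun a _ _ => oC_le a, fun a _ _ => ?_, fun a ha _ b hb x hx => ?_, fun a ha ha1 b hb hb1 =>
      balance h (orderOf_E h ha ha1) (orderOf_E h hb hb1) (hcomm a ha b hb)⟩, fun a ha ha1 => ?_⟩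
    · intro hd
      exact Nat.not_even_iff_odd.2 (odd_oC a) (even_iff_two_dvd.2 hd)
    · exact (mem_normalizer_iff.1 (le_normalizer_oC a
        (mem_centralizer_singleton_iff.2 (hcomm b hb a ha))) x).1 hx
    · refine Group.isSolvable_of_comm (G := oC a) fun x y => Subtype.ext ?_
      have hi := hinvert a ha ha1
      have e : z * ((x : G) * y) * z⁻¹ = (z * x * z⁻¹) * (z * y * z⁻¹) := by group
      rw [hi _ ((oC a).mul_mem x.2 y.2), hi _ x.2, hi _ y.2] at e
      have := congrArg (·⁻¹) e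
      simp at this
      exact this
  by_contra hne
  obtain ⟨q, hq, hqd⟩ := Nat.exists_prime_and_dvd (n := Nat.card (oC a₀))
    fun e => hne (Subgroup.eq_bot_of_card_eq _ e)
  have := Fact.mk hq
  have hq2 : q ≠ 2 := by
    rintro rfl
    exact Nat.not_even_iff_odd.2 (odd_oC a₀) (even_iff_two_dvd.2 hqd)
  have hE8 : 2 ^ 3 ≤ Nat.card E := h.card
  have hθa := CfsgLib.Signalizer.theta_mem_family hθ ha₀ ha₀1
  obtain ⟨P, hP⟩ := CfsgLib.Core.exists_invariant_sylow
    (CfsgLib.Signalizer.theta_le_normalizer hθ.1 ha₀ ha₀1)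
    (CfsgLib.Signalizer.coprime_card_of_pGroup (CfsgLib.Signalizer.elementary_isPGroup h.elem)
      (hθ.1.2.1 a₀ ha₀ ha₀1)) (Or.inr (hθ.2 a₀ ha₀ ha₀1)) q
  have hPne : (P : Subgroup (oC a₀)).map (oC a₀).subtype ≠ ⊥ := by
    intro e
    rw [Subgroup.map_eq_bot_iff_of_injective _ (Subgroup.subtype_injective _)] at e
    have h1 := P.card_eq_multiplicity
    rw [e, card_bot] at h1
    have h2 := (Nat.Prime.factorization_pos_of_dvd hq Nat.card_pos.ne' hqd).ne'
    have h3 := Nat.pow_eq_one.1 h1.symm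
    rcases h3 with h3 | h3
    · exact hq.one_lt.ne' h3
    · exact h2 h3
  obtain ⟨Q₀, hle, hQ₀⟩ := CfsgLib.Signalizer.exists_maxMember
    (CfsgLib.Signalizer.family_of_le hθa (map_subtype_le _) hP) (P.2.map _)
  let Mx := {Q : Subgroup G // CfsgLib.Signalizer.IsMaxMember 2 E oC q Q}
  let K := Cfsg.signalizerInf E oC
  have hmapS : ∀ (s : G), s ∈ normalizer (E : Set G) → ∀ Q, CfsgLib.Signalizer.IsMaxMember 2 E oC q Q →
      CfsgLib.Signalizer.IsMaxMember 2 E oC q (Q.map (MulAut.conj s).toMonoidHom) := by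
    intro s hs Q hQ
    refine ⟨map_mem_family hQ.1 hs, hQ.2.1.map _, fun R hR hRq hle => ?_⟩
    have e := hQ.2.2 _ (map_mem_family hR (inv_mem hs)) (hRq.map _) (fun x hx =>
      ⟨s * x * s⁻¹, hle ⟨x, hx, rfl⟩, by show s⁻¹ * (s * x * s⁻¹) * s⁻¹⁻¹ = x; group⟩)
    rw [← e]
    ext x
    rw [CfsgLib.Transfer.mem_map_conj, CfsgLib.Transfer.mem_map_conj, inv_inv,
      show s * (s⁻¹ * x * s) * s⁻¹ = x by group]
  have hKN : ∀ c ∈ K, c ∈ normalizer (E : Set G) := fun c hc =>
    centralizer_le_normalizer _ (CfsgLib.Signalizer.inf_le_centralizer hθ.1 le_rfl hc)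
  have hconj1 : ∀ Q : Subgroup G, Q.map (MulAut.conj (1 : G)).toMonoidHom = Q := fun Q => by
    ext x; rw [CfsgLib.Transfer.mem_map_conj]; simp
  have hconjm : ∀ (s t : G) (Q : Subgroup G), Q.map (MulAut.conj (s * t)).toMonoidHom =
      (Q.map (MulAut.conj t).toMonoidHom).map (MulAut.conj s).toMonoidHom := fun s t Q => by
    rw [Subgroup.map_map]; congr 1; ext x; simp [mul_assoc]
  let _ : MulAction K Mx :=
    { smul := fun c Q => ⟨_, hmapS c (hKN c c.2) Q.1 Q.2⟩
      one_smul := fun Q => Subtype.ext (hconj1 Q.1)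
      mul_smul := fun c d Q => Subtype.ext (hconjm c d Q.1) }
  have hodd : Odd (Nat.card Mx) := by
    have htr : MulAction.orbit K (⟨Q₀, hQ₀⟩ : Mx) = Set.univ := Set.eq_univ_of_forall fun Q => by
      obtain ⟨c, hc, e⟩ := CfsgLib.Signalizer.transitivity h.elem hE8 hθ hQ₀ Q.2
      exact ⟨⟨c, hc⟩, Subtype.ext e⟩
    have h1 : Nat.card Mx ∣ Nat.card K := by
      rw [← Nat.card_univ (α := Mx), ← htr,
        Nat.card_congr (MulAction.orbitEquivQuotientStabilizer K (⟨Q₀, hQ₀⟩ : Mx))]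
      exact Subgroup.card_quotient_dvd_card _
    refine CfsgLib.ZStar.odd_of_dvd (h1.trans ?_) (odd_oC a₀)
    exact card_dvd_of_le (CfsgLib.Signalizer.inf_le_theta ha₀ ha₀1)
  let _ : MulAction (S : Subgroup G) Mx :=
    { smul := fun c Q => ⟨_, hmapS c (h.norm c.2) Q.1 Q.2⟩
      one_smul := fun Q => Subtype.ext (hconj1 Q.1)
      mul_smul := fun c d Q => Subtype.ext (hconjm c d Q.1) }
  obtain ⟨Q, hQ⟩ := S.isPGroup'.nonempty_fixed_point_of_prime_not_dvd_card Mx fun hd =>
    Nat.not_even_iff_odd.2 hodd (even_iff_two_dvd.2 hd)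
  have hQodd : Odd (Nat.card Q.1) := Nat.not_even_iff_odd.1 fun he => Q.2.1.2.1 (even_iff_two_dvd.1 he)
  have hQbot := h.inv Q.1 hQodd fun s hs => by
    rw [mem_normalizer_iff_map_conj_eq]
    exact congrArg Subtype.val (hQ ⟨s, hs⟩)
  refine hPne (le_bot_iff.1 (hle.trans ?_))
  rw [Q.2.2.2 Q₀ hQ₀.1 hQ₀.2.1 (hQbot ▸ bot_le), hQbot]

theorem cent_oddCore_trivial {S : Sylow 2 G} {E : Subgroup G} (h : Hyp S E) {y : G}
    (hy : orderOf y = 2) : oC y = ⊥ := by
  classical
  have : Fact (Nat.Prime 2) := ⟨Nat.prime_two⟩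
  wlog hyS : y ∈ (S : Subgroup G) generalizing y with H
  · obtain ⟨R, hR⟩ := (IsPGroup.of_card (p := 2) (n := 1)
      (show Nat.card (zpowers y) = 2 ^ 1 by rw [Nat.card_zpowers, hy, pow_one])).exists_le_sylow
    obtain ⟨g, hg⟩ := MulAction.exists_smul_eq G R S
    have hgy : g * y * g⁻¹ ∈ (S : Subgroup G) := by
      rw [← hg, Sylow.coe_subgroup_smul]
      exact ⟨y, hR (mem_zpowers y), rfl⟩
    have h0 := H (by rw [CfsgLib.Signalizer.orderOf_conj, hy]) hgy
    have h1 := map_oC_le g y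
    rw [h0, le_bot_iff, Subgroup.map_eq_bot_iff_of_injective _ (MulAut.conj g).injective] at h1
    exact h1
  set X := oC y with hX
  have hyN := h.norm hyS
  have hcomm : ∀ a ∈ E, ∀ b ∈ E, a * b = b * a := fun a ha b hb =>
    congrArg Subtype.val (h.elem.1.is_comm.comm (⟨a, ha⟩ : E) ⟨b, hb⟩)
  have hinvE : ∀ a ∈ E, a⁻¹ = a := fun a ha =>
    inv_eq_of_mul_eq_one_right (by rw [← pow_two]; exact h.elem.2 a ha)
  have hy2 : y * y = 1 := by
    have := pow_orderOf_eq_one y
    rwa [hy, pow_two] at this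
  -- fixed points of `y` on `E`
  set C := E ⊓ centralizer ({y} : Set G) with hC
  let δ : E →* C :=
    { toFun := fun e => ⟨(y * e * y⁻¹) * e, by
        have he' := (mem_normalizer_iff.1 hyN _).1 e.2
        refine ⟨E.mul_mem he' e.2, mem_centralizer_singleton_iff.2 ?_⟩
        rw [inv_eq_of_mul_eq_one_right hy2] at he' ⊢
        calc y * (e : G) * y * e * y = (y * e * y) * (e * y) := by group
          _ = (y * e * y) * e * y := by group
          _ = e * (y * e * y) * y := by rw [hcomm _ he' _ e.2]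
          _ = e * y * e * (y * y) := by group
          _ = (y * y) * e * y * e := by rw [hy2]; group
          _ = _ := by group⟩
      map_one' := Subtype.ext (by simp)
      map_mul' := fun e f => Subtype.ext (by
        show (y * ((e : G) * f) * y⁻¹) * ((e : G) * f) = (y * e * y⁻¹) * e * ((y * f * y⁻¹) * f)
        calc (y * ((e : G) * f) * y⁻¹) * ((e : G) * f)
            = (y * e * y⁻¹) * ((y * f * y⁻¹) * e) * f := by group
          _ = (y * e * y⁻¹) * (e * (y * f * y⁻¹)) * f := by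
            rw [hcomm _ ((mem_normalizer_iff.1 hyN _).1 f.2) _ e.2]
          _ = _ := by group) }
  have hker : δ.ker.map E.subtype ≤ C := by
    rintro _ ⟨e, he, rfl⟩
    refine ⟨e.2, mem_centralizer_singleton_iff.2 ?_⟩
    have h1 : y * (e : G) * y⁻¹ * e = 1 := congrArg Subtype.val he
    have h2 := eq_inv_of_mul_eq_one_left h1
    rw [hinvE _ e.2] at h2
    exact (mul_inv_eq_iff_eq_mul.1 h2).symm
  have hCcard : 3 ≤ Nat.card C := by
    have h1 := δ.ker.card_mul_index
    rw [Subgroup.index_ker] at h1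
    have h2 : Nat.card δ.range ≤ Nat.card C := Subgroup.card_le_card_group _
    have h3 : Nat.card δ.ker ≤ Nat.card C := by
      rw [← Subgroup.card_map_of_injective (K := δ.ker) E.subtype_injective]
      exact Subgroup.card_le_of_le hker
    have h4 := Nat.mul_le_mul h3 h2
    rw [h1] at h4
    by_contra hlt
    have := h.card
    have := Nat.mul_le_mul (show Nat.card C ≤ 2 by omega) (show Nat.card C ≤ 2 by omega)
    omega
  -- each fixed involution acts without fixed points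
  have hfree : ∀ b ∈ C, b ≠ 1 → X ⊓ centralizer ({b} : Set G) = ⊥ := by
    intro b hb hb1
    have hob := orderOf_E h hb.1 hb1
    set H := centralizer ({b} : Set G) with hH
    have hH1 : Cfsg.pPrimeCore 2 ↥H = ⊥ := by
      have h1 := oC_trivial_E h hb.1 hb1
      rw [oC, Subgroup.map_eq_bot_iff_of_injective _ (Subgroup.subtype_injective _)] at h1
      exact h1
    have hc := (CfsgLib.PLocal.isPConstrained_iff_of_core_bot hH1).1 (h.con b hob)
    refine eq_bot_iff.2 ?_
    rintro x ⟨hxX, hxb⟩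
    have hox : (orderOf x).Coprime 2 :=
      Nat.coprime_two_right.2 (CfsgLib.ZStar.odd_of_dvd (Subgroup.orderOf_dvd_natCard _ hxX) (odd_oC y))
    let x' : H := ⟨x, hxb⟩
    let y' : H := ⟨y, mem_centralizer_singleton_iff.2 (mem_centralizer_singleton_iff.1 hb.2).symm⟩
    have hxy : x * y = y * x := mem_centralizer_singleton_iff.1 (oC_le y hxX)
    have hdisj : ∀ r : H, r ∈ Cfsg.pCore 2 ↥H → (r : G) ∈ X → r = 1 := fun r hr hrX => by
      obtain ⟨k, hk⟩ := IsPGroup.iff_orderOf.1 (CfsgLib.Core.isPGroup_pCore 2 ↥H) ⟨r, hr⟩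
      rw [← Subgroup.orderOf_coe] at hk
      simp only at hk
      have h1 := Subgroup.orderOf_dvd_natCard _ hrX
      rw [Subgroup.orderOf_coe] at h1
      refine orderOf_eq_one_iff.1 (Nat.eq_one_of_dvd_coprimes
        ((Nat.coprime_two_right.2 (odd_oC y)).pow_right k) h1 (dvd_of_eq hk))
    have hcx : x' ∈ centralizer (Cfsg.pCore 2 ↥H : Set ↥H) := by
      refine CfsgLib.LocalEvenB.mem_centralizer_of_axb (B := zpowers y')
        (by rw [← Subgroup.orderOf_coe]; exact hox) (CfsgLib.Core.isPGroup_pCore 2 ↥H)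
        (IsPGroup.of_card (n := 1) ?_) (by rw [normalizer_eq_top]; exact le_top)
        (by rw [normalizer_eq_top]; exact mem_top _) ?_ ?_
      · rw [Nat.card_zpowers, ← Subgroup.orderOf_coe, pow_one]; exact hy
      · refine mem_centralizer_iff.2 fun t ht => ?_
        obtain ⟨k, rfl⟩ := mem_zpowers_iff.1 ht
        exact ((show Commute y' x' from Subtype.ext hxy.symm).zpow_left k).eq
      · refine mem_centralizer_iff.2 fun r hr => ?_
        have hry : (r : G) ∈ centralizer ({y} : Set G) :=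
          mem_centralizer_singleton_iff.2
            (congrArg Subtype.val (mem_centralizer_iff.1 hr.2 y' (mem_zpowers y')).symm)
        have h1 : r * x' * r⁻¹ * x'⁻¹ = 1 := hdisj _ (by
            rw [show r * x' * r⁻¹ * x'⁻¹ = r * (x' * r⁻¹ * x'⁻¹) by group]
            exact mul_mem hr.1 ((inferInstance : (Cfsg.pCore 2 ↥H).Normal).conj_mem _ (inv_mem hr.1) _))
          (X.mul_mem ((mem_normalizer_iff.1 (le_normalizer_oC y hry) _).1 hxX) (X.inv_mem hxX))
        rw [mul_inv_eq_one, mul_inv_eq_iff_eq_mul] at h1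
        exact h1
    exact congrArg Subtype.val (hdisj x' (hc hcx) hxX)
  obtain ⟨b₁, b₂, hb₁, hb₁1, hb₂, hb₂1, hb⟩ : ∃ b₁ b₂, b₁ ∈ C ∧ b₁ ≠ 1 ∧ b₂ ∈ C ∧ b₂ ≠ 1 ∧ b₁ ≠ b₂ := by
    by_contra hcon
    push Not at hcon
    obtain ⟨⟨c, hc⟩, hc0⟩ := (C.ne_bot_iff_exists_ne_one).1 (fun e => by
      rw [e, card_bot] at hCcard; omega)
    have hc1 : c ≠ 1 := fun e => hc0 (Subtype.ext e)
    have hsub : ∀ x : C, x = 1 ∨ x = ⟨c, hc⟩ := fun x => by
      by_cases hx : x = 1
      · exact Or.inl hx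
      · exact Or.inr (Subtype.ext (hcon c x hc hc1 x.2 fun e => hx (Subtype.ext e)).symm)
    have hc1' : (⟨c, hc⟩ : C) ≠ 1 := hc0
    have := Nat.card_le_card_of_injective (β := Fin 2) (fun x : C => if x = 1 then (0 : Fin 2) else 1)
      fun x x' hxx => by
        rcases hsub x with e | e <;> rcases hsub x' with e' | e' <;> simp [e, e', hc1'] at hxx ⊢
    rw [Nat.card_fin] at this
    omega
  have hmem : ∀ b ∈ C, b ∈ normalizer (X : Set G) := fun b hb => le_normalizer_oC y
    (mem_centralizer_singleton_iff.2 (mem_centralizer_singleton_iff.1 hb.2))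
  have i₁ := CfsgLib.LocalEvenB.inverts_of_fixedPointFree (h.elem.2 b₁ hb₁.1) (hmem b₁ hb₁)
    (hfree b₁ hb₁ hb₁1)
  have i₂ := CfsgLib.LocalEvenB.inverts_of_fixedPointFree (h.elem.2 b₂ hb₂.1) (hmem b₂ hb₂)
    (hfree b₂ hb₂ hb₂1)
  have h12 : b₁ * b₂ ≠ 1 := fun e => hb (by
    rw [eq_inv_of_mul_eq_one_left e, hinvE _ hb₂.1])
  refine eq_bot_iff.2 fun x hx => ?_
  rw [← hfree _ (C.mul_mem hb₁ hb₂) h12]
  refine ⟨hx, mem_centralizer_singleton_iff.2 ?_⟩
  have e : b₁ * b₂ * x * (b₁ * b₂)⁻¹ = x := by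
    calc b₁ * b₂ * x * (b₁ * b₂)⁻¹ = b₁ * (b₂ * x * b₂⁻¹) * b₁⁻¹ := by group
      _ = x := by rw [i₂ x hx, i₁ _ (X.inv_mem hx), inv_inv]
  exact (mul_inv_eq_iff_eq_mul.1 e).symm

/-- The 2-part: a central involution of a Sylow subgroup of a constrained core-free centraliser
lies in the centre of its 2-core. -/
theorem mem_center_pCore {H : Type*} [Group H] [Finite H]
    (hc : centralizer (Cfsg.pCore 2 H : Set H) ≤ Cfsg.pCore 2 H) (P : Sylow 2 H) {x : H}
    (hx : ∀ s ∈ (P : Subgroup H), s * x = x * s) :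
    ∃ hxQ : x ∈ Cfsg.pCore 2 H, (⟨x, hxQ⟩ : Cfsg.pCore 2 H) ∈ Subgroup.center (Cfsg.pCore 2 H) := by
  have : Fact (Nat.Prime 2) := ⟨Nat.prime_two⟩
  have hQP : Cfsg.pCore 2 H ≤ (P : Subgroup H) := by
    obtain ⟨R, hR⟩ := (CfsgLib.Core.isPGroup_pCore 2 H).exists_le_sylow
    obtain ⟨g, hg⟩ := MulAction.exists_smul_eq H R P
    intro q hq
    rw [← hg, Sylow.coe_subgroup_smul]
    refine ⟨g⁻¹ * q * g, hR ?_, by simp [mul_assoc]⟩
    simpa using (inferInstance : (Cfsg.pCore 2 H).Normal).conj_mem q hq g⁻¹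
  have hxQ : x ∈ Cfsg.pCore 2 H := hc (mem_centralizer_iff.2 fun q hq => hx q (hQP hq))
  exact ⟨hxQ, mem_center_iff.2 fun q => Subtype.ext (hx q (hQP q.2))⟩

omit [Finite G] in
theorem cyclic_involution_unique {H : Type*} [Group H] [Finite H] [IsCyclic H] {x y : H}
    (hx : orderOf x = 2) (hy : orderOf y = 2) : x = y := by
  classical
  have := Fintype.ofFinite H
  have h := IsCyclic.card_orderOf_eq_totient (α := H) (d := 2) (hx ▸ orderOf_dvd_card)
  rw [Nat.totient_two, Finset.card_eq_one] at h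
  obtain ⟨w, hw⟩ := h
  have h1 : x ∈ ({w} : Finset H) := hw ▸ Finset.mem_filter.2 ⟨Finset.mem_univ _, hx⟩
  have h2 : y ∈ ({w} : Finset H) := hw ▸ Finset.mem_filter.2 ⟨Finset.mem_univ _, hy⟩
  rw [Finset.mem_singleton] at h1 h2
  rw [h1, h2]

theorem exists_noncyclic_center {S : Sylow 2 G} {E : Subgroup G} (h : Hyp S E) [IsSimpleGroup G]
    (hG : ¬ IsMulCommutative G) :
    ∃ M : Subgroup G, Cfsg.IsMaximalTwoLocal M ∧ ¬ IsCyclic ↥(Subgroup.center ↥(Cfsg.pCore 2 ↥M)) := by
  classical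
  have : Fact (Nat.Prime 2) := ⟨Nat.prime_two⟩
  by_contra hcon
  push Not at hcon
  -- every maximal 2-local is `C(y)`
  have hmaxC : ∀ M : Subgroup G, Cfsg.IsMaximalTwoLocal M →
      ∃ y, orderOf y = 2 ∧ M = centralizer ({y} : Set G) := by
    intro M hM
    have hcyc := hcon M hM
    obtain ⟨T, hT, hT1, hMT⟩ := hM.1
    set Q := Cfsg.pCore 2 ↥M with hQ
    have hTM : T ≤ M := hMT ▸ le_normalizer
    have : (T.subgroupOf M).Normal := ⟨fun x hx g => (mem_normalizer_iff.1 (hMT.le g.2) _).1 hx⟩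
    have hTQ : T.subgroupOf M ≤ Q := le_sSup ⟨this, hT.comap_of_injective _ M.subtype_injective⟩
    have hQne : Nontrivial Q := by
      obtain ⟨⟨t, ht⟩, ht1⟩ := (T.ne_bot_iff_exists_ne_one).1 hT1
      refine ⟨⟨⟨⟨t, hTM ht⟩, hTQ ht⟩, 1, fun e => ht1 ?_⟩⟩
      exact Subtype.ext (congrArg (fun v : Q => ((v : M) : G)) e :)
    have hQp : IsPGroup 2 Q := CfsgLib.Core.isPGroup_pCore 2 ↥M
    haveI := hQp.center_nontrivial
    obtain ⟨y, hy⟩ := exists_prime_orderOf_dvd_card' (G := Subgroup.center Q) 2 (by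
      obtain ⟨k, hk, hk'⟩ := (hQp.to_subgroup (Subgroup.center Q)).nontrivial_iff_card.1 inferInstance
      rw [hk']; exact dvd_pow_self 2 (by omega))
    let yG : G := (((y : Q) : M) : G)
    have hoy : orderOf yG = 2 := by
      simp only [yG, Subgroup.orderOf_coe]; exact hy
    refine ⟨yG, hoy, (hM.2 _ ⟨zpowers yG, IsPGroup.of_card (n := 1) (by
      rw [Nat.card_zpowers, hoy, pow_one]), ?_, (normalizer_zpowers hoy).symm⟩ ?_).symm⟩
    · rw [Ne, zpowers_eq_bot]; intro e; simp [e] at hoy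
    · intro g hg
      let gM : M := ⟨g, hg⟩
      have hnQ : Q.Normal := CfsgLib.Core.normal_pCore 2 ↥M
      let v : Q := ⟨gM * ((y : Q) : M) * gM⁻¹, hnQ.conj_mem _ (y : Q).2 gM⟩
      have hv : v ∈ Subgroup.center Q := Subgroup.mem_center_iff.2 fun w => Subtype.ext (by
        have hw : gM⁻¹ * (w : M) * gM ∈ Q := by simpa using hnQ.conj_mem _ w.2 gM⁻¹
        have e := congrArg Subtype.val (Subgroup.mem_center_iff.1 y.2 ⟨_, hw⟩)
        simp only [Subgroup.coe_mul] at e
        show (w : M) * (gM * ((y : Q) : M) * gM⁻¹) = gM * ((y : Q) : M) * gM⁻¹ * w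
        calc (w : M) * (gM * ((y : Q) : M) * gM⁻¹)
            = gM * (gM⁻¹ * (w : M) * gM * ((y : Q) : M)) * gM⁻¹ := by group
          _ = gM * (((y : Q) : M) * (gM⁻¹ * (w : M) * gM)) * gM⁻¹ := by rw [e]
          _ = _ := by group)
      have hov : orderOf (⟨v, hv⟩ : Subgroup.center Q) = 2 := by
        rw [← Subgroup.orderOf_coe, ← Subgroup.orderOf_coe, ← Subgroup.orderOf_coe]
        show orderOf (g * yG * g⁻¹) = 2
        rw [CfsgLib.Signalizer.orderOf_conj, hoy]
      haveI := hcyc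
      have e : g * yG * g⁻¹ = yG :=
        congrArg (fun z : Subgroup.center Q => (((z : Q) : M) : G))
          (cyclic_involution_unique hov hy)
      exact mem_centralizer_singleton_iff.2 (mul_inv_eq_iff_eq_mul.1 e)
  -- central involutions of the Sylow subgroups of a maximal `C(y)`
  have hkey : ∀ y : G, orderOf y = 2 → Cfsg.IsMaximalTwoLocal (centralizer ({y} : Set G)) →
      ∀ P : Sylow 2 ↥(centralizer ({y} : Set G)), ∀ x : G, orderOf x = 2 →
        x ∈ centralizer ({y} : Set G) →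
        (∀ s ∈ (P : Subgroup ↥(centralizer ({y} : Set G))), (s : G) * x = x * s) → x = y := by
    intro y hy hM
    haveI := hcon _ hM
    set H := centralizer ({y} : Set G) with hH
    intro P x hx hxH hxP
    have hH1 : Cfsg.pPrimeCore 2 ↥H = ⊥ := by
      have h1 := cent_oddCore_trivial h hy
      rw [oC, Subgroup.map_eq_bot_iff_of_injective _ (Subgroup.subtype_injective _)] at h1
      exact h1
    have hc := (CfsgLib.PLocal.isPConstrained_iff_of_core_bot hH1).1 (h.con y hy)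
    obtain ⟨hx1, hx2⟩ := mem_center_pCore hc P (x := ⟨x, hxH⟩) fun s hs => Subtype.ext (hxP s hs)
    have hyH : y ∈ H := mem_centralizer_singleton_iff.2 rfl
    obtain ⟨hy1, hy2⟩ := mem_center_pCore hc P (x := ⟨y, hyH⟩) fun s _ =>
      Subtype.ext (mem_centralizer_singleton_iff.1 s.2)
    have e := cyclic_involution_unique
      (x := (⟨⟨_, hx1⟩, hx2⟩ : Subgroup.center ↥(Cfsg.pCore 2 ↥H)))
      (y := ⟨⟨_, hy1⟩, hy2⟩)
      (by rw [← Subgroup.orderOf_coe, ← Subgroup.orderOf_coe, ← Subgroup.orderOf_coe]; exact hx)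
      (by rw [← Subgroup.orderOf_coe, ← Subgroup.orderOf_coe, ← Subgroup.orderOf_coe]; exact hy)
    exact congrArg (fun z : Subgroup.center ↥(Cfsg.pCore 2 ↥H) =>
      (((z : Cfsg.pCore 2 ↥H) : H) : G)) e
  have hexmax : ∀ N : Subgroup G, Cfsg.IsTwoLocal N → ∃ M, Cfsg.IsMaximalTwoLocal M ∧ N ≤ M := by
    intro N hN
    obtain ⟨M, hNM, hM, hmax⟩ := Set.Finite.exists_le_maximal
      (s := {U : Subgroup G | Cfsg.IsTwoLocal U}) (Set.toFinite _) (a := N) hN
    exact ⟨M, ⟨hM, fun U hU hle => le_antisymm (hmax hU hle) hle⟩, hNM⟩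
  -- the unique central involution of `S`
  have huniq : ∀ u v : G, u ∈ (S : Subgroup G) → v ∈ (S : Subgroup G) → orderOf u = 2 →
      orderOf v = 2 → (∀ s ∈ (S : Subgroup G), s * u = u * s) →
      (∀ s ∈ (S : Subgroup G), s * v = v * s) → u = v := by
    intro u v huS hvS hu hv hu' hv'
    obtain ⟨M, hM, hle⟩ := hexmax (centralizer ({u} : Set G)) ⟨zpowers u,
      IsPGroup.of_card (n := 1) (by rw [Nat.card_zpowers, hu, pow_one]),
      by rw [Ne, zpowers_eq_bot]; intro e; simp [e] at hu, (normalizer_zpowers hu).symm⟩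
    obtain ⟨y, hy, rfl⟩ := hmaxC M hM
    have hSM : (S : Subgroup G) ≤ centralizer ({y} : Set G) := fun s hs =>
      hle (mem_centralizer_singleton_iff.2 (hu' s hs))
    let P := S.subtype hSM
    have e₁ := hkey y hy hM P u hu (hSM huS) (fun s hs => hu' _ hs)
    have e₂ := hkey y hy hM P v hv (hSM hvS) (fun s hs => hv' _ hs)
    rw [e₁, e₂]
  obtain ⟨z, hzE, hz1, hzS⟩ := exists_central h
  have hzo := orderOf_E h hzE hz1
  have hzmem := h.le hzE
  -- every such `y` is conjugate to `z`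
  have hconj : ∀ y : G, orderOf y = 2 → Cfsg.IsMaximalTwoLocal (centralizer ({y} : Set G)) →
      ∃ g : G, g * z * g⁻¹ = y := by
    intro y hy hM
    obtain ⟨P⟩ : Nonempty (Sylow 2 ↥(centralizer ({y} : Set G))) := inferInstance
    set H := centralizer ({y} : Set G) with hH
    set P' := (P : Subgroup H).map H.subtype with hP'
    obtain ⟨R, hR⟩ := (P.2.map H.subtype).exists_le_sylow
    have hyP : y ∈ P' := by
      have hyH : y ∈ H := mem_centralizer_singleton_iff.2 rfl
      have hn : zpowers (⟨y, hyH⟩ : H) ≤ normalizer ((P : Subgroup H) : Set H) := by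
        refine le_trans (zpowers_le.2 ?_) (centralizer_le_normalizer _)
        exact mem_centralizer_iff.2 fun s _ => Subtype.ext (mem_centralizer_singleton_iff.1 s.2)
      have hp : IsPGroup 2 (zpowers (⟨y, hyH⟩ : H)) := IsPGroup.of_card (n := 1) (by
        rw [Nat.card_zpowers, ← Subgroup.orderOf_coe, pow_one]; exact hy)
      have e := P.is_maximal' (IsPGroup.to_sup_of_normal_right' hp P.2 hn) le_sup_right
      exact ⟨⟨y, hyH⟩, e.le (mem_sup_left (mem_zpowers _)), rfl⟩
    have heq : P' = (R : Subgroup G) := by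
      by_contra hne
      have hlt := CfsgLib.Transfer.lt_inf_normalizer R.2 (lt_of_le_of_ne hR hne)
      obtain ⟨r, ⟨hrR, hrN⟩, hr⟩ := SetLike.exists_of_lt hlt
      have hry : r * y * r⁻¹ = y := by
        obtain ⟨s, hs, e⟩ := (mem_normalizer_iff.1 hrN y).1 hyP
        have hyH' : r * y * r⁻¹ ∈ H := e ▸ s.2
        refine hkey y hy hM P _ (by rw [CfsgLib.Signalizer.orderOf_conj, hy]) hyH' fun t ht => ?_
        obtain ⟨t', ht', et⟩ : r⁻¹ * (t : G) * r ∈ P' := by
          have h0 := (mem_normalizer_iff.1 (inv_mem hrN) (t : G)).1 ⟨t, ht, rfl⟩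
          rwa [inv_inv] at h0
        have hcm : r⁻¹ * (t : G) * r * y = y * (r⁻¹ * (t : G) * r) := by
          rw [← et]; exact mem_centralizer_singleton_iff.1 t'.2
        calc (t : G) * (r * y * r⁻¹) = r * (r⁻¹ * (t : G) * r * y) * r⁻¹ := by group
          _ = r * (y * (r⁻¹ * (t : G) * r)) * r⁻¹ := by rw [hcm]
          _ = _ := by group
      have hrH : r ∈ H := mem_centralizer_singleton_iff.2 (mul_inv_eq_iff_eq_mul.1 hry)
      refine hr ⟨⟨r, hrH⟩, ?_, rfl⟩
      have e := P.is_maximal' (R.2.comap_of_injective H.subtype H.subtype_injective)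
        (fun s hs => hR ⟨s, hs, rfl⟩)
      exact e.le hrR
    obtain ⟨g, hg⟩ := MulAction.exists_smul_eq G R S
    have hmemS : ∀ s : G, s ∈ (S : Subgroup G) ↔ g⁻¹ * s * g ∈ (R : Subgroup G) := by
      intro s
      rw [← hg, Sylow.coe_subgroup_smul, Subgroup.mem_pointwise_smul_iff_inv_smul_mem]
      simp
    have hgy : g * y * g⁻¹ = z := by
      refine huniq _ _ ((hmemS _).2 ?_) hzmem (by rw [CfsgLib.Signalizer.orderOf_conj, hy]) hzo
        (fun s hs => ?_) hzS
      · rw [show g⁻¹ * (g * y * g⁻¹) * g = y by group, ← heq]; exact hyP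
      · obtain ⟨t, -, et⟩ : g⁻¹ * s * g ∈ P' := heq ▸ (hmemS s).1 hs
        have hcm : g⁻¹ * s * g * y = y * (g⁻¹ * s * g) := by
          rw [← et]; exact mem_centralizer_singleton_iff.1 t.2
        calc s * (g * y * g⁻¹) = g * (g⁻¹ * s * g * y) * g⁻¹ := by group
          _ = g * (y * (g⁻¹ * s * g)) * g⁻¹ := by rw [hcm]
          _ = _ := by group
    exact ⟨g⁻¹, by rw [← hgy]; group⟩
  -- conjugates of `z` in `S`
  let W := {w : G | w ∈ (S : Subgroup G) ∧ w ≠ z ∧ ∃ g : G, g * z * g⁻¹ = w}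
  have hW : W.Nonempty := by
    by_contra hWe
    have hiso : ∀ g : G, g * z * g⁻¹ ∈ (S : Subgroup G) → g * z * g⁻¹ = z := fun g hg => by
      by_contra hne
      exact hWe ⟨_, hg, hne, g, rfl⟩
    have hzc : z ∈ Subgroup.center G := Subgroup.mem_center_iff.2 fun g => by
      have h1 := CfsgLib.ZStar.mem_oddCore_of_sylow S hzo hzmem hiso g
      have h2 : Cfsg.oddCore G = ⊥ :=
        h.inv _ (CfsgLib.ZStar.odd_card_oddCore G) (by rw [normalizer_eq_top]; exact le_top)
      rw [h2, mem_bot, mul_inv_eq_one, mul_inv_eq_iff_eq_mul] at h1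
      exact h1.symm
    have hc : Subgroup.center G = ⊥ := by
      refine (Subgroup.Normal.eq_bot_or_eq_top inferInstance).resolve_right fun e => hG ⟨⟨fun a b => ?_⟩⟩
      exact (Subgroup.mem_center_iff.1 (e ▸ mem_top b : b ∈ Subgroup.center G) a)
    rw [hc, mem_bot] at hzc
    exact hz1 hzc
  obtain ⟨w, hw, hwmax⟩ := Set.exists_max_image W
    (fun w => Nat.card ↥((S : Subgroup G) ⊓ centralizer ({w} : Set G))) (Set.toFinite _) hW
  obtain ⟨hwS, hwz, g₀, hg₀⟩ := hw
  have hwo : orderOf w = 2 := by rw [← hg₀, CfsgLib.Signalizer.orderOf_conj, hzo]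
  set T := (S : Subgroup G) ⊓ centralizer ({w} : Set G) with hT
  have hTp : IsPGroup 2 T := S.2.to_le inf_le_left
  have hwT : w ∈ T := ⟨hwS, mem_centralizer_singleton_iff.2 rfl⟩
  have hzT : z ∈ T := ⟨hzmem, mem_centralizer_singleton_iff.2 (hzS w hwS).symm⟩
  have hTz : T ≤ centralizer ({z} : Set G) := fun s hs =>
    mem_centralizer_singleton_iff.2 (hzS s hs.1)
  have hTD : ∀ T' : Subgroup G, IsPGroup 2 T' → T ≤ T' → T' ≤ centralizer ({z} : Set G) →
      T' ≤ centralizer ({w} : Set G) → T' ≤ T := by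
    intro T' hT' hle hz' hw'
    have hSz : (S : Subgroup G) ≤ centralizer ({z} : Set G) := fun s hs =>
      mem_centralizer_singleton_iff.2 (hzS s hs)
    obtain ⟨R, hR⟩ := (hT'.comap_of_injective (centralizer ({z} : Set G)).subtype
      (Subgroup.subtype_injective _)).exists_le_sylow
    obtain ⟨c, hc⟩ := MulAction.exists_smul_eq (↥(centralizer ({z} : Set G))) R (S.subtype hSz)
    have hin : ∀ t ∈ T', (c : G) * t * (c : G)⁻¹ ∈ (S : Subgroup G) := fun t ht => by
      have h1 : c * ⟨t, hz' ht⟩ * c⁻¹ ∈ (S.subtype hSz : Subgroup _) := by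
        rw [← hc, Sylow.coe_subgroup_smul]
        exact ⟨⟨t, hz' ht⟩, hR ht, rfl⟩
      exact h1
    have hcz : (c : G) * z * (c : G)⁻¹ = z := by
      rw [mem_centralizer_singleton_iff.1 c.2, mul_inv_cancel_right]
    have hw'W : (c : G) * w * (c : G)⁻¹ ∈ W := by
      refine ⟨hin w (hle hwT), fun e => hwz ?_, (c : G) * g₀, by rw [← hg₀]; group⟩
      exact mul_left_cancel (mul_right_cancel (e.trans hcz.symm))
    have hsub : T'.map (MulAut.conj (c : G)).toMonoidHom ≤
        (S : Subgroup G) ⊓ centralizer ({(c : G) * w * (c : G)⁻¹} : Set G) := by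
      rintro _ ⟨t, ht, rfl⟩
      exact ⟨hin t ht, conj_centralizer.2 (by simpa [mul_assoc] using hw' ht)⟩
    have h2 := (Subgroup.card_le_of_le hsub).trans (hwmax _ hw'W)
    rw [CfsgLib.Transfer.card_map_conj] at h2
    exact (Subgroup.eq_of_le_of_card_ge hle h2).ge
  have hTS : T < (S : Subgroup G) := by
    refine lt_of_le_of_ne inf_le_left fun e => hwz ?_
    refine huniq w z hwS hzmem hwo hzo (fun s hs => ?_) hzS
    exact mem_centralizer_singleton_iff.1 ((e ▸ hs : s ∈ T).2)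
  have hTne : T ≠ ⊥ := fun e => hz1 (mem_bot.1 (e ▸ hzT))
  obtain ⟨M, hM, hNM⟩ := hexmax (normalizer (T : Set G)) ⟨T, hTp, hTne, rfl⟩
  obtain ⟨y, hy, rfl⟩ := hmaxC M hM
  have hyc : ∀ t ∈ T, t * y = y * t := fun t ht =>
    mem_centralizer_singleton_iff.1 (hNM (le_normalizer ht))
  have hyT : y ∈ T := by
    have hn : zpowers y ≤ normalizer (T : Set G) := by
      refine le_trans (zpowers_le.2 ?_) (centralizer_le_normalizer _)
      exact mem_centralizer_iff.2 hyc
    have hp : IsPGroup 2 (zpowers y) := IsPGroup.of_card (n := 1) (by rw [Nat.card_zpowers, hy, pow_one])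
    refine hTD _ (IsPGroup.to_sup_of_normal_right' hp hTp hn) le_sup_right ?_ ?_
      (mem_sup_left (mem_zpowers y))
    · exact sup_le (zpowers_le.2 (mem_centralizer_singleton_iff.2 (hyc z hzT).symm)) hTz
    · exact sup_le (zpowers_le.2 (mem_centralizer_singleton_iff.2 (hyc w hwT).symm)) inf_le_right
  by_cases hyz : y = z
  · subst hyz
    -- `T` grows inside `C(w)`
    obtain ⟨R, hTR, hRC, hRp, hRidx⟩ := CfsgLib.Transfer.exists_sylow_of_le
      (N := centralizer ({w} : Set G)) (inf_le_right : T ≤ _) hTp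
    have hlt : T < R := by
      refine lt_of_le_of_ne hTR fun e => ?_
      have h1 : (S : Subgroup G).map (MulAut.conj g₀).toMonoidHom ≤ centralizer ({w} : Set G) := by
        rintro _ ⟨s, hs, rfl⟩
        rw [← hg₀]
        exact conj_centralizer.2 (by
          simpa [mul_assoc] using mem_centralizer_singleton_iff.2 (hzS s hs))
      subst e
      let R' : Sylow 2 ↥(centralizer ({w} : Set G)) :=
        (hTp.comap_of_injective (centralizer ({w} : Set G)).subtype
          (Subgroup.subtype_injective _)).toSylow hRidx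
      obtain ⟨R₂, hR₂⟩ := ((S.2.map (MulAut.conj g₀).toMonoidHom).comap_of_injective
        (centralizer ({w} : Set G)).subtype (Subgroup.subtype_injective _)).exists_le_sylow
      have h2 := Subgroup.card_le_of_le hR₂
      rw [Nat.card_congr (Sylow.equiv R₂ R').toEquiv] at h2
      have h3 : Nat.card ↥(R' : Subgroup ↥(centralizer ({w} : Set G))) = Nat.card T :=
        Nat.card_congr (subgroupOfEquivOfLe (inf_le_right : T ≤ _)).toEquiv
      have h4 : Nat.card ↥(((S : Subgroup G).map (MulAut.conj g₀).toMonoidHom).comap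
          (centralizer ({w} : Set G)).subtype) = Nat.card (S : Subgroup G) := by
        rw [← CfsgLib.Transfer.card_map_conj g₀ (S : Subgroup G)]
        exact Nat.card_congr (subgroupOfEquivOfLe h1).toEquiv
      rw [h4, h3] at h2
      have := CfsgLib.Transfer.card_lt_of_lt hTS
      omega
    have hgrow := CfsgLib.Transfer.lt_inf_normalizer hRp hlt
    exact hgrow.not_ge (hTD _ (hRp.to_le inf_le_left) hgrow.le (inf_le_right.trans hNM)
      (inf_le_left.trans hRC))
  · -- a larger centraliser in `S`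
    obtain ⟨g, hg⟩ := hconj y hy hM
    have hyW : y ∈ W := ⟨hyT.1, hyz, g, hg⟩
    have hgrow := CfsgLib.Transfer.lt_inf_normalizer S.2 hTS
    have hsub : (S : Subgroup G) ⊓ normalizer (T : Set G) ≤
        (S : Subgroup G) ⊓ centralizer ({y} : Set G) := inf_le_inf_left _ hNM
    have h1 := CfsgLib.Transfer.card_lt_of_lt (lt_of_lt_of_le hgrow hsub)
    have h2 := hwmax y hyW
    omega

end CfsgLib.Classical.TwoType
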