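import Cfsg.Agent.Lib.Classical.EightBlock
import Cfsg.Agent.Lib.Classical.AbelianSylowTwo

/-!
# The automiser of an elementary abelian Sylow 2-subgroup of order eight

`relIndex_eq_seven`: in a simple group whose involutions have solvable centralizers it has order 7.
-/

set_option autoImplicit false

namespace CfsgLib.Classical.EightAutomizer

open Cfsg CfsgLib CfsgLib.Signalizer

universe u

variable {G : Type u} [Group G] [Finite G]

/-- With solvable centralizers of involutions the automiser of `S ≅ E₈` has order seven. -/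
theorem relIndex_eq_seven [IsSimpleGroup G] (hG : ¬ IsMulCommutative G) (S : Sylow 2 G)
    (hab : IsMulCommutative (S : Subgroup G)) (h8 : Nat.card (S : Subgroup G) = 8)
    (hsq : ∀ a ∈ (S : Subgroup G), a * a = 1)
    (hC : ∀ t : G, orderOf t = 2 → Group.IsSolvable ↥(Subgroup.centralizer ({t} : Set G))) :
    (Subgroup.centralizer ((S : Subgroup G) : Set G)).relIndex
      (Subgroup.normalizer ((S : Subgroup G) : Set G)) = 7 := by
  classical
  have : Fact (Nat.Prime 2) := ⟨Nat.prime_two⟩
  have := Fintype.ofFinite G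
  obtain ⟨n, hn, s, hs, hs1, -, hall⟩ := AbSylow.exists_seven_cycle hG S hab h8
  let ρ := (S : Subgroup G).normalizerMonoidHom
  let W := ρ.range
  have hker : ρ.ker = (Subgroup.centralizer ((S : Subgroup G) : Set G)).subgroupOf
      (Subgroup.normalizer ((S : Subgroup G) : Set G)) := Subgroup.normalizerMonoidHom_ker _
  rw [show (Subgroup.centralizer ((S : Subgroup G) : Set G)).relIndex
      (Subgroup.normalizer ((S : Subgroup G) : Set G)) = Nat.card W by
    rw [← Subgroup.index_ker, hker]; rfl]
  have hW : Odd (Nat.card W) := by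
    refine CfsgLib.ZStar.odd_of_dvd ?_ (AbSylow.odd_index S)
    rw [← Subgroup.index_ker]
    have h1 : (S : Subgroup G).subgroupOf (Subgroup.normalizer ((S : Subgroup G) : Set G)) ≤ ρ.ker := by
      intro a ha
      rw [hker, Subgroup.mem_subgroupOf, Subgroup.mem_centralizer_iff]
      exact fun z hz =>
        congrArg Subtype.val (hab.is_comm.comm (⟨z, hz⟩ : (S : Subgroup G)) ⟨(a : G), ha⟩)
    exact (Subgroup.index_dvd_of_le h1).trans (Subgroup.relIndex_dvd_index_of_le Subgroup.le_normalizer)
  let T := {a : (S : Subgroup G) // a ≠ 1}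
  have := Fintype.ofFinite (S : Subgroup G)
  have hT : Nat.card T = 7 := by
    rw [Nat.card_eq_fintype_card, Fintype.card_subtype_compl, Fintype.card_subtype_eq,
      ← Nat.card_eq_fintype_card, h8]
  let _ : MulAction W T :=
    { smul := fun w a => ⟨(w : MulAut (S : Subgroup G)) a.1, fun e => a.2 (by
        simpa using congrArg (w : MulAut (S : Subgroup G)).symm e)⟩
      one_smul := fun a => rfl
      mul_smul := fun w w' a => rfl }
  have hval : ∀ (w : W) (a : T), ((w • a : T)).1 = (w : MulAut (S : Subgroup G)) a.1 :=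
    fun _ _ => rfl
  let a₀ : T := ⟨⟨s, hs⟩, fun e => hs1 (congrArg Subtype.val e)⟩
  have horb : MulAction.orbit W a₀ = Set.univ := Set.eq_univ_of_forall fun a => by
    obtain ⟨i, -, hi⟩ := hall a.1 a.1.2 fun e => a.2 (Subtype.ext e)
    exact ⟨⟨ρ ⟨n ^ i, pow_mem hn i⟩, ⟨_, rfl⟩⟩, Subtype.ext (Subtype.ext hi.symm)⟩
  set St := MulAction.stabilizer W a₀
  have hcard : Nat.card W = 7 * Nat.card St := by
    rw [← St.index_mul_card, MulAction.index_stabilizer, horb, Set.ncard_univ, hT]
  -- the stabiliser acts semiregularly on the other points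
  have hfree : ∀ w ∈ St, ∀ a : T, a ≠ a₀ → w • a = a → w = 1 := by
    intro w hw a ha hwa
    let F : Subgroup (S : Subgroup G) :=
      MonoidHom.eqLocus (w : MulAut (S : Subgroup G)).toMonoidHom (MonoidHom.id _)
    have hF0 : a₀.1 ∈ F := congrArg Subtype.val (MulAction.mem_stabilizer_iff.1 hw)
    have hFa : a.1 ∈ F := congrArg Subtype.val hwa
    have hFc : 4 ∣ Nat.card F := by
      obtain ⟨k, -, hk⟩ := (Nat.dvd_prime_pow Nat.prime_two).1
        (show Nat.card F ∣ 2 ^ 3 from (Subgroup.card_subgroup_dvd_card F).trans (by rw [h8]; rfl))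
      have hsub : ({1, a₀.1, a.1} : Finset (S : Subgroup G)) ⊆
          Finset.univ.filter (· ∈ F) := by
        intro z hz
        simp only [Finset.mem_insert, Finset.mem_singleton] at hz
        rcases hz with rfl | rfl | rfl <;> simp [hF0, hFa, F.one_mem]
      have h3 := Finset.card_le_card hsub
      rw [Finset.card_insert_of_notMem (by simp [a₀.2.symm, a.2.symm]),
        Finset.card_pair (fun e => ha (Subtype.ext e).symm), ← Fintype.card_subtype,
        ← Nat.card_eq_fintype_card] at h3
      change 3 ≤ Nat.card F at h3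
      rw [hk] at h3 ⊢
      have h2k : 2 ≤ k := by
        by_contra hlt
        have : k < 2 := by omega
        interval_cases k <;> norm_num at h3
      exact pow_dvd_pow 2 h2k
    -- the square is trivial
    have hdef : ∀ z : (S : Subgroup G), z⁻¹ * (w : MulAut (S : Subgroup G)) z ∈ F := by
      intro z
      by_cases hz : z ∈ F
      · rw [show (w : MulAut (S : Subgroup G)) z = z from hz, inv_mul_cancel]; exact F.one_mem
      · have hidx : F.index = 2 := by
          have h1 := F.card_mul_index
          have h2 : F.index ≠ 1 := fun e => hz (Subgroup.index_eq_one.1 e ▸ Subgroup.mem_top z)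
          obtain ⟨c, hc⟩ := hFc
          rw [h8, hc] at h1
          have h4 : c * F.index = 2 := Nat.eq_of_mul_eq_mul_left (show 0 < 4 by norm_num)
            (by rw [← mul_assoc, h1])
          have h5 : F.index ∣ 2 := Dvd.intro_left c h4
          exact ((Nat.dvd_prime Nat.prime_two).1 h5).resolve_left h2
        have hwz : (w : MulAut (S : Subgroup G)) z ∉ F := fun hm => hz (by
          have e : (w : MulAut (S : Subgroup G)) ((w : MulAut (S : Subgroup G)) z) =
              (w : MulAut (S : Subgroup G)) z := hm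
          exact (w : MulAut (S : Subgroup G)).injective e)
        rw [Subgroup.mul_mem_iff_of_index_two hidx, inv_mem_iff]
        exact ⟨fun h' => absurd h' hz, fun h' => absurd h' hwz⟩
    have hw2 : w ^ 2 = 1 := by
      refine Subtype.ext (MulEquiv.ext fun z => ?_)
      show (w : MulAut (S : Subgroup G)) ((w : MulAut (S : Subgroup G)) z) = z
      set g := z⁻¹ * (w : MulAut (S : Subgroup G)) z with hg
      have hgw : (w : MulAut (S : Subgroup G)) g = g := hdef z
      have e : (w : MulAut (S : Subgroup G)) z = z * g := by rw [hg, mul_inv_cancel_left]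
      rw [e, map_mul, hgw, e, mul_assoc, show g * g = 1 from Subtype.ext (hsq _ g.2), mul_one]
    have h1 : orderOf w ∣ 2 := orderOf_dvd_of_pow_eq_one hw2
    rcases (Nat.dvd_prime Nat.prime_two).1 h1 with e | e
    · exact orderOf_eq_one_iff.1 e
    · exact absurd (even_iff_two_dvd.2 ((dvd_of_eq e.symm).trans (orderOf_dvd_natCard w))) (Nat.not_even_iff_odd.2 hW)
  have hSt_odd : Odd (Nat.card St) :=
    CfsgLib.ZStar.odd_of_dvd (Subgroup.card_subgroup_dvd_card St) hW
  obtain ⟨a₁, ha₁⟩ : ∃ a : T, a ≠ a₀ := by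
    by_contra hcon
    simp only [not_exists, ne_eq, not_not] at hcon
    have : Subsingleton T := ⟨fun a b => (hcon a).trans (hcon b).symm⟩
    have := Finite.card_le_one_iff_subsingleton.2 this
    omega
  have hle : Nat.card St ≤ 6 := by
    have hinj : Function.Injective fun w : St =>
        (⟨(w : W) • a₁, fun e => ha₁ (by
          have h2 : (w : W) • a₀ = a₀ := MulAction.mem_stabilizer_iff.1 w.2
          exact smul_left_cancel (w : W) (e.trans h2.symm))⟩ : {a : T // a ≠ a₀}) := by
      intro w w' e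
      have e' : (w : W) • a₁ = (w' : W) • a₁ := congrArg Subtype.val e
      refine Subtype.ext (inv_mul_eq_one.1 ?_).symm
      refine hfree _ (mul_mem (inv_mem w'.2) w.2) a₁ ha₁ ?_
      rw [mul_smul, e', inv_smul_smul]
    refine (Nat.card_le_card_of_injective _ hinj).trans (le_of_eq ?_)
    rw [Nat.card_eq_fintype_card, Fintype.card_subtype_compl, Fintype.card_subtype_eq,
      ← Nat.card_eq_fintype_card, hT]
  obtain h | h | h : Nat.card St = 1 ∨ Nat.card St = 3 ∨ Nat.card St = 5 := by
    have := Nat.odd_iff.1 hSt_odd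
    omega
  · omega
  · exfalso
    have : Fact (Nat.Prime 3) := ⟨Nat.prime_three⟩
    obtain ⟨⟨w, hwSt⟩, hw⟩ := exists_prime_orderOf_dvd_card' 3 (dvd_of_eq h.symm)
    rw [Subgroup.orderOf_mk] at hw
    obtain ⟨⟨m, hm⟩, hmw⟩ := w.2
    obtain ⟨b, r, hr, hb⟩ := Nat.exists_eq_two_pow_mul_odd (orderOf_pos m).ne'
    set x := m ^ 2 ^ b with hx
    have hxN : x ∈ Subgroup.normalizer ((S : Subgroup G) : Set G) := pow_mem hm _
    set v : W := w ^ 2 ^ b with hv
    have hvx : ∀ a : (S : Subgroup G),
        (((v : MulAut (S : Subgroup G)) a : (S : Subgroup G)) : G) = x * a * x⁻¹ := by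
      intro a
      rw [hv, SubgroupClass.coe_pow, ← hmw, ← map_pow]
      rfl
    have hv3 : orderOf v = 3 := by
      rw [hv, orderOf_pow' w (by positivity), hw,
        Nat.Coprime.gcd_eq_one (Nat.Coprime.pow_right b (by norm_num)), Nat.div_one]
    have hvSt : v ∈ St := pow_mem hwSt _
    set t : G := s
    have ht : orderOf t = 2 := orderOf_eq_two_of hs1 (hsq s hs)
    have hxt : x * t * x⁻¹ = t := by
      rw [← hvx ⟨s, hs⟩]
      exact congrArg (fun a : T => (a.1 : G)) (MulAction.mem_stabilizer_iff.1 hvSt)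
    have hStv : ∀ w' ∈ St, w' ∈ Subgroup.zpowers v := by
      intro w' hw'
      have e : Subgroup.zpowers v = St := by
        refine Subgroup.eq_of_le_of_card_ge (Subgroup.zpowers_le.2 hvSt) ?_
        rw [Nat.card_zpowers, hv3, h]
      rw [e]; exact hw'
    refine EightBlock.false_of_setting (S := S) (t := t) (x := x)
      { ht := ht
        htS := hs
        comm := fun a ha b hb =>
          congrArg Subtype.val (hab.is_comm.comm (⟨a, ha⟩ : (S : Subgroup G)) ⟨b, hb⟩)
        sq := hsq
        card := h8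
        fus := fun a ha ha1 => ?_
        solv := hC t ht
        hxN := hxN
        hxt := Subgroup.mem_centralizer_singleton_iff.2 (mul_inv_eq_iff_eq_mul.1 hxt)
        hxodd := ?_
        hxfix := fun a ha hax => ?_
        hx3 := ?_
        gen := fun k hk hkt => ?_ }
    · obtain ⟨i, -, hi⟩ := hall a ha ha1
      exact (isConj_iff.2 ⟨n ^ i, hi.symm⟩).symm
    · rw [hx, orderOf_pow' m (by positivity), hb, Nat.gcd_eq_right (dvd_mul_right _ _),
        Nat.mul_div_cancel_left _ (by positivity)]
      exact hr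
    · by_contra hcon
      simp only [not_or] at hcon
      have hv1 : v = 1 := hfree v hvSt ⟨⟨a, ha⟩, fun e => hcon.1 (congrArg Subtype.val e)⟩
        (fun e => hcon.2 (congrArg (fun z : T => (z.1 : G)) e))
        (Subtype.ext (Subtype.ext ((hvx ⟨a, ha⟩).trans hax)))
      rw [hv1, orderOf_one] at hv3
      omega
    · have e : ρ ⟨x ^ 3, pow_mem hxN 3⟩ = 1 := by
        have h3 : (v : MulAut (S : Subgroup G)) ^ 3 = 1 := by
          rw [← SubgroupClass.coe_pow, ← hv3, pow_orderOf_eq_one]; rfl
        have hxv : (v : MulAut (S : Subgroup G)) = ρ ⟨x, hxN⟩ :=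
          MulEquiv.ext fun a => Subtype.ext (hvx a)
        rw [← h3, hxv, ← map_pow]
        rfl
      exact (hker ▸ MonoidHom.mem_ker.2 e : (⟨x ^ 3, pow_mem hxN 3⟩ :
        Subgroup.normalizer ((S : Subgroup G) : Set G)) ∈
          (Subgroup.centralizer ((S : Subgroup G) : Set G)).subgroupOf _)
    · have hk' : (⟨ρ ⟨k, hk⟩, ⟨_, rfl⟩⟩ : W) ∈ St :=
        MulAction.mem_stabilizer_iff.2 (Subtype.ext (Subtype.ext hkt))
      obtain ⟨i, hi⟩ := (mem_powers_iff_mem_zpowers.2 (hStv _ hk') :
        (⟨ρ ⟨k, hk⟩, ⟨_, rfl⟩⟩ : W) ∈ Submonoid.powers v)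
      have hi' : (v : MulAut (S : Subgroup G)) ^ i = ρ ⟨k, hk⟩ :=
        congrArg Subtype.val hi
      refine ⟨i, ?_⟩
      have hxv : (v : MulAut (S : Subgroup G)) = ρ ⟨x, hxN⟩ :=
        MulEquiv.ext fun a => Subtype.ext (hvx a)
      have e : ρ ((⟨x, hxN⟩ ^ i)⁻¹ * ⟨k, hk⟩) = 1 := by
        rw [map_mul, map_inv, map_pow, ← hxv, hi', inv_mul_cancel]
      rw [← MonoidHom.mem_ker, hker, Subgroup.mem_subgroupOf] at e
      simpa using e
  · exfalso
    have : Fact (Nat.Prime 5) := ⟨by norm_num⟩
    obtain ⟨⟨w, hwSt⟩, hw⟩ := exists_prime_orderOf_dvd_card' 5 (dvd_of_eq h.symm)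
    rw [Subgroup.orderOf_mk] at hw
    have hp : IsPGroup 5 (Subgroup.zpowers w) :=
      IsPGroup.of_card (n := 1) (by rw [Nat.card_zpowers, hw, pow_one])
    have hmod := hp.card_modEq_card_fixedPoints T
    have hfix : MulAction.fixedPoints (Subgroup.zpowers w) T = {a₀} := by
      ext a
      refine ⟨fun ha => ?_, fun ha g => ?_⟩
      · by_contra hne
        have e := hfree w hwSt a hne (ha ⟨w, Subgroup.mem_zpowers w⟩)
        rw [e, orderOf_one] at hw
        omega
      · rw [Set.mem_singleton_iff.1 ha]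
        exact MulAction.mem_stabilizer_iff.1 (Subgroup.zpowers_le.2 hwSt g.2)
    rw [hT, hfix, Nat.card_coe_set_eq, Set.ncard_singleton] at hmod
    exact absurd hmod (by decide)

end CfsgLib.Classical.EightAutomizer
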