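import Cfsg.Prelude.Def_Classical
import Cfsg.Prelude.Def_ClassicalGeometry

/-!
Isometry groups of a two-argument function, orthogonal decompositions, and the dictionary to the
matrix groups `Cfsg.preserving`.
-/

set_option autoImplicit false

namespace CfsgLib.Classical

/-- The linear automorphisms preserving a two-argument function. -/
def Iso (F : Type*) [Field F] {V : Type*} [AddCommGroup V] [Module F V] {X : Type*}
    (f : V → V → X) : Subgroup (V ≃ₗ[F] V) where
  carrier := {g | ∀ u v, f (g u) (g v) = f u v}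
  mul_mem' {a b} ha hb := fun u v => by
    simp only [LinearEquiv.mul_apply]
    rw [ha, hb]
  one_mem' := fun _ _ => rfl
  inv_mem' {a} ha := fun u v => by
    have h := ha (a⁻¹ u) (a⁻¹ v)
    simp only [LinearEquiv.coe_inv, LinearEquiv.apply_symm_apply] at h
    exact h.symm

variable {F : Type*} [Field F] {V : Type*} [AddCommGroup V] [Module F V] {X : Type*}

theorem mem_Iso {f : V → V → X} {g : V ≃ₗ[F] V} : g ∈ Iso F f ↔ ∀ u v, f (g u) (g v) = f u v :=
  Iff.rfl

theorem Iso.map_eq {f : V → V → X} (g : Iso F f) (u v : V) :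
    f ((g : V ≃ₗ[F] V) u) ((g : V ≃ₗ[F] V) v) = f u v := g.2 u v

/-- The restriction of a two-argument function to a submodule. -/
def restr (f : V → V → X) (W : Submodule F V) : W → W → X := fun u v => f u v

@[simp] theorem restr_apply (f : V → V → X) (W : Submodule F V) (u v : W) :
    restr f W u v = f u v := rfl

/-- The elements of `Iso F f` mapping the submodule `W` onto itself. -/
def isoStab (f : V → V → X) (W : Submodule F V) : Subgroup (Iso F f) where
  carrier := {g | ∀ x, x ∈ W ↔ (g : V ≃ₗ[F] V) x ∈ W}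
  mul_mem' {a b} ha hb := fun x => by
    simp only [Subgroup.coe_mul, LinearEquiv.mul_apply]
    exact (hb x).trans (ha _)
  one_mem' := fun _ => Iff.rfl
  inv_mem' {a} ha := fun x => by
    have h := ha (((a : V ≃ₗ[F] V)⁻¹) x)
    simp only [LinearEquiv.coe_inv, LinearEquiv.apply_symm_apply] at h
    simpa [LinearEquiv.coe_inv] using h.symm

/-- The elements of `Iso F f` fixing every vector of `S`. -/
def isoFix (F : Type*) [Field F] [Module F V] (f : V → V → X) (S : Set V) :
    Subgroup (Iso F f) where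
  carrier := {g | ∀ x ∈ S, (g : V ≃ₗ[F] V) x = x}
  mul_mem' {a b} ha hb := fun x hx => by
    simp only [Subgroup.coe_mul, LinearEquiv.mul_apply]
    rw [hb x hx, ha x hx]
  one_mem' := fun _ _ => rfl
  inv_mem' {a} ha := fun x hx => by
    have h := congrArg (fun y => ((a : V ≃ₗ[F] V)⁻¹ : V ≃ₗ[F] V) y) (ha x hx)
    simp only [LinearEquiv.coe_inv, LinearEquiv.symm_apply_apply] at h
    simpa [LinearEquiv.coe_inv] using h.symm

theorem mem_isoStab {f : V → V → X} {W : Submodule F V} {g : Iso F f} :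
    g ∈ isoStab f W ↔ ∀ x, x ∈ W ↔ (g : V ≃ₗ[F] V) x ∈ W := Iff.rfl

theorem mem_isoFix {f : V → V → X} {S : Set V} {g : Iso F f} :
    g ∈ isoFix F f S ↔ ∀ x ∈ S, (g : V ≃ₗ[F] V) x = x := Iff.rfl

/-- Transport of an isometry group along a linear equivalence. -/
def isoCongr {V' : Type*} [AddCommGroup V'] [Module F V'] {X' : Type*} {f : V → V → X}
    {f' : V' → V' → X'} (e : V ≃ₗ[F] V')
    (h : ∀ u v u' v', f' (e u) (e v) = f' (e u') (e v') ↔ f u v = f u' v') :
    Iso F f ≃* Iso F f' where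
  toFun g := ⟨e.symm.trans ((g : V ≃ₗ[F] V).trans e), fun u v => by
    have h' := (h ((g : V ≃ₗ[F] V) (e.symm u)) ((g : V ≃ₗ[F] V) (e.symm v)) (e.symm u)
      (e.symm v)).2 (g.2 _ _)
    simpa using h'⟩
  invFun g := ⟨e.trans ((g : V' ≃ₗ[F] V').trans e.symm), fun u v => by
    apply (h _ _ _ _).1
    simpa using g.2 (e u) (e v)⟩
  left_inv g := by ext; simp
  right_inv g := by ext; simp
  map_mul' g g' := by ext; simp

/-- Isometry groups of isometric spaces are isomorphic. -/
def isoCongrEq {V' : Type*} [AddCommGroup V'] [Module F V'] {f : V → V → X}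
    {f' : V' → V' → X} (e : V ≃ₗ[F] V') (h : ∀ u v, f' (e u) (e v) = f u v) :
    Iso F f ≃* Iso F f' :=
  isoCongr e fun u v u' v' => by rw [h, h]

section Decomposition

variable [Add X] {f : V → V → X} {W U : Submodule F V}

/-- The automorphism of `V = W ⊕ U` acting by a pair of automorphisms of the summands. -/
noncomputable def sumEquiv (hWU : IsCompl W U) (a : W ≃ₗ[F] W) (b : U ≃ₗ[F] U) : V ≃ₗ[F] V :=
  (W.prodEquivOfIsCompl U hWU).symm.trans
    ((a.prodCongr b).trans (W.prodEquivOfIsCompl U hWU))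

theorem sumEquiv_apply (hWU : IsCompl W U) (a : W ≃ₗ[F] W) (b : U ≃ₗ[F] U) (w : W) (u : U) :
    sumEquiv hWU a b ((w : V) + u) = (a w : V) + b u := by
  have h : (W.prodEquivOfIsCompl U hWU).symm ((w : V) + u) = (w, u) := by
    rw [LinearEquiv.symm_apply_eq]; rfl
  simp [sumEquiv, h]

theorem sumEquiv_apply_left (hWU : IsCompl W U) (a : W ≃ₗ[F] W) (b : U ≃ₗ[F] U) (w : W) :
    sumEquiv hWU a b (w : V) = (a w : V) := by
  simpa using sumEquiv_apply hWU a b w 0

theorem sumEquiv_apply_right (hWU : IsCompl W U) (a : W ≃ₗ[F] W) (b : U ≃ₗ[F] U) (u : U) :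
    sumEquiv hWU a b (u : V) = (b u : V) := by
  simpa using sumEquiv_apply hWU a b 0 u

omit [Add X] in
theorem exists_decomp (hWU : IsCompl W U) (x : V) : ∃ (w : W) (u : U), (w : V) + u = x := by
  obtain ⟨w, u, hw, hu, h⟩ := Submodule.codisjoint_iff_exists_add_eq.1 hWU.codisjoint x
  exact ⟨⟨w, hw⟩, ⟨u, hu⟩, h⟩

theorem sumEquiv_mem (hWU : IsCompl W U)
    (hadd : ∀ (w w' : W) (u u' : U), f ((w : V) + u) ((w' : V) + u') = f w w' + f u u')
    {a : W ≃ₗ[F] W} {b : U ≃ₗ[F] U} (ha : a ∈ Iso F (restr f W)) (hb : b ∈ Iso F (restr f U)) :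
    sumEquiv hWU a b ∈ Iso F f := fun x y => by
  obtain ⟨w, u, rfl⟩ := exists_decomp hWU x
  obtain ⟨w', u', rfl⟩ := exists_decomp hWU y
  rw [sumEquiv_apply, sumEquiv_apply, hadd, hadd]
  exact congrArg₂ (· + ·) (ha w w') (hb u u')

/-- Gluing isometries of two orthogonal complementary subspaces. -/
noncomputable def sumHom (hWU : IsCompl W U)
    (hadd : ∀ (w w' : W) (u u' : U), f ((w : V) + u) ((w' : V) + u') = f w w' + f u u') :
    Iso F (restr f W) × Iso F (restr f U) →* Iso F f where
  toFun p := ⟨sumEquiv hWU p.1.1 p.2.1, sumEquiv_mem hWU hadd p.1.2 p.2.2⟩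
  map_one' := by
    ext x
    obtain ⟨w, u, rfl⟩ := exists_decomp hWU x
    simp [sumEquiv_apply]
  map_mul' p p' := by
    ext x
    obtain ⟨w, u, rfl⟩ := exists_decomp hWU x
    simp [sumEquiv_apply]

theorem sumHom_apply (hWU : IsCompl W U)
    (hadd : ∀ (w w' : W) (u u' : U), f ((w : V) + u) ((w' : V) + u') = f w w' + f u u')
    (p : Iso F (restr f W) × Iso F (restr f U)) (w : W) (u : U) :
    ((sumHom hWU hadd p : Iso F f) : V ≃ₗ[F] V) ((w : V) + u) =
      ((p.1 : W ≃ₗ[F] W) w : V) + ((p.2 : U ≃ₗ[F] U) u : V) :=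
  sumEquiv_apply hWU _ _ w u

theorem sumHom_injective (hWU : IsCompl W U)
    (hadd : ∀ (w w' : W) (u u' : U), f ((w : V) + u) ((w' : V) + u') = f w w' + f u u') :
    Function.Injective (sumHom hWU hadd) := by
  intro p p' h
  refine Prod.ext ?_ ?_ <;> ext x
  · have h1 : ((sumHom hWU hadd p : Iso F f) : V ≃ₗ[F] V) ((x : V) + (0 : U)) =
        ((sumHom hWU hadd p' : Iso F f) : V ≃ₗ[F] V) ((x : V) + (0 : U)) := by rw [h]
    rw [sumHom_apply, sumHom_apply] at h1
    simpa using h1
  · have h1 : ((sumHom hWU hadd p : Iso F f) : V ≃ₗ[F] V) (((0 : W) : V) + x) =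
        ((sumHom hWU hadd p' : Iso F f) : V ≃ₗ[F] V) (((0 : W) : V) + x) := by rw [h]
    rw [sumHom_apply, sumHom_apply] at h1
    simpa using h1

omit [Add X] in
/-- An automorphism preserving a submodule, restricted to it. -/
def restrictEquiv (g : V ≃ₗ[F] V) (W : Submodule F V) (h : ∀ x, x ∈ W ↔ g x ∈ W) : W ≃ₗ[F] W :=
  g.ofSubmodules W W (by
    ext x
    rw [Submodule.mem_map]
    constructor
    · rintro ⟨y, hy, rfl⟩
      exact (h y).1 hy
    · intro hx
      exact ⟨g.symm x, (h _).2 (by simpa using hx), by simp⟩)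

omit [Add X] in
@[simp] theorem coe_restrictEquiv (g : V ≃ₗ[F] V) (W : Submodule F V)
    (h : ∀ x, x ∈ W ↔ g x ∈ W) (x : W) : (restrictEquiv g W h x : V) = g x := rfl

theorem range_sumHom (hWU : IsCompl W U)
    (hadd : ∀ (w w' : W) (u u' : U), f ((w : V) + u) ((w' : V) + u') = f w w' + f u u')
    (hpres : ∀ g ∈ Iso F f, (∀ x, x ∈ W ↔ g x ∈ W) → ∀ u ∈ U, g u ∈ U) :
    (sumHom hWU hadd).range = isoStab f W := by
  ext g
  constructor
  · rintro ⟨p, rfl⟩ x
    obtain ⟨w, u, rfl⟩ := exists_decomp hWU x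
    rw [sumHom_apply]
    constructor
    · intro h
      have hu : (u : V) ∈ W := (Submodule.add_mem_iff_right W w.2).1 h
      have hu0 : (u : V) = 0 := Submodule.disjoint_def.1 hWU.disjoint _ hu u.2
      have hu00 : u = 0 := Subtype.ext hu0
      simp [hu00]
    · intro h
      have hu : (((p.2 : U ≃ₗ[F] U) u : U) : V) ∈ W :=
        (Submodule.add_mem_iff_right W ((p.1 : W ≃ₗ[F] W) w).2).1 h
      have hu0 : (((p.2 : U ≃ₗ[F] U) u : U) : V) = 0 :=
        Submodule.disjoint_def.1 hWU.disjoint _ hu ((p.2 : U ≃ₗ[F] U) u).2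
      have hu00 : u = 0 := by simpa using hu0
      simp [hu00]
  · intro hg
    have hgU : ∀ x, x ∈ U ↔ (g : V ≃ₗ[F] V) x ∈ U := fun x =>
      ⟨hpres _ g.2 hg x, fun hx => by
        have hg' : g⁻¹ ∈ isoStab f W := (isoStab f W).inv_mem hg
        simpa [LinearEquiv.coe_inv] using hpres _ (g⁻¹).2 hg' _ hx⟩
    refine ⟨(⟨restrictEquiv g.1 W hg, fun a b => ?_⟩, ⟨restrictEquiv g.1 U hgU, fun a b => ?_⟩), ?_⟩
    · simp only [restr_apply]
      exact g.2 _ _
    · simp only [restr_apply]
      exact g.2 _ _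
    · ext x
      obtain ⟨w, u, rfl⟩ := exists_decomp hWU x
      rw [sumHom_apply, map_add]
      rfl

/-- The stabiliser of `W` is the product of the isometry groups of `W` and of its complement. -/
noncomputable def isoStabEquiv (hWU : IsCompl W U)
    (hadd : ∀ (w w' : W) (u u' : U), f ((w : V) + u) ((w' : V) + u') = f w w' + f u u')
    (hpres : ∀ g ∈ Iso F f, (∀ x, x ∈ W ↔ g x ∈ W) → ∀ u ∈ U, g u ∈ U) :
    Iso F (restr f W) × Iso F (restr f U) ≃* isoStab f W :=
  (MonoidHom.ofInjective (sumHom_injective hWU hadd)).trans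
    (MulEquiv.subgroupCongr (range_sumHom hWU hadd hpres))

omit [Add X] in
theorem isoFix_le_isoStab : isoFix F f (W : Set V) ≤ isoStab f W := by
  intro g hg x
  constructor
  · intro hx; rw [hg x hx]; exact hx
  · intro hx
    have hinv : g⁻¹ ∈ isoFix F f (W : Set V) := (isoFix F f (W : Set V)).inv_mem hg
    have h1 := hinv _ hx
    simp only [Subgroup.coe_inv, LinearEquiv.coe_inv, LinearEquiv.symm_apply_apply] at h1
    rwa [← h1] at hx

/-- The pointwise stabiliser of `W` is the isometry group of its complement. -/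
noncomputable def isoFixEquiv (hWU : IsCompl W U)
    (hadd : ∀ (w w' : W) (u u' : U), f ((w : V) + u) ((w' : V) + u') = f w w' + f u u')
    (hpres : ∀ g ∈ Iso F f, (∀ x, x ∈ W ↔ g x ∈ W) → ∀ u ∈ U, g u ∈ U) :
    Iso F (restr f U) ≃* isoFix F f (W : Set V) :=
  (MonoidHom.ofInjective
    (f := (sumHom hWU hadd).comp (MonoidHom.inr (Iso F (restr f W)) (Iso F (restr f U))))
    (fun a b h => (Prod.ext_iff.1 (sumHom_injective hWU hadd h)).2)).trans
    (MulEquiv.subgroupCongr (by
      ext g
      constructor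
      · rintro ⟨b, rfl⟩ x hx
        have h := sumHom_apply hWU hadd (1, b) ⟨x, hx⟩ 0
        simpa using h
      · intro hg
        have hgs : g ∈ (sumHom hWU hadd).range := by
          rw [range_sumHom hWU hadd hpres]; exact isoFix_le_isoStab hg
        obtain ⟨⟨a, b⟩, rfl⟩ := hgs
        have ha : a = 1 := by
          ext w
          have h := hg (w : V) w.2
          have h' := sumHom_apply hWU hadd (a, b) w 0
          simp only [ZeroMemClass.coe_zero, add_zero, map_zero] at h'
          simpa [h'] using h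
        exact ⟨b, by simp [ha]⟩))

end Decomposition

section Preserving

open scoped Matrix

variable {ι : Type} [Fintype ι] [DecidableEq ι]

/-- The matrix group preserving `f` is the isometry group of `f`. -/
noncomputable def preservingEquivIso (f : (ι → F) → (ι → F) → F) :
    Cfsg.preserving (Units.coeHom (Matrix ι ι F)) f ≃* Iso F f where
  toFun g := ⟨LinearMap.GeneralLinearGroup.generalLinearEquiv F _
      (Matrix.GeneralLinearGroup.toLin (g : Matrix.GeneralLinearGroup ι F)), fun u v => g.2 u v⟩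
  invFun g := ⟨Matrix.GeneralLinearGroup.toLin.symm
      ((LinearMap.GeneralLinearGroup.generalLinearEquiv F _).symm (g : (ι → F) ≃ₗ[F] (ι → F))),
    fun u v => by
      have h : ∀ w, Units.coeHom (Matrix ι ι F) (Matrix.GeneralLinearGroup.toLin.symm
        ((LinearMap.GeneralLinearGroup.generalLinearEquiv F _).symm
          (g : (ι → F) ≃ₗ[F] (ι → F)))) *ᵥ w = (g : (ι → F) ≃ₗ[F] (ι → F)) w := by
        intro w
        conv_rhs => rw [← MulEquiv.apply_symm_apply
          (LinearMap.GeneralLinearGroup.generalLinearEquiv F (ι → F)) (g : (ι → F) ≃ₗ[F] (ι → F)),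
          ← MulEquiv.apply_symm_apply (Matrix.GeneralLinearGroup.toLin (n := ι) (R := F))
            ((LinearMap.GeneralLinearGroup.generalLinearEquiv F _).symm
              (g : (ι → F) ≃ₗ[F] (ι → F)))]
        rfl
      rw [h, h]
      exact g.2 u v⟩
  left_inv g := by simp
  right_inv g := by simp
  map_mul' g g' := by ext; simp

open scoped Matrix

theorem preservingEquivIso_apply (f : (ι → F) → (ι → F) → F)
    (g : Cfsg.preserving (Units.coeHom (Matrix ι ι F)) f) (v : ι → F) :
    (preservingEquivIso f g : (ι → F) ≃ₗ[F] (ι → F)) v =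
      ((g : Matrix.GeneralLinearGroup ι F) : Matrix ι ι F) *ᵥ v := rfl

theorem preservingEquivIso_symm_mulVec (f : (ι → F) → (ι → F) → F) (g : Iso F f) (v : ι → F) :
    (((preservingEquivIso f).symm g : Matrix.GeneralLinearGroup ι F) : Matrix ι ι F) *ᵥ v =
      (g : (ι → F) ≃ₗ[F] (ι → F)) v := by
  conv_rhs => rw [← (preservingEquivIso f).apply_symm_apply g, preservingEquivIso_apply]

end Preserving

end CfsgLib.Classical
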