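import Mathlib.LinearAlgebra.Matrix.GeneralLinearGroup.Card
import Mathlib.LinearAlgebra.Matrix.Transvection
import Mathlib.LinearAlgebra.FiniteDimensional.Basic
import Mathlib.LinearAlgebra.Dual.Lemmas
import Mathlib.GroupTheory.Perm.Cycle.Type
import Mathlib.GroupTheory.PGroup

/-!
Subgroups of order `2520` of the linear group of a four-dimensional space over the field with two
elements are transitive on pairs of distinct nonzero vectors.
-/

set_option autoImplicit false

namespace CfsgLib.Classical.AltSevenTrans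

open Module

section Basics

variable {F : Type*} [Field F] [Fintype F] {V : Type*} [AddCommGroup V] [Module F V]

theorem eq_zero_or_one (hF : Fintype.card F = 2) (c : F) : c = 0 ∨ c = 1 := by
  classical
  have h : ({0, 1} : Finset F) = Finset.univ :=
    Finset.eq_univ_of_card _ (by rw [Finset.card_pair zero_ne_one, hF])
  have := h ▸ Finset.mem_univ c
  simpa using this

theorem add_self_eq_zero' (hF : Fintype.card F = 2) (x : V) : x + x = 0 := by
  rcases eq_zero_or_one hF (1 + 1 : F) with h | h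
  · calc x + x = (1 + 1 : F) • x := by rw [add_smul, one_smul]
      _ = 0 := by rw [h, zero_smul]
  · exact absurd (add_right_cancel (h.trans (zero_add 1).symm)) one_ne_zero

theorem eq_of_add_eq_zero' (hF : Fintype.card F = 2) {x y : V} (h : x + y = 0) : x = y :=
  add_right_cancel (h.trans (add_self_eq_zero' hF y).symm)

theorem li_single {x : V} (hx : x ≠ 0) : LinearIndependent F ![x] := by
  rw [linearIndependent_unique_iff]
  simpa using hx

theorem li_pair (hF : Fintype.card F = 2) {x y : V} (hx : x ≠ 0) (hy : y ≠ 0) (hne : x ≠ y) :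
    LinearIndependent F ![x, y] := by
  rw [LinearIndependent.pair_iff' hx]
  intro a
  rcases eq_zero_or_one hF a with rfl | rfl
  · rw [zero_smul]; exact hy.symm
  · rw [one_smul]; exact hne

/-- Two independent families are carried to each other by a linear automorphism. -/
theorem exists_equiv_map [FiniteDimensional F V] {ι : Type*} {a b : ι → V}
    (ha : LinearIndependent F a) (hb : LinearIndependent F b) :
    ∃ g : V ≃ₗ[F] V, ∀ i, g (a i) = b i := by
  obtain ⟨g, hg⟩ := Submodule.exists_linearEquiv_restrict_eq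
    ((Basis.span ha).equiv (Basis.span hb) (Equiv.refl ι))
  refine ⟨g, fun i => ?_⟩
  have h1 := hg (Basis.span ha i)
  rw [Basis.equiv_apply, Basis.span_apply, Equiv.refl_apply] at h1
  simpa [Basis.span_apply] using h1.symm

/-- The order of the linear group. -/
theorem card_linearEquiv [FiniteDimensional F V] (hF : Fintype.card F = 2) {n : ℕ}
    (hn : finrank F V = n) :
    Nat.card (V ≃ₗ[F] V) = ∏ i : Fin n, (2 ^ n - 2 ^ (i : ℕ)) := by
  let b := Module.finBasisOfFinrankEq F V hn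
  rw [← Nat.card_congr ((Matrix.GeneralLinearGroup.toLin' b).trans
    (LinearMap.GeneralLinearGroup.generalLinearEquiv F V)).toEquiv, Matrix.card_GL_field, hF]

/-- The transvection with centre `a` and axis the kernel of `φ`. -/
def tv (hF : Fintype.card F = 2) (φ : V →ₗ[F] F) (a : V) (h : φ a = 0) : V ≃ₗ[F] V :=
  LinearEquiv.ofInvolutive (LinearMap.id + φ.smulRight a) fun x => by
    show x + φ x • a + φ (x + φ x • a) • a = x
    rw [map_add, map_smul, h, smul_zero, add_zero, add_assoc, add_self_eq_zero' hF, add_zero]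

@[simp] theorem tv_apply (hF : Fintype.card F = 2) (φ : V →ₗ[F] F) (a : V) (h : φ a = 0) (x : V) :
    tv hF φ a h x = x + φ x • a := rfl

end Basics

section Main

variable {F : Type*} [Field F] [Fintype F] {V : Type*} [AddCommGroup V] [Module F V]
  [FiniteDimensional F V] (hF : Fintype.card F = 2) (hV : finrank F V = 4)
  {H : Subgroup (V ≃ₗ[F] V)} (hH : Nat.card H = 2520)

include hF hV hH

omit hH in
theorem card_space : Nat.card V = 16 := by
  rw [Module.natCard_eq_pow_finrank (K := F), hV, Nat.card_eq_fintype_card, hF]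
  norm_num

theorem transitive {v w : V} (hv : v ≠ 0) (hw : w ≠ 0) : ∃ g ∈ H, g v = w := by
  classical
  have : Finite V := Module.finite_of_finite F
  have : Finite (V ≃ₗ[F] V) := Finite.of_injective _ (DFunLike.coe_injective (F := V ≃ₗ[F] V))
  have hX : ({x : V | x ≠ 0} : Set V).ncard = 15 := by
    rw [show ({x : V | x ≠ 0} : Set V) = Set.univ \ {0} by ext; simp,
      Set.ncard_sdiff (Set.subset_univ _), Set.ncard_univ, card_space hF hV, Set.ncard_singleton]
  have horbL : MulAction.orbit (V ≃ₗ[F] V) v = {x : V | x ≠ 0} := by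
    ext x
    constructor
    · rintro ⟨g, rfl⟩
      exact fun h => hv (g.injective (h.trans (map_zero g).symm))
    · intro hx
      obtain ⟨g, hg⟩ := exists_equiv_map (li_single (F := F) hv) (li_single (F := F) hx)
      exact ⟨g, hg 0⟩
  have hindex := MulAction.index_stabilizer (V ≃ₗ[F] V) v
  rw [horbL, hX] at hindex
  set K := MulAction.stabilizer (V ≃ₗ[F] V) v
  have hK : Nat.card K = 1344 := by
    have := K.card_mul_index
    rw [hindex, card_linearEquiv hF hV] at this
    have h2 : ∏ i : Fin 4, (2 ^ 4 - 2 ^ (i : ℕ)) = 20160 := by decide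
    omega
  set A := MulAction.stabilizer H v
  have hA : Nat.card A ∣ 1344 := by
    rw [← hK, ← Subgroup.card_subtype H A]
    refine Subgroup.card_dvd_of_le ?_
    rintro _ ⟨g, hg, rfl⟩
    exact hg
  have hmul := A.card_mul_index
  rw [MulAction.index_stabilizer, hH] at hmul
  have hsub : MulAction.orbit H v ⊆ {x : V | x ≠ 0} := by
    rintro _ ⟨g, rfl⟩
    exact fun h => hv ((g : V ≃ₗ[F] V).injective (h.trans (map_zero _).symm))
  have hle : (MulAction.orbit H v).ncard ≤ 15 := hX ▸ Set.ncard_le_ncard hsub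
  have h168 : Nat.card A ∣ 168 := (Nat.dvd_gcd (Dvd.intro _ hmul) hA : Nat.card A ∣ Nat.gcd 2520 1344)
  have hle168 : Nat.card A ≤ 168 := Nat.le_of_dvd (by norm_num) h168
  have h15 : (MulAction.orbit H v).ncard = 15 := by nlinarith
  have heq : MulAction.orbit H v = {x : V | x ≠ 0} :=
    Set.eq_of_subset_of_ncard_le hsub (by rw [hX, h15])
  obtain ⟨g, hg⟩ := heq.ge (show w ∈ {x : V | x ≠ 0} from hw)
  exact ⟨g, g.2, hg⟩

/-- A hyperplane missing `v` all whose transvections fixing `v` lie in `H`. -/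
def Good (H : Subgroup (V ≃ₗ[F] V)) (v : V) (U : Submodule F V) : Prop :=
  finrank F U = 3 ∧ v ∉ U ∧ ∀ A ∈ U, A ≠ 0 → ∀ (φ : V →ₗ[F] F) (hA : φ A = 0), φ v = 0 →
    tv hF φ A hA ∈ H

omit hV hH in
theorem Good.map {v : V} {U : Submodule F V} (hU : Good hF H v U) {g : V ≃ₗ[F] V} (hg : g ∈ H) :
    Good hF H (g v) (U.map (g : V →ₗ[F] V)) := by
  obtain ⟨hfin, hv, hall⟩ := hU
  refine ⟨by rw [LinearEquiv.finrank_map_eq, hfin], ?_, ?_⟩
  · rintro ⟨x, hx, hxv⟩
    exact hv ((g.injective hxv : x = v) ▸ hx)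
  · rintro _ ⟨A, hA, rfl⟩ hA0 φ hφA hφv
    have hA0' : A ≠ 0 := fun h => hA0 (by simp [h])
    have h1 := hall A hA hA0' (φ.comp (g : V →ₗ[F] V)) hφA hφv
    have : tv hF φ ((g : V →ₗ[F] V) A) hφA = g * tv hF (φ.comp (g : V →ₗ[F] V)) A hφA * g⁻¹ := by
      refine LinearEquiv.ext fun x => ?_
      show x + φ x • g A = g (g.symm x + φ (g (g.symm x)) • A)
      rw [map_add, map_smul, LinearEquiv.apply_symm_apply]
    rw [this]
    exact H.mul_mem (H.mul_mem hg h1) (H.inv_mem hg)

/-- Either the stabilizer of `v` is transitive on the other vectors or there is a good hyperplane. -/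
theorem stabilizer_cases {v : V} (hv : v ≠ 0) :
    (∀ w w' : V, w ≠ 0 → w ≠ v → w' ≠ 0 → w' ≠ v → ∃ g ∈ H, g v = v ∧ g w = w') ∨
      ∃ U, Good hF H v U := by
  classical
  have : Finite V := Module.finite_of_finite F
  have : Finite (V ≃ₗ[F] V) := Finite.of_injective _ (DFunLike.coe_injective (F := V ≃ₗ[F] V))
  set K : Subgroup (V ≃ₗ[F] V) := H ⊓ MulAction.stabilizer (V ≃ₗ[F] V) v with hKdef
  have hKv : ∀ g : K, (g : V ≃ₗ[F] V) v = v := fun g => g.2.2
  set N : Submodule F V := Submodule.span F {v} with hN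
  have hNmem : ∀ x, x ∈ N ↔ x = 0 ∨ x = v := by
    intro x
    rw [hN, Submodule.mem_span_singleton]
    constructor
    · rintro ⟨a, rfl⟩
      rcases eq_zero_or_one hF a with rfl | rfl <;> simp
    · rintro (rfl | rfl)
      · exact ⟨0, zero_smul _ _⟩
      · exact ⟨1, one_smul _ _⟩
  have hNmap : ∀ g : K, N.map ((g : V ≃ₗ[F] V) : V →ₗ[F] V) = N := fun g => by
    rw [hN, Submodule.map_span, Set.image_singleton]
    simp [hKv g]
  let mk : V →ₗ[F] V ⧸ N := N.mkQ
  have hmk : ∀ x y, mk x = mk y → y = x ∨ y = x + v := by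
    intro x y h
    rcases (hNmem _).1 ((Submodule.Quotient.eq N).1 h.symm) with h' | h'
    · exact Or.inl (sub_eq_zero.1 h')
    · exact Or.inr (by rw [← h']; abel)
  have hmkv : mk v = 0 := (Submodule.Quotient.mk_eq_zero N).2 ((hNmem v).2 (Or.inr rfl))
  have hmk0 : ∀ x, mk x = 0 → x = 0 ∨ x = v := fun x hx =>
    (hNmem x).1 ((Submodule.Quotient.mk_eq_zero N).1 hx)
  let ρ : K →* ((V ⧸ N) ≃ₗ[F] (V ⧸ N)) := MonoidHom.mk'
    (fun g => Submodule.Quotient.equiv N N (g : V ≃ₗ[F] V) (hNmap g)) fun a b =>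
      LinearEquiv.ext fun q => by
        induction q using Submodule.Quotient.induction_on
        rfl
  have hρ : ∀ (g : K) (x : V), ρ g (mk x) = mk ((g : V ≃ₗ[F] V) x) := fun g x => rfl
  have hW : finrank F (V ⧸ N) = 3 := by
    have h1 : finrank F N = 1 := by rw [hN]; exact finrank_span_singleton hv
    have := Submodule.finrank_quotient_add_finrank N
    rw [h1, hV] at this
    omega
  have hWc : Nat.card (V ⧸ N) = 8 := by
    rw [Module.natCard_eq_pow_finrank (K := F), hW, Nat.card_eq_fintype_card, hF]; rfl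
  have : Finite (V ⧸ N) := Module.finite_of_finite F
  have hKc : Nat.card K = 168 := by
    set A := MulAction.stabilizer H v
    have hAK : A.map H.subtype = K := by
      ext g
      constructor
      · rintro ⟨h, hh, rfl⟩; exact ⟨h.2, hh⟩
      · intro hg; exact ⟨⟨g, hg.1⟩, hg.2, rfl⟩
    have hmul := A.card_mul_index
    rw [MulAction.index_stabilizer, hH] at hmul
    have horb : MulAction.orbit H v = {x : V | x ≠ 0} := by
      ext x
      constructor
      · rintro ⟨g, rfl⟩
        exact fun h => hv ((g : V ≃ₗ[F] V).injective (h.trans (map_zero _).symm))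
      · intro hx
        obtain ⟨g, hg, hgv⟩ := transitive hF hV hH hv hx
        exact ⟨⟨g, hg⟩, hgv⟩
    rw [horb, show ({x : V | x ≠ 0} : Set V) = Set.univ \ {0} by ext; simp,
      Set.ncard_sdiff (Set.subset_univ _), Set.ncard_univ, card_space hF hV,
      Set.ncard_singleton] at hmul
    rw [← hAK, Subgroup.card_subtype]
    omega
  -- an element of order seven
  have : Fact (Nat.Prime 7) := ⟨by decide⟩
  obtain ⟨g₇, hg₇⟩ := exists_prime_orderOf_dvd_card' (G := K) 7 (by rw [hKc]; norm_num)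
  have hρ7 : ρ g₇ ≠ 1 := by
    intro h
    have hsq : g₇ ^ 2 = 1 := by
      refine Subtype.ext (LinearEquiv.ext fun x => ?_)
      show (g₇ : V ≃ₗ[F] V) ((g₇ : V ≃ₗ[F] V) x) = x
      have h1 : mk ((g₇ : V ≃ₗ[F] V) x) = mk x := by rw [← hρ, h]; rfl
      rcases hmk _ _ h1 with h2 | h2
      · rw [← h2, ← h2]
      · have h3 : (g₇ : V ≃ₗ[F] V) x = x + v := by
          conv_rhs => rw [h2]
          rw [add_assoc, add_self_eq_zero' hF, add_zero]
        rw [h3, map_add, hKv, ← h2]
    have := Nat.le_of_dvd (by norm_num) (orderOf_dvd_of_pow_eq_one hsq)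
    omega
  set Z : Subgroup ((V ⧸ N) ≃ₗ[F] (V ⧸ N)) := Subgroup.zpowers (ρ g₇)
  have hρo : orderOf (ρ g₇) = 7 := by
    rcases (Nat.dvd_prime (by decide : Nat.Prime 7)).1 (hg₇ ▸ orderOf_map_dvd ρ g₇) with h | h
    · exact absurd (orderOf_eq_one_iff.1 h) hρ7
    · exact h
  have hZ : IsPGroup 7 Z := IsPGroup.of_card (n := 1) (by rw [Nat.card_zpowers, hρo, pow_one])
  have hfix : ∀ a : V ⧸ N, ρ g₇ a = a → a = 0 := by
    intro a ha
    by_contra ha0
    have hmod := hZ.card_modEq_card_fixedPoints (α := V ⧸ N)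
    have hsub : ({0, a} : Set (V ⧸ N)) ⊆ MulAction.fixedPoints Z (V ⧸ N) := by
      have key : Z ≤ MulAction.stabilizer ((V ⧸ N) ≃ₗ[F] (V ⧸ N)) a := Subgroup.zpowers_le.2 ha
      rintro x (rfl | rfl) ⟨z, hz⟩
      · exact map_zero z
      · exact key hz
    have h2 := Set.ncard_le_ncard hsub
    rw [Set.ncard_pair (Ne.symm ha0)] at h2
    have h8 := Set.ncard_le_card (MulAction.fixedPoints Z (V ⧸ N))
    rw [hWc] at h8
    rw [hWc, Nat.card_coe_set_eq] at hmod
    have hall : MulAction.fixedPoints Z (V ⧸ N) = Set.univ :=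
      Set.eq_of_subset_of_ncard_le (Set.subset_univ _) (by
        rw [Set.ncard_univ, hWc]
        unfold Nat.ModEq at hmod
        omega)
    refine hρ7 (LinearEquiv.ext fun x => ?_)
    exact (hall.ge (Set.mem_univ x)) ⟨ρ g₇, Subgroup.mem_zpowers _⟩
  have htrans : ∀ a b : V ⧸ N, a ≠ 0 → b ≠ 0 → ∃ k : K, ρ k a = b := by
    intro a b ha hb
    have horb : MulAction.orbit Z a = {x : V ⧸ N | x ≠ 0} := by
      refine Set.eq_of_subset_of_ncard_le ?_ ?_
      · rintro _ ⟨z, rfl⟩
        exact fun h => ha ((z : (V ⧸ N) ≃ₗ[F] (V ⧸ N)).injective (h.trans (map_zero _).symm))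
      · obtain ⟨k, hk⟩ := hZ.card_orbit a
        rw [Nat.card_coe_set_eq] at hk
        rw [show ({x : V ⧸ N | x ≠ 0} : Set _) = Set.univ \ {0} by ext; simp,
          Set.ncard_sdiff (Set.subset_univ _), Set.ncard_univ, hWc, Set.ncard_singleton, hk]
        rcases Nat.eq_zero_or_pos k with rfl | hk0
        · exfalso
          obtain ⟨c, hc⟩ := Set.ncard_eq_one.1 hk
          have h1 : a ∈ MulAction.orbit Z a := MulAction.mem_orbit_self a
          have h2 : ρ g₇ a ∈ MulAction.orbit Z a := ⟨⟨ρ g₇, Subgroup.mem_zpowers _⟩, rfl⟩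
          rw [hc, Set.mem_singleton_iff] at h1 h2
          exact ha (hfix a (h2.trans h1.symm))
        · exact Nat.le_self_pow hk0.ne' 7
    obtain ⟨⟨z, hz⟩, hzb⟩ := horb.ge (show b ∈ {x : V ⧸ N | x ≠ 0} from hb)
    obtain ⟨j, rfl⟩ := Subgroup.mem_zpowers_iff.1 hz
    exact ⟨g₇ ^ j, by rw [map_zpow]; exact hzb⟩
  have hne : ∀ w : V, w ≠ 0 → w ≠ v → mk w ≠ 0 := fun w h0 h1 h =>
    (hmk0 w h).elim h0 h1
  by_cases hflip : ∀ w : V, w ≠ 0 → w ≠ v → ∃ k : K, (k : V ≃ₗ[F] V) w = w + v
  · left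
    intro w w' hw0 hwv hw'0 hw'v
    obtain ⟨k, hk⟩ := htrans _ _ (hne w hw0 hwv) (hne w' hw'0 hw'v)
    rw [hρ] at hk
    rcases hmk _ _ hk with h | h
    · exact ⟨k, k.2.1, hKv k, h.symm⟩
    · obtain ⟨k₀, hk₀⟩ := hflip w hw0 hwv
      refine ⟨(k * k₀ : K), (k * k₀).2.1, hKv _, ?_⟩
      show (k : V ≃ₗ[F] V) ((k₀ : V ≃ₗ[F] V) w) = w'
      rw [hk₀, map_add, hKv, h]
  right
  push Not at hflip
  obtain ⟨w₀, hw₀, hw₀v, hnf⟩ := hflip
  -- the section
  have hex : ∀ a : V ⧸ N, a ≠ 0 → ∃ k : K, mk ((k : V ≃ₗ[F] V) w₀) = a := fun a ha => by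
    obtain ⟨k, hk⟩ := htrans _ a (hne w₀ hw₀ hw₀v) ha
    exact ⟨k, hk⟩
  have huniq : ∀ k k' : K, mk ((k : V ≃ₗ[F] V) w₀) = mk ((k' : V ≃ₗ[F] V) w₀) →
      (k : V ≃ₗ[F] V) w₀ = (k' : V ≃ₗ[F] V) w₀ := by
    intro k k' h
    rcases hmk _ _ h with h' | h'
    · exact h'.symm
    · refine absurd ?_ (hnf (k⁻¹ * k'))
      show (k : V ≃ₗ[F] V).symm ((k' : V ≃ₗ[F] V) w₀) = w₀ + v
      rw [LinearEquiv.symm_apply_eq, map_add, hKv, h']
  let o : V ⧸ N → V := fun a => if h : a = 0 then 0 else ((hex a h).choose : V ≃ₗ[F] V) w₀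
  have ho : ∀ k : K, o (mk ((k : V ≃ₗ[F] V) w₀)) = (k : V ≃ₗ[F] V) w₀ := by
    intro k
    have h0 : mk ((k : V ≃ₗ[F] V) w₀) ≠ 0 := by
      refine hne _ (fun h => hw₀ ?_) (fun h => hw₀v ?_)
      · exact (k : V ≃ₗ[F] V).injective (h.trans (map_zero _).symm)
      · exact (k : V ≃ₗ[F] V).injective (h.trans (hKv k).symm)
    simp only [o, dif_neg h0]
    exact huniq _ _ (hex _ h0).choose_spec
  have homk : ∀ a, mk (o a) = a := by
    intro a
    by_cases ha : a = 0
    · simp [o, ha]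
    · simp only [o, dif_neg ha]; exact (hex a ha).choose_spec
  have hoeq : ∀ (k : K) (a : V ⧸ N), o (ρ k a) = (k : V ≃ₗ[F] V) (o a) := by
    intro k a
    by_cases ha : a = 0
    · simp [o, ha]
    · obtain ⟨l, rfl⟩ := hex a ha
      rw [ho, hρ]
      exact ho (k * l)
  have hinj : Function.Injective ρ := by
    refine (injective_iff_map_eq_one ρ).2 fun g hg => Subtype.ext (LinearEquiv.ext fun x => ?_)
    have hfo : ∀ a, (g : V ≃ₗ[F] V) (o a) = o a := fun a => by rw [← hoeq, hg]; rfl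
    show (g : V ≃ₗ[F] V) x = x
    rcases hmk _ _ (homk (mk x)) with h | h
    · rw [h, hfo]
    · rw [h, map_add, hfo, hKv]
  have : Finite ((V ⧸ N) ≃ₗ[F] (V ⧸ N)) :=
    Finite.of_injective _ (DFunLike.coe_injective (F := (V ⧸ N) ≃ₗ[F] (V ⧸ N)))
  have hsurj : Function.Surjective ρ := by
    refine ((Nat.bijective_iff_injective_and_card ρ).2 ⟨hinj, ?_⟩).2
    rw [hKc, card_linearEquiv hF hW]
    decide
  have hpair : ∀ a b a' b' : V ⧸ N, a ≠ 0 → b ≠ 0 → a ≠ b → a' ≠ 0 → b' ≠ 0 → a' ≠ b' →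
      ∃ k : K, ρ k a = a' ∧ ρ k b = b' := by
    intro a b a' b' ha hb hab ha' hb' hab'
    obtain ⟨g, hg⟩ := exists_equiv_map (li_pair hF ha hb hab) (li_pair hF ha' hb' hab')
    obtain ⟨k, rfl⟩ := hsurj g
    exact ⟨k, hg 0, hg 1⟩
  -- the constant
  have hc : ∀ a b, o a + o b + o (a + b) = 0 ∨ o a + o b + o (a + b) = v := fun a b => hmk0 _ (by
    rw [map_add, map_add, homk, homk, homk, add_self_eq_zero' hF])
  obtain ⟨c, hc0, hcall⟩ : ∃ c : V, (c = 0 ∨ c = v) ∧
      ∀ a b : V ⧸ N, a ≠ 0 → b ≠ 0 → a ≠ b → o a + o b + o (a + b) = c := by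
    by_cases hh : ∃ a b : V ⧸ N, a ≠ 0 ∧ b ≠ 0 ∧ a ≠ b
    · obtain ⟨a, b, ha, hb, hab⟩ := hh
      refine ⟨_, hc a b, fun a' b' ha' hb' hab' => ?_⟩
      obtain ⟨k, rfl, rfl⟩ := hpair a b a' b' ha hb hab ha' hb' hab'
      rw [hoeq, hoeq, ← map_add, ← map_add, hoeq, ← map_add]
      rcases hc a b with h | h <;> rw [h]
      · exact map_zero _
      · exact hKv k
    · exact ⟨0, Or.inl rfl, fun a b ha hb hab => absurd ⟨a, b, ha, hb, hab⟩ hh⟩
  let sf : V ⧸ N → V := fun a => if a = 0 then 0 else o a + c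
  have hs0 : sf 0 = 0 := if_pos rfl
  have hs1 : ∀ a, a ≠ 0 → sf a = o a + c := fun a ha => if_neg ha
  have hsadd : ∀ a b, sf (a + b) = sf a + sf b := by
    intro a b
    by_cases ha : a = 0
    · rw [ha, zero_add, hs0, zero_add]
    by_cases hb : b = 0
    · rw [hb, add_zero, hs0, add_zero]
    by_cases hab : a = b
    · rw [hab, add_self_eq_zero' hF, hs0, add_self_eq_zero' hF]
    have hab0 : a + b ≠ 0 := fun h => hab (eq_of_add_eq_zero' hF h)
    rw [hs1 _ ha, hs1 _ hb, hs1 _ hab0]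
    refine eq_of_add_eq_zero' hF ?_
    have h1 := hcall a b ha hb hab
    calc o (a + b) + c + (o a + c + (o b + c)) = (o a + o b + o (a + b)) + c + (c + c) := by abel
      _ = 0 := by rw [h1]; simp [add_self_eq_zero' hF]
  let s : V ⧸ N →ₗ[F] V :=
    { toFun := sf
      map_add' := hsadd
      map_smul' := fun r a => by
        rcases eq_zero_or_one hF r with rfl | rfl
        · simp [hs0]
        · simp }
  have hs : ∀ a, mk (s a) = a := by
    intro a
    by_cases ha : a = 0
    · subst ha; simp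
    · show mk (sf a) = a
      rw [hs1 a ha, map_add, homk]
      rcases hc0 with h | h <;> rw [h] <;> simp [hmkv]
  have hseq : ∀ (k : K) a, s (ρ k a) = (k : V ≃ₗ[F] V) (s a) := by
    intro k a
    show sf _ = (k : V ≃ₗ[F] V) (sf a)
    by_cases ha : a = 0
    · subst ha; simp [hs0]
    · have hka : ρ k a ≠ 0 := fun h => ha ((ρ k).injective (h.trans (map_zero _).symm))
      rw [hs1 _ ha, hs1 _ hka, hoeq, map_add]
      rcases hc0 with h | h <;> rw [h]
      · rw [map_zero]
      · rw [hKv]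
  have hsinj : Function.Injective s := Function.LeftInverse.injective hs
  refine ⟨LinearMap.range s, by rw [LinearMap.finrank_range_of_inj hsinj, hW], ?_, ?_⟩
  · rintro ⟨a, ha⟩
    have h1 := hs a
    rw [ha, hmkv] at h1
    rw [← h1, map_zero] at ha
    exact hv ha.symm
  rintro _ ⟨a, rfl⟩ hA0 φ hφA hφv
  have hle : N ≤ LinearMap.ker φ := by
    rw [hN, Submodule.span_le, Set.singleton_subset_iff]; exact hφv
  let ψ : V ⧸ N →ₗ[F] F := N.liftQ φ hle
  have hψ : ∀ x, ψ (mk x) = φ x := fun x => rfl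
  have hψa : ψ a = 0 := by rw [← hs a, hψ]; exact hφA
  obtain ⟨k, hk⟩ := hsurj (tv hF ψ a hψa)
  have : tv hF φ (s a) hφA = (k : V ≃ₗ[F] V) := by
    refine LinearEquiv.ext fun x => ?_
    have hsk : (k : V ≃ₗ[F] V) (s (mk x)) = s (mk x) + φ x • s a := by
      rw [← hseq, hk, tv_apply, map_add, map_smul, hψ]
    rw [tv_apply]
    rcases hmk _ _ (hs (mk x)) with h | h
    · conv_rhs => rw [h]
      rw [hsk, ← h]
    · conv_rhs => rw [h]
      rw [map_add, hKv, hsk, add_right_comm, ← h]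
  rw [this]
  exact k.2.1

/-- There is no good hyperplane. -/
theorem not_good {v : V} (hv : v ≠ 0) {U : Submodule F V} (hU : Good hF H v U) :
    ∀ (a : V) (φ : V →ₗ[F] F) (ha : φ a = 0), tv hF φ a ha ∈ H := by
  have : Finite V := Module.finite_of_finite F
  obtain ⟨v', hv'0, hv'⟩ : ∃ v' : V, v' ≠ 0 ∧ v' ≠ v := by
    by_contra h
    push Not at h
    have h1 : (Set.univ : Set V) ⊆ {0, v} := fun x _ => by
      by_cases hx : x = 0
      · exact Or.inl hx
      · exact Or.inr (h x hx)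
    have h2 := Set.ncard_le_ncard h1
    rw [Set.ncard_univ, card_space hF hV, Set.ncard_pair (Ne.symm hv)] at h2
    omega
  obtain ⟨g, hg, hgv⟩ := transitive hF hV hH hv hv'0
  have hU' := hU.map hF hg
  rw [hgv] at hU'
  set U' := U.map (g : V →ₗ[F] V)
  obtain ⟨A, hA, hA', hA0, hAne⟩ : ∃ A, A ∈ U ∧ A ∈ U' ∧ A ≠ 0 ∧ A ≠ v + v' := by
    have h1 := Submodule.finrank_sup_add_finrank_inf_eq U U'
    have h2 := Submodule.finrank_le (U ⊔ U')
    rw [hU.1, hU'.1] at h1
    rw [hV] at h2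
    have h4 : 2 ^ 2 ≤ Nat.card (U ⊓ U' : Submodule F V) := by
      rw [Module.natCard_eq_pow_finrank (K := F), Nat.card_eq_fintype_card, hF]
      exact Nat.pow_le_pow_right (by norm_num) (by omega)
    by_contra hno
    push Not at hno
    have h5 : ((U ⊓ U' : Submodule F V) : Set V) ⊆ {0, v + v'} := fun x hx => by
      by_cases hx0 : x = 0
      · exact Or.inl hx0
      · exact Or.inr (hno x hx.1 hx.2 hx0)
    have h6 := (Set.ncard_le_ncard h5).trans (Set.ncard_insert_le _ _)
    rw [Set.ncard_singleton, ← Nat.card_coe_set_eq] at h6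
    have h7 : Nat.card ((U ⊓ U' : Submodule F V) : Set V) = Nat.card (U ⊓ U' : Submodule F V) := rfl
    omega
  have hcentre : ∀ (φ : V →ₗ[F] F) (hφ : φ A = 0), tv hF φ A hφ ∈ H := by
    intro φ hφ
    rcases eq_zero_or_one hF (φ v) with h | h
    · exact hU.2.2 A hA hA0 φ hφ h
    rcases eq_zero_or_one hF (φ v') with h' | h'
    · exact hU'.2.2 A hA' hA0 φ hφ h'
    have hnot : v' ∉ Submodule.span F ({v, A} : Set V) := by
      rw [Submodule.mem_span_pair]
      rintro ⟨r, t, hrt⟩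
      rcases eq_zero_or_one hF r with rfl | rfl <;> rcases eq_zero_or_one hF t with rfl | rfl <;>
        simp only [zero_smul, one_smul, zero_add, add_zero] at hrt
      · exact hv'0 hrt.symm
      · exact hU'.2.1 (hrt ▸ hA')
      · exact hv' hrt.symm
      · refine hAne ?_
        rw [← hrt, ← add_assoc, add_self_eq_zero' hF, zero_add]
    obtain ⟨f, hf, hle⟩ := Submodule.exists_le_ker_of_notMem hnot
    have hfv : f v = 0 := hle (Submodule.subset_span (Or.inl rfl))
    have hfA : f A = 0 := hle (Submodule.subset_span (Or.inr rfl))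
    have hfv' : f v' = 1 := (eq_zero_or_one hF _).resolve_left hf
    have hdA : (φ + f) A = 0 := by simp [hφ, hfA]
    have hdv' : (φ + f) v' = 0 := by
      rw [LinearMap.add_apply, h', hfv']; exact add_self_eq_zero' (V := F) hF 1
    have : tv hF φ A hφ = tv hF f A hfA * tv hF (φ + f) A hdA := by
      refine LinearEquiv.ext fun x => ?_
      show x + φ x • A = (x + (φ + f) x • A) + f (x + (φ + f) x • A) • A
      rw [map_add, map_smul, hfA, smul_zero, add_zero, LinearMap.add_apply, add_smul]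
      have := add_self_eq_zero' hF (f x • A)
      rw [add_assoc, add_assoc, this, add_zero]
    rw [this]
    exact H.mul_mem (hU.2.2 A hA hA0 f hfA hfv) (hU'.2.2 A hA' hA0 _ hdA hdv')
  intro a φ ha
  by_cases ha0 : a = 0
  · subst ha0
    have : tv hF φ (0 : V) ha = 1 := LinearEquiv.ext fun x => by simp
    rw [this]; exact H.one_mem
  obtain ⟨k, hk, rfl⟩ := transitive hF hV hH hA0 ha0
  have h1 := hcentre (φ.comp (k : V →ₗ[F] V)) ha
  have : tv hF φ (k A) ha = k * tv hF (φ.comp (k : V →ₗ[F] V)) A ha * k⁻¹ := by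
    refine LinearEquiv.ext fun x => ?_
    show x + φ x • k A = k (k.symm x + φ (k (k.symm x)) • A)
    rw [map_add, map_smul, LinearEquiv.apply_symm_apply]
  rw [this]
  exact H.mul_mem (H.mul_mem hk h1) (H.inv_mem hk)

end Main

/-- A subgroup of order `2520` of `GL(4, 2)` is transitive on pairs of distinct nonzero vectors. -/
theorem pairs {F : Type*} [Field F] [Fintype F] (hF : Fintype.card F = 2)
    (H : Subgroup ((Fin 4 → F) ≃ₗ[F] (Fin 4 → F))) (hH : Nat.card H = 2520)
    (v w v' w' : Fin 4 → F) (hv : v ≠ 0) (hw : w ≠ 0) (hvw : v ≠ w) (hv' : v' ≠ 0) (hw' : w' ≠ 0)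
    (hvw' : v' ≠ w') : ∃ g ∈ H, g v = v' ∧ g w = w' := by
  classical
  have hV : finrank F (Fin 4 → F) = 4 := by simp
  obtain ⟨g, hg, hgv⟩ := transitive hF hV hH hv hv'
  have hgw0 : g w ≠ 0 := fun h => hw (g.injective (h.trans (map_zero g).symm))
  have hgwv : g w ≠ v' := fun h => hvw (g.injective (hgv.trans h.symm))
  rcases stabilizer_cases hF hV hH hv' with h | ⟨U, hU⟩
  · obtain ⟨k, hk, hkv, hkw⟩ := h (g w) w' hgw0 hgwv hw' hvw'.symm
    exact ⟨k * g, H.mul_mem hk hg, (congrArg k hgv).trans hkv, hkw⟩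
  exfalso
  have hall := not_good hF hV hH hv' hU
  have htop : H = ⊤ := by
    refine eq_top_iff.2 fun g _ => ?_
    let Φ : ((Fin 4 → F) ≃ₗ[F] (Fin 4 → F)) → Matrix (Fin 4) (Fin 4) F := fun e =>
      LinearMap.toMatrix' (e : (Fin 4 → F) →ₗ[F] (Fin 4 → F))
    suffices h : ∀ M : Matrix (Fin 4) (Fin 4) F, M.det ≠ 0 →
        ∀ e : (Fin 4 → F) ≃ₗ[F] (Fin 4 → F), (∀ x, e x = M.mulVec x) → e ∈ H by
      refine h (Φ g) ?_ g fun x => ?_
      · show (LinearMap.toMatrix' _).det ≠ 0
        rw [LinearMap.det_toMatrix']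
        exact (LinearEquiv.isUnit_det' g).ne_zero
      · exact (LinearMap.toMatrix'_mulVec _ x).symm
    intro M hM
    refine Matrix.diagonal_transvection_induction_of_det_ne_zero
      (fun M => ∀ e : (Fin 4 → F) ≃ₗ[F] (Fin 4 → F), (∀ x, e x = M.mulVec x) → e ∈ H) M hM ?_ ?_ ?_
    · intro D hD e he
      have hD1 : D = 1 := funext fun i => (eq_zero_or_one hF (D i)).resolve_left fun h => hD (by
        rw [Matrix.det_diagonal]; exact Finset.prod_eq_zero (Finset.mem_univ i) h)
      have : e = 1 := LinearEquiv.ext fun x => by rw [he, hD1]; simp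
      rw [this]; exact H.one_mem
    · intro t e he
      have hφ : (t.c • LinearMap.proj t.j : (Fin 4 → F) →ₗ[F] F) (Pi.single t.i 1) = 0 := by
        simp [Pi.single_eq_of_ne t.hij.symm]
      have : e = tv hF (t.c • LinearMap.proj t.j) (Pi.single t.i 1) hφ := by
        refine LinearEquiv.ext fun x => ?_
        rw [he, tv_apply]
        show (Matrix.transvection t.i t.j t.c).mulVec x = _
        rw [Matrix.transvection, Matrix.add_mulVec, Matrix.one_mulVec, Matrix.single_mulVec]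
        congr 1
        funext l
        by_cases hl : l = t.i
        · subst hl; simp
        · simp [hl]
      rw [this]; exact hall _ _ hφ
    · intro A B hA hB ihA ihB e he
      have hiA : IsUnit A := (Matrix.isUnit_iff_isUnit_det A).2 (isUnit_iff_ne_zero.2 hA)
      have hiB : IsUnit B := (Matrix.isUnit_iff_isUnit_det B).2 (isUnit_iff_ne_zero.2 hB)
      let ea : (Fin 4 → F) ≃ₗ[F] (Fin 4 → F) := LinearMap.GeneralLinearGroup.generalLinearEquiv _ _
        (Matrix.GeneralLinearGroup.toLin hiA.unit)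
      let eb : (Fin 4 → F) ≃ₗ[F] (Fin 4 → F) := LinearMap.GeneralLinearGroup.generalLinearEquiv _ _
        (Matrix.GeneralLinearGroup.toLin hiB.unit)
      have : e = ea * eb := LinearEquiv.ext fun x => by
        rw [he, ← Matrix.mulVec_mulVec]; rfl
      rw [this]
      exact H.mul_mem (ihA ea fun x => rfl) (ihB eb fun x => rfl)
  rw [htop, Subgroup.card_top, card_linearEquiv hF hV] at hH
  exact absurd hH (by decide)

end CfsgLib.Classical.AltSevenTrans
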