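import Cfsg.Agent.Lib.Classical.SmallOrtho.PlusSixTwo

/-!
Automorphisms of an elementary abelian `2`-group of order at most `16` embed in `A₈`.
-/

set_option autoImplicit false
set_option linter.style.haveILetI false
set_option maxHeartbeats 200000

namespace CfsgLib.Classical.AutRankFour

theorem units_zmod_two : ∀ a b : (ZMod 2)ˣ, a = b := by decide

theorem gl_four_two :
    ∃ f : GL (Fin 4) (ZMod 2) →* alternatingGroup (Fin 8), Function.Injective f := by
  haveI : Subsingleton (ZMod 2)ˣ := ⟨units_zmod_two⟩
  let toSL : GL (Fin 4) (ZMod 2) →* Matrix.SpecialLinearGroup (Fin 4) (ZMod 2) :=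
    { toFun := fun A => ⟨(A : Matrix (Fin 4) (Fin 4) (ZMod 2)),
        (Matrix.GeneralLinearGroup.val_det_apply A).symm.trans
          (by rw [Subsingleton.elim (Matrix.GeneralLinearGroup.det A) 1, Units.val_one])⟩
      map_one' := Subtype.ext Units.val_one
      map_mul' := fun A B => Subtype.ext (Units.val_mul A B) }
  have htoSL : Function.Injective toSL := fun A B h => Units.ext (congrArg Subtype.val h)
  have hcen : Subgroup.center (Matrix.SpecialLinearGroup (Fin 4) (ZMod 2)) = ⊥ := by
    rw [eq_bot_iff]
    intro A hA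
    have h := Subsingleton.elim
      (Matrix.SpecialLinearGroup.center_equiv_rootsOfUnity ⟨A, hA⟩)
      (Matrix.SpecialLinearGroup.center_equiv_rootsOfUnity 1)
    exact congrArg Subtype.val ((MulEquiv.injective _) h)
  obtain ⟨e⟩ := CfsgLib.Classical.SmallOrtho.nonempty_psl_four_two (F := ZMod 2) (by decide)
  let toA : Matrix.SpecialLinearGroup (Fin 4) (ZMod 2) →* alternatingGroup (Fin 8) :=
    e.toMonoidHom.comp (QuotientGroup.mk' _)
  have htoA : Function.Injective toA := by
    refine e.injective.comp ?_
    rw [← MonoidHom.ker_eq_bot_iff, QuotientGroup.ker_mk', hcen]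
  exact ⟨toA.comp toSL, htoA.comp htoSL⟩

theorem exists_hom_alt_eight {E : Type*} [Group E] [Finite E] (hcomm : ∀ a b : E, a * b = b * a)
    (hexp : ∀ x : E, x ^ 2 = 1) (hE : Nat.card E ≤ 16) :
    ∃ f : MulAut E →* alternatingGroup (Fin 8), Function.Injective f := by
  -- the Frattini quotient sits in a four-dimensional space
  letI : CommGroup E := { ‹Group E› with mul_comm := hcomm }
  letI : Module (ZMod 2) (Additive (E)) :=
    AddCommGroup.zmodModule (fun x => by
      show Additive.ofMul (x.toMul ^ 2) = 0
      rw [hexp]; rfl)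
  set V := Additive (E)
  let k := Module.finrank (ZMod 2) V
  have hk4 : k ≤ 4 := by
    have h := Module.natCard_eq_pow_finrank (K := ZMod 2) (V := V)
    rw [Nat.card_zmod] at h
    have h' : 2 ^ k ≤ 2 ^ 4 := by rw [← h]; exact hE
    exact (Nat.pow_le_pow_iff_right (by norm_num)).1 h'
  let W := V × (Fin (4 - k) → ZMod 2)
  have hW : Module.finrank (ZMod 2) W = 4 := by
    rw [Module.finrank_prod, Module.finrank_fin_fun]
    show k + (4 - k) = 4
    omega
  let bW : Module.Basis (Fin 4) (ZMod 2) W := Module.finBasisOfFinrankEq (ZMod 2) W hW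
  let lin : MulAut (E) →* (W →ₗ[ZMod 2] W) :=
    { toFun := fun a =>
        (((MulEquiv.toAdditive a).toAddMonoidHom.toZModLinearMap 2) : V →ₗ[ZMod 2] V).prodMap LinearMap.id
      map_one' := LinearMap.ext fun _ => rfl
      map_mul' := fun _ _ => LinearMap.ext fun _ => rfl }
  let toGL : MulAut (E) →* GL (Fin 4) (ZMod 2) :=
    (((LinearMap.toMatrixAlgEquiv bW).toAlgHom.toMonoidHom).comp lin).toHomUnits
  have htoGL : Function.Injective toGL := by
    intro a b h
    have h1 : lin a = lin b := (LinearMap.toMatrixAlgEquiv bW).injective (congrArg Units.val h)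
    refine MulEquiv.ext fun v => ?_
    exact Additive.ofMul.injective (congrArg Prod.fst (LinearMap.congr_fun h1 (Additive.ofMul v, 0)))
  obtain ⟨g, hg⟩ := gl_four_two
  exact ⟨g.comp toGL, hg.comp htoGL⟩

end CfsgLib.Classical.AutRankFour
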