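import Cfsg.Agent.Lib.Classical.SignRank
import Cfsg.Agent.Lib.Classical.HomocyclicSylow
import Cfsg.Agent.Lib.Classical.SL2Sylow

/-!
# `2`-rank and normal `2`-rank of linear and symplectic groups in odd characteristic
-/

set_option autoImplicit false
set_option linter.all false

namespace CfsgLib.Classical.TwoRank

open Finset CfsgLib.Classical CfsgLib.Classical.SignRank Module

section Val

variable {q : ℕ}

theorem val_sq_sub_one (hq : 1 < q) :
    padicValNat 2 (q ^ 2 - 1) = padicValNat 2 (q + 1) + padicValNat 2 (q - 1) := by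
  haveI : Fact (Nat.Prime 2) := ⟨Nat.prime_two⟩
  rw [show q ^ 2 - 1 = (q + 1) * (q - 1) by rw [← Nat.sq_sub_sq, one_pow],
    padicValNat.mul (by omega) (by omega)]

theorem val_pow_even (hq : 1 < q) (ho : Odd q) {k : ℕ} (hk : k ≠ 0) :
    padicValNat 2 (q ^ (2 * k) - 1) = padicValNat 2 (q ^ 2 - 1) + padicValNat 2 k := by
  haveI : Fact (Nat.Prime 2) := ⟨Nat.prime_two⟩
  have h := padicValNat.pow_two_sub_one (n := 2 * k) hq
    (fun h => (Nat.not_even_iff_odd.2 ho) (even_iff_two_dvd.2 h)) (by omega) (even_two_mul k)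
  rw [padicValNat.mul (by norm_num) hk, padicValNat.self (by norm_num)] at h
  rw [val_sq_sub_one hq]
  omega

theorem val_pow_odd (hq : 1 < q) (ho : Odd q) {k : ℕ} :
    padicValNat 2 (q ^ (2 * k + 1) - 1) = padicValNat 2 (q - 1) := by
  haveI : Fact (Nat.Prime 2) := ⟨Nat.prime_two⟩
  exact Homocyclic.val_pow_sub_one hq (even_iff_two_dvd.1 (Nat.Odd.sub_odd ho odd_one)) (by omega)

theorem val_sq_of_mod_one (hq : 1 < q) (h4 : q % 4 = 1) :
    padicValNat 2 (q ^ 2 - 1) = padicValNat 2 (q - 1) + 1 := by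
  haveI : Fact (Nat.Prime 2) := ⟨Nat.prime_two⟩
  rw [val_sq_sub_one hq, show q + 1 = 2 * ((q + 1) / 2) by omega,
    padicValNat.mul (by norm_num) (by omega), padicValNat.self (by norm_num),
    padicValNat.eq_zero_of_not_dvd (n := (q + 1) / 2) (by omega)]
  omega

theorem val_sub_one_of_mod_three (h4 : q % 4 = 3) : padicValNat 2 (q - 1) = 1 := by
  haveI : Fact (Nat.Prime 2) := ⟨Nat.prime_two⟩
  rw [show q - 1 = 2 * ((q - 1) / 2) by omega, padicValNat.mul (by norm_num) (by omega),
    padicValNat.self (by norm_num), padicValNat.eq_zero_of_not_dvd (n := (q - 1) / 2) (by omega)]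

/-- the `2`-part of `∏_{i ≤ n} (q ^ i - 1)` -/
theorem val_prod_half (hq : 1 < q) (ho : Odd q) (n : ℕ) :
    padicValNat 2 (∏ i ∈ range n, (q ^ (i + 1) - 1)) =
      (n / 2) * (padicValNat 2 (q - 1) + padicValNat 2 (q ^ 2 - 1))
        + padicValNat 2 (n / 2).factorial + n % 2 * padicValNat 2 (q - 1) := by
  haveI : Fact (Nat.Prime 2) := ⟨Nat.prime_two⟩
  have hne : ∀ j, j ≠ 0 → q ^ j - 1 ≠ 0 := fun j hj => by
    have := Nat.one_lt_pow hj hq
    omega
  induction n with
  | zero => simp
  | succ n ih =>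
    rw [Finset.prod_range_succ, padicValNat.mul
      (Finset.prod_ne_zero_iff.2 fun i _ => hne _ (by omega)) (hne _ (by omega)), ih]
    rcases Nat.even_or_odd n with ⟨m, rfl⟩ | ⟨m, rfl⟩
    · rw [← two_mul, val_pow_odd hq ho, show (2 * m + 1) / 2 = m by omega,
        show 2 * m / 2 = m by omega, show (2 * m + 1) % 2 = 1 by omega, show 2 * m % 2 = 0 by omega]
      ring
    · rw [show 2 * m + 1 + 1 = 2 * (m + 1) by ring, val_pow_even hq ho (by omega),
        show 2 * (m + 1) / 2 = m + 1 by omega, show (2 * m + 1) / 2 = m by omega,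
        show 2 * (m + 1) % 2 = 0 by omega, show (2 * m + 1) % 2 = 1 by omega,
        Nat.factorial_succ, padicValNat.mul (by omega) (Nat.factorial_ne_zero m)]
      ring

theorem val_prod_split (hq : 1 < q) (ho : Odd q) (h4 : q % 4 = 1) (n : ℕ) :
    padicValNat 2 (∏ i ∈ range n, (q ^ (i + 1) - 1)) =
      n * padicValNat 2 (q - 1) + padicValNat 2 n.factorial := by
  haveI : Fact (Nat.Prime 2) := ⟨Nat.prime_two⟩
  have hne : ∀ j, j ≠ 0 → q ^ j - 1 ≠ 0 := fun j hj => by
    have := Nat.one_lt_pow hj hq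
    omega
  induction n with
  | zero => simp
  | succ n ih =>
    rw [Finset.prod_range_succ, padicValNat.mul
      (Finset.prod_ne_zero_iff.2 fun i _ => hne _ (by omega)) (hne _ (by omega)), ih,
      Nat.factorial_succ, padicValNat.mul (by omega) (Nat.factorial_ne_zero n)]
    rcases Nat.even_or_odd n with ⟨m, rfl⟩ | ⟨m, rfl⟩
    · rw [← two_mul, val_pow_odd hq ho, padicValNat.eq_zero_of_not_dvd (n := 2 * m + 1) (by omega)]
      ring
    · rw [show 2 * m + 1 + 1 = 2 * (m + 1) by ring, val_pow_even hq ho (by omega),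
        val_sq_of_mod_one hq h4, padicValNat.mul (by norm_num) (by omega),
        padicValNat.self (by norm_num)]
      ring

theorem val_prod_symp (hq : 1 < q) (ho : Odd q) (n : ℕ) :
    padicValNat 2 (∏ i ∈ range n, (q ^ (2 * (i + 1)) - 1)) =
      n * padicValNat 2 (q ^ 2 - 1) + padicValNat 2 n.factorial := by
  haveI : Fact (Nat.Prime 2) := ⟨Nat.prime_two⟩
  induction n with
  | zero => simp
  | succ n ih =>
    have hne : ∀ j, j ≠ 0 → q ^ j - 1 ≠ 0 := fun j hj => by
      have := Nat.one_lt_pow hj hq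
      omega
    rw [Finset.prod_range_succ, padicValNat.mul
      (Finset.prod_ne_zero_iff.2 fun i _ => hne _ (by omega)) (hne _ (by omega)), ih,
      val_pow_even hq ho (by omega), Nat.factorial_succ,
      padicValNat.mul (by omega) (Nat.factorial_ne_zero n)]
    ring

end Val

section Groups

variable {F : Type*} [Field F] [Fintype F]

theorem two_ne_zero_of_odd (hF : Odd (Fintype.card F)) : (2 : F) ≠ 0 := by
  intro h0
  have h := (FiniteField.even_card_iff_char_two (F := F)).1
    (CharP.ringChar_of_prime_eq_zero Nat.prime_two (by exact_mod_cast h0))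
  exact (Nat.not_even_iff_odd.2 hF) (Nat.even_iff.2 h)

/-- signs as units of a ring -/
def signUnit (R : Type*) [Ring R] : ℤˣ →* Rˣ := Units.map (Int.castRingHom R).toMonoidHom

theorem signUnit_comm {R : Type*} [Ring R] (u : ℤˣ) (g : Rˣ) :
    signUnit R u * g = g * signUnit R u :=
  Units.ext (Int.cast_commute (u : ℤ) (g : R)).eq

theorem signUnit_injective {R : Type*} [Ring R] (h2 : (1 : R) ≠ -1) :
    Function.Injective (signUnit R) := by
  intro u v h
  have h' : ((u : ℤ) : R) = ((v : ℤ) : R) := congrArg Units.val h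
  rcases Int.units_eq_one_or u with rfl | rfl <;> rcases Int.units_eq_one_or v with rfl | rfl <;>
    simp at h' ⊢
  · exact h2 h'
  · exact h2 h'.symm

/-- linear automorphisms of a space as matrices -/
noncomputable def autGL {V : Type*} [AddCommGroup V] [Module F V] {n : ℕ}
    (e : V ≃ₗ[F] (Fin n → F)) : (V ≃ₗ[F] V) ≃* GL (Fin n) F :=
  (LinearMap.GeneralLinearGroup.generalLinearEquiv F V).symm.trans
    (Units.mapEquiv ((e.conjAlgEquiv F).trans
      LinearMap.toMatrixAlgEquiv').toRingEquiv.toMulEquiv)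

/-- the natural action of `GL` -/
noncomputable def natAct (n : ℕ) : GL (Fin n) F ≃* ((Fin n → F) ≃ₗ[F] (Fin n → F)) :=
  (autGL (LinearEquiv.refl F (Fin n → F))).symm

/-- scalars on each coordinate -/
noncomputable def diagAct (l : ℕ) : (Fin l → Fˣ) →* ((Fin l → F) ≃ₗ[F] (Fin l → F)) where
  toFun k := LinearEquiv.piCongrRight fun i => DistribMulAction.toLinearEquiv F F (k i)
  map_one' := by ext v i; simp [Units.smul_def]
  map_mul' k k' := by ext v i; simp [mul_assoc, Units.smul_def]

theorem diagAct_injective (l : ℕ) : Function.Injective (diagAct (F := F) l) := by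
  intro k k' h
  funext i
  refine Units.ext ?_
  have := congrFun (LinearEquiv.congr_fun h 1) i
  simpa [diagAct, Units.smul_def] using this

/-- elementary abelian subgroups of `GL` -/
theorem card_elementary_GL (hF : Odd (Fintype.card F)) (n : ℕ) (E : Subgroup (GL (Fin n) F))
    (hE : Cfsg.IsElementaryAbelian 2 E) : Nat.card E ≤ 2 ^ n := by
  have h := card_le_of_linear ((natAct n).toMonoidHom.comp E.subtype) (two_ne_zero_of_odd hF)
    ((natAct n).injective.comp E.subtype_injective)
    (fun e => Subtype.ext (by rw [Subgroup.coe_mul, ← pow_two]; exact hE.2 _ e.2))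
  rwa [Module.finrank_fin_fun] at h

/-- signs in `GL` normal in a Sylow subgroup, from a block decomposition -/
theorem exists_normal_GL (hF : Odd (Fintype.card F)) {n d m l : ℕ} (hd : 0 < d)
    (hn : m * d + l = n)
    (hv : padicValNat 2 (∏ i ∈ range n, (Fintype.card F ^ (i + 1) - 1)) =
      m * padicValNat 2 (∏ i ∈ range d, (Fintype.card F ^ (i + 1) - 1)) + padicValNat 2 m.factorial
        + l * padicValNat 2 (Fintype.card F - 1))
    (P : Sylow 2 (GL (Fin n) F)) :
    ∃ E : Subgroup ↥(P : Subgroup (GL (Fin n) F)), E.Normal ∧ Cfsg.IsElementaryAbelian 2 E ∧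
      Nat.card E = 2 ^ (m + l) := by
  classical
  haveI : Fact (Nat.Prime 2) := ⟨Nat.prime_two⟩
  haveI : Nonempty (Fin d) := ⟨⟨0, hd⟩⟩
  have h2 := two_ne_zero_of_odd hF
  have h1F : (1 : F) ≠ -1 := fun h => h2 (by rw [← one_add_one_eq_two]; linear_combination h)
  obtain ⟨E, hEn, hE, hEc⟩ := exists_signs (H := GL (Fin d) F) (K := Fin l → Fˣ) m
    (signUnit (Matrix (Fin d) (Fin d) F))
    (signUnit_injective fun h => h1F (by
      have := congrFun (congrFun h ⟨0, hd⟩) ⟨0, hd⟩
      simpa using this))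
    signUnit_comm (l := l) (Pi.monoidHom fun i => (signUnit F).comp (Pi.evalMonoidHom _ i))
    (fun a b h => funext fun i => signUnit_injective h1F (congrFun h i))
    (fun u k => funext fun i => signUnit_comm (u i) (k i))
  let e : ((Fin m → Fin d → F) × (Fin l → F)) ≃ₗ[F] (Fin n → F) := LinearEquiv.ofFinrankEq _ _ (by
    simp [Module.finrank_prod, Module.finrank_pi_fintype, hn])
  let φ := (autGL e).toMonoidHom.comp (blockAct m (natAct d).toMonoidHom (diagAct l))
  have hφ : Function.Injective φ := (autGL e).injective.comp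
    (blockAct_injective m _ (natAct d).injective _ (diagAct_injective l))
  have hv0 : ∀ k, padicValNat 2 (Fintype.card F ^ k) = 0 := fun k =>
    padicValNat.eq_zero_of_not_dvd fun h => (Nat.not_even_iff_odd.2 hF)
      (even_iff_two_dvd.2 (Nat.prime_two.dvd_of_dvd_pow h))
  have hq : 1 < Fintype.card F := Fintype.one_lt_card
  have hne : ∀ j, j ≠ 0 → Fintype.card F ^ j - 1 ≠ 0 := fun j hj => by
    have := Nat.one_lt_pow hj hq
    omega
  have hcard : ∀ j, padicValNat 2 (Nat.card (GL (Fin j) F)) =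
      padicValNat 2 (∏ i ∈ range j, (Fintype.card F ^ (i + 1) - 1)) := fun j => by
    rw [card_GL_eq, padicValNat.mul (pow_ne_zero _ (by omega))
      (Finset.prod_ne_zero_iff.2 fun i _ => hne _ (by omega)), hv0, zero_add]
  haveI := Finite.of_equiv _ (SemidirectProduct.equivProd (φ := permAut (GL (Fin d) F) m)).symm
  obtain ⟨E', h1, h2', h3⟩ := exists_normal_of_hom φ hφ (by
    rw [card_block, Nat.card_fun, Nat.card_fin, padicValNat.mul
      (mul_ne_zero (pow_ne_zero _ Nat.card_pos.ne') (Nat.factorial_ne_zero m))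
      (pow_ne_zero _ Nat.card_pos.ne'), padicValNat.mul (pow_ne_zero _ Nat.card_pos.ne')
      (Nat.factorial_ne_zero m), padicValNat.pow _ _, padicValNat.pow _ _, hcard, hcard,
      Nat.card_eq_fintype_card (α := Fˣ), Fintype.card_units, hv]) E hEn hE P
  exact ⟨E', h1, h2', h3.trans hEc⟩

/-- `q ≡ 3 (mod 4)`: normal elementary abelian subgroups of a Sylow subgroup are small -/
theorem card_normal_GL_three (hF : Odd (Fintype.card F)) (h4 : Fintype.card F % 4 = 3) (n : ℕ)
    (P : Sylow 2 (GL (Fin n) F)) (E : Subgroup ↥(P : Subgroup (GL (Fin n) F))) (hEn : E.Normal)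
    (hE : Cfsg.IsElementaryAbelian 2 E) : Nat.card E ≤ 2 ^ ((n + 1) / 2) := by
  classical
  haveI : Fact (Nat.Prime 2) := ⟨Nat.prime_two⟩
  have h2 := two_ne_zero_of_odd hF
  obtain ⟨L, _, _, _, hL, hrk⟩ := Homocyclic.exists_extension (F := F) 2 two_pos
  haveI : FiniteDimensional F L := Module.Finite.of_finite
  set c := padicValNat 2 (Fintype.card F ^ 2 - 1) with hc
  have hc3 : 3 ≤ c := by
    rw [hc, val_sq_sub_one Fintype.one_lt_card, val_sub_one_of_mod_three h4]
    have : 2 ≤ padicValNat 2 (Fintype.card F + 1) := by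
      rw [← padicValNat_dvd_iff_le (by omega)]
      omega
    omega
  obtain ⟨y, hy⟩ : ∃ y : Lˣ, orderOf y = 2 ^ c := by
    obtain ⟨ψ, hψ⟩ := Homocyclic.exists_cyclic_hom (H := Lˣ) (N := 2 ^ c) (by
      rw [Nat.card_eq_fintype_card, Fintype.card_units, hL]; exact pow_padicValNat_dvd)
    refine ⟨ψ (Multiplicative.ofAdd 1), ?_⟩
    rw [orderOf_injective ψ hψ, orderOf_ofAdd_eq_addOrderOf, ZMod.addOrderOf_one]
  let W := Fin (n % 2) → F
  let V := (Fin (n / 2) → L) × W
  let e : V ≃ₗ[F] (Fin n → F) := LinearEquiv.ofFinrankEq _ _ (by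
    simp only [Module.finrank_prod, Module.finrank_pi_fintype, Module.finrank_fin_fun,
      Finset.sum_const, Finset.card_univ, Fintype.card_fin, hrk, smul_eq_mul, V, W]
    simp only [Module.finrank_self, mul_one]
    omega)
  let μ := Homocyclic.mulHom (F := F) L (n / 2) W
  let z : V ≃ₗ[F] V := μ fun _ => y
  have hz : z ^ 2 ^ c = 1 := by
    rw [← map_pow, show (fun _ : Fin (n / 2) => y) ^ 2 ^ c = 1 from funext fun _ => by
      rw [Pi.pow_apply, ← hy, pow_orderOf_eq_one]; rfl, map_one]
  have hzj : ∀ (j : ℕ) (v : V), (z ^ j) v = ((fun i => ((y ^ j : Lˣ) : L) * v.1 i), v.2) :=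
    fun j v => by
      rw [← map_pow]
      exact Homocyclic.mulHom_apply _ v
  refine card_normal_le (autGL e z) (k := c) (by rw [← map_pow, hz, map_one]) ?_ P E hEn hE
  intro A hA hzA
  let ρ : A →* (V ≃ₗ[F] V) := (autGL e).symm.toMonoidHom.comp A.subtype
  let σ : A → A := fun a => ⟨(autGL e z)⁻¹ * a * autGL e z, by
    have := (Subgroup.mem_normalizer_iff.1 (Subgroup.inv_mem _ hzA) (a : GL (Fin n) F)).1 a.2
    simpa using this⟩
  have hσ : Function.Injective σ := fun a b h => Subtype.ext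
    (mul_left_cancel (mul_right_cancel (congrArg Subtype.val h)))
  refine card_le_of_normalizing ρ h2 ((autGL e).symm.injective.comp A.subtype_injective)
    (fun a => Subtype.ext (by rw [Subgroup.coe_mul, ← pow_two]; exact hA.2 _ a.2)) z σ
    (Finite.injective_iff_surjective.1 hσ) (fun a v => ?_) hz (fun a j ha => ?_) (fun v => ?_)
    (LinearMap.ker (LinearMap.fst F (Fin (n / 2) → L) W)) ?_ (fun v hv => ?_) (r := (n + 1) / 2) ?_
  · show (autGL e).symm (a : GL (Fin n) F) (z v) =
      z ((autGL e).symm ((autGL e z)⁻¹ * a * autGL e z) v)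
    rw [map_mul, map_mul, map_inv, MulEquiv.symm_apply_apply, LinearEquiv.mul_apply,
      LinearEquiv.mul_apply]
    exact (z.apply_symm_apply _).symm
  · have ha0 : a ≠ 0 := by
      rintro rfl
      rw [zero_pow (by positivity)] at ha
      exact zero_ne_one ha
    have h' : a ^ (Fintype.card F - 1) = 1 := FiniteField.pow_card_sub_one_eq_one a ha0
    have hg : Nat.gcd (2 ^ j) (Fintype.card F - 1) ∣ 2 := by
      obtain ⟨i, -, hi⟩ := (Nat.dvd_prime_pow Nat.prime_two).1 (Nat.gcd_dvd_left (2 ^ j) (Fintype.card F - 1))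
      have hd := (hi ▸ Nat.gcd_dvd_right (2 ^ j) (Fintype.card F - 1) : 2 ^ i ∣ Fintype.card F - 1)
      rcases i with _ | _ | i
      · rw [hi]; norm_num
      · rw [hi]; norm_num
      · exfalso
        have : 4 ∣ Fintype.card F - 1 := (Dvd.intro_left _ (by ring : 2 ^ i * 4 = 2 ^ (i + 1 + 1))).trans hd
        omega
    obtain ⟨c', hc'⟩ := hg
    have h2a : a ^ 2 = 1 := by
      rw [hc', pow_mul, pow_gcd_eq_one.2 ⟨ha, h'⟩, one_pow]
    exact sq_eq_one_iff.1 h2a
  · let Φ : L × F →ₗ[F] V :=
      ((LinearMap.pi fun i => (LinearMap.mulRight F (v.1 i)).comp (LinearMap.fst F L F))).prod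
        ((LinearMap.toSpanSingleton F W v.2).comp (LinearMap.snd F L F))
    refine ⟨LinearMap.range Φ, ?_, fun j => ⟨(((y ^ j : Lˣ) : L), 1), ?_⟩⟩
    · refine (LinearMap.finrank_range_le Φ).trans (le_of_eq ?_)
      rw [Module.finrank_prod, hrk, Module.finrank_self]
    · rw [hzj]
      exact Prod.ext (funext fun i => rfl) (one_smul F v.2)
  · rw [LinearMap.ker_fst, LinearMap.finrank_range_of_inj LinearMap.inr_injective]
    simp only [W, Module.finrank_fin_fun]
    omega
  · rw [hzj] at hv
    rw [LinearMap.mem_ker, LinearMap.fst_apply]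
    funext i
    have h := congrFun (congrArg Prod.fst hv) i
    by_contra hne
    have hy4 : y ^ 4 = 1 := Units.ext ((mul_eq_right₀ hne).1 h)
    have := Nat.le_of_dvd (by norm_num) (orderOf_dvd_of_pow_eq_one hy4)
    rw [hy] at this
    have := Nat.pow_le_pow_right two_pos hc3
    omega
  · rw [e.finrank_eq, Module.finrank_fin_fun]
    omega

/-- elementary abelian subgroups of `Sp` -/
theorem card_elementary_Sp (hF : Odd (Fintype.card F)) (n : ℕ)
    (E : Subgroup ↥(Matrix.symplecticGroup (Fin n) F)) (hE : Cfsg.IsElementaryAbelian 2 E) :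
    Nat.card E ≤ 2 ^ n :=
  card_le_of_alternating
    ((Symp.Sp (Symp.sympBil n F)).subtype.comp
      ((Symp.symplecticEquiv n F).toMonoidHom.comp E.subtype))
    (two_ne_zero_of_odd hF)
    ((Subtype.val_injective).comp ((Symp.symplecticEquiv n F).injective.comp E.subtype_injective))
    (fun e => Subtype.ext (by rw [Subgroup.coe_mul, ← pow_two]; exact hE.2 _ e.2))
    (Symp.sympBil n F) (Symp.sympBil_isAlt n F) (Symp.sympBil_nondegenerate n F)
    (fun e u v => ((Symp.symplecticEquiv n F) (e : ↥(Matrix.symplecticGroup (Fin n) F))).2 u v)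
    (Symp.finrank_sympSpace n F)

/-- the natural action of `SL₂` -/
noncomputable def slAct : Matrix.SpecialLinearGroup (Fin 2) F →* ((Fin 2 → F) ≃ₗ[F] (Fin 2 → F)) :=
  (natAct 2).toMonoidHom.comp Matrix.SpecialLinearGroup.toGL

theorem natAct_apply {n : ℕ} (g : GL (Fin n) F) (v : Fin n → F) :
    natAct n g v = (g : Matrix (Fin n) (Fin n) F).mulVec v := by
  simp [natAct, autGL]

/-- `SL₂ ≀ S_n` has odd index in `Sp_{2n}` -/
theorem exists_wreath_Sp (hF : Odd (Fintype.card F)) (n : ℕ) :
    ∃ φ : ((Fin n → Matrix.SpecialLinearGroup (Fin 2) F) ⋊[permAut _ n] Equiv.Perm (Fin n)) ×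
        (Fin 0 → Fˣ) →* ↥(Matrix.symplecticGroup (Fin n) F),
      Function.Injective φ ∧ padicValNat 2 (Nat.card ↥(Matrix.symplecticGroup (Fin n) F)) =
        padicValNat 2 (Nat.card (((Fin n → Matrix.SpecialLinearGroup (Fin 2) F) ⋊[permAut _ n]
          Equiv.Perm (Fin n)) × (Fin 0 → Fˣ))) := by
  classical
  haveI : Fact (Nat.Prime 2) := ⟨Nat.prime_two⟩
  let f : (Fin 2 → F) → (Fin 2 → F) → F := fun u v => u 0 * v 1 - u 1 * v 0
  let B : LinearMap.BilinForm F (Fin n → (Fin 2 → F)) := LinearMap.mk₂ F (fun u v => ∑ i, f (u i) (v i))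
    (fun u u' v => by
      rw [← Finset.sum_add_distrib]
      exact Finset.sum_congr rfl fun i _ => by simp [f]; ring)
    (fun a u v => by
      rw [smul_eq_mul, Finset.mul_sum]
      exact Finset.sum_congr rfl fun i _ => by simp [f]; ring)
    (fun u v v' => by
      rw [← Finset.sum_add_distrib]
      exact Finset.sum_congr rfl fun i _ => by simp [f]; ring)
    (fun a u v => by
      rw [smul_eq_mul, Finset.mul_sum]
      exact Finset.sum_congr rfl fun i _ => by simp [f]; ring)
  have hB : ∀ u v, B u v = ∑ i, f (u i) (v i) := fun _ _ => rfl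
  have halt : B.IsAlt := fun u => by
    rw [hB]; exact Finset.sum_eq_zero fun i _ => by simp [f]; ring
  have hnd : ∀ u, (∀ v, B u v = 0) → u = 0 := by
    intro u hu
    have key : ∀ i (w : (Fin 2 → F)), f (u i) w = 0 := fun i w => by
      have := hu (Pi.single i w)
      rwa [hB, Finset.sum_eq_single i (fun j _ hj => by simp [f, hj]) (by simp), Pi.single_eq_same]
        at this
    funext i j
    fin_cases j
    · simpa [f] using key i ![0, 1]
    · simpa [f] using key i ![1, 0]
  let M := ((Fin n → Matrix.SpecialLinearGroup (Fin 2) F) ⋊[permAut _ n] Equiv.Perm (Fin n)) ×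
    (Fin 0 → Fˣ)
  let ρ : M →* ((Fin n → (Fin 2 → F)) ≃ₗ[F] (Fin n → (Fin 2 → F))) :=
    (wreathAct n slAct).comp (MonoidHom.fst _ _)
  have hρ : Function.Injective ρ := fun x y h => Prod.ext (wreathAct_injective n slAct
    ((natAct 2).injective.comp Matrix.SpecialLinearGroup.toGL_injective) h) (funext fun i => i.elim0)
  have hslf : ∀ (g : Matrix.SpecialLinearGroup (Fin 2) F) (u v : (Fin 2 → F)),
      f (slAct g u) (slAct g v) = f u v := by
    intro g u v
    have hdet := g.2
    rw [Matrix.det_fin_two] at hdet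
    show f (natAct 2 (Matrix.SpecialLinearGroup.toGL g) u) (natAct 2 (Matrix.SpecialLinearGroup.toGL g) v) = _
    rw [natAct_apply, natAct_apply]
    simp [f, Matrix.mulVec, dotProduct, Fin.sum_univ_two]
    linear_combination (u 0 * v 1 - u 1 * v 0) * hdet
  obtain ⟨φ, hφ⟩ := CfsgLib.Known.FieldExtension.exists_hom_symplectic B halt
    ⟨hnd, fun u hu => hnd u fun v => neg_eq_zero.1 ((LinearMap.IsAlt.neg halt u v).trans (hu v))⟩
    (m := n) (by simp [Module.finrank_pi_fintype, mul_comm]) ρ hρ (fun x u v => by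
      rw [hB, hB]
      refine Eq.trans ?_ (x.1.right.symm.sum_comp fun i => f (u i) (v i))
      exact Finset.sum_congr rfl fun i _ => hslf _ _ _)
  have hq : 1 < Fintype.card F := Fintype.one_lt_card
  have hv0 : ∀ k, padicValNat 2 (Fintype.card F ^ k) = 0 := fun k =>
    padicValNat.eq_zero_of_not_dvd fun h => (Nat.not_even_iff_odd.2 hF)
      (even_iff_two_dvd.2 (Nat.prime_two.dvd_of_dvd_pow h))
  have hne : ∀ j, j ≠ 0 → Fintype.card F ^ j - 1 ≠ 0 := fun j hj => by
    have := Nat.one_lt_pow hj hq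
    omega
  haveI := Finite.of_equiv _ (SemidirectProduct.equivProd (φ := permAut (Matrix.SpecialLinearGroup (Fin 2) F) n)).symm
  refine ⟨φ, hφ, ?_⟩
  rw [card_block, Nat.card_fun, Nat.card_fin, pow_zero, mul_one,
    padicValNat.mul (pow_ne_zero _ Nat.card_pos.ne') (Nat.factorial_ne_zero n), padicValNat.pow _ _,
    CfsgLib.Classical.Two.card_SL_two, padicValNat.mul (by omega) (hne 2 two_ne_zero), Symp.card_symplecticGroup,
    padicValNat.mul (pow_ne_zero _ (by omega)) (Finset.prod_ne_zero_iff.2 fun i _ => hne _ (by omega)),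
    hv0, val_prod_symp hq hF]
  have := hv0 1
  rw [pow_one] at this
  rw [this]
  ring

/-- signs in `Sp` normal in a Sylow subgroup -/
theorem exists_normal_Sp (hF : Odd (Fintype.card F)) (n : ℕ)
    (P : Sylow 2 ↥(Matrix.symplecticGroup (Fin n) F)) :
    ∃ E : Subgroup ↥(P : Subgroup ↥(Matrix.symplecticGroup (Fin n) F)),
      E.Normal ∧ Cfsg.IsElementaryAbelian 2 E ∧ Nat.card E = 2 ^ n := by
  classical
  haveI : Fact (Nat.Prime 2) := ⟨Nat.prime_two⟩
  have h2 := two_ne_zero_of_odd hF
  have h1F : (1 : F) ≠ -1 := fun h => h2 (by rw [← one_add_one_eq_two]; linear_combination h)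
  let c : ℤˣ →* Matrix.SpecialLinearGroup (Fin 2) F :=
    { toFun := fun u => ⟨((u : ℤ) : Matrix (Fin 2) (Fin 2) F), by
        rcases Int.units_eq_one_or u with rfl | rfl <;> simp [Matrix.det_neg]⟩
      map_one' := Subtype.ext (by simp)
      map_mul' := fun u v => Subtype.ext (by push_cast; rfl) }
  obtain ⟨E, hEn, hE, hEc⟩ := exists_signs (H := Matrix.SpecialLinearGroup (Fin 2) F)
    (K := Fin 0 → Fˣ) n c (fun u v h => signUnit_injective (fun h => h1F (by
      have := congrFun (congrFun h 0) 0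
      simpa using this)) (Units.ext (congrArg Subtype.val h)))
    (fun u h => Subtype.ext (Int.cast_commute (u : ℤ) (h : Matrix (Fin 2) (Fin 2) F)).eq)
    (l := 0) 1 (fun a b _ => funext fun i => i.elim0) (fun u k => funext fun i => i.elim0)
  obtain ⟨φ, hφ, hval⟩ := exists_wreath_Sp hF n
  haveI := Finite.of_equiv _ (SemidirectProduct.equivProd (φ := permAut (Matrix.SpecialLinearGroup (Fin 2) F) n)).symm
  obtain ⟨E', h1, h2', h3⟩ := exists_normal_of_hom φ hφ hval E hEn hE P
  exact ⟨E', h1, h2', h3.trans hEc⟩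

end Groups

end CfsgLib.Classical.TwoRank
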