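import Mathlib.Algebra.CharP.Lemmas
import Mathlib.LinearAlgebra.Matrix.CharP
import Mathlib.GroupTheory.OrderOfElement
import Cfsg.Agent.Lib.Classical.SL2Trace

/-!
# Images in `PSL₂`: order information from the trace, products of two conjugates
-/

set_option autoImplicit false

namespace CfsgLib.Classical.Trace

open Matrix
open scoped MatrixGroups

variable {F : Type*} [Field F]

local notation "PSL₂" => Matrix.ProjectiveSpecialLinearGroup (Fin 2) F

theorem mk_eq_one_iff {x : SL(2, F)} : (QuotientGroup.mk x : PSL₂) = 1 ↔ IsScalar x := by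
  rw [QuotientGroup.eq_one_iff, ← not_iff_not]
  exact not_isScalar_iff_not_mem_center.symm

theorem mk_neg_eq (x : SL(2, F)) : (QuotientGroup.mk (-x) : PSL₂) = QuotientGroup.mk x := by
  rw [QuotientGroup.eq, ← not_not (a := _ ∈ _), ← not_isScalar_iff_not_mem_center, not_not]
  have e : (-x)⁻¹ * x = -1 := by
    apply mul_left_cancel (a := -x)
    rw [mul_inv_cancel_left, neg_mul_neg, mul_one]
  rw [e]
  simp [IsScalar]

theorem mk_pow_eq_one_of_matrix {x : SL(2, F)} {n : ℕ} {e : F}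
    (h : (x : Matrix (Fin 2) (Fin 2) F) ^ n = e • 1) : (QuotientGroup.mk x : PSL₂) ^ n = 1 := by
  rw [← QuotientGroup.mk_pow, mk_eq_one_iff]
  simp [IsScalar, h]

/-- Trace zero gives order at most two. -/
theorem mk_sq_eq_one {x : SL(2, F)} (h : trc x = 0) : (QuotientGroup.mk x : PSL₂) ^ 2 = 1 :=
  mk_pow_eq_one_of_matrix (e := -1) (by rw [pow_two, sq_eq, h]; simp)

/-- Trace `±2` gives order dividing the characteristic. -/
theorem mk_pow_char_eq_one (p : ℕ) [Fact p.Prime] [CharP F p] {x : SL(2, F)} {e : F}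
    (he : e ^ 2 = 1) (h : trc x = 2 * e) : (QuotientGroup.mk x : PSL₂) ^ p = 1 := by
  have hp := (Fact.out : p.Prime)
  set M := (x : Matrix (Fin 2) (Fin 2) F) with hM
  have hee : e * e = 1 := by rw [← pow_two, he]
  have h0 : (M - e • 1) ^ 2 = 0 := by
    have hs : M * M = (2 * e) • M - 1 := by rw [hM, sq_eq, h]
    rw [pow_two, sub_mul, mul_sub, mul_sub, hs]
    simp only [smul_mul_assoc, mul_smul_comm, one_mul, mul_one, smul_smul, hee, one_smul,
      two_mul, add_smul]
    abel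
  have : CharP (Matrix (Fin 2) (Fin 2) F) p := inferInstance
  have h1 : (M - e • (1 : Matrix (Fin 2) (Fin 2) F)) ^ p = 0 := pow_eq_zero_of_le hp.two_le h0
  rw [sub_pow_char_of_commute (p := p) (Commute.smul_right (Commute.one_right M) e), sub_eq_zero,
    smul_pow, one_pow] at h1
  exact mk_pow_eq_one_of_matrix h1

/-- Products of two conjugates of the image of `x`. -/
theorem exists_conj_mul_eq {x : SL(2, F)} (hx : trc x ^ 2 ≠ 4) (hN : NormSurj (trc x)) {g : SL(2, F)}
    (h : ∃ y z : SL(2, F), trc y = trc x ∧ trc z = trc x ∧ y * z = g) :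
    ∃ u v : PSL₂, (QuotientGroup.mk g : PSL₂) =
      (u * QuotientGroup.mk x * u⁻¹) * (v * QuotientGroup.mk x * v⁻¹) := by
  obtain ⟨y, z, hy, hz, rfl⟩ := h
  have hxs := not_isScalar_of_trc hx
  obtain ⟨u, rfl⟩ := exists_conj hxs (not_isScalar_of_trc (by rw [hy]; exact hx)) hy hN
  obtain ⟨v, rfl⟩ := exists_conj hxs (not_isScalar_of_trc (by rw [hz]; exact hx)) hz hN
  exact ⟨QuotientGroup.mk u, QuotientGroup.mk v, rfl⟩

theorem trc_conj (h x : SL(2, F)) : trc (h * x * h⁻¹) = trc x := by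
  have e : ∀ u : SL(2, F), trc u = (u : Matrix (Fin 2) (Fin 2) F).trace := fun u =>
    (Matrix.trace_fin_two _).symm
  rw [e, e, Matrix.SpecialLinearGroup.coe_mul, Matrix.trace_mul_comm,
    ← Matrix.SpecialLinearGroup.coe_mul, ← mul_assoc, inv_mul_cancel, one_mul]

/-- Conjugate images have traces of equal square. -/
theorem trc_sq_eq_of_isConj {x y : SL(2, F)}
    (h : IsConj (QuotientGroup.mk x : PSL₂) (QuotientGroup.mk y)) : trc y ^ 2 = trc x ^ 2 := by
  obtain ⟨u', hu⟩ := isConj_iff.1 h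
  obtain ⟨u, rfl⟩ := QuotientGroup.mk_surjective u'
  have h1 : IsScalar ((u * x * u⁻¹)⁻¹ * y) := by
    rw [← mk_eq_one_iff, QuotientGroup.mk_mul, QuotientGroup.mk_inv, inv_mul_eq_one]
    exact hu
  generalize hz : (u * x * u⁻¹)⁻¹ * y = z at h1
  obtain ⟨h01, h10, h00⟩ := h1
  have hd := det_eq z
  rw [h01, h10, ← h00] at hd
  have e : y = u * x * u⁻¹ * z := by rw [← hz, mul_inv_cancel_left]
  rw [e, ← trc_conj u x]
  generalize u * x * u⁻¹ = w
  simp only [trc, Matrix.SpecialLinearGroup.coe_mul, Matrix.mul_apply, Fin.sum_univ_two, h01, h10,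
    ← h00]
  linear_combination (((w : Matrix (Fin 2) (Fin 2) F) 0 0 + (w : Matrix (Fin 2) (Fin 2) F) 1 1) ^ 2) * hd

end CfsgLib.Classical.Trace
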