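import Cfsg.Agent.S0495
import Cfsg.Agent.S0848
import Cfsg.Agent.Lib.TwoGroups.DihedralFusion
import Cfsg.Agent.Lib.TwoGroups.OrderThreeSixty
import Mathlib.GroupTheory.FixedPointFree

/-!
# Recognition of `A₆` and `PSL₂(7)` by a dihedral involution centralizer

* `isSimpleGroup_of_d8`: a group without subgroups of index 2 having a 2-central involution with
  centralizer dihedral of order 8 is simple.
* `alt_six_centralizer`: the centralizer of a double transposition in `A₆` is dihedral of order 8.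
* `alt_six_or_psl_seven`: the recognition theorem.
-/

set_option autoImplicit false

namespace CfsgLib.Classical.DihedralEightRecog

open DihedralGroup

/-- The sign-compatible embedding of `D₈` in `A₆`. -/
def altFun : DihedralGroup 4 → Equiv.Perm (Fin 6)
  | r i => (Equiv.swap 0 3 * Equiv.swap 0 1 * Equiv.swap 0 2 * Equiv.swap 4 5) ^ (ZMod.val i)
  | sr i => Equiv.swap 0 1 * Equiv.swap 4 5 *
      (Equiv.swap 0 3 * Equiv.swap 0 1 * Equiv.swap 0 2 * Equiv.swap 4 5) ^ (ZMod.val i)

/-- The standard double transposition. -/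
def t₀ : Equiv.Perm (Fin 6) := Equiv.swap 0 1 * Equiv.swap 2 3

theorem altFun_facts :
    (∀ a b, altFun (a * b) = altFun a * altFun b) ∧ (∀ a, Equiv.Perm.sign (altFun a) = 1) ∧
      (∀ a, altFun a * t₀ = t₀ * altFun a) ∧ (∀ a, altFun a = 1 → a = 1) ∧
      ∀ σ : Equiv.Perm (Fin 6), Equiv.Perm.sign σ = 1 → σ * t₀ = t₀ * σ → ∃ a, altFun a = σ := by
  refine ⟨?_, ?_, ?_, ?_, ?_⟩ <;> decide +kernel

/-- The centralizer of a double transposition in `A₆` is dihedral of order 8. -/
theorem alt_six_centralizer (αt : ↥(alternatingGroup (Fin 6))) (hαt : orderOf αt = 2)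
    (hsupp : (αt : Equiv.Perm (Fin 6)).support.card = 4) :
    Nonempty (↥(Subgroup.centralizer ({αt} : Set ↥(alternatingGroup (Fin 6)))) ≃* DihedralGroup 4) := by
  obtain ⟨hmul, hsign, hcomm, hinj, hsurj⟩ := altFun_facts
  have hpow : (αt : Equiv.Perm (Fin 6)) ^ 2 = 1 := by
    rw [← SubgroupClass.coe_pow, ← hαt, pow_orderOf_eq_one, OneMemClass.coe_one]
  have hcyc : (αt : Equiv.Perm (Fin 6)).cycleType = t₀.cycleType := by
    have h0 : t₀.cycleType = {2, 2} := by
      show (Equiv.swap (0 : Fin 6) 1 * Equiv.swap 2 3).cycleType = {2, 2}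
      rw [Equiv.Perm.Disjoint.cycleType_mul (by
          intro i; revert i; decide),
        (Equiv.Perm.IsSwap.isCycle ⟨0, 1, by decide, rfl⟩).cycleType,
        (Equiv.Perm.IsSwap.isCycle ⟨2, 3, by decide, rfl⟩).cycleType,
        Equiv.Perm.card_support_swap (by decide), Equiv.Perm.card_support_swap (by decide)]
      rfl
    have hall : ∀ c ∈ (αt : Equiv.Perm (Fin 6)).cycleType, c = 2 := fun c hc => by
      have h1 := Equiv.Perm.two_le_of_mem_cycleType hc
      have h2 : c ∣ 2 := (Equiv.Perm.dvd_of_mem_cycleType hc).trans (orderOf_dvd_of_pow_eq_one hpow)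
      have := Nat.le_of_dvd two_pos h2
      omega
    have hrep := Multiset.eq_replicate_card.2 hall
    have hs := Equiv.Perm.sum_cycleType (αt : Equiv.Perm (Fin 6))
    rw [hrep, Multiset.sum_replicate, smul_eq_mul, hsupp] at hs
    rw [hrep, h0, show (αt : Equiv.Perm (Fin 6)).cycleType.card = 2 by omega]
    rfl
  obtain ⟨c, hc⟩ := isConj_iff.1 (Equiv.Perm.isConj_iff_cycleType_eq.2 hcyc)
  obtain ⟨c, hc, hcs⟩ : ∃ c : Equiv.Perm (Fin 6), c * (αt : Equiv.Perm (Fin 6)) * c⁻¹ = t₀ ∧
      Equiv.Perm.sign c = 1 := by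
    rcases Int.units_eq_one_or (Equiv.Perm.sign c) with e | e
    · exact ⟨c, hc, e⟩
    · refine ⟨Equiv.swap 0 1 * c, ?_, ?_⟩
      · rw [show Equiv.swap (0 : Fin 6) 1 * c * (αt : Equiv.Perm (Fin 6)) *
          (Equiv.swap 0 1 * c)⁻¹ = Equiv.swap 0 1 * (c * (αt : Equiv.Perm (Fin 6)) * c⁻¹) *
            (Equiv.swap (0 : Fin 6) 1)⁻¹ by group, hc]
        decide
      · rw [map_mul, e, Equiv.Perm.sign_swap (by decide)]
        rfl
  let F : DihedralGroup 4 →* ↥(alternatingGroup (Fin 6)) :=
    MonoidHom.mk' (fun a => ⟨c⁻¹ * altFun a * c, by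
      rw [Equiv.Perm.mem_alternatingGroup, map_mul, map_mul, map_inv, hsign, hcs]; rfl⟩)
      fun a b => Subtype.ext (by
        show c⁻¹ * altFun (a * b) * c = c⁻¹ * altFun a * c * (c⁻¹ * altFun b * c)
        rw [hmul]; group)
  have hFi : Function.Injective F := (injective_iff_map_eq_one F).2 fun a ha => hinj a (by
    have e : c⁻¹ * altFun a * c = 1 := congrArg Subtype.val ha
    have := congrArg (fun z => c * z * c⁻¹) e
    simpa [mul_assoc] using this)
  have hαc : (αt : Equiv.Perm (Fin 6)) = c⁻¹ * t₀ * c := by rw [← hc]; group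
  have hrange : F.range = Subgroup.centralizer ({αt} : Set ↥(alternatingGroup (Fin 6))) := by
    refine le_antisymm ?_ fun σ hσ => ?_
    · rintro _ ⟨a, rfl⟩
      rw [Subgroup.mem_centralizer_singleton_iff]
      refine Subtype.ext ?_
      show c⁻¹ * altFun a * c * (αt : Equiv.Perm (Fin 6)) =
        (αt : Equiv.Perm (Fin 6)) * (c⁻¹ * altFun a * c)
      rw [hαc, show c⁻¹ * altFun a * c * (c⁻¹ * t₀ * c) = c⁻¹ * (altFun a * t₀) * c by group,
        hcomm]
      group
    · rw [Subgroup.mem_centralizer_singleton_iff] at hσ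
      have hσ' : (σ : Equiv.Perm (Fin 6)) * (c⁻¹ * t₀ * c) = c⁻¹ * t₀ * c * σ := by
        rw [← hαc]; exact congrArg Subtype.val hσ
      obtain ⟨a, ha⟩ := hsurj (c * (σ : Equiv.Perm (Fin 6)) * c⁻¹) (by
        rw [map_mul, map_mul, map_inv, Equiv.Perm.mem_alternatingGroup.1 σ.2, hcs]; rfl) (by
        calc c * (σ : Equiv.Perm (Fin 6)) * c⁻¹ * t₀
            = c * ((σ : Equiv.Perm (Fin 6)) * (c⁻¹ * t₀ * c)) * c⁻¹ := by group
          _ = _ := by rw [hσ']; group)
      exact ⟨a, Subtype.ext (show c⁻¹ * altFun a * c = σ by rw [ha]; group)⟩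
  exact ⟨((MonoidHom.ofInjective hFi).trans (MulEquiv.subgroupCongr hrange)).symm⟩

variable {G : Type*} [Group G] [Finite G]

/-- A group without subgroups of index 2 with a 2-central involution whose centralizer is dihedral
of order 8 is simple. -/
theorem isSimpleGroup_of_d8 (hG : ∀ H : Subgroup G, H.index ≠ 2) (α : G) (hα : orderOf α = 2)
    (S : Sylow 2 G) (hαc : ∀ s ∈ (S : Subgroup G), s * α = α * s)
    (e : ↥(Subgroup.centralizer ({α} : Set G)) ≃* DihedralGroup 4) :
    IsSimpleGroup G ∧ ¬ IsMulCommutative G := by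
  have : Fact (Nat.Prime 2) := ⟨Nat.prime_two⟩
  set f : DihedralGroup 4 →* G :=
    (Subgroup.centralizer ({α} : Set G)).subtype.comp e.symm.toMonoidHom with hf
  have hfi : Function.Injective f := Subtype.val_injective.comp e.symm.injective
  have hrange : f.range = Subgroup.centralizer ({α} : Set G) := by
    rw [hf, MonoidHom.range_comp, MonoidHom.range_eq_top.2 e.symm.surjective,
      ← MonoidHom.range_eq_map, Subgroup.range_subtype]
  have hS : f.range = (S : Subgroup G) := by
    rw [hrange]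
    refine S.is_maximal' ?_ fun s hs => Subgroup.mem_centralizer_singleton_iff.2 (hαc s hs)
    exact IsPGroup.of_card (p := 2) (n := 3) (by
      rw [Nat.card_congr e.toEquiv, DihedralGroup.nat_card]; rfl)
  have hαmem : α ∈ Subgroup.centralizer ({α} : Set G) :=
    Subgroup.mem_centralizer_singleton_iff.2 rfl
  have hf2 : f (r 2) = α := by
    have hkey : ∀ a : DihedralGroup 4, (∀ b, b * a = a * b) → a ≠ 1 → a = r 2 := by decide
    have h1 : e ⟨α, hαmem⟩ = r 2 := by
      refine hkey _ (fun b => ?_) fun h1 => ?_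
      · obtain ⟨c, rfl⟩ := e.surjective b
        rw [← map_mul, ← map_mul]
        exact congrArg e (Subtype.ext (Subgroup.mem_centralizer_singleton_iff.1 c.2))
      · have h2 : α = 1 := congrArg Subtype.val ((map_eq_one_iff e e.injective).1 h1)
        rw [h2, orderOf_one] at hα
        omega
    rw [← h1, hf]
    simp
  have hconj := CfsgLib.TwoGroups.Dihedral.all_conj_of_no_index_two (n := 2) (f := f)
    hfi hS one_le_two hG
  have hord : ∀ i : ZMod 4, orderOf (f (sr i)) = 2 := fun i => by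
    rw [orderOf_injective f hfi, orderOf_sr]
  -- every nontrivial normal subgroup contains `f.range`
  have hall : ∀ N : Subgroup G, N.Normal → N ≠ ⊥ → f.range ≤ N := by
    intro N hN hne
    by_cases heven : 2 ∣ Nat.card N
    · obtain ⟨z, hz⟩ := exists_prime_orderOf_dvd_card' (G := N) 2 heven
      rw [← Subgroup.orderOf_coe] at hz
      have hinv : ∀ v : G, orderOf v = 2 → v ∈ N := fun v hv => by
        obtain ⟨c, hc⟩ := isConj_iff.1 (hconj z v hz hv)
        rw [← hc]
        exact hN.conj_mem _ z.2 c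
      rintro _ ⟨a, rfl⟩
      rcases a with i | i
      · rw [show r i = sr 0 * sr i by rw [sr_mul_sr, sub_zero], map_mul]
        exact mul_mem (hinv _ (hord 0)) (hinv _ (hord i))
      · exact hinv _ (hord i)
    · exfalso
      have hfix : ∀ v : G, orderOf v = 2 → ∀ n ∈ N, v * n * v⁻¹ = n → n = 1 := by
        intro v hv n hn hvn
        obtain ⟨c, hc⟩ := isConj_iff.1 (hconj v α hv hα)
        have hm : c * n * c⁻¹ ∈ N := hN.conj_mem n hn c
        have hmC : c * n * c⁻¹ ∈ Subgroup.centralizer ({α} : Set G) := by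
          rw [Subgroup.mem_centralizer_singleton_iff, ← hc]
          have h2 : v * n = n * v := mul_inv_eq_iff_eq_mul.1 hvn
          calc c * n * c⁻¹ * (c * v * c⁻¹) = c * (n * v) * c⁻¹ := by group
            _ = c * v * c⁻¹ * (c * n * c⁻¹) := by rw [← h2]; group
        have h1 : orderOf (c * n * c⁻¹) ∣ 8 := by
          rw [← Subgroup.orderOf_mk _ hmC]
          refine (orderOf_dvd_natCard _).trans ?_
          rw [Nat.card_congr e.toEquiv, DihedralGroup.nat_card]
        have h3 : orderOf (c * n * c⁻¹) ∣ Nat.card N := by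
          rw [← Subgroup.orderOf_mk _ hm]; exact orderOf_dvd_natCard _
        have h4 : orderOf (c * n * c⁻¹) = 1 := Nat.eq_one_of_dvd_coprimes
          (show Nat.Coprime (2 ^ 3) (Nat.card N) from
            (Nat.prime_two.coprime_iff_not_dvd.2 heven).pow_left 3) h1 h3
        exact conj_eq_one_iff.1 (orderOf_eq_one_iff.1 h4)
      have hinvert : ∀ v : G, orderOf v = 2 → ∀ n ∈ N, v * n * v⁻¹ = n⁻¹ := by
        intro v hv n hn
        have := Fintype.ofFinite N
        let φ : N →* N := (MulAut.conjNormal v : MulAut N).toMonoidHom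
        have hφ : MonoidHom.FixedPointFree φ := fun m hm => Subtype.ext
          (hfix v hv m m.2 (congrArg Subtype.val hm))
        have hinvol : Function.Involutive φ := fun m => Subtype.ext (by
          show v * (v * (m : G) * v⁻¹) * v⁻¹ = m
          have h2 : v * v = 1 := by rw [← pow_two, ← hv, pow_orderOf_eq_one]
          calc v * (v * (m : G) * v⁻¹) * v⁻¹ = (v * v) * m * (v * v)⁻¹ := by group
            _ = m := by rw [h2, inv_one, one_mul, mul_one])
        have := congrFun (MonoidHom.FixedPointFree.coe_eq_inv_of_involutive hφ hinvol) ⟨n, hn⟩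
        exact congrArg Subtype.val this
      refine hne (eq_bot_iff.2 fun n hn => Subgroup.mem_bot.2 ?_)
      refine hfix (f (r 2 * sr 0)) ?_ n hn ?_
      · rw [r_mul_sr, hord]
      · rw [map_mul, show f (r 2) * f (sr 0) * n * (f (r 2) * f (sr 0))⁻¹ =
          f (r 2) * (f (sr 0) * n * (f (sr 0))⁻¹) * (f (r 2))⁻¹ by group, hinvert _ (hord 0) n hn,
          hinvert _ (by rw [hf2]; exact hα) _ (inv_mem hn), inv_inv]
  have hncomm : ¬ IsMulCommutative G := fun hc => by
    have h1 : f (r 1 * sr 0) = f (sr 0 * r 1) := by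
      rw [map_mul, map_mul]; exact hc.is_comm.comm _ _
    exact absurd (hfi h1) (by decide)
  have : Nontrivial G := ⟨⟨α, 1, fun h => by rw [h, orderOf_one] at hα; omega⟩⟩
  refine ⟨⟨fun N hN => ?_⟩, hncomm⟩
  by_cases hne : N = ⊥
  · exact Or.inl hne
  right
  have hle := hall N hN hne
  have hSN : (S : Subgroup G) ≤ N := hS ▸ hle
  rw [eq_top_iff, ← Sylow.normalizer_sup_eq_top' S hSN, sup_le_iff]
  refine ⟨fun n hn => hle ?_, le_rfl⟩
  rw [hrange, Subgroup.mem_centralizer_singleton_iff]
  have hαS : α ∈ (S : Subgroup G) := hS ▸ ⟨r 2, hf2⟩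
  have hm : n * α * n⁻¹ ∈ (S : Subgroup G) := (Subgroup.mem_normalizer_iff.1 hn α).1 hαS
  rw [← hS] at hm
  obtain ⟨a, ha⟩ := hm
  have hkey : ∀ a : DihedralGroup 4, (∀ b, b * a = a * b) → a ≠ 1 → a = r 2 := by decide
  have ha2 : a = r 2 := by
    refine hkey a (fun b => hfi ?_) fun h1 => ?_
    · rw [map_mul, map_mul, ha]
      have hb : n⁻¹ * f b * n ∈ (S : Subgroup G) :=
        (Subgroup.mem_normalizer_iff'.1 hn (n⁻¹ * f b)).2 (by
          rw [mul_inv_cancel_left]; exact hS ▸ ⟨b, rfl⟩)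
      have h1 := hαc _ hb
      calc f b * (n * α * n⁻¹) = n * ((n⁻¹ * f b * n) * α) * n⁻¹ := by group
        _ = n * α * n⁻¹ * f b := by rw [h1]; group
    · rw [h1, map_one, eq_comm, conj_eq_one_iff] at ha
      rw [ha, orderOf_one] at hα
      omega
  rw [ha2, hf2] at ha
  exact mul_inv_eq_iff_eq_mul.1 ha.symm

/-- Recognition of `A₆` and `PSL₂(7)`. -/
theorem alt_six_or_psl_seven (hG : ∀ H : Subgroup G, H.index ≠ 2) (α : G) (hα : orderOf α = 2)
    (S : Sylow 2 G) (hαc : ∀ s ∈ (S : Subgroup G), s * α = α * s)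
    (e : ↥(Subgroup.centralizer ({α} : Set G)) ≃* DihedralGroup 4) :
    Nonempty (G ≃* ↥(alternatingGroup (Fin 6))) ∨
      (∃ (F : Type) (_ : Field F) (_ : Fintype F), Fintype.card F = 7 ∧
        Nonempty (G ≃* Matrix.ProjectiveSpecialLinearGroup (Fin 2) F)) := by
  obtain ⟨hs, hnc⟩ := isSimpleGroup_of_d8 hG α hα S hαc e
  have hperf : commutator G = ⊤ :=
    ((inferInstance : (commutator G).Normal).eq_bot_or_eq_top).resolve_left fun h => hnc
      ⟨⟨fun a b => commutatorElement_eq_one_iff_mul_comm.1 (Subgroup.mem_bot.1 (h ▸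
        Subgroup.commutator_mem_commutator (Subgroup.mem_top a) (Subgroup.mem_top b)))⟩⟩
  rcases Cfsg.Agent.S0848.result hperf α hα e with h | h
  · have : Fact (Nat.Prime 7) := ⟨by norm_num⟩
    exact Or.inr ⟨ZMod 7, inferInstance, inferInstance, ZMod.card 7,
      Cfsg.Agent.S0495.result h (ZMod.card 7)⟩
  · exact Or.inl (CfsgLib.TwoGroups.OrderThreeSixty.nonempty_equiv h)

end CfsgLib.Classical.DihedralEightRecog
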