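import Mathlib

/-!
# The combinatorial core of the automiser theorem for elementary abelian Sylow subgroups of order 8

Three integral vectors of norm 4 with mutual inner products 2, orthogonal to the degrees, cannot
give equal weighted sums of squares.
-/

set_option autoImplicit false

namespace CfsgLib.Classical.EightComb

theorem abs_le_one_of_norm {ι : Type*} (B : Finset ι) (a d : ι → ℤ)
    (hd : ∀ i ∈ B, 0 < d i) (h4 : ∑ i ∈ B, a i * a i = 4) (h0 : ∑ i ∈ B, d i * a i = 0) :
    ∀ i ∈ B, a i = -1 ∨ a i = 0 ∨ a i = 1 := by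
  classical
  intro i hi
  have h1 : a i * a i ≤ 4 := h4 ▸ Finset.single_le_sum (fun j _ => mul_self_nonneg (a j)) hi
  have h2 : -2 ≤ a i ∧ a i ≤ 2 := by constructor <;> nlinarith
  by_contra hne
  push Not at hne
  have hsq : a i * a i = 4 := by
    rcases (show a i = -2 ∨ a i = 2 by omega) with e | e <;> rw [e] <;> norm_num
  rw [← Finset.add_sum_erase _ _ hi, hsq, add_eq_left] at h4
  have hz := (Finset.sum_eq_zero_iff_of_nonneg fun j _ => mul_self_nonneg (a j)).1 h4
  rw [← Finset.add_sum_erase _ _ hi, Finset.sum_eq_zero (fun j hj => by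
    rw [mul_self_eq_zero.1 (hz j hj), mul_zero]), add_zero] at h0
  rcases mul_eq_zero.1 h0 with h | h
  · exact (hd i hi).ne' h
  · omega

theorem false_of_vectors {ι : Type*} [DecidableEq ι] (B : Finset ι) (o : ι) (ho : o ∈ B)
    (a b c t d : ι → ℤ)
    (hao : a o = 1) (hbo : b o = 0) (hco : c o = 0) (hdo : d o = 1)
    (ht : ∀ i ∈ B, t i = a i + b i + c i)
    (hd : ∀ i ∈ B, 0 < d i)
    (hm : ∀ i ∈ B, i ≠ o → d i ≠ t i ∧ ∃ m : ℕ, d i + 7 * t i = 8 * (m : ℤ))
    (haa : ∑ i ∈ B, a i * a i = 4) (hbb : ∑ i ∈ B, b i * b i = 4) (hcc : ∑ i ∈ B, c i * c i = 4)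
    (hab : ∑ i ∈ B, a i * b i = 2) (hac : ∑ i ∈ B, a i * c i = 2) (hbc : ∑ i ∈ B, b i * c i = 2)
    (hda : ∑ i ∈ B, d i * a i = 0) (hdb : ∑ i ∈ B, d i * b i = 0) (hdc : ∑ i ∈ B, d i * c i = 0)
    (hw : ∑ i ∈ B, ((a i : ℝ) - b i) * ((t i : ℝ) ^ 2 / d i) = 0) : False := by
  set E := B.erase o with hE
  have hmemE : ∀ i ∈ E, i ∈ B ∧ i ≠ o := fun i hi =>
    ⟨Finset.mem_of_mem_erase hi, Finset.ne_of_mem_erase hi⟩
  have hsplit : ∀ f : ι → ℤ, ∑ i ∈ B, f i = f o + ∑ i ∈ E, f i := fun f =>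
    (Finset.add_sum_erase _ _ ho).symm
  have va := abs_le_one_of_norm B a d hd haa hda
  have vb := abs_le_one_of_norm B b d hd hbb hdb
  have vc := abs_le_one_of_norm B c d hd hcc hdc
  rw [hsplit, hao] at haa
  rw [hsplit, hbo] at hbb
  rw [hsplit, hao, hbo] at hab
  rw [hsplit, hao, hco] at hac
  rw [hsplit, hbo, hco] at hbc
  -- products of `a` with `b` and with `c` are nonnegative
  have hnonneg : ∀ f : ι → ℤ, (∀ i ∈ B, f i = -1 ∨ f i = 0 ∨ f i = 1) →
      ∑ i ∈ E, a i * f i = 2 → ∀ i ∈ E, 0 ≤ a i * f i := by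
    intro f vf hf i hi
    by_contra hneg
    push Not at hneg
    have h1 : a i * f i = -1 := by
      rcases va i (hmemE i hi).1 with e | e | e <;> rcases vf i (hmemE i hi).1 with e' | e' | e' <;>
        rw [e, e'] at hneg ⊢ <;> omega
    have h2 : a i * a i = 1 := by
      rcases va i (hmemE i hi).1 with e | e | e <;> rw [e] at h1 ⊢ <;> first | omega | norm_num | norm_num at h1
    have h3 : ∑ j ∈ E.erase i, a j * f j ≤ ∑ j ∈ E.erase i, a j * a j := by
      refine Finset.sum_le_sum fun j hj => ?_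
      have hjB := (hmemE j (Finset.mem_of_mem_erase hj)).1
      rcases va j hjB with e | e | e <;> rcases vf j hjB with e' | e' | e' <;> rw [e, e'] <;> norm_num
    rw [← Finset.add_sum_erase _ _ hi, h1] at hf
    rw [← Finset.add_sum_erase _ _ hi, h2] at haa
    omega
  have pab := hnonneg b vb (by omega)
  have pac := hnonneg c vc (by omega)
  -- the support of `a - b`
  set K := E.filter (fun i => a i - b i ≠ 0) with hK
  have hKsq : ∀ i ∈ K, (a i - b i) * (a i - b i) = 1 := by
    intro i hi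
    obtain ⟨hiE, hne⟩ := Finset.mem_filter.1 hi
    have hp := pab i hiE
    rcases va i (hmemE i hiE).1 with e | e | e <;> rcases vb i (hmemE i hiE).1 with e' | e' | e' <;>
      rw [e, e'] at hne hp ⊢ <;> first | omega | norm_num | (norm_num at hne hp) | norm_num at *
  have hKcard : (K.card : ℤ) = 3 := by
    have h1 : ∑ i ∈ E, (a i - b i) * (a i - b i) = 3 := by
      have : ∀ i ∈ E, (a i - b i) * (a i - b i) = a i * a i + b i * b i - 2 * (a i * b i) :=
        fun i _ => by ring
      rw [Finset.sum_congr rfl this, Finset.sum_sub_distrib, Finset.sum_add_distrib, ← Finset.mul_sum]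
      omega
    rw [← h1, ← Finset.sum_subset (Finset.filter_subset (fun i => a i - b i ≠ 0) E) (fun i hi hiK => by
      have : a i - b i = 0 := by
        by_contra h
        exact hiK (Finset.mem_filter.2 ⟨hi, h⟩)
      rw [this, mul_zero]), Finset.sum_congr rfl hKsq]
    simp [hK]
  have htK : ∀ i ∈ K, t i * t i ≤ 4 := by
    intro i hi
    obtain ⟨hiE, hne⟩ := Finset.mem_filter.1 hi
    have hp := pab i hiE
    have hiB := (hmemE i hiE).1
    rw [ht i hiB]
    rcases va i hiB with e | e | e <;> rcases vb i hiB with e' | e' | e' <;>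
      rcases vc i hiB with e'' | e'' | e'' <;> rw [e, e'] at hne hp <;> rw [e, e', e''] <;> first | omega | norm_num | (norm_num at hne hp) | norm_num at *
  -- one of the three has small value
  obtain ⟨i₀, hi₀, hsmall⟩ : ∃ i ∈ K, t i * t i ≤ 1 := by
    by_contra hcon
    push Not at hcon
    have hbig : ∀ i ∈ K, (a i + b i) * c i = 1 := by
      intro i hi
      obtain ⟨hiE, hne⟩ := Finset.mem_filter.1 hi
      have hp := pab i hiE
      have h := hcon i hi
      have hiB := (hmemE i hiE).1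
      rw [ht i hiB] at h
      rcases va i hiB with e | e | e <;> rcases vb i hiB with e' | e' | e' <;>
        rcases vc i hiB with e'' | e'' | e'' <;> rw [e, e', e''] at h <;> rw [e, e'] at hne hp <;>
        rw [e, e', e''] <;> first | omega | norm_num | (norm_num at hne hp) | norm_num at *
    have heven : ∀ i ∈ E \ K, (a i + b i) * c i = 2 * (a i * c i) := by
      intro i hi
      obtain ⟨hiE, hiK⟩ := Finset.mem_sdiff.1 hi
      have h0 : a i - b i = 0 := by
        by_contra h
        exact hiK (Finset.mem_filter.2 ⟨hiE, h⟩)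
      rw [← sub_eq_zero.1 h0]; ring
    have h1 : ∑ i ∈ E, (a i + b i) * c i = 4 := by
      simp only [add_mul, Finset.sum_add_distrib]
      omega
    rw [← Finset.sum_sdiff (Finset.filter_subset _ E : K ⊆ E), Finset.sum_congr rfl hbig,
      Finset.sum_congr rfl heven, ← Finset.mul_sum, Finset.sum_const, nsmul_eq_mul, mul_one] at h1
    omega
  -- the estimate
  have hdeg : ∀ i ∈ K, (t i : ℝ) ^ 2 / d i ≤ 2 / 5 ∧ (t i * t i ≤ 1 → (t i : ℝ) ^ 2 / d i ≤ 1 / 7) := by
    intro i hi
    obtain ⟨hiB, hio⟩ := hmemE i (Finset.mem_filter.1 hi).1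
    obtain ⟨hne, m, hmi⟩ := hm i hiB hio
    have hdi := hd i hiB
    have h4 := htK i hi
    have hd0 : (0 : ℝ) < d i := by exact_mod_cast hdi
    have htv : t i = -2 ∨ t i = -1 ∨ t i = 0 ∨ t i = 1 ∨ t i = 2 := by
      have : -2 ≤ t i ∧ t i ≤ 2 := by constructor <;> nlinarith
      omega
    have key : 5 * (t i * t i) ≤ 2 * d i ∧ (t i * t i ≤ 1 → 7 * (t i * t i) ≤ d i) := by
      rcases htv with e | e | e | e | e <;> rw [e] at hne hmi ⊢ <;> constructor <;> omega
    refine ⟨?_, fun h => ?_⟩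
    · rw [div_le_div_iff₀ hd0 (by norm_num)]
      have : ((5 * (t i * t i) : ℤ) : ℝ) ≤ ((2 * d i : ℤ) : ℝ) := by exact_mod_cast key.1
      push_cast at this
      linarith [sq (t i : ℝ)]
    · rw [div_le_div_iff₀ hd0 (by norm_num)]
      have : ((7 * (t i * t i) : ℤ) : ℝ) ≤ ((d i : ℤ) : ℝ) := by exact_mod_cast key.2 h
      push_cast at this
      linarith [sq (t i : ℝ)]
  have hbound : ∑ i ∈ K, (t i : ℝ) ^ 2 / d i ≤ 1 / 7 + 2 * (2 / 5) := by
    rw [← Finset.add_sum_erase _ _ hi₀]
    refine add_le_add ((hdeg i₀ hi₀).2 hsmall) ?_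
    have h2 : (K.erase i₀).card = 2 := by rw [Finset.card_erase_of_mem hi₀]; omega
    refine (Finset.sum_le_card_nsmul _ _ (2 / 5) fun i hi => (hdeg i (Finset.mem_of_mem_erase hi)).1).trans
      (le_of_eq ?_)
    rw [h2, nsmul_eq_mul]
    norm_num
  rw [← Finset.add_sum_erase _ _ ho, hao, hbo, ht o ho, hdo, hao, hbo, hco] at hw
  have hlow : -(∑ i ∈ K, (t i : ℝ) ^ 2 / d i) ≤
      ∑ i ∈ E, ((a i : ℝ) - b i) * ((t i : ℝ) ^ 2 / d i) := by
    rw [← Finset.sum_subset (Finset.filter_subset (fun i => a i - b i ≠ 0) E) (fun i hi hiK => by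
      have : a i - b i = 0 := by
        by_contra h
        exact hiK (Finset.mem_filter.2 ⟨hi, h⟩)
      rw [show (a i : ℝ) - b i = ((a i - b i : ℤ) : ℝ) by push_cast; ring, this]
      simp), ← Finset.sum_neg_distrib]
    refine Finset.sum_le_sum fun i hi => ?_
    have hnn : (0 : ℝ) ≤ (t i : ℝ) ^ 2 / d i :=
      div_nonneg (sq_nonneg _) (by exact_mod_cast (hd i (hmemE i (Finset.mem_filter.1 hi).1).1).le)
    have : (-1 : ℝ) ≤ (a i : ℝ) - b i := by
      have h := hKsq i hi
      have : -1 ≤ a i - b i := by nlinarith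
      exact_mod_cast this
    nlinarith
  push_cast at hw
  linarith

end CfsgLib.Classical.EightComb
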