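import Cfsg.Agent.Lib.Blocks.Principal
import Cfsg.Agent.Lib.Blocks.PrincipalPSolvable
import Cfsg.Agent.Lib.Char.Indicator

/-!
# Bilinear sums over the principal block at a `p`-section

* `sum_principalBlock_mul_conj`: the sums over the principal block of `G` at `x y`, `x y'` are
  those over the principal block of `C(x)` at `y`, `y'`.
* `sum_trivial_mul_conj`: column orthogonality of a quotient, read in the group.
* `exists_int_avg`: averages of `χ (t x ^ i)` against cube roots of one are integers.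
-/

set_option autoImplicit false

namespace CfsgLib.Classical.PrincipalPairs

open Cfsg CfsgLib CfsgLib.Blocks MonoidAlgebra
open scoped ComplexConjugate

variable {G : Type*} [Group G] [Fintype G] {p : ℕ} [Fact p.Prime] {M : Ideal AlgInt} [M.IsPrime]

section

variable (hM : IsPModular p M) {x : G} (hx : ∃ k : ℕ, orderOf x = p ^ k)
  [Fintype (Subgroup.centralizer ({x} : Set G))]
include hM hx

/-- The bilinear sums at a `p`-section are those of the centralizer. -/
theorem sum_principalBlock_mul_conj {y y' : Subgroup.centralizer ({x} : Set G)}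
    (hy : ¬ p ∣ orderOf y) (hy' : ¬ p ∣ orderOf y') :
    ∑ᶠ ζ ∈ principalBlock M G, (ζ : G → ℂ) (x * (y : G)) * conj ((ζ : G → ℂ) (x * (y' : G))) =
      ∑ᶠ ψ ∈ principalBlock M (Subgroup.centralizer ({x} : Set G)),
        (ψ : Subgroup.centralizer ({x} : Set G) → ℂ) y *
          conj ((ψ : Subgroup.centralizer ({x} : Set G) → ℂ) y') := by
  classical
  have := Fintype.ofFinite (IrrCharacter G)
  have := Fintype.ofFinite (IrrCharacter (Subgroup.centralizer ({x} : Set G)))
  set θG : (Subgroup.centralizer ({x} : Set G)) → ℂ := fun c => ∑ ζ : IrrCharacter G,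
    conj ((ζ : G → ℂ) (x * (y' : G))) * (ζ : G → ℂ) (x * (c : G)) with hθG
  set θH : (Subgroup.centralizer ({x} : Set G)) → ℂ := fun c => ∑ ψ : IrrCharacter (Subgroup.centralizer ({x} : Set G)), conj ((ψ : (Subgroup.centralizer ({x} : Set G)) → ℂ) y') * (ψ : (Subgroup.centralizer ({x} : Set G)) → ℂ) c with hθH
  set b₀ := principalBlock M (Subgroup.centralizer ({x} : Set G))
  have hlin : ∀ {ι : Type _} [Fintype ι] (a : ι → ℂ) (f : ι → (Subgroup.centralizer ({x} : Set G)) → ℂ) (u : (Subgroup.centralizer ({x} : Set G))),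
      blockPart b₀ (fun c => ∑ i, a i * f i c) u = ∑ i, a i * blockPart b₀ (f i) u := by
    intro ι _ a f u
    simp only [blockPart_apply, Finset.sum_mul, Finset.mul_sum]
    rw [Finset.sum_comm]
    exact Finset.sum_congr rfl fun i _ => Finset.sum_congr rfl fun w _ => by ring
  have hlinH : blockPart b₀ θH y
      = ∑ ψ : IrrCharacter (Subgroup.centralizer ({x} : Set G)), conj ((ψ : (Subgroup.centralizer ({x} : Set G)) → ℂ) y') * blockPart b₀ (ψ : (Subgroup.centralizer ({x} : Set G)) → ℂ) y := hlin _ _ _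
  have hlinG : blockPart b₀ θG y = ∑ ζ : IrrCharacter G,
      conj ((ζ : G → ℂ) (x * (y' : G))) * blockPart b₀ (fun c : (Subgroup.centralizer ({x} : Set G)) => (ζ : G → ℂ) (x * (c : G))) y :=
    hlin _ _ _
  have hG1 : blockPart b₀ θG y = ∑ᶠ ζ ∈ principalBlock M G,
      (ζ : G → ℂ) (x * (y : G)) * conj ((ζ : G → ℂ) (x * (y' : G))) := by
    rw [hlinG, finsum_mem_eq_finite_toFinset_sum _ (Set.toFinite _)]
    simp only [blockPart_principal_translate hM hx _ hy, mul_ite, mul_zero, ← Finset.sum_filter,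
      b₀]
    exact Finset.sum_congr (by ext; simp) fun _ _ => mul_comm _ _
  have hH1 : blockPart b₀ θH y = ∑ᶠ ψ ∈ b₀,
      (ψ : (Subgroup.centralizer ({x} : Set G)) → ℂ) y * conj ((ψ : (Subgroup.centralizer ({x} : Set G)) → ℂ) y') := by
    rw [hlinH, finsum_mem_eq_finite_toFinset_sum _ (Set.toFinite _)]
    have hψ : ∀ ψ : IrrCharacter (Subgroup.centralizer ({x} : Set G)), blockPart b₀ (ψ : (Subgroup.centralizer ({x} : Set G)) → ℂ) y =
        if ψ ∈ b₀ then (ψ : (Subgroup.centralizer ({x} : Set G)) → ℂ) y else 0 := fun ψ => by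
      rw [blockPart_eq, finsum_mem_eq_finite_toFinset_sum _ (Set.toFinite _)]
      simp only [Char.classInner_irr, ite_mul, one_mul, zero_mul, Finset.sum_ite_eq,
        Set.Finite.mem_toFinset]
    simp only [hψ, mul_ite, mul_zero, ← Finset.sum_filter]
    exact Finset.sum_congr (by ext; simp) fun _ _ => mul_comm _ _
  obtain ⟨k, hk⟩ := hx
  have hpart : ∀ c : (Subgroup.centralizer ({x} : Set G)), ¬ p ∣ orderOf c → IsPPart p (x * (c : G)) x := fun c hc =>
    ⟨c, rfl, (mem_centralizer_singleton.1 c.2).symm, ⟨k, hk⟩, by rwa [Subgroup.orderOf_coe]⟩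
  have hcc : ∀ c : (Subgroup.centralizer ({x} : Set G)), ¬ p ∣ orderOf c →
      (IsConj (x * (c : G)) (x * (y' : G)) ↔ IsConj c y') := by
    intro c hc
    constructor
    · intro h
      obtain ⟨g, hg⟩ := isConj_iff.1 h
      have h2 : g * x * g⁻¹ = x := by
        have := conj_pPart_eq hM.1 (hpart c hc) (hpart y' hy') (x := g⁻¹) (j := 1)
          (by simpa using hM.1.ne_one) (by rw [pow_one, pow_one, ← hg]; group)
        simpa using this
      have hgH : g ∈ (Subgroup.centralizer ({x} : Set G)) := mem_centralizer_singleton.2 (mul_inv_eq_iff_eq_mul.1 h2)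
      refine isConj_iff.2 ⟨⟨g, hgH⟩, Subtype.ext ?_⟩
      show g * (c : G) * g⁻¹ = (y' : G)
      refine mul_left_cancel (a := x) ?_
      rw [← hg, show g * (x * (c : G)) * g⁻¹ = g * x * g⁻¹ * (g * (c : G) * g⁻¹) by group, h2]
    · intro h
      obtain ⟨d, hd⟩ := isConj_iff.1 h
      refine isConj_iff.2 ⟨(d : G), ?_⟩
      rw [← hd, Subgroup.coe_mul, Subgroup.coe_mul, Subgroup.coe_inv,
        ← mul_assoc (d : G), (mem_centralizer_singleton.1 d.2).eq]
      group
  have hreg : ∀ c : (Subgroup.centralizer ({x} : Set G)), ¬ p ∣ orderOf c → θG c = θH c := by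
    intro c hc
    simp only [hθG, hθH, mul_comm (starRingEnd ℂ _)]
    rw [Char.column_orthogonality, Char.column_orthogonality]
    refine ite_congr (propext (hcc c hc)) (fun hcy => ?_) fun _ => rfl
    congr 1
    have hle : ∀ g ∈ Subgroup.centralizer ({x * (c : G)} : Set G), g ∈ (Subgroup.centralizer ({x} : Set G)) := fun g hg => by
      have := conj_pPart_eq hM.1 (hpart c hc) (hpart c hc) (x := g) (j := 1)
        (by simpa using hM.1.ne_one) (by rw [pow_one]; exact (mem_centralizer_singleton.1 hg).symm)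
      refine mem_centralizer_singleton.2 ?_
      show g * x = x * g
      conv_lhs => rw [← this]
      group
    refine Nat.card_congr
      { toFun := fun g => ⟨⟨g, hle g g.2⟩, mem_centralizer_singleton.2 (Subtype.ext ?_)⟩
        invFun := fun g => ⟨(g : (Subgroup.centralizer ({x} : Set G))), mem_centralizer_singleton.2 ?_⟩
        left_inv := fun _ => rfl
        right_inv := fun _ => rfl }
    · show (g : G) * (c : G) = (c : G) * (g : G)
      have h1 : (g : G) * (x * (c : G)) = x * (c : G) * (g : G) := mem_centralizer_singleton.1 g.2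
      have h2 : (g : G) * x = x * (g : G) := mem_centralizer_singleton.1 (hle g g.2)
      rw [← mul_assoc, h2, mul_assoc, mul_assoc] at h1
      exact mul_left_cancel h1
    · have h2 : Commute ((g : (Subgroup.centralizer ({x} : Set G))) : G) x := mem_centralizer_singleton.1 (g : (Subgroup.centralizer ({x} : Set G))).2
      exact h2.mul_right ((mem_centralizer_singleton.1 g.2).map (Subgroup.centralizer ({x} : Set G)).subtype)
  have heq : blockPart b₀ θG y = blockPart b₀ θH y := by
    have h0 : blockPart b₀ (fun c => θG c - θH c) y = 0 := by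
      refine blockPart_eq_zero_of_section hM isPBlock_principalBlock (x := 1) (fun u z hu hz => ?_)
        (isPPart_one_of_isPRegular hy) (IsConj.refl 1)
      rw [isConj_one_right] at hz
      subst hz
      obtain ⟨w, hw, -, -, hwr⟩ := hu
      rw [one_mul] at hw
      rw [hreg u (hw ▸ hwr), sub_self]
    simp only [blockPart_apply, sub_mul, Finset.sum_sub_distrib, mul_sub, sub_eq_zero] at h0
    rwa [blockPart_apply, blockPart_apply]
  rw [hG1, hH1] at heq
  exact heq

end

/-- Column orthogonality of `G ⧸ N`. -/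
theorem sum_trivial_mul_conj (N : Subgroup G) [N.Normal] (a b : G) :
    ∑ᶠ χ ∈ {χ : IrrCharacter G | ∀ n ∈ N, (χ : G → ℂ) n = (χ : G → ℂ) 1},
      (χ : G → ℂ) a * conj ((χ : G → ℂ) b) =
    ∑ᶠ ψ : IrrCharacter (G ⧸ N), (ψ : G ⧸ N → ℂ) a * conj ((ψ : G ⧸ N → ℂ) b) := by
  have hset : {χ : IrrCharacter G | ∀ n ∈ N, (χ : G → ℂ) n = (χ : G → ℂ) 1} =
      Set.range (inflate N) := by
    ext χ
    refine ⟨fun h => exists_inflate_eq N χ h, ?_⟩
    rintro ⟨ψ, rfl⟩ n hn
    exact inflate_apply_of_mem N ψ hn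
  rw [hset, finsum_mem_range (inflate_injective N)]
  exact finsum_congr fun ψ => by rw [inflate_apply, inflate_apply]

/-- Averages against `n`-th roots of one over an element commuting with an involution. -/
theorem exists_int_avg {χ : IrrCharacter G} {t x : G} (ht : t * t = 1) (hc : Commute t x) {n : ℕ}
    (hn : n ≠ 0) (hx : x ^ n = 1) {u : ℂ} (hu : u ^ n = 1) :
    ∃ z : ℤ, (n : ℂ)⁻¹ * ∑ i ∈ Finset.range n, u ^ i * (χ : G → ℂ) (t * x ^ i) = z := by
  obtain ⟨d, ρ, -, hρ, -⟩ := CharDegree.exists_rep χ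
  set a : (Fin d → ℂ) →ₗ[ℂ] (Fin d → ℂ) := u • ρ x with ha
  set s : (Fin d → ℂ) →ₗ[ℂ] (Fin d → ℂ) := ρ t with hs
  set e : (Fin d → ℂ) →ₗ[ℂ] (Fin d → ℂ) := (n : ℂ)⁻¹ • ∑ i ∈ Finset.range n, a ^ i with he
  have han : a ^ n = 1 := by rw [ha, smul_pow, ← map_pow, hx, hu, map_one, one_smul]
  have hae : a * e = e := by
    rw [he, mul_smul_comm]
    congr 1
    have h := mul_geom_sum a n
    rw [han, sub_self, sub_mul, one_mul, sub_eq_zero] at h
    exact h
  have hpow : ∀ i, a ^ i * e = e := fun i => by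
    induction i with
    | zero => rw [pow_zero, one_mul]
    | succ i ih => rw [pow_succ, mul_assoc, hae, ih]
  have hee : e * e = e := by
    conv_lhs => arg 1; rw [he]
    rw [smul_mul_assoc, Finset.sum_mul, Finset.sum_congr rfl fun i _ => hpow i, Finset.sum_const,
      Finset.card_range, ← Nat.cast_smul_eq_nsmul ℂ, smul_smul,
      inv_mul_cancel₀ (Nat.cast_ne_zero.2 hn), one_smul]
  have hse : Commute s e := by
    refine Commute.smul_right (Commute.sum_right _ _ _ fun i _ => Commute.pow_right ?_ i) _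
    exact Commute.smul_right (hc.map ρ) _
  have hss : s * s = 1 := by rw [hs, ← map_mul, ht, map_one]
  set q : (Fin d → ℂ) →ₗ[ℂ] (Fin d → ℂ) := (2 : ℂ)⁻¹ • (e + s * e) with hq
  have hqq : q * q = q := by
    have h1 : e * (s * e) = s * e := by rw [← mul_assoc, ← hse.eq, mul_assoc, hee]
    have h2 : s * e * e = s * e := by rw [mul_assoc, hee]
    have h3 : s * e * (s * e) = e := by rw [mul_assoc, h1, ← mul_assoc, hss, one_mul]
    rw [hq, smul_mul_smul_comm, add_mul, mul_add, mul_add, hee, h1, h2, h3,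
      show e + s * e + (s * e + e) = (2 : ℂ) • (e + s * e) by rw [two_smul]; abel, smul_smul]
    norm_num
  obtain ⟨A, hA⟩ := Char.exists_natCast_trace_of_idem hqq
  obtain ⟨E, hE⟩ := Char.exists_natCast_trace_of_idem hee
  refine ⟨2 * (A : ℤ) - (E : ℤ), ?_⟩
  have hterm : ∀ i, LinearMap.trace ℂ _ (s * a ^ i) = u ^ i * (χ : G → ℂ) (t * x ^ i) := fun i => by
    rw [ha, smul_pow, mul_smul_comm, map_smul, hs, ← map_pow, ← map_mul, smul_eq_mul, ← hρ]
    rfl
  have htr : LinearMap.trace ℂ _ (s * e) =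
      (n : ℂ)⁻¹ * ∑ i ∈ Finset.range n, u ^ i * (χ : G → ℂ) (t * x ^ i) := by
    rw [he, mul_smul_comm, map_smul, Finset.mul_sum, map_sum, smul_eq_mul]
    exact congrArg _ (Finset.sum_congr rfl fun i _ => hterm i)
  push_cast
  rw [← htr, ← hA, ← hE, hq, map_smul, map_add, smul_eq_mul]
  ring

end CfsgLib.Classical.PrincipalPairs
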