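import Cfsg.Agent.Lib.Classical.EightLocal
import Cfsg.Agent.Lib.Classical.EightComb
import Cfsg.Agent.Lib.Classical.PrincipalPairs
import Cfsg.Agent.Lib.Core.PLengthTwoMaximal

/-!
# No automiser of order 21 with solvable centralizers of involutions

`false_of_setting`: a simple group has no `EightLocal.Setting`.
-/

set_option autoImplicit false

namespace CfsgLib.Classical.EightBlock

open Cfsg CfsgLib CfsgLib.Signalizer CfsgLib.Classical.EightLocal
open scoped ComplexConjugate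

variable {G : Type*} [Group G] [Fintype G] {S : Sylow 2 G} {t x : G}

theorem isConj_of_involution (h : Setting S t x) {z : G} (hz : orderOf z = 2) : IsConj z t := by
  have : Fact (Nat.Prime 2) := ⟨Nat.prime_two⟩
  have hp : IsPGroup 2 (Subgroup.zpowers z) :=
    IsPGroup.of_card (n := 1) (by rw [Nat.card_zpowers, hz, pow_one])
  obtain ⟨Q, hQ⟩ := hp.exists_le_sylow
  obtain ⟨g, hg⟩ := MulAction.exists_smul_eq G Q S
  have hmem : g * z * g⁻¹ ∈ (S : Subgroup G) := by
    rw [← hg]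
    exact ⟨z, hQ (Subgroup.mem_zpowers z), rfl⟩
  exact (isConj_iff.2 ⟨g, rfl⟩ : IsConj z (g * z * g⁻¹)).trans (h.fus _ hmem fun e =>
    involution_ne_one hz (conj_eq_one_iff.1 e))

/-- The images of involutions lie in the image of `S`. -/
theorem mem_sbar_of_sq (h : Setting S t x) {q : CBar t} (hq : q * q = 1) : q ∈ sbar h := by
  obtain ⟨i, s, hs, rfl⟩ := exists_form h q
  have hn := (sbar_self_centralizing h).1
  set a := xbar h ^ (i : ℕ) with ha
  have h1 : (a⁻¹ * s * a) * s ∈ sbar h := by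
    refine mul_mem ?_ hs
    have := hn.conj_mem s hs a⁻¹
    rwa [inv_inv] at this
  have h2 : a * a * ((a⁻¹ * s * a) * s) = 1 := by
    rw [← hq]; group
  have h3 : xbar h ^ ((i : ℕ) + i) ∈ sbar h := by
    rw [pow_add, ← ha, eq_inv_of_mul_eq_one_left h2]
    exact inv_mem h1
  have h4 := xbar_pow_mem h h3
  have hi := i.2
  have h5 : (i : ℕ) = 0 := by omega
  rw [ha, h5, pow_zero, one_mul]
  exact hs

omit [Fintype G] in
theorem sq_of_mem_sbar (h : Setting S t x) {q : CBar t} (hq : q ∈ sbar h) : q * q = 1 := by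
  obtain ⟨a, ha, rfl⟩ := hq
  rw [← map_mul, show a * a = 1 from Subtype.ext (h.sq _ ha), map_one]

variable {M : Ideal AlgInt} [M.IsPrime]

/-- A product of two conjugates of `t` of even order has the value of `t`. -/
theorem apply_of_even (h : Setting S t x) (hM : IsPModular 2 M) {χ : IrrCharacter G}
    (hχ : χ ∈ principalBlock M G) {v : G} (hv : orderOf v = 2) (he : Even (orderOf (t * v))) :
    (χ : G → ℂ) (t * v) = (χ : G → ℂ) t := by
  have : Fact (Nat.Prime 2) := ⟨Nat.prime_two⟩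
  have := Fintype.ofFinite ↥(Subgroup.centralizer ({t} : Set G))
  obtain ⟨k, hk⟩ := he
  set u := t * v with hu
  have hkpos : 0 < k := by have := orderOf_pos u; omega
  have hz2 : orderOf (u ^ k) = 2 := by
    rw [orderOf_pow' u (by omega), hk, Nat.gcd_eq_right (Dvd.intro 2 (by ring)),
      show k + k = 2 * k by ring, Nat.mul_div_cancel _ hkpos]
  have htu : t * u * t⁻¹ = u⁻¹ := by
    rw [hu, mul_inv_rev, involution_inv h.ht, involution_inv hv, ← mul_assoc, involution_sq h.ht,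
      one_mul]
  have htz : Commute t (u ^ k) := by
    have h1 : t * u ^ k * t⁻¹ = u ^ k := by
      rw [← conj_pow, htu, inv_pow, involution_inv hz2]
    exact mul_inv_eq_iff_eq_mul.1 h1
  have hvz : Commute v (u ^ k) := by
    have h1 : Commute (t * (t * v)) (u ^ k) :=
      htz.mul_left ((Commute.refl u).pow_right k)
    rwa [← mul_assoc, involution_sq h.ht, one_mul] at h1
  obtain ⟨c, hc⟩ := isConj_iff.1 (isConj_of_involution h hz2)
  have hmemC : ∀ w : G, Commute w (u ^ k) → c * w * c⁻¹ ∈ Subgroup.centralizer ({t} : Set G) :=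
    fun w hw => by
      rw [Subgroup.mem_centralizer_singleton_iff, ← hc]
      exact (hw.map (MulAut.conj c).toMonoidHom).eq
  set O := oddCore (Subgroup.centralizer ({t} : Set G))
  set t₁ : ↥(Subgroup.centralizer ({t} : Set G)) := ⟨_, hmemC t htz⟩
  set t₂ : ↥(Subgroup.centralizer ({t} : Set G)) := ⟨_, hmemC v hvz⟩
  set w := t₁ * t₂ with hwdef
  have hwu : (w : G) = c * u * c⁻¹ := by
    show c * t * c⁻¹ * (c * v * c⁻¹) = _
    rw [hu]; group
  have hinv : ∀ y : G, orderOf y = 2 → ∀ hy : c * y * c⁻¹ ∈ Subgroup.centralizer ({t} : Set G),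
      (QuotientGroup.mk ⟨_, hy⟩ : CBar t) ∈ sbar h := fun y hy hy' => by
    refine mem_sbar_of_sq h ?_
    rw [← QuotientGroup.mk_mul, show (⟨_, hy'⟩ : ↥(Subgroup.centralizer ({t} : Set G))) *
      ⟨_, hy'⟩ = 1 from Subtype.ext (by
        show c * y * c⁻¹ * (c * y * c⁻¹) = 1
        rw [show c * y * c⁻¹ * (c * y * c⁻¹) = c * (y * y) * c⁻¹ by group, involution_sq hy,
          mul_one, mul_inv_cancel]), QuotientGroup.mk_one]
  have hwS : (QuotientGroup.mk w : CBar t) ∈ sbar h := by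
    rw [hwdef, QuotientGroup.mk_mul]
    exact mul_mem (hinv t h.ht _) (hinv v hv _)
  have hw2 : w ^ 2 ∈ O := by
    rw [← QuotientGroup.eq_one_iff, QuotientGroup.mk_pow, pow_two]
    exact sq_of_mem_sbar h hwS
  have hword : orderOf w = k + k := by
    rw [← Subgroup.orderOf_coe, hwu, Signalizer.orderOf_conj, hk]
  have hkodd : Odd k := by
    have h1 : orderOf (w ^ 2) = k := by
      rw [orderOf_pow' w (by norm_num), hword, show k + k = 2 * k by ring,
        Nat.gcd_eq_right (dvd_mul_right 2 k), Nat.mul_div_cancel_left _ (by norm_num)]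
    refine h1 ▸ CfsgLib.ZStar.odd_of_dvd ?_
      (CfsgLib.ZStar.odd_card_oddCore ↥(Subgroup.centralizer ({t} : Set G)))
    rw [← Subgroup.orderOf_mk _ hw2]
    exact orderOf_dvd_natCard _
  obtain ⟨j, hj⟩ := hkodd
  have hwO : w ^ (k + 1) ∈ O := by
    rw [show k + 1 = 2 * (j + 1) by omega, pow_mul]
    exact pow_mem hw2 _
  have hN : ¬ 2 ∣ Nat.card O := fun h2 =>
    Nat.not_even_iff_odd.2 (CfsgLib.ZStar.odd_card_oddCore _) (even_iff_two_dvd.2 h2)
  have hval := Blocks.apply_mul_eq_of_mem_principalBlock (p := 2) hM (x := t)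
    ⟨1, by rw [h.ht, pow_one]⟩ hχ (N := O) hN hwO
  rw [← hval, ← Char.IsIrr.isClassFunction χ.2 u c]
  refine congrArg (χ : G → ℂ) ?_
  have hwk : ((w : G)) ^ k = t := by rw [hwu, conj_pow, hc]
  have e : t * (w : G) ^ (k + 1) = (w : G) ^ k * (w : G) ^ (k + 1) := by rw [hwk]
  rw [Subgroup.coe_pow, e, ← pow_add, show k + (k + 1) = (k + k) + 1 by omega, pow_succ,
    ← hword, ← Subgroup.orderOf_coe, pow_orderOf_eq_one, one_mul, hwu]

theorem sum_periodic {f : ℕ → ℂ} (hf : ∀ i, f (i + 3) = f i) (m : ℕ) :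
    ∑ i ∈ Finset.range (3 * m), f i = m * (f 0 + f 1 + f 2) := by
  induction m with
  | zero => simp
  | succ m ih =>
    have hper : ∀ j i, f (i + 3 * j) = f i := by
      intro j
      induction j with
      | zero => simp
      | succ j ihj => intro i; rw [mul_add, mul_one, ← add_assoc, hf, ihj]
    rw [mul_add, mul_one, Finset.sum_range_add, ih]
    simp only [Finset.sum_range_succ, Finset.sum_range_zero, zero_add, Nat.cast_add, Nat.cast_one,
      add_comm (3 * m)]
    rw [hper m 1, hper m 2, show f (3 * m) = f 0 by simpa using hper m 0]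
    ring

variable [IsSimpleGroup G]

/-- The main result: there is no such configuration in a simple group. -/
theorem false_of_setting (h : Setting S t x) : False := by
  classical
  have : Fact (Nat.Prime 2) := ⟨Nat.prime_two⟩
  obtain ⟨M, hM⟩ := CfsgLib.ZStar.exists_isPModular (p := 2) Nat.prime_two
  have := hM.2.1.isPrime
  have := Fintype.ofFinite (IrrCharacter G)
  set B := (Set.toFinite (principalBlock M G)).toFinset with hBdef
  have hmem : ∀ χ : IrrCharacter G, χ ∈ B ↔ χ ∈ principalBlock M G := fun χ => by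
    rw [hBdef, Set.Finite.mem_toFinset]
  set o : IrrCharacter G := Char.trivChar G
  have ho : o ∈ B := (hmem _).2 CfsgLib.ZStar.trivChar_mem_principalBlock
  set f : IrrCharacter G → ℕ → ℂ := fun χ i => (χ : G → ℂ) (t * x ^ i) with hf
  have hxC : ∀ i : ℕ, x ^ i ∈ Subgroup.centralizer ({t} : Set G) := fun i => pow_mem h.hxt i
  have hxreg : ∀ i : ℕ, ¬ 2 ∣ orderOf (⟨x ^ i, hxC i⟩ : ↥(Subgroup.centralizer ({t} : Set G))) :=
    fun i h2 => by
      rw [Subgroup.orderOf_mk] at h2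
      exact Nat.not_even_iff_odd.2 (CfsgLib.ZStar.odd_of_dvd (orderOf_pow_dvd i) h.hxodd)
        (even_iff_two_dvd.2 h2)
  have hbar : ∀ i : ℕ,
      (QuotientGroup.mk (⟨x ^ i, hxC i⟩ : ↥(Subgroup.centralizer ({t} : Set G))) : CBar t) =
        xbar h ^ i := fun i => by
    rw [xbar, ← QuotientGroup.mk_pow]
    rfl
  have ht' : ∃ k : ℕ, orderOf t = 2 ^ k := ⟨1, by rw [h.ht, pow_one]⟩
  have hsolv : IsPSolvable 2 ↥(Subgroup.centralizer ({t} : Set G)) :=
    CfsgLib.Core.isPSolvable_of_isSolvable h.solv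
  have hb0 : principalBlock M ↥(Subgroup.centralizer ({t} : Set G)) =
      {ψ : IrrCharacter ↥(Subgroup.centralizer ({t} : Set G)) | ∀ n ∈ oddCore (Subgroup.centralizer ({t} : Set G)),
        (ψ : ↥(Subgroup.centralizer ({t} : Set G)) → ℂ) n =
          (ψ : ↥(Subgroup.centralizer ({t} : Set G)) → ℂ) 1} :=
    Set.ext fun ψ => Blocks.mem_principalBlock_iff_of_isPSolvable hM hsolv ψ
  -- periodicity
  have hper : ∀ χ ∈ B, ∀ i, f χ (i + 3) = f χ i := by
    intro χ hχ i
    have e1 := Blocks.blockPart_principal_translate (p := 2) hM ht' χ (hxreg (i + 3))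
    have e2 := Blocks.blockPart_principal_translate (p := 2) hM ht' χ (hxreg i)
    rw [if_pos ((hmem χ).1 hχ)] at e1 e2
    show (χ : G → ℂ) (t * x ^ (i + 3)) = (χ : G → ℂ) (t * x ^ i)
    rw [← e1, ← e2, Blocks.blockPart_eq, Blocks.blockPart_eq]
    refine finsum_mem_congr rfl fun ψ hψ => ?_
    obtain ⟨ψ', rfl⟩ := Blocks.exists_inflate_eq _ ψ
      ((Blocks.mem_principalBlock_iff_of_isPSolvable hM hsolv ψ).1 hψ)
    rw [Blocks.inflate_apply, Blocks.inflate_apply, hbar, hbar, pow_add, xbar_pow_three h, mul_one]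
  -- the Gram matrix
  have hgram : ∀ i j : Fin 3, ∑ χ ∈ B, f χ i * conj (f χ j) =
      if i = j then (if i = 0 then 24 else 6) else 0 := by
    intro i j
    have h1 := PrincipalPairs.sum_principalBlock_mul_conj (p := 2) hM ht'
      (hxreg (i : ℕ)) (hxreg (j : ℕ))
    rw [finsum_mem_eq_finite_toFinset_sum _ (Set.toFinite (principalBlock M G)), hb0,
      PrincipalPairs.sum_trivial_mul_conj, hbar, hbar] at h1
    have := Fintype.ofFinite (IrrCharacter (CBar t))
    rw [finsum_eq_sum_of_fintype, Char.column_orthogonality] at h1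
    refine h1.trans ?_
    by_cases hij : i = j
    · subst hij
      rw [if_pos (IsConj.refl _), if_pos rfl]
      split_ifs with hi
      · subst hi
        have e : Subgroup.centralizer ({(1 : CBar t)} : Set (CBar t)) = ⊤ :=
          eq_top_iff.2 fun q _ => Subgroup.mem_centralizer_singleton_iff.2 (by rw [mul_one, one_mul])
        rw [Fin.val_zero, pow_zero, e, Subgroup.card_top, card_cbar h]
        norm_num
      · rw [card_centralizer_xbar_pow h (fun h3 => hi (Fin.ext (Nat.eq_zero_of_dvd_of_lt h3 i.2)))]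
        norm_num
    · rw [if_neg fun hc => hij ((isConj_xbar_pow_iff h).1 hc), if_neg hij]
  -- block orthogonality
  have horth : ∀ (i : ℕ) (u : G), Odd (orderOf u) →
      ∑ χ ∈ B, (χ : G → ℂ) u * f χ i = 0 := by
    intro i u hu
    have htx : Commute t ((x ^ i)⁻¹) :=
      (Subgroup.mem_centralizer_singleton_iff.1 (inv_mem (hxC i))).symm
    have h1 := Blocks.sum_block_apply_mul_eq_zero hM
      (CfsgLib.ZStar.isPBlock_principalBlock (G := G) (M := M))
      (g := u) (h := (t * x ^ i)⁻¹)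
      (Blocks.isPPart_one_of_isPRegular (p := 2) fun h2 =>
        Nat.not_even_iff_odd.2 hu (even_iff_two_dvd.2 h2))
      (show IsPPart 2 (t * x ^ i)⁻¹ t from ⟨(x ^ i)⁻¹, by
        rw [mul_inv_rev, involution_inv h.ht, htx.eq], htx, ht', by
        have := hxreg i
        rw [Subgroup.orderOf_mk] at this
        rwa [orderOf_inv]⟩)
      fun hc => involution_ne_one h.ht (isConj_one_right.1 hc)
    rw [finsum_mem_eq_finite_toFinset_sum _ (Set.toFinite _)] at h1
    simpa only [inv_inv] using h1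
  -- the integral vectors
  obtain ⟨m, hm⟩ := three_dvd_orderOf h
  have hm0 : m ≠ 0 := fun e => (orderOf_pos x).ne' (by rw [hm, e, mul_zero])
  have hA : ∀ (u : ℂ) (χ : IrrCharacter G), ∃ z : ℤ, u ^ 3 = 1 → χ ∈ B →
      (z : ℂ) = 3⁻¹ * (f χ 0 + u * f χ 1 + u ^ 2 * f χ 2) := by
    intro u χ
    by_cases hu : u ^ 3 = 1 ∧ χ ∈ B
    · obtain ⟨hu, hχ⟩ := hu
      obtain ⟨z, hz⟩ := PrincipalPairs.exists_int_avg (χ := χ) (t := t) (x := x)
        (involution_sq h.ht) (Subgroup.mem_centralizer_singleton_iff.1 h.hxt).symm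
        (n := orderOf x) (orderOf_pos x).ne' (pow_orderOf_eq_one x) (u := u)
        (by rw [hm, pow_mul, hu, one_pow])
      refine ⟨z, fun _ _ => ?_⟩
      rw [← hz, hm, sum_periodic (fun i => by
        show u ^ (i + 3) * f χ (i + 3) = u ^ i * f χ i
        rw [hper χ hχ, pow_add, hu, mul_one])]
      have : (m : ℂ) ≠ 0 := Nat.cast_ne_zero.2 hm0
      simp only [hf, pow_zero, pow_one, one_mul]
      push_cast
      field_simp
    · exact ⟨0, fun h1 h2 => absurd ⟨h1, h2⟩ hu⟩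
  choose A hA using hA
  obtain ⟨ω, hω⟩ : ∃ ω : ℂ, IsPrimitiveRoot ω 3 := ⟨_, Complex.isPrimitiveRoot_exp 3 (by norm_num)⟩
  have hω3 : ω ^ 3 = 1 := hω.pow_eq_one
  have hω1 : ω ≠ 1 := hω.ne_one (by norm_num)
  have hω0 : 1 + ω + ω ^ 2 = 0 := by
    refine mul_left_cancel₀ (sub_ne_zero.2 hω1) ?_
    rw [mul_zero]
    linear_combination hω3
  have hconjω : conj ω = ω ^ 2 := by
    rw [← Complex.inv_eq_conj (Complex.norm_eq_one_of_pow_eq_one hω3 (by norm_num))]
    exact inv_eq_of_mul_eq_one_right (by rw [← pow_succ', hω3])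
  have hω6 : (ω ^ 2) ^ 3 = 1 := by rw [← pow_mul, mul_comm, pow_mul, hω3, one_pow]
  have hAA : ∀ u v : ℂ, u ^ 3 = 1 → v ^ 3 = 1 → ∑ χ ∈ B, (A u χ : ℂ) * (A v χ : ℂ) =
      (24 + 6 * (u * conj v) + 6 * (u * conj v) ^ 2) / 9 := by
    intro u v hu hv
    have g00 : ∑ χ ∈ B, f χ 0 * conj (f χ 0) = 24 := by simpa using hgram 0 0
    have g11 : ∑ χ ∈ B, f χ 1 * conj (f χ 1) = 6 := by simpa using hgram 1 1
    have g22 : ∑ χ ∈ B, f χ 2 * conj (f χ 2) = 6 := by simpa using hgram 2 2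
    have g01 : ∑ χ ∈ B, f χ 0 * conj (f χ 1) = 0 := by simpa using hgram 0 1
    have g02 : ∑ χ ∈ B, f χ 0 * conj (f χ 2) = 0 := by simpa using hgram 0 2
    have g10 : ∑ χ ∈ B, f χ 1 * conj (f χ 0) = 0 := by simpa using hgram 1 0
    have g12 : ∑ χ ∈ B, f χ 1 * conj (f χ 2) = 0 := by simpa using hgram 1 2
    have g20 : ∑ χ ∈ B, f χ 2 * conj (f χ 0) = 0 := by simpa using hgram 2 0
    have g21 : ∑ χ ∈ B, f χ 2 * conj (f χ 1) = 0 := by simpa using hgram 2 1
    calc ∑ χ ∈ B, (A u χ : ℂ) * (A v χ : ℂ)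
        = ∑ χ ∈ B, 9⁻¹ * ((f χ 0 * conj (f χ 0) + conj v * (f χ 0 * conj (f χ 1))
              + conj v ^ 2 * (f χ 0 * conj (f χ 2)))
            + (u * (f χ 1 * conj (f χ 0)) + u * conj v * (f χ 1 * conj (f χ 1))
              + u * conj v ^ 2 * (f χ 1 * conj (f χ 2)))
            + (u ^ 2 * (f χ 2 * conj (f χ 0)) + u ^ 2 * conj v * (f χ 2 * conj (f χ 1))
              + u ^ 2 * conj v ^ 2 * (f χ 2 * conj (f χ 2)))) := by
          refine Finset.sum_congr rfl fun χ hχ => ?_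
          rw [← map_intCast (starRingEnd ℂ) (A v χ), hA u χ hu hχ, hA v χ hv hχ]
          simp only [map_mul, map_add, map_pow, map_inv₀, Complex.conj_ofNat]
          ring
      _ = _ := by
          simp only [← Finset.mul_sum, Finset.sum_add_distrib, g00, g11, g22, g01, g02, g10, g12,
            g20, g21]
          ring
  have hA3 : ∀ χ ∈ B, (χ : G → ℂ) t = (A 1 χ : ℂ) + (A ω χ : ℂ) + (A (ω ^ 2) χ : ℂ) := by
    intro χ hχ
    rw [hA 1 χ (one_pow 3) hχ, hA ω χ hω3 hχ, hA _ χ hω6 hχ]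
    have e : f χ 0 = (χ : G → ℂ) t := by simp [hf]
    rw [← e]
    linear_combination (-(3⁻¹ : ℂ)) * (f χ 1) * hω0 - (3⁻¹ : ℂ) * (f χ 2) * (hω0 + ω * hω3)
  have hAd : ∀ u : ℂ, u ^ 3 = 1 →
      ∑ χ ∈ B, (charDegree (χ : G → ℂ) : ℂ) * (A u χ : ℂ) = 0 := by
    intro u hu
    have h1 : ∀ i, ∑ χ ∈ B, (χ : G → ℂ) 1 * f χ i = 0 := fun i => horth i 1 (by simp)
    calc ∑ χ ∈ B, (charDegree (χ : G → ℂ) : ℂ) * (A u χ : ℂ)
        = ∑ χ ∈ B, 3⁻¹ * ((χ : G → ℂ) 1 * f χ 0 + u * ((χ : G → ℂ) 1 * f χ 1)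
            + u ^ 2 * ((χ : G → ℂ) 1 * f χ 2)) := Finset.sum_congr rfl fun χ hχ => by
          rw [hA u χ hu hχ, CharDegree.cast_irrDegree]; ring
      _ = 0 := by
          simp only [← Finset.mul_sum, Finset.sum_add_distrib, h1]
          ring
  have hne : ∀ χ : IrrCharacter G, χ ≠ o → (χ : G → ℂ) t ≠ (χ : G → ℂ) 1 := by
    intro χ hne hker
    have hN := CharDegree.kerSubgroup_normal χ
    have htN : t ∈ CharDegree.kerSubgroup χ := CharDegree.mem_kerSubgroup.2 hker
    rcases IsSimpleGroup.eq_bot_or_eq_top_of_normal _ hN with e | e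
    · rw [e, Subgroup.mem_bot] at htN
      exact involution_ne_one h.ht htN
    · have hi : Cfsg.classInner (χ : G → ℂ) (o : G → ℂ) = 0 := Char.classInner_irr_of_ne hne
      have hconst : (χ : G → ℂ) = (χ : G → ℂ) 1 • (o : G → ℂ) := funext fun g => by
        rw [Pi.smul_apply, Char.trivChar_apply, smul_eq_mul, mul_one]
        exact CharDegree.mem_kerSubgroup.1 (e ▸ Subgroup.mem_top g)
      rw [hconst, Char.classInner_smul_left, Char.classInner_irr_self, mul_one] at hi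
      exact Char.IsIrr.apply_one_ne_zero χ.2 hi
  -- restriction to `S`
  have hres : ∀ χ : IrrCharacter G, ∃ n : ℕ, (χ : G → ℂ) 1 + 7 * (χ : G → ℂ) t = 8 * (n : ℂ) := by
    intro χ
    have := Fintype.ofFinite (S : Subgroup G)
    obtain ⟨n, hn⟩ := Char.IsChar.classInner_eq_natCast
      (Char.IsChar.restrict (S : Subgroup G) (Char.IsIrr.isCharacter χ.2))
      (Char.isCharacter_one (G := (S : Subgroup G)))
    refine ⟨n, ?_⟩
    have hrest : ∀ a ∈ Finset.univ.erase (1 : (S : Subgroup G)), (χ : G → ℂ) a = (χ : G → ℂ) t :=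
      fun a ha => by
        obtain ⟨c, hc⟩ := isConj_iff.1 (h.fus _ a.2 fun e =>
          (Finset.mem_erase.1 ha).1 (Subtype.ext e))
        rw [← hc, Char.IsIrr.isClassFunction χ.2]
    have hS8 : Fintype.card (S : Subgroup G) = 8 := by rw [← Nat.card_eq_fintype_card, h.card]
    have hs : ∑ a : (S : Subgroup G), (χ : G → ℂ) a = (χ : G → ℂ) 1 + 7 * (χ : G → ℂ) t := by
      rw [← Finset.add_sum_erase _ _ (Finset.mem_univ 1), OneMemClass.coe_one,
        Finset.sum_congr rfl hrest, Finset.sum_const, Finset.card_erase_of_mem (Finset.mem_univ _),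
        Finset.card_univ, hS8]
      norm_num
    rw [Cfsg.classInner, h.card] at hn
    simp only [map_one, mul_one] at hn
    rw [hs] at hn
    rw [← hn]
    push_cast
    ring
  -- the weighted equation
  set d : IrrCharacter G → ℤ := fun χ => charDegree (χ : G → ℂ) with hd
  set T : IrrCharacter G → ℤ := fun χ => A 1 χ + A ω χ + A (ω ^ 2) χ with hT
  have hTc : ∀ χ ∈ B, (T χ : ℂ) = (χ : G → ℂ) t := fun χ hχ => by
    rw [hA3 χ hχ, hT]; push_cast; rfl
  have hdc : ∀ χ : IrrCharacter G, (d χ : ℂ) = (χ : G → ℂ) 1 := fun χ => by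
    rw [hd, Int.cast_natCast, CharDegree.cast_irrDegree]
  have hAt : ∀ u, u = 1 ∨ u = ω → ∑ χ ∈ B, (A u χ : ℂ) * (χ : G → ℂ) t = 8 := by
    intro u hu
    have hu3 : u ^ 3 = 1 := by rcases hu with e | e <;> rw [e]; exacts [one_pow 3, hω3]
    rw [Finset.sum_congr rfl fun χ hχ => by rw [hA3 χ hχ, mul_add, mul_add],
      Finset.sum_add_distrib, Finset.sum_add_distrib, hAA u 1 hu3 (one_pow 3), hAA u ω hu3 hω3,
      hAA u _ hu3 hω6, map_one, map_pow, hconjω]
    rcases hu with e | e <;> rw [e]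
    · linear_combination (6 / 9 : ℂ) * hω0 * 2 + (6 / 9 : ℂ) * (2 * ω + ω ^ 5 + ω ^ 2) * hω3
    · linear_combination (6 / 9 : ℂ) * hω0 * 2 + (6 / 9 : ℂ) * (2 + ω + ω ^ 2 + ω ^ 3 + ω ^ 4 + ω ^ 7) * hω3
  have hw : ∑ χ ∈ B, ((A 1 χ : ℂ) - (A ω χ : ℂ)) * ((T χ : ℂ) ^ 2 / (d χ : ℂ)) = 0 := by
    have hterm : ∀ χ ∈ B, ((A 1 χ : ℂ) - (A ω χ : ℂ)) * ((T χ : ℂ) ^ 2 / (d χ : ℂ)) =
        (Nat.card G : ℂ)⁻¹ * ∑ g : G,
          ((A 1 χ : ℂ) - (A ω χ : ℂ)) * (χ : G → ℂ) (t * (g * t * g⁻¹)) := by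
      intro χ hχ
      have h1 := CharAction.apply_mul_apply χ.2 t t
      have h2 : (Nat.card G : ℂ) ≠ 0 := Nat.cast_ne_zero.2 Nat.card_pos.ne'
      have h3 := Char.IsIrr.apply_one_ne_zero χ.2
      rw [hTc χ hχ, hdc, ← Finset.mul_sum]
      field_simp
      linear_combination ((A 1 χ : ℂ) - (A ω χ : ℂ)) * h1
    rw [Finset.sum_congr rfl hterm, ← Finset.mul_sum, Finset.sum_comm,
      Finset.sum_eq_zero fun g _ => ?_, mul_zero]
    have hv : orderOf (g * t * g⁻¹) = 2 := by rw [Signalizer.orderOf_conj, h.ht]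
    rcases Nat.even_or_odd (orderOf (t * (g * t * g⁻¹))) with he | ho'
    · rw [Finset.sum_congr rfl fun χ hχ => by
        rw [apply_of_even h hM ((hmem χ).1 hχ) hv he, sub_mul], Finset.sum_sub_distrib,
        hAt 1 (Or.inl rfl), hAt ω (Or.inr rfl), sub_self]
    · calc ∑ χ ∈ B, ((A 1 χ : ℂ) - (A ω χ : ℂ)) * (χ : G → ℂ) (t * (g * t * g⁻¹))
          = ∑ χ ∈ B, 3⁻¹ * ((1 - ω) * ((χ : G → ℂ) (t * (g * t * g⁻¹)) * f χ 1)
              + (1 - ω ^ 2) * ((χ : G → ℂ) (t * (g * t * g⁻¹)) * f χ 2)) :=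
            Finset.sum_congr rfl fun χ hχ => by
              rw [hA 1 χ (one_pow 3) hχ, hA ω χ hω3 hχ]; ring
        _ = 0 := by
            simp only [← Finset.mul_sum, Finset.sum_add_distrib, horth _ _ ho', mul_zero, add_zero]
  have cast0 : ∀ F : IrrCharacter G → ℤ, ∀ z : ℤ, ∑ χ ∈ B, (F χ : ℂ) = (z : ℂ) →
      ∑ χ ∈ B, F χ = z := fun F z e => by exact_mod_cast e
  have hfo : ∀ i, f o i = 1 := fun i => Char.trivChar_apply _
  have hω2ω : ω ^ 4 = ω := by rw [pow_succ, hω3, one_mul]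
  refine EightComb.false_of_vectors B o ho (A 1) (A ω) (A (ω ^ 2)) T d ?_ ?_ ?_ ?_
    (fun χ _ => rfl) (fun χ _ => Int.natCast_pos.2 (CharDegree.charDegree_pos χ))
    (fun χ hχ hχo => ?_) ?_ ?_ ?_ ?_ ?_ ?_ ?_ ?_ ?_ ?_
  · have e := hA 1 o (one_pow 3) ho
    rw [hfo, hfo, hfo] at e
    norm_num at e
    exact e
  · have e := hA ω o hω3 ho
    rw [hfo, hfo, hfo, mul_one, mul_one, hω0, mul_zero] at e
    exact_mod_cast e
  · have e := hA _ o hω6 ho
    rw [hfo, hfo, hfo, mul_one, mul_one, ← pow_mul, hω2ω, add_right_comm, hω0, mul_zero] at e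
    exact_mod_cast e
  · have e := hdc o
    rw [Char.trivChar_apply] at e
    exact_mod_cast e
  · obtain ⟨n, hn⟩ := hres χ
    refine ⟨fun e => hne χ hχo ?_, n, ?_⟩
    · rw [← hdc, ← hTc χ hχ, e]
    · have : ((d χ + 7 * T χ : ℤ) : ℂ) = ((8 * (n : ℤ) : ℤ) : ℂ) := by
        push_cast
        rw [hdc, hTc χ hχ, hn]
      exact_mod_cast this
  · refine cast0 _ _ ?_
    push_cast
    rw [hAA _ _ (one_pow 3) (one_pow 3)]
    simp only [map_one, map_pow, hconjω, one_mul, mul_one]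
    grind
  · refine cast0 _ _ ?_
    push_cast
    rw [hAA _ _ (hω3) (hω3)]
    simp only [map_one, map_pow, hconjω, one_mul, mul_one]
    grind
  · refine cast0 _ _ ?_
    push_cast
    rw [hAA _ _ (hω6) (hω6)]
    simp only [map_one, map_pow, hconjω, one_mul, mul_one]
    grind
  · refine cast0 _ _ ?_
    push_cast
    rw [hAA _ _ (one_pow 3) (hω3)]
    simp only [map_one, map_pow, hconjω, one_mul, mul_one]
    grind
  · refine cast0 _ _ ?_
    push_cast
    rw [hAA _ _ (one_pow 3) (hω6)]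
    simp only [map_one, map_pow, hconjω, one_mul, mul_one]
    grind
  · refine cast0 _ _ ?_
    push_cast
    rw [hAA _ _ (hω3) (hω6)]
    simp only [map_one, map_pow, hconjω, one_mul, mul_one]
    grind
  · refine cast0 _ _ ?_
    push_cast
    simp only [hd, Int.cast_natCast]
    exact hAd _ (one_pow 3)
  · refine cast0 _ _ ?_
    push_cast
    simp only [hd, Int.cast_natCast]
    exact hAd _ (hω3)
  · refine cast0 _ _ ?_
    push_cast
    simp only [hd, Int.cast_natCast]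
    exact hAd _ (hω6)
  · have : ((∑ χ ∈ B, ((A 1 χ : ℝ) - (A ω χ : ℝ)) * ((T χ : ℝ) ^ 2 / (d χ : ℝ)) : ℝ) : ℂ) =
        ((0 : ℝ) : ℂ) := by
      push_cast
      exact hw
    exact_mod_cast this

end CfsgLib.Classical.EightBlock
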