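import Cfsg.Agent.Lib.Core.SolvableStruct
import Cfsg.Agent.Lib.Classical.CentralCoset

/-!
# The centralizer of an involution with an elementary abelian Sylow subgroup of order eight

`Setting S t x`: `S` is elementary abelian of order 8, all its involutions are conjugate to `t`,
`C(t)` is solvable and `x` induces an automorphism of order three of `S` fixing only `t`.
The quotient `C(t) ⧸ O(C(t))` is then of order 24.
-/

set_option autoImplicit false

namespace CfsgLib.Classical.EightLocal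

open Cfsg CfsgLib CfsgLib.Signalizer

variable {G : Type*} [Group G]

/-- The hypotheses. -/
structure Setting (S : Sylow 2 G) (t x : G) : Prop where
  ht : orderOf t = 2
  htS : t ∈ (S : Subgroup G)
  comm : ∀ a ∈ (S : Subgroup G), ∀ b ∈ (S : Subgroup G), a * b = b * a
  sq : ∀ a ∈ (S : Subgroup G), a * a = 1
  card : Nat.card (S : Subgroup G) = 8
  fus : ∀ a ∈ (S : Subgroup G), a ≠ 1 → IsConj a t
  solv : Group.IsSolvable ↥(Subgroup.centralizer ({t} : Set G))
  hxN : x ∈ Subgroup.normalizer ((S : Subgroup G) : Set G)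
  hxt : x ∈ Subgroup.centralizer ({t} : Set G)
  hxodd : Odd (orderOf x)
  hxfix : ∀ a ∈ (S : Subgroup G), x * a * x⁻¹ = a → a = 1 ∨ a = t
  hx3 : x ^ 3 ∈ Subgroup.centralizer ((S : Subgroup G) : Set G)
  gen : ∀ n ∈ Subgroup.normalizer ((S : Subgroup G) : Set G), n * t * n⁻¹ = t →
    ∃ i : ℕ, (x ^ i)⁻¹ * n ∈ Subgroup.centralizer ((S : Subgroup G) : Set G)

/-- `C(t) ⧸ O(C(t))`. -/
abbrev CBar (t : G) : Type _ :=
  ↥(Subgroup.centralizer ({t} : Set G)) ⧸ oddCore (Subgroup.centralizer ({t} : Set G))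

variable {S : Sylow 2 G} {t x : G}

/-- The image of `S`. -/
def sbar (_h : Setting S t x) : Subgroup (CBar t) :=
  ((S : Subgroup G).subgroupOf (Subgroup.centralizer ({t} : Set G))).map (QuotientGroup.mk' _)

section

variable (h : Setting S t x)
include h

theorem le_centralizer : (S : Subgroup G) ≤ Subgroup.centralizer ({t} : Set G) := fun a ha =>
  Subgroup.mem_centralizer_singleton_iff.2 (h.comm a ha t h.htS)

/-- The image of `x`. -/
def xbar : CBar t := QuotientGroup.mk ⟨x, h.hxt⟩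

/-- The image of `t`. -/
def tbar : CBar t := QuotientGroup.mk ⟨t, le_centralizer h h.htS⟩

variable [Finite G]

theorem eq_of_mk_eq {a b : G} (ha : a ∈ (S : Subgroup G)) (hb : b ∈ (S : Subgroup G))
    (e : (QuotientGroup.mk ⟨a, le_centralizer h ha⟩ : CBar t) =
      QuotientGroup.mk ⟨b, le_centralizer h hb⟩) : a = b := by
  rw [QuotientGroup.eq] at e
  by_contra hne
  have h1 : a⁻¹ * b ∈ (S : Subgroup G) := mul_mem (inv_mem ha) hb
  have h2 : orderOf (a⁻¹ * b) = 2 := orderOf_eq_two_of (fun e' => hne (inv_mul_eq_one.1 e'))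
    (h.sq _ h1)
  have h3 : 2 ∣ Nat.card (oddCore (Subgroup.centralizer ({t} : Set G))) := by
    rw [← h2]
    have := orderOf_dvd_natCard (G := oddCore (Subgroup.centralizer ({t} : Set G))) ⟨_, e⟩
    rwa [Subgroup.orderOf_mk, ← Subgroup.orderOf_coe] at this
  exact Nat.not_even_iff_odd.2 (CfsgLib.ZStar.odd_card_oddCore _) (even_iff_two_dvd.2 h3)

theorem card_sbar : Nat.card (sbar h) = 8 := by
  rw [← h.card]
  refine (Nat.card_congr (Equiv.ofBijective
    (fun a : (S : Subgroup G) => (⟨QuotientGroup.mk ⟨a, le_centralizer h a.2⟩,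
      ⟨⟨a, le_centralizer h a.2⟩, a.2, rfl⟩⟩ : sbar h)) ⟨fun a b e => ?_, ?_⟩)).symm
  · exact Subtype.ext (eq_of_mk_eq h a.2 b.2 (congrArg Subtype.val e))
  · rintro ⟨_, c, hc, rfl⟩
    exact ⟨⟨c, hc⟩, rfl⟩

theorem isPGroup_sbar : IsPGroup 2 (sbar h) :=
  IsPGroup.of_card (p := 2) (n := 3) (by rw [card_sbar h]; rfl)

theorem sbar_self_centralizing : (sbar h).Normal ∧
    Subgroup.centralizer (sbar h : Set (CBar t)) ≤ sbar h := by
  have : Fact (Nat.Prime 2) := ⟨Nat.prime_two⟩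
  have := h.solv
  set Sc : Sylow 2 ↥(Subgroup.centralizer ({t} : Set G)) := S.subtype (le_centralizer h)
  set Sb := Sc.mapSurjective (QuotientGroup.mk'_surjective
    (oddCore (Subgroup.centralizer ({t} : Set G))))
  have hSb : (Sb : Subgroup (CBar t)) = sbar h := by
    rw [Sylow.coe_mapSurjective, Sylow.coe_subtype]; rfl
  have hbot : pPrimeCore 2 (CBar t) = ⊥ :=
    CfsgLib.Core.pPrimeCore_quotient_pPrimeCore 2 _
  have : Group.IsSolvable (CBar t) :=
    Group.isSolvable_of_surjective (f := QuotientGroup.mk' (oddCore _))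
      (QuotientGroup.mk'_surjective _)
  have hle : pCore 2 (CBar t) ≤ sbar h := hSb ▸ CfsgLib.Core.pCore_le_sylow Sb
  have hcen := CfsgLib.Core.centralizer_pCore_le_of_pPrimeCore_eq_bot hbot
  have hge : sbar h ≤ pCore 2 (CBar t) := fun s hs => hcen (Subgroup.mem_centralizer_iff.2
    fun r hr => by
      obtain ⟨a, ha, rfl⟩ := hle hr
      obtain ⟨b, hb, rfl⟩ := hs
      rw [← map_mul, ← map_mul]
      exact congrArg _ (Subtype.ext (h.comm _ ha _ hb)))
  have heq := le_antisymm hge hle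
  exact ⟨heq ▸ CfsgLib.Core.normal_pCore 2 _, heq ▸ hcen⟩

omit h [Finite G] in
theorem orderOf_odd_of_map (c : ↥(Subgroup.centralizer ({t} : Set G))) (hc : Odd (orderOf (c : G))) :
    Odd (orderOf (QuotientGroup.mk c : CBar t)) :=
  CfsgLib.ZStar.odd_of_dvd (orderOf_map_dvd (QuotientGroup.mk' _) c) (by rwa [← Subgroup.orderOf_coe])

theorem eq_one_of_odd_of_mem {q : CBar t} (hq : q ∈ sbar h) (ho : Odd (orderOf q)) : q = 1 := by
  obtain ⟨k, hk⟩ := IsPGroup.iff_orderOf.1 (isPGroup_sbar h) ⟨q, hq⟩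
  rw [Subgroup.orderOf_mk] at hk
  rw [hk] at ho
  rcases k with _ | k
  · rwa [pow_zero, orderOf_eq_one_iff] at hk
  · exact absurd ho (Nat.not_odd_iff_even.2 ⟨2 ^ k, by ring⟩)

theorem xbar_not_mem : xbar h ∉ sbar h := by
  intro hmem
  have h1 : xbar h = 1 := eq_one_of_odd_of_mem h hmem (orderOf_odd_of_map _ h.hxodd)
  have hall : ∀ a ∈ (S : Subgroup G), a = 1 ∨ a = t := fun a ha => by
    have hxa : x * a * x⁻¹ ∈ (S : Subgroup G) := (Subgroup.mem_normalizer_iff.1 h.hxN a).1 ha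
    refine h.hxfix a ha (eq_of_mk_eq h hxa ha ?_)
    have : (QuotientGroup.mk ⟨x * a * x⁻¹, le_centralizer h hxa⟩ : CBar t) =
        xbar h * QuotientGroup.mk ⟨a, le_centralizer h ha⟩ * (xbar h)⁻¹ := by
      rw [xbar, ← QuotientGroup.mk_mul, ← QuotientGroup.mk_inv, ← QuotientGroup.mk_mul]
      rfl
    rw [this, h1, one_mul, inv_one, mul_one]
  have hsub : ((S : Subgroup G) : Set G) ⊆ {1, t} := fun a ha => hall a ha
  have h2 := Set.ncard_le_ncard hsub
  have h3 : ({1, t} : Set G).ncard ≤ 2 := (Set.ncard_insert_le _ _).trans (by simp)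
  rw [← Nat.card_coe_set_eq] at h2
  have h4 := h.card
  simp only [SetLike.coe_sort_coe] at h2
  omega

theorem xbar_pow_three : xbar h ^ 3 = 1 := by
  refine eq_one_of_odd_of_mem h ((sbar_self_centralizing h).2 ?_) ?_
  · rw [Subgroup.mem_centralizer_iff]
    rintro _ ⟨a, ha, rfl⟩
    rw [xbar, ← QuotientGroup.mk_pow, QuotientGroup.mk'_apply, ← QuotientGroup.mk_mul,
      ← QuotientGroup.mk_mul]
    exact congrArg _ (Subtype.ext (Subgroup.mem_centralizer_iff.1 h.hx3 _ ha))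
  · exact CfsgLib.ZStar.odd_of_dvd (orderOf_pow_dvd 3) (orderOf_odd_of_map _ h.hxodd)

theorem orderOf_xbar : orderOf (xbar h) = 3 := by
  have : Fact (Nat.Prime 3) := ⟨Nat.prime_three⟩
  exact orderOf_eq_prime (xbar_pow_three h) fun e => xbar_not_mem h (e ▸ one_mem _)

theorem three_dvd_orderOf : 3 ∣ orderOf x := by
  rw [← orderOf_xbar h]
  exact (orderOf_map_dvd (QuotientGroup.mk' _)
    (⟨x, h.hxt⟩ : ↥(Subgroup.centralizer ({t} : Set G)))).trans (by rw [Subgroup.orderOf_mk])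

theorem exists_form (q : CBar t) : ∃ i : Fin 3, ∃ s ∈ sbar h, q = xbar h ^ (i : ℕ) * s := by
  have : Fact (Nat.Prime 2) := ⟨Nat.prime_two⟩
  obtain ⟨c, rfl⟩ := QuotientGroup.mk_surjective q
  set O := oddCore (Subgroup.centralizer ({t} : Set G))
  set Sc : Sylow 2 ↥(Subgroup.centralizer ({t} : Set G)) := S.subtype (le_centralizer h)
  set H := (sbar h).comap (QuotientGroup.mk' O)
  have hHn : H.Normal := (sbar_self_centralizing h).1.comap _
  have hSH : (Sc : Subgroup _) ≤ H := by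
    rw [Sylow.coe_subtype]
    exact fun a ha => ⟨a, ha, rfl⟩
  have htop := Sylow.normalizer_sup_eq_top' (N := H) Sc hSH
  have hc := Subgroup.mem_top c
  rw [← htop] at hc
  obtain ⟨n, hn, m, hm, rfl⟩ := Subgroup.mem_sup_of_normal_right.1 hc
  have hnN : (n : G) ∈ Subgroup.normalizer ((S : Subgroup G) : Set G) := by
    rw [Subgroup.mem_normalizer_iff]
    intro a
    constructor
    · intro ha
      have := (Subgroup.mem_normalizer_iff.1 hn ⟨a, le_centralizer h ha⟩).1
        (by rw [Sylow.coe_subtype]; exact ha)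
      rw [Sylow.coe_subtype] at this
      exact this
    · intro ha
      have haC : a ∈ Subgroup.centralizer ({t} : Set G) := by
        have h1 := mul_mem (mul_mem (inv_mem n.2) (le_centralizer h ha)) n.2
        simpa [mul_assoc] using h1
      have := (Subgroup.mem_normalizer_iff.1 hn ⟨a, haC⟩).2 (by rw [Sylow.coe_subtype]; exact ha)
      rw [Sylow.coe_subtype] at this
      exact this
  have hnt : (n : G) * t * (n : G)⁻¹ = t := by
    rw [Subgroup.mem_centralizer_singleton_iff.1 n.2, mul_inv_cancel_right]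
  obtain ⟨i, hi⟩ := h.gen n hnN hnt
  have hzC : (x ^ i)⁻¹ * (n : G) ∈ Subgroup.centralizer ({t} : Set G) :=
    mul_mem (inv_mem (pow_mem h.hxt i)) n.2
  have hz : (QuotientGroup.mk (⟨_, hzC⟩ : ↥(Subgroup.centralizer ({t} : Set G))) : CBar t) ∈
      sbar h := (sbar_self_centralizing h).2 (Subgroup.mem_centralizer_iff.2 (by
    rintro _ ⟨a, ha, rfl⟩
    rw [QuotientGroup.mk'_apply, ← QuotientGroup.mk_mul, ← QuotientGroup.mk_mul]
    exact congrArg _ (Subtype.ext (Subgroup.mem_centralizer_iff.1 hi _ ha))))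
  refine ⟨⟨i % 3, Nat.mod_lt _ (by norm_num)⟩, _, mul_mem hz hm, ?_⟩
  have e : xbar h ^ (i % 3) = xbar h ^ i := by
    conv_rhs => rw [← pow_mod_orderOf, orderOf_xbar h]
  rw [e, xbar, ← QuotientGroup.mk_pow, QuotientGroup.mk'_apply, ← mul_assoc,
    ← QuotientGroup.mk_mul, ← QuotientGroup.mk_mul]
  exact congrArg _ (Subtype.ext (by simp))

theorem xbar_pow_mem {i : ℕ} (hi : xbar h ^ i ∈ sbar h) : 3 ∣ i := by
  rw [← orderOf_xbar h, orderOf_dvd_iff_pow_eq_one]
  exact eq_one_of_odd_of_mem h hi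
    (CfsgLib.ZStar.odd_of_dvd (orderOf_pow_dvd i) (by rw [orderOf_xbar h]; decide))

theorem form_inj {i j : Fin 3} {a b : CBar t} (ha : a ∈ sbar h) (hb : b ∈ sbar h)
    (e : xbar h ^ (i : ℕ) * a = xbar h ^ (j : ℕ) * b) : i = j ∧ a = b := by
  have key : ∀ {i j : Fin 3} {a b : CBar t}, a ∈ sbar h → b ∈ sbar h → (i : ℕ) ≤ j →
      xbar h ^ (i : ℕ) * a = xbar h ^ (j : ℕ) * b → i = j ∧ a = b := by
    intro i j a b ha hb hij e
    obtain ⟨d, hd⟩ := Nat.le.dest hij
    rw [← hd, pow_add, mul_assoc, mul_right_inj] at e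
    have hmem : xbar h ^ d ∈ sbar h := by
      rw [show xbar h ^ d = a * b⁻¹ by rw [e, mul_inv_cancel_right]]
      exact mul_mem ha (inv_mem hb)
    have h3 := xbar_pow_mem h hmem
    have hj := j.2
    have hd0 : d = 0 := Nat.eq_zero_of_dvd_of_lt h3 (by omega)
    rw [hd0, pow_zero, one_mul] at e
    exact ⟨Fin.ext (by omega), e⟩
  rcases le_total (i : ℕ) (j : ℕ) with hij | hij
  · exact key ha hb hij e
  · exact ⟨(key hb ha hij e.symm).1.symm, (key hb ha hij e.symm).2.symm⟩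

theorem card_cbar : Nat.card (CBar t) = 24 := by
  have e : Fin 3 × sbar h ≃ CBar t := Equiv.ofBijective
    (fun p => xbar h ^ (p.1 : ℕ) * (p.2 : CBar t)) ⟨fun p p' e => by
      obtain ⟨h1, h2⟩ := form_inj h p.2.2 p'.2.2 e
      exact Prod.ext h1 (Subtype.ext h2), fun q => by
      obtain ⟨i, s, hs, rfl⟩ := exists_form h q
      exact ⟨(i, ⟨s, hs⟩), rfl⟩⟩
  rw [← Nat.card_congr e, Nat.card_prod, Nat.card_fin, card_sbar h]

omit [Finite G] in
theorem commute_xbar_tbar : Commute (xbar h) (tbar h) := by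
  rw [Commute, SemiconjBy, xbar, tbar, ← QuotientGroup.mk_mul, ← QuotientGroup.mk_mul]
  exact congrArg _ (Subtype.ext (Subgroup.mem_centralizer_singleton_iff.1 h.hxt))

theorem tbar_ne_one : tbar h ≠ 1 := fun e =>
  involution_ne_one h.ht (eq_of_mk_eq h h.htS (one_mem _) (e.trans (QuotientGroup.mk_one _).symm))

theorem eq_of_commute {s : CBar t} (hs : s ∈ sbar h) (hc : Commute (xbar h) s) :
    s = 1 ∨ s = tbar h := by
  obtain ⟨a, ha, rfl⟩ := hs
  have hxa : x * (a : G) * x⁻¹ ∈ (S : Subgroup G) :=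
    (Subgroup.mem_normalizer_iff.1 h.hxN a).1 ha
  have : x * (a : G) * x⁻¹ = a := eq_of_mk_eq h hxa ha (by
    have e : (QuotientGroup.mk ⟨x * (a : G) * x⁻¹, le_centralizer h hxa⟩ : CBar t) =
        xbar h * QuotientGroup.mk a * (xbar h)⁻¹ := by
      rw [xbar, ← QuotientGroup.mk_mul, ← QuotientGroup.mk_inv, ← QuotientGroup.mk_mul]
      rfl
    rw [e]
    exact mul_inv_eq_iff_eq_mul.2 hc.eq)
  rcases h.hxfix a ha this with e | e
  · left; rw [show a = 1 from Subtype.ext e, map_one]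
  · right; exact congrArg _ (Subtype.ext e)

theorem card_centralizer_xbar_pow {i : ℕ} (hi : ¬ 3 ∣ i) :
    Nat.card (Subgroup.centralizer ({xbar h ^ i} : Set (CBar t))) = 6 := by
  classical
  have hmem : ∀ q : CBar t, q ∈ Subgroup.centralizer ({xbar h ^ i} : Set (CBar t)) ↔
      ∃ p : Fin 3 × Fin 2, xbar h ^ (p.1 : ℕ) * tbar h ^ (p.2 : ℕ) = q := by
    intro q
    rw [Subgroup.mem_centralizer_singleton_iff]
    constructor
    · intro hq
      obtain ⟨j, s, hs, rfl⟩ := exists_form h q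
      have h1 : Commute (xbar h ^ i) s := by
        have h2 : Commute (xbar h ^ i) (xbar h ^ (j : ℕ) * s) := hq.symm
        have h3 : Commute (xbar h ^ i) (xbar h ^ (j : ℕ))⁻¹ :=
          (Commute.pow_pow_self _ _ _).inv_right
        simpa using h3.mul_right h2
      have hx' : Commute (xbar h) s := by
        obtain ⟨k, hk⟩ := exists_pow_eq_self_of_coprime (x := xbar h) (n := i)
          (by rw [orderOf_xbar h]; exact ((Nat.Prime.coprime_iff_not_dvd Nat.prime_three).2 hi).symm)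
        rw [← hk]
        exact h1.pow_left k
      rcases eq_of_commute h hs hx' with rfl | rfl
      · exact ⟨(j, 0), by simp⟩
      · exact ⟨(j, 1), by simp⟩
    · rintro ⟨p, rfl⟩
      exact ((Commute.pow_pow_self _ _ _).mul_right
        ((commute_xbar_tbar h).pow_pow i (p.2 : ℕ))).eq.symm
  have hts : tbar h ∈ sbar h := ⟨⟨t, le_centralizer h h.htS⟩, h.htS, rfl⟩
  have e : Fin 3 × Fin 2 ≃ Subgroup.centralizer ({xbar h ^ i} : Set (CBar t)) := Equiv.ofBijective
    (fun p => ⟨_, (hmem _).2 ⟨p, rfl⟩⟩) ⟨fun p p' e => by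
      obtain ⟨h1, h2⟩ := form_inj h (pow_mem hts _) (pow_mem hts _) (congrArg Subtype.val e)
      refine Prod.ext h1 ?_
      obtain ⟨p1, p2⟩ := p
      obtain ⟨p1', p2'⟩ := p'
      have := tbar_ne_one h
      fin_cases p2 <;> fin_cases p2' <;> simp_all, fun q => by
      obtain ⟨p, hp⟩ := (hmem _).1 q.2
      exact ⟨p, Subtype.ext hp⟩⟩
  rw [← Nat.card_congr e, Nat.card_prod, Nat.card_fin, Nat.card_fin]

theorem isConj_xbar_pow_iff {i j : Fin 3} :
    IsConj (xbar h ^ (i : ℕ)) (xbar h ^ (j : ℕ)) ↔ i = j := by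
  refine ⟨fun hc => ?_, fun e => e ▸ IsConj.refl _⟩
  obtain ⟨c, hc⟩ := isConj_iff.1 hc
  obtain ⟨k, s, hs, rfl⟩ := exists_form h c
  set a := xbar h ^ (i : ℕ) with ha
  have hn := (sbar_self_centralizing h).1
  have h1 : a⁻¹ * s * a * s⁻¹ ∈ sbar h := by
    have := mul_mem (hn.conj_mem s hs a⁻¹) (inv_mem hs)
    rwa [inv_inv] at this
  have h2 : xbar h ^ (j : ℕ) =
      a * (xbar h ^ (k : ℕ) * (a⁻¹ * s * a * s⁻¹) * (xbar h ^ (k : ℕ))⁻¹) := by
    rw [← hc, show a * (xbar h ^ (k : ℕ) * (a⁻¹ * s * a * s⁻¹) * (xbar h ^ (k : ℕ))⁻¹) =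
      (a * xbar h ^ (k : ℕ)) * (a⁻¹ * s * a * s⁻¹) * (xbar h ^ (k : ℕ))⁻¹ by group,
      show Commute a (xbar h ^ (k : ℕ)) from Commute.pow_pow_self _ _ _]
    group
  exact (form_inj h (hn.conj_mem _ h1 (xbar h ^ (k : ℕ))) (one_mem _)
    (h2.symm.trans (mul_one _).symm)).1

end

end CfsgLib.Classical.EightLocal
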