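import Cfsg.Agent.Lib.Classical.LinearOrder

/-!
The norm map x ↦ x^(q+1) of the quadratic extension of a field of order q, realised inside
a field of order q^2.
-/

set_option autoImplicit false

namespace CfsgLib.Classical

variable {F : Type*} [Field F] [Fintype F] {q : ℕ}

theorem two_le_of_card_sq (hF : Fintype.card F = q ^ 2) : 2 ≤ q := by
  by_contra h
  have h1 := Fintype.one_lt_card (α := F)
  have h2 : q ^ 2 ≤ 1 ^ 2 := Nat.pow_le_pow_left (by omega) 2
  omega

theorem card_units_of_card_sq (hF : Fintype.card F = q ^ 2) :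
    Nat.card Fˣ = (q + 1) * (q - 1) := by
  rw [card_units_field, hF, ← Nat.sq_sub_sq, one_pow]

theorem card_ker_norm_units (hF : Fintype.card F = q ^ 2) :
    Nat.card (powMonoidHom (q + 1) : Fˣ →* Fˣ).ker = q + 1 := by
  rw [IsCyclic.card_powMonoidHom_ker, card_units_of_card_sq hF, Nat.gcd_mul_right_left]

theorem range_norm_units (hF : Fintype.card F = q ^ 2) :
    (powMonoidHom (q + 1) : Fˣ →* Fˣ).range = (powMonoidHom (q - 1) : Fˣ →* Fˣ).ker := by
  have hq := two_le_of_card_sq hF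
  apply Subgroup.eq_of_le_of_card_ge
  · rintro _ ⟨x, rfl⟩
    simp only [MonoidHom.mem_ker, powMonoidHom_apply, ← pow_mul]
    rw [← card_units_of_card_sq hF, pow_card_eq_one']
  · have h := (powMonoidHom (q + 1) : Fˣ →* Fˣ).ker.card_mul_index
    rw [Subgroup.index_ker, card_ker_norm_units hF, card_units_of_card_sq hF] at h
    rw [IsCyclic.card_powMonoidHom_ker, card_units_of_card_sq hF, Nat.gcd_mul_left_left,
      Nat.eq_of_mul_eq_mul_left (by omega) h]

theorem exists_norm_eq (hF : Fintype.card F = q ^ 2) {μ : F} (hμ : μ ≠ 0) (hμq : μ ^ q = μ) :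
    ∃ u : Fˣ, (u : F) ^ (q + 1) = μ := by
  have hq := two_le_of_card_sq hF
  have hmem : Units.mk0 μ hμ ∈ (powMonoidHom (q + 1) : Fˣ →* Fˣ).range := by
    rw [range_norm_units hF, MonoidHom.mem_ker, powMonoidHom_apply, Units.ext_iff]
    have : μ ^ (q - 1) * μ = 1 * μ := by
      rw [← pow_succ, Nat.sub_add_cancel (by omega : 1 ≤ q), hμq, one_mul]
    simpa using mul_right_cancel₀ hμ this
  obtain ⟨u, hu⟩ := hmem
  exact ⟨u, by simpa [Units.ext_iff] using hu⟩

theorem card_norm_eq (hF : Fintype.card F = q ^ 2) {μ : F} (hμ : μ ≠ 0) (hμq : μ ^ q = μ) :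
    Nat.card {x : F // x ^ (q + 1) = μ} = q + 1 := by
  obtain ⟨u, hu⟩ := exists_norm_eq hF hμ hμq
  have hx0 : ∀ x : {x : F // x ^ (q + 1) = μ}, (x : F) ≠ 0 := fun x h =>
    hμ (by rw [← x.2, h, zero_pow (by omega)])
  refine Eq.trans (Nat.card_congr ?_) (card_ker_norm_units hF)
  exact
    { toFun := fun x => ⟨Units.mk0 (x : F) (hx0 x) * u⁻¹, by
        simp [MonoidHom.mem_ker, mul_pow, Units.ext_iff, x.2, hu, hμ]⟩
      invFun := fun k => ⟨((k : Fˣ) * u : Fˣ), by
        have h : ((k : Fˣ) : F) ^ (q + 1) = 1 := by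
          have h' : (k : Fˣ) ^ (q + 1) = 1 := k.2
          rw [← Units.val_pow_eq_pow_val, h', Units.val_one]
        rw [Units.val_mul, mul_pow, h, hu, one_mul]⟩
      left_inv := fun x => Subtype.ext (by simp)
      right_inv := fun k => by ext; simp }

end CfsgLib.Classical
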