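import Cfsg.Prelude.Def_ClassicalGeometry
import Cfsg.Agent.Lib.Classical.LinearOrder

/-!
Triangular matrices, diagonal normalisers and maximal parabolic subgroups of `GL_n`.
-/

set_option autoImplicit false

namespace CfsgLib.Classical.GLGeo

open scoped Matrix

variable {F : Type*} [Field F] {n : ℕ}

/-- The span of the first `k` coordinate vectors. -/
def coordSub (F : Type*) [Field F] (n k : ℕ) : Submodule F (Fin n → F) where
  carrier := {v | ∀ i : Fin n, k ≤ (i : ℕ) → v i = 0}
  zero_mem' := fun _ _ => rfl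
  add_mem' := fun {a b} ha hb i hi => by simp [ha i hi, hb i hi]
  smul_mem' := fun c a ha i hi => by simp [ha i hi]

theorem mem_coordSub {k : ℕ} {v : Fin n → F} :
    v ∈ coordSub F n k ↔ ∀ i : Fin n, k ≤ (i : ℕ) → v i = 0 := Iff.rfl

theorem single_mem_coordSub {k : ℕ} (j : Fin n) (hj : (j : ℕ) < k) (c : F) :
    (Pi.single j c : Fin n → F) ∈ coordSub F n k := fun i hi => by
  have hne : i ≠ j := fun h => by rw [h] at hi; omega
  simp [hne]

theorem finrank_coordSub (k : ℕ) (hk : k ≤ n) : Module.finrank F (coordSub F n k) = k := by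
  let e : coordSub F n k ≃ₗ[F] (Fin k → F) :=
    { toFun := fun v i => v.1 (Fin.castLE hk i)
      map_add' := fun _ _ => rfl
      map_smul' := fun _ _ => rfl
      invFun := fun w => ⟨fun i => if h : (i : ℕ) < k then w ⟨i, h⟩ else 0, fun i hi => by
        simp [not_lt.2 hi]⟩
      left_inv := fun v => by
        apply Subtype.ext
        funext i
        by_cases h : (i : ℕ) < k
        · simp [h]
        · simp [h, v.2 i (not_lt.1 h)]
      right_inv := fun w => by
        funext i
        simp }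
  rw [e.finrank_eq, Module.finrank_fin_fun]

/-- The stabiliser of the span of the first `k` coordinate vectors. -/
abbrev glStab (F : Type*) [Field F] (n k : ℕ) : Subgroup (GL (Fin n) F) :=
  Cfsg.stabilizing (Cfsg.glToMat (Fin n) F) {v : Fin n → F | ∀ i : Fin n, k ≤ (i : ℕ) → v i = 0}

theorem mem_glStab_of_maps {k : ℕ} {g : GL (Fin n) F}
    (h : ∀ v ∈ coordSub F n k, (g : Matrix (Fin n) (Fin n) F) *ᵥ v ∈ coordSub F n k) :
    g ∈ glStab F n k := by
  have hinj : Function.Injective (Matrix.mulVecLin (g : Matrix (Fin n) (Fin n) F)) :=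
    Matrix.mulVec_injective_iff_isUnit.2 g.isUnit
  have hle : (coordSub F n k).map (Matrix.mulVecLin (g : Matrix (Fin n) (Fin n) F)) ≤
      coordSub F n k := by
    rintro _ ⟨v, hv, rfl⟩
    exact h v hv
  have heq := Submodule.eq_of_le_of_finrank_eq hle
    (Submodule.equivMapOfInjective _ hinj (coordSub F n k)).finrank_eq.symm
  intro v
  refine ⟨h v, fun hv => ?_⟩
  have hv' : (g : Matrix (Fin n) (Fin n) F) *ᵥ v ∈ coordSub F n k := hv
  rw [← heq] at hv'
  obtain ⟨y, hy, e⟩ := hv'
  rwa [← hinj (a₂ := v) e]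

theorem mem_glStab_iff {k : ℕ} {g : GL (Fin n) F} :
    g ∈ glStab F n k ↔ ∀ i j : Fin n, k ≤ (i : ℕ) → (j : ℕ) < k →
      (g : Matrix (Fin n) (Fin n) F) i j = 0 := by
  constructor
  · intro h i j hi hj
    have h1 := (h (Pi.single j 1)).1 (single_mem_coordSub j hj 1) i hi
    simpa [Matrix.mulVec_single] using h1
  · intro h
    refine mem_glStab_of_maps fun v hv i hi => ?_
    simp only [Matrix.mulVec, dotProduct]
    refine Finset.sum_eq_zero fun j _ => ?_
    by_cases hj : (j : ℕ) < k
    · simp [h i j hi hj]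
    · simp [hv j (not_lt.1 hj)]

/-! ### Orders -/

theorem card_lower_triangular [Fintype F] {q : ℕ} (hF : Fintype.card F = q) (n : ℕ) :
    Nat.card {g : GL (Fin n) F // ∀ i j : Fin n, i < j →
      (g : Matrix (Fin n) (Fin n) F) i j = 0} = q ^ (n * (n - 1) / 2) * (q - 1) ^ n := by
  classical
  let P : Matrix (Fin n) (Fin n) F → Prop := fun M =>
    ∀ i : Fin n, M i i ≠ 0 ∧ ∀ j, i < j → M i j = 0
  have hdet : ∀ M : Matrix (Fin n) (Fin n) F, (∀ i j, i < j → M i j = 0) →
      M.det = ∏ i, M i i := fun M h => Matrix.det_of_lowerTriangular M fun i j hij => h i j hij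
  let e : {g : GL (Fin n) F // ∀ i j : Fin n, i < j →
      (g : Matrix (Fin n) (Fin n) F) i j = 0} ≃ {M : Matrix (Fin n) (Fin n) F // P M} :=
    { toFun := fun g => ⟨(g.1 : Matrix (Fin n) (Fin n) F), fun i => ⟨fun h0 => by
        have h := Matrix.GeneralLinearGroup.det_ne_zero g.1
        rw [hdet _ g.2] at h
        exact h (Finset.prod_eq_zero (Finset.mem_univ i) h0), g.2 i⟩⟩
      invFun := fun M => ⟨Matrix.GeneralLinearGroup.mkOfDetNeZero M.1 (by
          rw [hdet _ fun i j h => (M.2 i).2 j h]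
          exact Finset.prod_ne_zero_iff.2 fun i _ => (M.2 i).1), fun i j h => (M.2 i).2 j h⟩
      left_inv := fun g => Subtype.ext (Units.ext rfl)
      right_inv := fun M => rfl }
  have key : ∀ i : Fin n, Nat.card {w : Fin n → F // w i ≠ 0 ∧ ∀ j, i < j → w j = 0} =
      q ^ (i : ℕ) * (q - 1) := by
    intro i
    let f : {w : Fin n → F // w i ≠ 0 ∧ ∀ j, i < j → w j = 0} ≃
        (Fin (i : ℕ) → F) × {x : F // x ≠ 0} :=
      { toFun := fun w => (fun j => w.1 ⟨j, j.2.trans i.2⟩, ⟨w.1 i, w.2.1⟩)
        invFun := fun p => ⟨fun j => if h : (j : ℕ) < i then p.1 ⟨j, h⟩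
            else if j = i then (p.2 : F) else 0, by simp [p.2.2], fun j hj => by
          have h1 : ¬ (j : ℕ) < (i : ℕ) := by rw [Fin.lt_def] at hj; omega
          have h2 : j ≠ i := hj.ne'
          simp only [dif_neg h1, if_neg h2]⟩
        left_inv := fun w => by
          apply Subtype.ext
          funext j
          rcases lt_trichotomy (j : ℕ) i with h | h | h
          · simp only [dif_pos h]
          · simp only [dif_neg (show ¬ (j : ℕ) < i by omega), if_pos (Fin.ext h)]
            rw [Fin.ext h]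
          · have hne : j ≠ i := fun h' => h.ne' (congrArg Fin.val h')
            simp only [dif_neg (show ¬ (j : ℕ) < i by omega), if_neg hne]
            exact (w.2.2 j h).symm
        right_inv := fun p => by
          refine Prod.ext (funext fun j => ?_) (Subtype.ext ?_)
          · exact dif_pos j.2
          · simp }
    rw [Nat.card_congr f, Nat.card_prod, Nat.card_fun, Nat.card_fin, Nat.card_eq_fintype_card,
      hF]
    congr 1
    rw [Nat.card_eq_fintype_card, Fintype.card_subtype_compl, Fintype.card_subtype_eq, hF]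
  rw [Nat.card_congr e]
  show Nat.card {M : Fin n → Fin n → F // ∀ i, M i i ≠ 0 ∧ ∀ j, i < j → M i j = 0} = _
  rw [Nat.card_congr (Equiv.subtypePiEquivPi (p := fun (i : Fin n) (w : Fin n → F) =>
    w i ≠ 0 ∧ ∀ j, i < j → w j = 0)), Nat.card_pi, Finset.prod_congr rfl fun i _ => key i,
    Finset.prod_mul_distrib, Finset.prod_pow_eq_pow_sum, Finset.prod_const, Finset.card_univ,
    Fintype.card_fin, Fin.sum_univ_eq_sum_range (fun i => i), Finset.sum_range_id]

theorem card_glStab [Fintype F] {q : ℕ} (hF : Fintype.card F = q) (n k : ℕ) (hk : k ≤ n) :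
    Nat.card ↥(glStab F n k) = q ^ (k * (n - k)) * (∏ i : Fin k, (q ^ k - q ^ (i : ℕ))) *
      ∏ i : Fin (n - k), (q ^ (n - k) - q ^ (i : ℕ)) := by
  classical
  let e : Fin k ⊕ Fin (n - k) ≃ Fin n := finSumFinEquiv.trans (finCongr (by omega))
  have e1 : ∀ a, ((e (Sum.inl a) : Fin n) : ℕ) = a := fun a => by simp [e]
  have e2 : ∀ b, ((e (Sum.inr b) : Fin n) : ℕ) = k + b := fun b => by simp [e]
  have hblock : ∀ g : glStab F n k,
      ((g.1 : Matrix (Fin n) (Fin n) F).submatrix e e).toBlocks₂₁ = 0 := fun g => by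
    ext b a
    exact mem_glStab_iff.1 g.2 _ _ (by rw [e2]; omega) (by rw [e1]; exact a.2)
  have hdet : ∀ g : glStab F n k,
      ((g.1 : Matrix (Fin n) (Fin n) F).submatrix e e).toBlocks₁₁.det *
        ((g.1 : Matrix (Fin n) (Fin n) F).submatrix e e).toBlocks₂₂.det ≠ 0 := fun g => by
    have h := Matrix.GeneralLinearGroup.det_ne_zero g.1
    rw [← Matrix.det_submatrix_equiv_self e,
      ← Matrix.fromBlocks_toBlocks ((g.1 : Matrix (Fin n) (Fin n) F).submatrix e e), hblock g,
      Matrix.det_fromBlocks_zero₂₁] at h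
    exact h
  let f : ↥(glStab F n k) ≃
      (GL (Fin k) F × GL (Fin (n - k)) F) × Matrix (Fin k) (Fin (n - k)) F :=
    { toFun := fun g =>
        ((Matrix.GeneralLinearGroup.mkOfDetNeZero _ (left_ne_zero_of_mul (hdet g)),
          Matrix.GeneralLinearGroup.mkOfDetNeZero _ (right_ne_zero_of_mul (hdet g))),
          ((g.1 : Matrix (Fin n) (Fin n) F).submatrix e e).toBlocks₁₂)
      invFun := fun p => ⟨Matrix.GeneralLinearGroup.mkOfDetNeZero
          ((Matrix.fromBlocks (p.1.1 : Matrix (Fin k) (Fin k) F) p.2 0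
            (p.1.2 : Matrix (Fin (n - k)) (Fin (n - k)) F)).submatrix e.symm e.symm) (by
          rw [Matrix.det_submatrix_equiv_self, Matrix.det_fromBlocks_zero₂₁]
          exact mul_ne_zero (Matrix.GeneralLinearGroup.det_ne_zero _)
            (Matrix.GeneralLinearGroup.det_ne_zero _)), mem_glStab_iff.2 fun i j hi hj => by
          obtain ⟨a, rfl⟩ := e.surjective i
          obtain ⟨b, rfl⟩ := e.surjective j
          rcases a with a | a
          · rw [e1] at hi; omega
          rcases b with b | b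
          · simp
          · rw [e2] at hj; omega⟩
      left_inv := fun g => by
        apply Subtype.ext
        apply Units.ext
        show (Matrix.fromBlocks _ _ 0 _).submatrix e.symm e.symm = _
        rw [← hblock g]
        ext i j
        obtain ⟨a, rfl⟩ := e.surjective i
        obtain ⟨b, rfl⟩ := e.surjective j
        rcases a with a | a <;> rcases b with b | b <;>
          simp [Matrix.toBlocks₁₁, Matrix.toBlocks₁₂, Matrix.toBlocks₂₁, Matrix.toBlocks₂₂]
      right_inv := fun p => by
        refine Prod.ext (Prod.ext (Units.ext ?_) (Units.ext ?_)) ?_ <;>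
          ext a b <;>
            simp [Matrix.toBlocks₁₁, Matrix.toBlocks₁₂, Matrix.toBlocks₂₂] }
  rw [Nat.card_congr f, Nat.card_prod, Nat.card_prod, Matrix.card_GL_field, Matrix.card_GL_field,
    hF]
  have hM : Nat.card (Matrix (Fin k) (Fin (n - k)) F) = q ^ (k * (n - k)) := by
    show Nat.card (Fin k → Fin (n - k) → F) = _
    rw [Nat.card_fun, Nat.card_fun, Nat.card_fin, Nat.card_fin, Nat.card_eq_fintype_card, hF,
      ← pow_mul, mul_comm]
  rw [hM]
  ring

/-! ### The normaliser of the diagonal subgroup -/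

theorem normalizer_diagonal_iff (hF : ∃ a : F, a ≠ 0 ∧ a ≠ 1) (n : ℕ) (g : GL (Fin n) F) :
    g ∈ Subgroup.normalizer
        ((Units.map (Matrix.diagonalRingHom (Fin n) F).toMonoidHom).range :
          Subgroup (GL (Fin n) F)) ↔
      ∀ i : Fin n, ∃! j : Fin n, (g : Matrix (Fin n) (Fin n) F) i j ≠ 0 := by
  classical
  let φ : (Fin n → F)ˣ →* GL (Fin n) F := Units.map (Matrix.diagonalRingHom (Fin n) F).toMonoidHom
  have hval : ∀ d, ((φ d : GL (Fin n) F) : Matrix (Fin n) (Fin n) F) =
      Matrix.diagonal (d : Fin n → F) := fun d => rfl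
  rw [Subgroup.mem_normalizer_iff]
  constructor
  · intro h i
    have hrow : ∃ j, (g : Matrix (Fin n) (Fin n) F) i j ≠ 0 := by
      by_contra hc
      push Not at hc
      exact Matrix.GeneralLinearGroup.det_ne_zero g (Matrix.det_eq_zero_of_row_eq_zero i hc)
    obtain ⟨j, hj⟩ := hrow
    refine ⟨j, hj, fun j' hj' => ?_⟩
    by_contra hne
    obtain ⟨a, ha0, ha1⟩ := hF
    let d : (Fin n → F)ˣ := MulEquiv.piUnits.symm fun l => if l = j then Units.mk0 a ha0 else 1
    obtain ⟨d', hd'⟩ := (h (φ d)).1 ⟨d, rfl⟩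
    have hd'' : φ d' * g = g * φ d := by
      show φ d' * g = _
      rw [show φ d' = g * φ d * g⁻¹ from hd', inv_mul_cancel_right]
    have hkey : ∀ l, (d' : Fin n → F) i * (g : Matrix (Fin n) (Fin n) F) i l =
        (g : Matrix (Fin n) (Fin n) F) i l * (d : Fin n → F) l := fun l => by
      have := congrArg (fun M : GL (Fin n) F => (M : Matrix (Fin n) (Fin n) F) i l) hd''
      simpa [Units.val_mul, hval, Matrix.diagonal_mul, Matrix.mul_diagonal] using this
    have hdj : (d : Fin n → F) j = a := by simp [d]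
    have hdj' : (d : Fin n → F) j' = 1 := by simp [d, hne]
    have k1 := hkey j
    have k2 := hkey j'
    rw [hdj] at k1
    rw [hdj', mul_one] at k2
    have e1 : (d' : Fin n → F) i = 1 := mul_right_cancel₀ hj' (by rw [k2, one_mul])
    rw [e1, one_mul] at k1
    exact ha1 (mul_left_cancel₀ hj (by rw [← k1, mul_one]))
  · intro h
    choose σ hσ huniq using h
    have hzero : ∀ i l, l ≠ σ i → (g : Matrix (Fin n) (Fin n) F) i l = 0 := fun i l hl => by
      by_contra hc
      exact hl (huniq i l hc)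
    have hinj : Function.Injective σ := by
      intro i i' he
      by_contra hne
      have hprod : ∀ a b, ((g : Matrix (Fin n) (Fin n) F) *
          ((g⁻¹ : GL (Fin n) F) : Matrix (Fin n) (Fin n) F)) a b =
            (g : Matrix (Fin n) (Fin n) F) a (σ a) *
              ((g⁻¹ : GL (Fin n) F) : Matrix (Fin n) (Fin n) F) (σ a) b := fun a b => by
        rw [Matrix.mul_apply, Finset.sum_eq_single (σ a)]
        · intro l _ hl; rw [hzero a l hl, zero_mul]
        · simp
      have hg1 : (g : Matrix (Fin n) (Fin n) F) *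
          ((g⁻¹ : GL (Fin n) F) : Matrix (Fin n) (Fin n) F) = 1 := by
        rw [← Units.val_mul, mul_inv_cancel, Units.val_one]
      have h1 := hprod i i
      have h2 := hprod i' i
      rw [hg1, Matrix.one_apply_eq] at h1
      rw [hg1, Matrix.one_apply_ne (Ne.symm hne), ← he] at h2
      rcases mul_eq_zero.1 h2.symm with h3 | h3
      · exact hσ i' (he ▸ h3)
      · rw [h3, mul_zero] at h1; exact one_ne_zero h1
    let s : Equiv.Perm (Fin n) := Equiv.ofBijective σ hinj.bijective_of_finite
    have hgd : ∀ d : (Fin n → F)ˣ,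
        g * φ d = φ (MulEquiv.piUnits.symm fun i => MulEquiv.piUnits d (σ i)) * g := by
      intro d
      apply Units.ext
      ext i l
      rw [Units.val_mul, Units.val_mul, hval, hval, Matrix.mul_diagonal, Matrix.diagonal_mul]
      by_cases hl : l = σ i
      · subst hl
        rw [mul_comm]
        rfl
      · rw [hzero i l hl, zero_mul, mul_zero]
    intro x
    constructor
    · rintro ⟨d, rfl⟩
      exact ⟨MulEquiv.piUnits.symm fun i => MulEquiv.piUnits d (σ i), by
        show φ _ = g * φ d * g⁻¹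
        rw [hgd d, mul_inv_cancel_right]⟩
    · rintro ⟨d, hd⟩
      refine ⟨MulEquiv.piUnits.symm fun i => MulEquiv.piUnits d (s.symm i), ?_⟩
      set d'' := MulEquiv.piUnits.symm fun i => MulEquiv.piUnits d (s.symm i) with hd''
      have h1 := hgd d''
      have h2 : (MulEquiv.piUnits.symm fun i => MulEquiv.piUnits d'' (σ i)) = d := by
        apply MulEquiv.piUnits.injective
        funext i
        rw [MulEquiv.apply_symm_apply, hd'', MulEquiv.apply_symm_apply]
        show MulEquiv.piUnits d (s.symm (s i)) = _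
        rw [Equiv.symm_apply_apply]
      rw [h2, show φ d = g * x * g⁻¹ from hd, inv_mul_cancel_right] at h1
      exact mul_left_cancel h1

/-! ### Transvections -/

/-- The transvection `1 + u rᵀ` as an invertible matrix. -/
def tvec (u r : Fin n → F) (h : r ⬝ᵥ u = 0) : GL (Fin n) F where
  val := 1 + Matrix.vecMulVec u r
  inv := 1 - Matrix.vecMulVec u r
  val_inv := by
    simp [mul_sub, add_mul, Matrix.vecMulVec_mul_vecMulVec, h]
  inv_val := by
    simp [sub_mul, mul_add, Matrix.vecMulVec_mul_vecMulVec, h]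

theorem tvec_val (u r : Fin n → F) (h : r ⬝ᵥ u = 0) :
    (tvec u r h : Matrix (Fin n) (Fin n) F) = 1 + Matrix.vecMulVec u r := rfl

theorem conj_tvec (p : GL (Fin n) F) {u r u' r' : Fin n → F} (h : r ⬝ᵥ u = 0) (h' : r' ⬝ᵥ u' = 0)
    (hu : u' = (p : Matrix (Fin n) (Fin n) F) *ᵥ u) (hr : r = r' ᵥ* (p : Matrix (Fin n) (Fin n) F)) :
    p * tvec u r h * p⁻¹ = tvec u' r' h' := by
  rw [mul_inv_eq_iff_eq_mul]
  apply Units.ext
  subst hu hr
  simp [tvec_val, mul_add, add_mul, Matrix.mul_vecMulVec, Matrix.vecMulVec_mul]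

theorem tvec_mem_glStab {k : ℕ} (u r : Fin n → F) (h : r ⬝ᵥ u = 0)
    (hor : u ∈ coordSub F n k ∨ ∀ j : Fin n, (j : ℕ) < k → r j = 0) :
    tvec u r h ∈ glStab F n k := by
  rw [mem_glStab_iff]
  intro i j hi hj
  have hij : i ≠ j := fun e => by rw [e] at hi; omega
  rw [tvec_val]
  rcases hor with hu | hr
  · simp [hij, Matrix.vecMulVec_apply, hu i hi]
  · simp [hij, Matrix.vecMulVec_apply, hr j hj]

/-- The subgroup `glStab` has no invariant subspaces other than `0`, `coordSub` and the whole space. -/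
theorem invariant_subspace {l : ℕ} (hl : 0 < l) (U : Submodule F (Fin n → F))
    (hU : ∀ g ∈ glStab F n l, ∀ u ∈ U, (g : Matrix (Fin n) (Fin n) F) *ᵥ u ∈ U) :
    U = ⊥ ∨ U = coordSub F n l ∨ U = ⊤ := by
  classical
  have step : ∀ u ∈ U, ∀ i : Fin n, u i ≠ 0 → ∀ r : Fin n, r ≠ i →
      ((i : ℕ) < l → (r : ℕ) < l) → (Pi.single r 1 : Fin n → F) ∈ U := by
    intro u hu i hi r hri hcond
    have h0 : (Pi.single i 1 : Fin n → F) ⬝ᵥ Pi.single r 1 = 0 := by simp [hri.symm]
    have hg : tvec (Pi.single r 1) (Pi.single i 1) h0 ∈ glStab F n l := by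
      refine tvec_mem_glStab _ _ _ ?_
      by_cases hr : (r : ℕ) < l
      · exact Or.inl (single_mem_coordSub r hr 1)
      · refine Or.inr fun j hj => ?_
        have : j ≠ i := fun e => hr (hcond (e ▸ hj))
        simp [this]
    have h1 := U.sub_mem (hU _ hg u hu) hu
    rw [tvec_val, Matrix.add_mulVec, Matrix.one_mulVec, add_sub_cancel_left,
      Matrix.vecMulVec_mulVec] at h1
    have h2 := U.smul_mem (u i)⁻¹ h1
    convert h2 using 1
    funext x
    simp [Pi.single_apply, MulOpposite.smul_eq_mul_unop]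
    split_ifs <;> simp [hi]
  have expand : ∀ v : Fin n → F, v = ∑ x, v x • (Pi.single x 1 : Fin n → F) := fun v => by
    funext y
    simp [Finset.sum_apply, Pi.single_apply]
  by_cases hle : U ≤ coordSub F n l
  · by_cases hbot : U = ⊥
    · exact Or.inl hbot
    refine Or.inr (Or.inl (le_antisymm hle fun v hv => ?_))
    obtain ⟨u, hu, hune⟩ := (Submodule.ne_bot_iff U).1 hbot
    obtain ⟨i, hi⟩ := Function.ne_iff.1 hune
    have hil : (i : ℕ) < l := by
      by_contra hc
      exact hi (hle hu i (not_lt.1 hc))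
    have hr : ∀ r : Fin n, (r : ℕ) < l → r ≠ i → (Pi.single r 1 : Fin n → F) ∈ U :=
      fun r hr hri => step u hu i hi r hri fun _ => hr
    have hii : (Pi.single i 1 : Fin n → F) ∈ U := by
      have hsum : (∑ x ∈ Finset.univ.erase i, u x • (Pi.single x 1 : Fin n → F)) ∈ U := by
        refine U.sum_mem fun x hx => ?_
        by_cases hxl : (x : ℕ) < l
        · exact U.smul_mem _ (hr x hxl (Finset.ne_of_mem_erase hx))
        · rw [hle hu x (not_lt.1 hxl), zero_smul]; exact U.zero_mem
      have h1 := U.smul_mem (u i)⁻¹ (U.sub_mem hu hsum)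
      convert h1 using 1
      nth_rewrite 2 [expand u]
      rw [← Finset.add_sum_erase _ _ (Finset.mem_univ i), add_sub_cancel_right, inv_smul_smul₀ hi]
    rw [expand v]
    refine U.sum_mem fun x _ => ?_
    by_cases hxl : (x : ℕ) < l
    · refine U.smul_mem _ ?_
      by_cases hxi : x = i
      · rw [hxi]; exact hii
      · exact hr x hxl hxi
    · rw [hv x (not_lt.1 hxl), zero_smul]; exact U.zero_mem
  · refine Or.inr (Or.inr (Submodule.eq_top_iff'.2 fun v => ?_))
    obtain ⟨u, hu, hu'⟩ := SetLike.not_le_iff_exists.1 hle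
    rw [mem_coordSub] at hu'
    push Not at hu'
    obtain ⟨i, hil, hi⟩ := hu'
    have hr : ∀ r : Fin n, r ≠ i → (Pi.single r 1 : Fin n → F) ∈ U :=
      fun r hri => step u hu i hi r hri fun h => by omega
    have hii : (Pi.single i 1 : Fin n → F) ∈ U := by
      have hsum : (∑ x ∈ Finset.univ.erase i, u x • (Pi.single x 1 : Fin n → F)) ∈ U :=
        U.sum_mem fun x hx => U.smul_mem _ (hr x (Finset.ne_of_mem_erase hx))
      have h1 := U.smul_mem (u i)⁻¹ (U.sub_mem hu hsum)
      convert h1 using 1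
      nth_rewrite 2 [expand u]
      rw [← Finset.add_sum_erase _ _ (Finset.mem_univ i), add_sub_cancel_right, inv_smul_smul₀ hi]
    rw [expand v]
    refine U.sum_mem fun x _ => U.smul_mem _ ?_
    by_cases hxi : x = i
    · rw [hxi]; exact hii
    · exact hr x hxi

/-! ### Maximality -/

theorem isCoatom_glStab (n k : ℕ) (hk0 : 0 < k) (hkn : k < n) :
    IsCoatom (glStab F n k) := by
  classical
  constructor
  · intro htop
    let a : Fin n := ⟨k, hkn⟩
    let b : Fin n := ⟨0, by omega⟩
    have hab : a ≠ b := fun h => by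
      have := congrArg Fin.val h
      simp [a, b] at this
      omega
    have h0 : (Pi.single b 1 : Fin n → F) ⬝ᵥ Pi.single a 1 = 0 := by simp [hab.symm]
    have hmem : tvec (Pi.single a 1) (Pi.single b 1) h0 ∈ glStab F n k := htop ▸ Subgroup.mem_top _
    have := mem_glStab_iff.1 hmem a b le_rfl hk0
    simp [tvec_val, hab, Matrix.vecMulVec_apply] at this
  intro H hH
  obtain ⟨hle, h, hhH, hhP⟩ := SetLike.lt_iff_le_and_exists.1 hH
  have hexu : ∃ u ∈ coordSub F n k, (h : Matrix (Fin n) (Fin n) F) *ᵥ u ∉ coordSub F n k := by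
    by_contra hc
    push Not at hc
    exact hhP (mem_glStab_of_maps hc)
  obtain ⟨u, hu, hhu⟩ := hexu
  let g : Matrix (Fin n) (Fin n) F := ((h⁻¹ : GL (Fin n) F) : Matrix (Fin n) (Fin n) F)
  have hgh : ∀ x, g *ᵥ ((h : Matrix (Fin n) (Fin n) F) *ᵥ x) = x := fun x => by
    simp only [g]
    rw [Matrix.mulVec_mulVec, ← Units.val_mul, inv_mul_cancel, Units.val_one, Matrix.one_mulVec]
  have hexz : ∃ w ∈ coordSub F n k, g *ᵥ w ∉ Submodule.span F {u} := by
    by_contra hc
    push Not at hc
    have hinj : Function.Injective (Matrix.mulVecLin g) :=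
      Matrix.mulVec_injective_iff_isUnit.2 (h⁻¹).isUnit
    have hu0 : u ≠ 0 := fun h0 => hhu (by rw [h0, Matrix.mulVec_zero]; exact Submodule.zero_mem _)
    have hle' : (coordSub F n k).map (Matrix.mulVecLin g) ≤ Submodule.span F {u} := by
      rintro _ ⟨w, hw, rfl⟩
      exact hc w hw
    have hr := Submodule.finrank_mono hle'
    rw [← (Submodule.equivMapOfInjective _ hinj _).finrank_eq, finrank_coordSub k hkn.le,
      finrank_span_singleton hu0] at hr
    have hk1 : Module.finrank F (coordSub F n k) = Module.finrank F (Submodule.span F {u}) := by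
      rw [finrank_coordSub k hkn.le, finrank_span_singleton hu0]; omega
    have heq := Submodule.eq_of_le_of_finrank_eq
      (show Submodule.span F {u} ≤ coordSub F n k by
        rw [Submodule.span_le, Set.singleton_subset_iff]; exact hu) hk1.symm
    refine hhP ((glStab F n k).inv_mem_iff.1 (mem_glStab_of_maps fun w hw => ?_))
    exact heq ▸ hc w hw
  obtain ⟨w, hw, hwz⟩ := hexz
  obtain ⟨φ, hφ, hφu⟩ := Submodule.exists_dual_map_eq_bot_of_notMem hwz inferInstance
  let r : Fin n → F := fun i => φ (Pi.single i 1)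
  have hφr : ∀ x, φ x = r ⬝ᵥ x := fun x => by
    have hx : x = ∑ i, x i • (Pi.single i 1 : Fin n → F) := by
      funext y; simp [Finset.sum_apply, Pi.single_apply]
    conv_lhs => rw [hx]
    rw [map_sum]
    simp [r, dotProduct, mul_comm]
  have hru : r ⬝ᵥ u = 0 := by
    rw [← hφr]
    have h1 : φ u ∈ (Submodule.span F {u}).map φ :=
      ⟨u, Submodule.mem_span_singleton_self u, rfl⟩
    rw [hφu] at h1
    exact h1
  set u' := (h : Matrix (Fin n) (Fin n) F) *ᵥ u with hu'def
  let r' := r ᵥ* g
  have hr'u' : r' ⬝ᵥ u' = 0 := by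
    rw [← Matrix.dotProduct_mulVec, hgh, hru]
  have hT1 : tvec u' r' hr'u' ∈ H := by
    have hconj := conj_tvec h hru hr'u' rfl (by
      simp only [r', g]
      rw [Matrix.vecMul_vecMul, ← Units.val_mul, inv_mul_cancel, Units.val_one, Matrix.vecMul_one])
    rw [← hconj]
    exact H.mul_mem (H.mul_mem hhH (hle (tvec_mem_glStab _ _ _ (Or.inl hu)))) (H.inv_mem hhH)
  have hr'W : ∃ b : Fin n, (b : ℕ) < k ∧ r' b ≠ 0 := by
    by_contra hc
    push Not at hc
    refine hφ ?_
    rw [hφr, Matrix.dotProduct_mulVec]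
    refine Finset.sum_eq_zero fun x _ => ?_
    by_cases hx : (x : ℕ) < k
    · rw [show (r ᵥ* g) x = 0 from hc x hx, zero_mul]
    · rw [hw x (not_lt.1 hx), mul_zero]
  -- the transvections `1 + e_a rᵀ` in `H`
  have hS : ∀ a : Fin n, k ≤ (a : ℕ) → ∀ s : Fin n → F, ∀ hs : s ⬝ᵥ Pi.single a 1 = 0,
      tvec (Pi.single a 1) s hs ∈ H := by
    intro a ha
    -- transvections with row vanishing on the subspace are already in the stabiliser
    intro s hs
    by_cases hsW : ∀ b : Fin n, (b : ℕ) < k → s b = 0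
    · exact hle (tvec_mem_glStab _ _ _ (Or.inr hsW))
    push Not at hsW
    -- move the first vector to a coordinate vector
    have hcol : ∀ v : Fin n → F, ∀ a' : Fin n, k ≤ (a' : ℕ) → v a' ≠ 0 →
        ∃ p ∈ glStab F n k, (p : Matrix (Fin n) (Fin n) F) *ᵥ Pi.single a' 1 = v := by
      intro v a' ha' hva
      let M : Matrix (Fin n) (Fin n) F := (1 : Matrix (Fin n) (Fin n) F).updateCol a' v
      have hdet : M.det = v a' := by
        simp only [M]
        rw [← Matrix.cramer_apply, Matrix.cramer_one]; rfl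
      refine ⟨Matrix.GeneralLinearGroup.mkOfDetNeZero M (hdet ▸ hva), mem_glStab_iff.2
        fun i j hi hj => ?_, ?_⟩
      · show M i j = 0
        have h1 : j ≠ a' := fun e => by rw [e] at hj; omega
        have h2 : i ≠ j := fun e => by rw [e] at hi; omega
        simp [M, h1, h2]
      · show M *ᵥ Pi.single a' 1 = v
        funext x
        simp [M, Matrix.mulVec_single]
    have hbase : ∃ s₀ : Fin n → F, ∃ hs₀ : s₀ ⬝ᵥ Pi.single a 1 = 0,
        (∃ b : Fin n, (b : ℕ) < k ∧ s₀ b ≠ 0) ∧ tvec (Pi.single a 1) s₀ hs₀ ∈ H := by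
      rw [mem_coordSub] at hhu
      push Not at hhu
      obtain ⟨a', ha', hua'⟩ := hhu
      have hp : ∃ p ∈ glStab F n k, (p : Matrix (Fin n) (Fin n) F) *ᵥ Pi.single a 1 = u' := by
        by_cases hua : u' a = 0
        · have hne : a ≠ a' := fun e => hua' (e ▸ hua)
          obtain ⟨p1, hp1, e1⟩ := hcol u' a' ha' hua'
          obtain ⟨p2, hp2, e2⟩ := hcol (Pi.single a 1 + Pi.single a' 1) a' ha' (by simp [hne.symm])
          obtain ⟨p3, hp3, e3⟩ := hcol (Pi.single a 1 + Pi.single a' 1) a ha (by simp [hne])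
          refine ⟨p1 * p2⁻¹ * p3, mul_mem (mul_mem hp1 (inv_mem hp2)) hp3, ?_⟩
          rw [Units.val_mul, ← Matrix.mulVec_mulVec, e3, Units.val_mul, ← Matrix.mulVec_mulVec,
            ← e2, Matrix.mulVec_mulVec _ _ (p2 : Matrix (Fin n) (Fin n) F), ← Units.val_mul,
            inv_mul_cancel, Units.val_one, Matrix.one_mulVec, e1]
        · exact hcol u' a ha hua
      obtain ⟨p, hp, ep⟩ := hp
      have hs₀ : (r' ᵥ* (p : Matrix (Fin n) (Fin n) F)) ⬝ᵥ Pi.single a 1 = 0 := by
        rw [← Matrix.dotProduct_mulVec, ep, hr'u']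
      refine ⟨_, hs₀, ?_, ?_⟩
      · by_contra hc
        push Not at hc
        obtain ⟨b, hb, hrb⟩ := hr'W
        refine hrb ?_
        have hq := mem_glStab_iff.1 (inv_mem hp)
        have hr'' : r' = (r' ᵥ* (p : Matrix (Fin n) (Fin n) F)) ᵥ*
            ((p⁻¹ : GL (Fin n) F) : Matrix (Fin n) (Fin n) F) := by
          rw [Matrix.vecMul_vecMul, ← Units.val_mul, mul_inv_cancel, Units.val_one,
            Matrix.vecMul_one]
        rw [hr'']
        generalize r' ᵥ* (p : Matrix (Fin n) (Fin n) F) = s₁ at hc ⊢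
        generalize ((p⁻¹ : GL (Fin n) F) : Matrix (Fin n) (Fin n) F) = Q at hq ⊢
        simp only [Matrix.vecMul, dotProduct]
        refine Finset.sum_eq_zero fun x _ => ?_
        by_cases hx : (x : ℕ) < k
        · simp [hc x hx]
        · simp [hq x b (not_lt.1 hx) hb]
      · have hconj := conj_tvec p hs₀ hr'u' ep.symm rfl
        rw [mul_inv_eq_iff_eq_mul] at hconj
        rw [show tvec (Pi.single a 1) _ hs₀ = p⁻¹ * (tvec u' r' hr'u' * p) by
          rw [← hconj, inv_mul_cancel_left]]
        exact H.mul_mem (H.inv_mem (hle hp)) (H.mul_mem hT1 (hle hp))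
    -- rows: a row non-zero at `b < k` is equivalent to the `b`-th coordinate row
    have hrow : ∀ b : Fin n, (b : ℕ) < k → ∀ t : Fin n → F, ∀ ht : t ⬝ᵥ Pi.single a 1 = 0,
        t b ≠ 0 → ∀ hb0 : (Pi.single b 1 : Fin n → F) ⬝ᵥ Pi.single a 1 = 0,
          (tvec (Pi.single a 1) t ht ∈ H ↔ tvec (Pi.single a 1) (Pi.single b 1) hb0 ∈ H) := by
      intro b hb t ht htb hb0
      let M : Matrix (Fin n) (Fin n) F := (1 : Matrix (Fin n) (Fin n) F).updateRow b t
      have hdet : M.det = t b := by
        simp only [M]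
        rw [← Matrix.det_transpose, ← Matrix.updateCol_transpose, Matrix.transpose_one,
          ← Matrix.cramer_apply, Matrix.cramer_one]; rfl
      let p : GL (Fin n) F := Matrix.GeneralLinearGroup.mkOfDetNeZero M (hdet ▸ htb)
      have hp : p ∈ glStab F n k := mem_glStab_iff.2 fun i j hi hj => by
        show M i j = 0
        have h1 : i ≠ b := fun e => by rw [e] at hi; omega
        have h2 : i ≠ j := fun e => by rw [e] at hi; omega
        simp [M, h1, h2]
      have hpa : (p : Matrix (Fin n) (Fin n) F) *ᵥ Pi.single a 1 = Pi.single a 1 := by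
        show M *ᵥ Pi.single a 1 = _
        funext x
        have hab : b ≠ a := fun e => by rw [e] at hb; omega
        have hta : t a = 0 := by simpa using ht
        by_cases hx : x = b
        · subst hx
          simp [M, Matrix.mulVec_single, hta, hab]
        · simp [M, Matrix.mulVec_single, hx, Matrix.one_apply, Pi.single_apply]
      have hconj : p * tvec (Pi.single a 1) t ht * p⁻¹ =
          tvec (Pi.single a 1) (Pi.single b 1) hb0 := conj_tvec p ht hb0 hpa.symm (by
        show t = Pi.single b 1 ᵥ* M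
        funext x
        simp [M])
      rw [← hconj]
      constructor
      · exact fun h1 => H.mul_mem (H.mul_mem (hle hp) h1) (H.inv_mem (hle hp))
      · intro h1
        rwa [H.mul_mem_cancel_right (H.inv_mem (hle hp)), H.mul_mem_cancel_left (hle hp)] at h1
    obtain ⟨s₀, hs₀, ⟨b₀, hb₀, hs₀b⟩, hmem₀⟩ := hbase
    obtain ⟨b, hb, hsb⟩ := hsW
    have hab : ∀ b' : Fin n, (b' : ℕ) < k → a ≠ b' := fun b' hb' e => by rw [e] at ha; omega
    have hz : ∀ b' : Fin n, (b' : ℕ) < k →
        (Pi.single b' 1 : Fin n → F) ⬝ᵥ Pi.single a 1 = 0 := fun b' hb' => by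
      simp [hab b' hb', (hab b' hb').symm]
    have hE₀ := (hrow b₀ hb₀ s₀ hs₀ hs₀b (hz b₀ hb₀)).1 hmem₀
    have hEb : tvec (Pi.single a 1) (Pi.single b 1) (hz b hb) ∈ H := by
      rcases eq_or_ne b b₀ with rfl | hne
      · exact hE₀
      · have hsum : (Pi.single b 1 + Pi.single b₀ 1 : Fin n → F) ⬝ᵥ Pi.single a 1 = 0 := by
          rw [add_dotProduct, hz b hb, hz b₀ hb₀, add_zero]
        refine (hrow b hb _ hsum (by simp [hne]) (hz b hb)).1 ?_
        exact (hrow b₀ hb₀ _ hsum (by simp [hne.symm]) (hz b₀ hb₀)).2 hE₀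
    exact (hrow b hb s hs hsb (hz b hb)).2 hEb
  rw [eq_top_iff]
  rintro x -
  let P : Matrix (Fin n) (Fin n) F → Prop := fun M => ∀ hM : M.det ≠ 0,
    Matrix.GeneralLinearGroup.mkOfDetNeZero M hM ∈ H
  have hP : P (x : Matrix (Fin n) (Fin n) F) := by
    refine Matrix.diagonal_transvection_induction_of_det_ne_zero P _
      (Matrix.GeneralLinearGroup.det_ne_zero x) ?_ ?_ ?_
    · intro D _ hM
      refine hle (mem_glStab_iff.2 fun i j hi hj => ?_)
      have hij : i ≠ j := fun e => by rw [e] at hi; omega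
      exact Matrix.diagonal_apply_ne _ hij
    · rintro ⟨i, j, hij, c⟩ hM
      have hs : (Pi.single j c : Fin n → F) ⬝ᵥ Pi.single i 1 = 0 := by simp [hij.symm, hij]
      have e : Matrix.GeneralLinearGroup.mkOfDetNeZero _ hM =
          tvec (Pi.single i 1) (Pi.single j c) hs := by
        apply Units.ext
        show Matrix.transvection i j c = 1 + Matrix.vecMulVec _ _
        rw [Matrix.transvection]
        congr 1
        ext p q
        rw [Matrix.vecMulVec_apply]
        by_cases hp : p = i <;> by_cases hq : q = j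
        · subst hp hq; simp
        · subst hp; simp [hq, Ne.symm hq]
        · subst hq; simp [hp, Ne.symm hp]
        · simp [hp, hq, Ne.symm hp, Ne.symm hq]
      rw [e]
      by_cases hi : k ≤ (i : ℕ)
      · exact hS i hi _ hs
      · exact hle (tvec_mem_glStab _ _ _ (Or.inl (single_mem_coordSub i (not_le.1 hi) 1)))
    · intro A B hA hB hPA hPB hM
      have e : Matrix.GeneralLinearGroup.mkOfDetNeZero (A * B) hM =
          Matrix.GeneralLinearGroup.mkOfDetNeZero A hA *
            Matrix.GeneralLinearGroup.mkOfDetNeZero B hB := Units.ext rfl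
      rw [e]
      exact H.mul_mem (hPA hA) (hPB hB)
  have := hP (Matrix.GeneralLinearGroup.det_ne_zero x)
  rwa [show Matrix.GeneralLinearGroup.mkOfDetNeZero _ _ = x from Units.ext rfl] at this

/-! ### Duality -/

/-- The automorphism `g ↦ J (g⁻¹)ᵀ J`, `J` the reversal of the coordinates. -/
noncomputable def dualHom (F : Type*) [Field F] (n : ℕ) : GL (Fin n) F →* GL (Fin n) F where
  toFun g :=
    { val := ((g⁻¹ : GL (Fin n) F) : Matrix (Fin n) (Fin n) F)ᵀ.submatrix
        Fin.revPerm Fin.revPerm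
      inv := (g : Matrix (Fin n) (Fin n) F)ᵀ.submatrix Fin.revPerm Fin.revPerm
      val_inv := by
        rw [Matrix.submatrix_mul_equiv, ← Matrix.transpose_mul, ← Units.val_mul, mul_inv_cancel]
        simp
      inv_val := by
        rw [Matrix.submatrix_mul_equiv, ← Matrix.transpose_mul, ← Units.val_mul, inv_mul_cancel]
        simp }
  map_one' := Units.ext (by simp)
  map_mul' g h := Units.ext (by
    show (((g * h)⁻¹ : GL (Fin n) F) : Matrix (Fin n) (Fin n) F)ᵀ.submatrix Fin.revPerm Fin.revPerm =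
      ((g⁻¹ : GL (Fin n) F) : Matrix (Fin n) (Fin n) F)ᵀ.submatrix Fin.revPerm Fin.revPerm *
        ((h⁻¹ : GL (Fin n) F) : Matrix (Fin n) (Fin n) F)ᵀ.submatrix Fin.revPerm Fin.revPerm
    rw [Matrix.submatrix_mul_equiv, ← Matrix.transpose_mul, ← Units.val_mul, mul_inv_rev])

theorem dualHom_apply (g : GL (Fin n) F) (i j : Fin n) :
    (dualHom F n g : Matrix (Fin n) (Fin n) F) i j =
      ((g⁻¹ : GL (Fin n) F) : Matrix (Fin n) (Fin n) F) j.rev i.rev := rfl

theorem dualHom_dualHom (g : GL (Fin n) F) : dualHom F n (dualHom F n g) = g := by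
  apply Units.ext
  ext i j
  rw [dualHom_apply, ← map_inv, dualHom_apply, inv_inv, Fin.rev_rev, Fin.rev_rev]

theorem complementary_dims (n k : ℕ) (hk0 : 0 < k) (hkn : k < n) (h2 : 2 * k ≠ n) :
    Nonempty (↥(glStab F n k) ≃* ↥(glStab F n (n - k))) ∧
      ∀ g : GL (Fin n) F,
        (glStab F n k).map (MulAut.conj g).toMonoidHom ≠ glStab F n (n - k) := by
  have himp : ∀ k ≤ n, ∀ g, g ∈ glStab F n k → dualHom F n g ∈ glStab F n (n - k) := by
    intro k hk g hg
    rw [mem_glStab_iff]
    intro i j hi hj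
    rw [dualHom_apply]
    refine mem_glStab_iff.1 (inv_mem hg) _ _ ?_ ?_ <;> simp [Fin.val_rev] <;> omega
  have h1 := himp k hkn.le
  have h2' := himp (n - k) (Nat.sub_le n k)
  rw [show n - (n - k) = k by omega] at h2'
  refine ⟨⟨{ toFun := fun g => ⟨dualHom F n g.1, h1 _ g.2⟩
             invFun := fun g => ⟨dualHom F n g.1, h2' _ g.2⟩
             left_inv := fun g => Subtype.ext (dualHom_dualHom _)
             right_inv := fun g => Subtype.ext (dualHom_dualHom _)
             map_mul' := fun a b => Subtype.ext (map_mul _ _ _) }⟩, fun g hmap => ?_⟩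
  have hinj : Function.Injective (Matrix.mulVecLin (g : Matrix (Fin n) (Fin n) F)) :=
    Matrix.mulVec_injective_iff_isUnit.2 g.isUnit
  set U := (coordSub F n k).map (Matrix.mulVecLin (g : Matrix (Fin n) (Fin n) F)) with hUdef
  have hrU : Module.finrank F U = k := by
    rw [hUdef, ← (Submodule.equivMapOfInjective _ hinj _).finrank_eq,
      finrank_coordSub k hkn.le]
  have hU : ∀ x ∈ glStab F n (n - k), ∀ u ∈ U, (x : Matrix (Fin n) (Fin n) F) *ᵥ u ∈ U := by
    intro x hx u hu
    rw [← hmap] at hx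
    obtain ⟨p, hp, rfl⟩ := hx
    obtain ⟨w, hw, rfl⟩ := hu
    refine ⟨(p : Matrix (Fin n) (Fin n) F) *ᵥ w, (hp w).1 hw, ?_⟩
    show (g : Matrix (Fin n) (Fin n) F) *ᵥ _ = _
    simp only [MulEquiv.coe_toMonoidHom, MulAut.conj_apply, Matrix.mulVecLin_apply]
    rw [Units.val_mul, Units.val_mul, Matrix.mulVec_mulVec, Matrix.mulVec_mulVec, mul_assoc _ _
      (g : Matrix (Fin n) (Fin n) F), ← Units.val_mul g⁻¹ g, inv_mul_cancel, Units.val_one, mul_one]
  rcases invariant_subspace (by omega) U hU with hb | hb | hb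
  · rw [hb, finrank_bot] at hrU; omega
  · rw [hb, finrank_coordSub _ (Nat.sub_le n k)] at hrU; omega
  · rw [hb, finrank_top, Module.finrank_fin_fun] at hrU; omega

end CfsgLib.Classical.GLGeo
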