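import Cfsg.Agent.Lib.Known.PSLTori
import Cfsg.Agent.Lib.TwoGroups.PSLThreeCentralizer

/-!
Element orders of `PSL(3, q)`.
-/

set_option autoImplicit false

namespace CfsgLib.Classical.PSLThreeSpectrum

open Polynomial Matrix CfsgLib.Known.PSLTori

variable {F : Type*} [Field F] [Fintype F]

/-- The greatest common divisor of `3` and `q - 1`. -/
local notation "δ" => Nat.gcd 3 (Fintype.card F - 1)

theorem gcd_dvd_sq_add : δ ∣ Fintype.card F ^ 2 + Fintype.card F + 1 := by
  have h1 : 1 ≤ Fintype.card F := Fintype.card_pos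
  obtain ⟨k, hk⟩ : ∃ k, Fintype.card F = k + 1 := ⟨Fintype.card F - 1, by omega⟩
  rw [hk, Nat.add_sub_cancel, show (k + 1) ^ 2 + (k + 1) + 1 = k * (k + 3) + 3 by ring]
  exact dvd_add ((Nat.gcd_dvd_right _ _).mul_right _) (Nat.gcd_dvd_left _ _)

theorem gcd_sq_add_pred :
    Nat.gcd (Fintype.card F ^ 2 + Fintype.card F + 1) (Fintype.card F - 1) = δ := by
  have h1 : 1 ≤ Fintype.card F := Fintype.card_pos
  obtain ⟨k, hk⟩ : ∃ k, Fintype.card F = k + 1 := ⟨Fintype.card F - 1, by omega⟩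
  rw [hk, Nat.add_sub_cancel, show (k + 1) ^ 2 + (k + 1) + 1 = 3 + (k + 3) * k by ring,
    Nat.gcd_add_mul_right_left]

theorem gcd_dvd_add_two : δ ∣ Fintype.card F + 2 := by
  have h1 : 1 ≤ Fintype.card F := Fintype.card_pos
  rw [show Fintype.card F + 2 = (Fintype.card F - 1) + 3 by omega]
  exact dvd_add (Nat.gcd_dvd_right _ _) (Nat.gcd_dvd_left _ _)

theorem gcd_dvd_sq_sub_one : δ ∣ Fintype.card F ^ 2 - 1 :=
  (Nat.gcd_dvd_right _ _).trans (by simpa using Nat.sub_dvd_pow_sub_pow (Fintype.card F) 1 2)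

theorem gcd_sq_pred_add_two : Nat.gcd (Fintype.card F ^ 2 - 1) (Fintype.card F + 2) = δ := by
  have h2 : 2 ≤ Fintype.card F := Fintype.one_lt_card
  obtain ⟨k, hk⟩ : ∃ k, Fintype.card F = k + 2 := ⟨Fintype.card F - 2, by omega⟩
  rw [hk, show (k + 2) ^ 2 - 1 = 3 + k * (k + 2 + 2) by
      rw [show (k + 2) ^ 2 = 3 + k * (k + 2 + 2) + 1 by ring, Nat.add_sub_cancel],
    Nat.gcd_add_mul_right_left, show k + 2 + 2 = k + 1 + 3 by ring, Nat.gcd_add_self_right,
    show k + 2 - 1 = k + 1 by omega]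

theorem proj_pow_eq_one_of_dvd (A : SpecialLinearGroup (Fin 3) F) {N : ℕ} {c : F}
    (h : (A : Matrix (Fin 3) (Fin 3) F).charpoly ∣ X ^ N - C c) : proj 3 A ^ N = 1 := by
  obtain ⟨u, hu⟩ := h
  have h1 := congrArg (aeval (A : Matrix (Fin 3) (Fin 3) F)) hu
  simp only [map_sub, map_pow, aeval_X, aeval_C, map_mul, Matrix.aeval_self_charpoly, zero_mul,
    sub_eq_zero] at h1
  rw [← map_pow, proj_eq_one_iff]
  exact ⟨c, by simp only [Matrix.SpecialLinearGroup.coe_pow]; rw [h1]; rfl⟩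

theorem X_sub_C_pow_dvd {p : ℕ} [Fact p.Prime] [CharP F p] (a : F) (k : ℕ) {j : ℕ} (hj : j ≤ p) :
    (X - C a) ^ j ∣ X ^ (k * p) - C (a ^ (k * p)) := by
  rw [pow_mul, pow_mul, C_pow, ← sub_pow_char, C_pow]
  exact (pow_dvd_pow_of_dvd (sub_dvd_pow_sub_pow X (C a) k) j).trans (pow_dvd_pow _ hj)

theorem X_sub_C_dvd_pow (a : F) (N : ℕ) : X - C a ∣ X ^ N - C (a ^ N) := by
  rw [C_pow]
  exact sub_dvd_pow_sub_pow X (C a) N

variable (p : ℕ) [Fact p.Prime] [CharP F p]

/-- Every element order divides one of the maximal orders. -/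
theorem exists_exponent (g : ProjectiveSpecialLinearGroup (Fin 3) F) :
    orderOf g ∣ (Fintype.card F ^ 2 + Fintype.card F + 1) / δ ∨
    orderOf g ∣ (Fintype.card F ^ 2 - 1) / δ ∨ orderOf g ∣ Fintype.card F - 1 ∨
    orderOf g ∣ p * (Fintype.card F - 1) / δ ∨ (p = 2 ∧ orderOf g ∣ 4) := by
  classical
  obtain ⟨A, rfl⟩ := proj_surjective 3 g
  set q := Fintype.card F
  have hq2 : 2 ≤ q := Fintype.one_lt_card
  set M := (A : Matrix (Fin 3) (Fin 3) F)
  set χ := M.charpoly with hχ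
  have hmon : χ.Monic := Matrix.charpoly_monic M
  have hdeg : χ.natDegree = 3 := by rw [hχ, Matrix.charpoly_natDegree_eq_dim, Fintype.card_fin]
  have h0 : χ.coeff 0 = -1 := by
    have h := Matrix.det_eq_sign_charpoly_coeff M
    rw [show M.det = 1 from A.2, Fintype.card_fin, ← hχ] at h
    linear_combination h
  by_cases hroot : χ.roots = 0
  · -- irreducible characteristic polynomial
    have hirr : Irreducible χ :=
      (hmon.irreducible_iff_roots_eq_zero_of_degree_le_three (by omega) (by omega)).2 hroot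
    have hr := root_pow_eq χ hirr hmon
    rw [hdeg, h0, show (-1 : F) ^ 3 * -1 = 1 by ring, map_one] at hr
    have hE : (q ^ 3 - 1) / (q - 1) = q ^ 2 + q + 1 := by
      refine Nat.div_eq_of_eq_mul_left (by omega) ?_
      obtain ⟨k, hk⟩ : ∃ k, q = k + 1 := ⟨q - 1, by omega⟩
      rw [hk, Nat.add_sub_cancel]
      exact Nat.sub_eq_of_eq_add (by ring)
    rw [hE] at hr
    obtain ⟨c, hc⟩ := exists_pow_eq_scalar M χ hirr (minpoly.dvd F M (Matrix.aeval_self_charpoly M))
      ((q ^ 2 + q + 1) / δ) _ hr (by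
        calc q ^ 2 + q + 1 = (q ^ 2 + q + 1) / δ * δ := (Nat.div_mul_cancel gcd_dvd_sq_add).symm
          _ ∣ (q ^ 2 + q + 1) / δ * (q - 1) := mul_dvd_mul_left _ (Nat.gcd_dvd_right _ _))
    refine Or.inl (orderOf_dvd_of_pow_eq_one ?_)
    rw [← map_pow, proj_eq_one_iff]
    exact ⟨c, by simp only [Matrix.SpecialLinearGroup.coe_pow]; exact hc⟩
  obtain ⟨a, ha⟩ := Multiset.exists_mem_of_ne_zero hroot
  rw [mem_roots hmon.ne_zero] at ha
  set g2 := χ /ₘ (X - C a) with hg2def
  have hfac : (X - C a) * g2 = χ := mul_divByMonic_eq_iff_isRoot.2 ha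
  have hgm : g2.Monic := (monic_X_sub_C a).of_mul_monic_left (hfac.symm ▸ hmon)
  have hgdeg : g2.natDegree = 2 := by
    have := congrArg natDegree hfac
    rw [natDegree_mul (X_sub_C_ne_zero a) hgm.ne_zero, natDegree_X_sub_C, hdeg] at this
    omega
  have hg0 : a * g2.coeff 0 = 1 := by
    have := congrArg (fun f : F[X] => f.coeff 0) hfac
    simp only [mul_coeff_zero, coeff_sub, coeff_X_zero, coeff_C_zero, h0, zero_sub] at this
    linear_combination -this
  have ha0 : a ≠ 0 := left_ne_zero_of_mul_eq_one hg0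
  by_cases hroot2 : g2.roots = 0
  · -- linear times irreducible quadratic
    have hirr : Irreducible g2 :=
      (hgm.irreducible_iff_roots_eq_zero_of_degree_le_three (by omega) (by omega)).2 hroot2
    set N := (q ^ 2 - 1) / δ
    refine Or.inr (Or.inl (orderOf_dvd_of_pow_eq_one
      (proj_pow_eq_one_of_dvd A (c := a ^ N) ?_)))
    rw [← hχ, ← hfac]
    refine IsCoprime.mul_dvd ((irreducible_X_sub_C a).coprime_iff_not_dvd.2 fun hd => ?_)
      (X_sub_C_dvd_pow a N) ?_
    · rw [dvd_iff_isRoot] at hd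
      have := (mem_roots hgm.ne_zero).2 hd
      simp [hroot2] at this
    have : Fact (Irreducible g2) := ⟨hirr⟩
    rw [← AdjoinRoot.mk_eq_zero, map_sub, map_pow, AdjoinRoot.mk_X, AdjoinRoot.mk_C, sub_eq_zero]
    have hr := root_pow_eq g2 hirr hgm
    rw [hgdeg, show (-1 : F) ^ 2 * g2.coeff 0 = g2.coeff 0 by ring,
      show (q ^ 2 - 1) / (q - 1) = q + 1 by
        refine Nat.div_eq_of_eq_mul_left (by omega) ?_
        rw [← Nat.sq_sub_sq q 1, one_pow]] at hr
    set β := AdjoinRoot.root g2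
    set ι := algebraMap F (AdjoinRoot g2)
    show β ^ N = ι (a ^ N)
    have hmul : ι a * β ^ (q + 1) = 1 := by rw [hr, ← map_mul, hg0, map_one]
    have hone : β ^ (q ^ 2 - 1) = 1 := by
      rw [show q ^ 2 - 1 = (q + 1) * (q - 1) by rw [← Nat.sq_sub_sq q 1, one_pow], pow_mul, hr,
        ← map_pow, FiniteField.pow_card_sub_one_eq_one _ (right_ne_zero_of_mul_eq_one hg0), map_one]
    obtain ⟨w, hw⟩ : q ^ 2 - 1 ∣ N * (q + 2) :=
      calc q ^ 2 - 1 = N * δ := (Nat.div_mul_cancel gcd_dvd_sq_sub_one).symm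
        _ ∣ N * (q + 2) := mul_dvd_mul_left _ gcd_dvd_add_two
    calc β ^ N = (ι a * β ^ (q + 1)) ^ N * β ^ N := by rw [hmul, one_pow, one_mul]
      _ = ι a ^ N * β ^ (N * (q + 2)) := by ring
      _ = ι (a ^ N) := by rw [hw, pow_mul, hone, one_pow, mul_one, map_pow]
  obtain ⟨b, hb⟩ := Multiset.exists_mem_of_ne_zero hroot2
  rw [mem_roots hgm.ne_zero] at hb
  have hfac2 : (X - C b) * (g2 /ₘ (X - C b)) = g2 := mul_divByMonic_eq_iff_isRoot.2 hb
  have hlm : (g2 /ₘ (X - C b)).Monic := (monic_X_sub_C b).of_mul_monic_left (hfac2.symm ▸ hgm)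
  obtain ⟨c, hc⟩ : ∃ c : F, g2 = (X - C b) * (X - C c) := by
    refine ⟨-(g2 /ₘ (X - C b)).coeff 0, ?_⟩
    have hl : (g2 /ₘ (X - C b)).natDegree = 1 := by
      have := congrArg natDegree hfac2
      rw [natDegree_mul (X_sub_C_ne_zero b) hlm.ne_zero, natDegree_X_sub_C, hgdeg] at this
      omega
    conv_lhs => rw [← hfac2, hlm.eq_X_add_C hl]
    rw [map_neg, sub_neg_eq_add]
  have habc : a * (b * c) = 1 := by
    rw [← hg0, hc]
    simp [mul_coeff_zero]
  have hχ' : χ = (X - C a) * ((X - C b) * (X - C c)) := by rw [← hfac, hc]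
  have hb0 : b ≠ 0 := fun h => by simp [h] at habc
  have hc0 : c ≠ 0 := fun h => by simp [h] at habc
  have cop : ∀ {u v : F}, u ≠ v → IsCoprime (X - C u) (X - C v) := fun h =>
    isCoprime_X_sub_C_of_isUnit_sub (sub_ne_zero.2 h).isUnit
  set k := (q - 1) / δ with hkdef
  have hpk : p * (q - 1) / δ = k * p := by
    rw [Nat.mul_div_assoc _ (Nat.gcd_dvd_right 3 (q - 1)), mul_comm, hkdef]
  -- two equal roots
  have double : ∀ x y : F, x * (x * y) = 1 → χ = (X - C x) ^ 2 * (X - C y) → x ≠ y →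
      orderOf (proj 3 A) ∣ k * p := by
    intro x y hxy hfac3 hne
    refine orderOf_dvd_of_pow_eq_one (proj_pow_eq_one_of_dvd A (c := x ^ (k * p)) ?_)
    rw [← hχ, hfac3]
    refine IsCoprime.mul_dvd (cop hne).pow_left
      (X_sub_C_pow_dvd x k (Fact.out : p.Prime).two_le) ?_
    have hx0 : x ≠ 0 := fun h => by simp [h] at hxy
    obtain ⟨w, hw⟩ : q - 1 ∣ k * p * 3 :=
      calc q - 1 = k * δ := (Nat.div_mul_cancel (Nat.gcd_dvd_right _ _)).symm
        _ ∣ k * p * 3 := mul_dvd_mul (dvd_mul_right _ _) (Nat.gcd_dvd_left _ _)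
    have h3 : y ^ (k * p) = x ^ (k * p) := by
      calc y ^ (k * p) = (x * (x * y)) ^ (k * p) * x ^ (k * p) * (x ^ (k * p * 3))⁻¹ := by
            field_simp; ring
        _ = x ^ (k * p) := by
            rw [hxy, hw, pow_mul x (q - 1), FiniteField.pow_card_sub_one_eq_one x hx0]
            simp
    rw [← h3]
    exact X_sub_C_dvd_pow y _
  by_cases hab : a = b
  · by_cases hac : a = c
    · -- a single eigenvalue
      subst hab hac
      have hcube : χ = (X - C a) ^ 3 := by rw [hχ']; ring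
      by_cases hp2 : p = 2
      · refine Or.inr (Or.inr (Or.inr (Or.inr ⟨hp2, orderOf_dvd_of_pow_eq_one
          (proj_pow_eq_one_of_dvd A (c := a ^ 4) ?_)⟩)))
        rw [← hχ, hcube]
        refine (pow_dvd_pow _ (show 3 ≤ 2 * 2 by norm_num)).trans ?_
        subst hp2
        rw [pow_mul (X - C a), sub_pow_char, sub_pow_char, ← pow_mul, ← pow_mul, ← C_pow]
      · refine Or.inr (Or.inr (Or.inr (Or.inl ?_)))
        rw [hpk]
        refine orderOf_dvd_of_pow_eq_one (proj_pow_eq_one_of_dvd A (c := a ^ (k * p)) ?_)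
        rw [← hχ, hcube]
        exact X_sub_C_pow_dvd a k (by have := (Fact.out : p.Prime).two_le; omega)
    · subst hab
      refine Or.inr (Or.inr (Or.inr (Or.inl (hpk ▸ double a c habc ?_ hac))))
      rw [hχ']; ring
  · by_cases hac : a = c
    · subst hac
      refine Or.inr (Or.inr (Or.inr (Or.inl (hpk ▸ double a b (by linear_combination habc) ?_ hab))))
      rw [hχ']; ring
    · by_cases hbc : b = c
      · subst hbc
        refine Or.inr (Or.inr (Or.inr (Or.inl (hpk ▸ double b a (by linear_combination habc) ?_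
          (Ne.symm hab)))))
        rw [hχ']; ring
      · -- three distinct eigenvalues
        refine Or.inr (Or.inr (Or.inl (orderOf_dvd_of_pow_eq_one
          (proj_pow_eq_one_of_dvd A (c := 1) ?_))))
        have key : ∀ u : F, u ≠ 0 → X - C u ∣ X ^ (q - 1) - C 1 := fun u hu => by
          have := X_sub_C_dvd_pow u (q - 1)
          rwa [FiniteField.pow_card_sub_one_eq_one u hu] at this
        rw [← hχ, hχ']
        exact IsCoprime.mul_dvd ((cop hab).mul_right (cop hac)) (key a ha0)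
          (IsCoprime.mul_dvd (cop hbc) (key b hb0) (key c hc0))

theorem orderOf_eq_of_pow_iff {G : Type*} [Monoid G] {x : G} {N : ℕ}
    (h : ∀ m, x ^ m = 1 ↔ N ∣ m) : orderOf x = N :=
  Nat.dvd_antisymm (orderOf_dvd_of_pow_eq_one ((h N).2 dvd_rfl)) ((h _).1 (pow_orderOf_eq_one x))

theorem dvd_mul_iff_div_gcd {E r d m : ℕ} (hdE : d ∣ E) (hdr : d ∣ r) (hg : Nat.gcd E r = d)
    (hE : E ≠ 0) : E ∣ m * r ↔ E / d ∣ m := by
  obtain ⟨e, rfl⟩ := hdE
  obtain ⟨s, rfl⟩ := hdr
  have hd0 : 0 < d := Nat.pos_of_ne_zero fun h => hE (by rw [h, zero_mul])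
  rw [Nat.gcd_mul_left] at hg
  have hcop : Nat.Coprime e s := by
    have : d * Nat.gcd e s = d * 1 := by rw [hg, mul_one]
    exact Nat.eq_of_mul_eq_mul_left hd0 this
  rw [Nat.mul_div_cancel_left _ hd0, show m * (d * s) = d * (m * s) by ring,
    Nat.mul_dvd_mul_iff_left hd0]
  exact ⟨hcop.dvd_of_dvd_mul_right, fun h => h.mul_right s⟩

/-- An element from the Singer torus. -/
theorem exists_orderOf_singer : ∃ g : ProjectiveSpecialLinearGroup (Fin 3) F,
    orderOf g = (Fintype.card F ^ 2 + Fintype.card F + 1) / δ := by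
  obtain ⟨B, hB⟩ := exists_norm_one (F := F) 3 (by norm_num)
  refine ⟨proj 3 B, orderOf_eq_of_pow_iff fun m => ?_⟩
  rw [(hB m).2]
  set q := Fintype.card F
  have hE : (q ^ 3 - 1) / (q - 1) = q ^ 2 + q + 1 := by
    have hq2 : 2 ≤ q := Fintype.one_lt_card
    refine Nat.div_eq_of_eq_mul_left (by omega) ?_
    obtain ⟨k, hk⟩ : ∃ k, q = k + 1 := ⟨q - 1, by omega⟩
    rw [hk, Nat.add_sub_cancel]
    exact Nat.sub_eq_of_eq_add (by ring)
  rw [hE]
  exact dvd_mul_iff_div_gcd gcd_dvd_sq_add (Nat.gcd_dvd_right 3 (q - 1)) gcd_sq_add_pred (by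
    have : 0 < q ^ 2 + q + 1 := by positivity
    exact this.ne')
theorem proj_block_pow_iff (g : GL (Fin 2) F) (m : ℕ) :
    proj 3 (CfsgLib.TwoGroups.PSLThree.block g) ^ m = 1 ↔
      ((g : Matrix (Fin 2) (Fin 2) F) ^ m) = Matrix.scalar (Fin 2)
        (((g : Matrix (Fin 2) (Fin 2) F).det ^ m)⁻¹) := by
  rw [← map_pow, ← map_pow, proj_eq_one_iff]
  set h : GL (Fin 2) F := g ^ m with hh
  have e1 : ((g : Matrix (Fin 2) (Fin 2) F) ^ m) = (h : Matrix (Fin 2) (Fin 2) F) := by
    rw [hh, Units.val_pow_eq_pow_val]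
  rw [e1, ← Matrix.det_pow, e1, CfsgLib.TwoGroups.PSLThree.block_val]
  constructor
  · rintro ⟨c, hc⟩
    have h00 := congrFun (congrFun hc 0) 0
    simp [CfsgLib.TwoGroups.PSLThree.blockMat] at h00
    subst h00
    ext i j
    have := congrFun (congrFun hc i.succ) j.succ
    fin_cases i <;> fin_cases j <;> simpa [CfsgLib.TwoGroups.PSLThree.blockMat] using this
  · intro hs
    refine ⟨((h : Matrix (Fin 2) (Fin 2) F).det)⁻¹, ?_⟩
    have key := fun i j => congrFun (congrFun hs i) j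
    ext i j
    fin_cases i <;> fin_cases j <;>
      simp [CfsgLib.TwoGroups.PSLThree.blockMat, key 0 0, key 0 1, key 1 0, key 1 1]

include p in
/-- An element from the torus of order `q ^ 2 - 1`. -/
theorem exists_orderOf_quadratic : ∃ g : ProjectiveSpecialLinearGroup (Fin 3) F,
    orderOf g = (Fintype.card F ^ 2 - 1) / δ := by
  classical
  let K := FiniteField.Extension F p 2
  haveI : Finite K := Module.finite_of_finite F
  haveI : Fintype K := Fintype.ofFinite K
  have hK : Nat.card K = Nat.card F ^ 2 := FiniteField.natCard_extension F p 2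
  obtain ⟨z, hz⟩ := IsCyclic.exists_ofOrder_eq_natCard (α := Kˣ)
  rw [Nat.card_units, hK, Nat.card_eq_fintype_card] at hz
  set q := Fintype.card F
  have hq2 : 2 ≤ q := Fintype.one_lt_card
  let bas : Module.Basis (Fin 2) F K :=
    Module.finBasisOfFinrankEq F K (FiniteField.finrank_extension F p 2)
  let g : GL (Fin 2) F := Units.map (Algebra.leftMulMatrix bas).toRingHom.toMonoidHom z
  have hgval : (g : Matrix (Fin 2) (Fin 2) F) = Algebra.leftMulMatrix bas (z : K) := rfl
  have hdet : algebraMap F K (g : Matrix (Fin 2) (Fin 2) F).det = (z : K) ^ (q + 1) := by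
    rw [hgval, ← Algebra.norm_eq_matrix_det, FiniteField.algebraMap_norm_eq_pow, hK,
      Nat.card_eq_fintype_card]
    congr 1
    refine Nat.div_eq_of_eq_mul_left (by omega) ?_
    rw [← Nat.sq_sub_sq q 1, one_pow]
  have hd0 : (g : Matrix (Fin 2) (Fin 2) F).det ≠ 0 := g.det_ne_zero
  refine ⟨proj 3 (CfsgLib.TwoGroups.PSLThree.block g), orderOf_eq_of_pow_iff fun m => ?_⟩
  rw [proj_block_pow_iff]
  refine Iff.trans (b := (z : K) ^ (m * (q + 2)) = 1) ?_ ?_
  · rw [show Matrix.scalar (Fin 2) (((g : Matrix (Fin 2) (Fin 2) F).det ^ m)⁻¹) =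
      algebraMap F (Matrix (Fin 2) (Fin 2) F) (((g : Matrix (Fin 2) (Fin 2) F).det ^ m)⁻¹) from rfl,
      hgval, ← map_pow, ← AlgHom.commutes (Algebra.leftMulMatrix bas),
      (Algebra.leftMulMatrix_injective bas).eq_iff, map_inv₀, map_pow,
      show algebraMap F K (Algebra.leftMulMatrix bas (z : K)).det = (z : K) ^ (q + 1) from hdet,
      ← mul_eq_one_iff_eq_inv₀ (pow_ne_zero _ (pow_ne_zero _ z.ne_zero))]
    rw [← pow_mul, ← pow_add, show m + (q + 1) * m = m * (q + 2) by ring]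
  · rw [← Units.val_pow_eq_pow_val, Units.val_eq_one, ← orderOf_dvd_iff_pow_eq_one, hz]
    exact dvd_mul_iff_div_gcd gcd_dvd_sq_sub_one gcd_dvd_add_two
      gcd_sq_pred_add_two (by
        have : 2 ^ 2 ≤ q ^ 2 := Nat.pow_le_pow_left hq2 2
        omega)

/-- A split torus element. -/
theorem exists_orderOf_split : ∃ g : ProjectiveSpecialLinearGroup (Fin 3) F,
    orderOf g = Fintype.card F - 1 := by
  classical
  obtain ⟨z, hz⟩ := IsCyclic.exists_ofOrder_eq_natCard (α := Fˣ)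
  rw [Nat.card_units, Nat.card_eq_fintype_card] at hz
  let A : SpecialLinearGroup (Fin 3) F := ⟨Matrix.diagonal ![(z : F), ((z⁻¹ : Fˣ) : F), 1], by
    simp [Matrix.det_diagonal, Fin.prod_univ_three]⟩
  refine ⟨proj 3 A, orderOf_eq_of_pow_iff fun m => ?_⟩
  rw [← map_pow, proj_eq_one_iff, ← hz, orderOf_dvd_iff_pow_eq_one]
  simp only [Matrix.SpecialLinearGroup.coe_pow]
  show (∃ c, Matrix.diagonal ![(z : F), ((z⁻¹ : Fˣ) : F), 1] ^ m = Matrix.scalar (Fin 3) c) ↔ _
  rw [Matrix.diagonal_pow]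
  constructor
  · rintro ⟨c, hc⟩
    rw [Matrix.scalar_apply] at hc
    have h := Matrix.diagonal_injective hc
    have h0 := congrFun h 0
    have h2 := congrFun h 2
    simp at h0 h2
    exact Units.ext (by rw [Units.val_pow_eq_pow_val, Units.val_one, h0, h2])
  · intro hm
    have hm' : (z : F) ^ m = 1 := by rw [← Units.val_pow_eq_pow_val, hm, Units.val_one]
    refine ⟨1, ?_⟩
    rw [Matrix.scalar_apply]
    congr 1
    funext i
    fin_cases i <;> simp [hm']

omit [Fact p.Prime] in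
/-- A product of a transvection and a central element of `GL(2, q)`. -/
theorem exists_orderOf_mixed : ∃ g : ProjectiveSpecialLinearGroup (Fin 3) F,
    orderOf g = p * (Fintype.card F - 1) / δ := by
  classical
  obtain ⟨z, hz⟩ := IsCyclic.exists_ofOrder_eq_natCard (α := Fˣ)
  rw [Nat.card_units, Nat.card_eq_fintype_card] at hz
  set q := Fintype.card F
  have hq2 : 2 ≤ q := Fintype.one_lt_card
  have hz0 : (z : F) ≠ 0 := z.ne_zero
  let g : GL (Fin 2) F := Matrix.GeneralLinearGroup.mkOfDetNeZero !![(z : F), 1; 0, (z : F)]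
    (by simp [Matrix.det_fin_two])
  have hg : ∀ m : ℕ, (g : Matrix (Fin 2) (Fin 2) F) ^ m =
      !![(z : F) ^ m, m * (z : F) ^ (m - 1); 0, (z : F) ^ m] := by
    intro m
    induction m with
    | zero => rw [pow_zero, Matrix.one_fin_two]; simp
    | succ m ih =>
      rw [pow_succ, ih]
      show _ * !![(z : F), 1; 0, (z : F)] = _
      rw [Matrix.mul_fin_two]
      rcases m with _ | m
      · simp
      · simp only [Nat.add_sub_cancel, pow_succ]
        push_cast
        ext i j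
        fin_cases i <;> fin_cases j <;> simp <;> ring
  refine ⟨proj 3 (CfsgLib.TwoGroups.PSLThree.block g), orderOf_eq_of_pow_iff fun m => ?_⟩
  rw [proj_block_pow_iff, hg, show (g : Matrix (Fin 2) (Fin 2) F).det = (z : F) * z by
    show (!![(z : F), 1; 0, (z : F)]).det = _
    simp [Matrix.det_fin_two]]
  have hiff : ((!![(z : F) ^ m, m * (z : F) ^ (m - 1); 0, (z : F) ^ m]) =
      Matrix.scalar (Fin 2) ((((z : F) * z) ^ m)⁻¹)) ↔ (m : F) = 0 ∧ (z : F) ^ (m * 3) = 1 := by
    constructor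
    · intro hm
      have h01 := congrFun (congrFun hm 0) 1
      have h00 := congrFun (congrFun hm 0) 0
      simp [hz0] at h01 h00
      refine ⟨h01, ?_⟩
      have h4 := mul_inv_cancel₀ (pow_ne_zero m (mul_ne_zero hz0 hz0))
      rw [← h00] at h4
      linear_combination h4
    · rintro ⟨h1, h2⟩
      have h3 : (z : F) ^ m = (((z : F) * z) ^ m)⁻¹ := by
        refine eq_inv_of_mul_eq_one_left ?_
        rw [← h2]; ring
      ext i j
      fin_cases i <;> fin_cases j <;> simp [h1, h3]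
  rw [hiff, CharP.cast_eq_zero_iff F p, ← Units.val_pow_eq_pow_val, Units.val_eq_one,
    ← orderOf_dvd_iff_pow_eq_one, hz,
    dvd_mul_iff_div_gcd (Nat.gcd_dvd_right 3 (q - 1)) (Nat.gcd_dvd_left _ _)
      (Nat.gcd_comm _ _) (by omega),
    Nat.mul_div_assoc _ (Nat.gcd_dvd_right 3 (q - 1))]
  have hcop : Nat.Coprime p ((q - 1) / δ) := by
    refine Nat.Coprime.coprime_dvd_right (Nat.div_dvd_of_dvd (Nat.gcd_dvd_right 3 (q - 1))) ?_
    obtain ⟨n, hp, hn⟩ := FiniteField.card F p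
    have h1 : Nat.Coprime q (q - 1) := by
      rw [Nat.coprime_self_sub_right (by omega)]
      exact Nat.coprime_one_right q
    exact h1.coprime_dvd_left (by rw [show q = _ from hn]; exact dvd_pow_self p n.pos.ne')
  exact ⟨fun h => hcop.mul_dvd_of_dvd_of_dvd h.1 h.2,
    fun h => ⟨(dvd_mul_right _ _).trans h, (dvd_mul_left _ _).trans h⟩⟩

/-- The regular unipotent element in characteristic two. -/
theorem exists_orderOf_four (hp : p = 2) :
    ∃ g : ProjectiveSpecialLinearGroup (Fin 3) F, orderOf g = 4 := by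
  subst hp
  let A : SpecialLinearGroup (Fin 3) F :=
    ⟨!![1, 1, 0; 0, 1, 1; 0, 0, 1], by simp [Matrix.det_fin_three]⟩
  have h2 : (2 : F) = 0 := CharTwo.two_eq_zero
  have hA2 : (A : Matrix (Fin 3) (Fin 3) F) * (A : Matrix (Fin 3) (Fin 3) F) = !![1, 0, 1; 0, 1, 0; 0, 0, 1] := by
    show !![(1 : F), 1, 0; 0, 1, 1; 0, 0, 1] * !![(1 : F), 1, 0; 0, 1, 1; 0, 0, 1] = _
    ext i j
    fin_cases i <;> fin_cases j <;>
      simp [Matrix.mul_apply, Fin.sum_univ_three, CharTwo.add_self_eq_zero]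
  refine ⟨proj 3 A, ?_⟩
  rw [show (4 : ℕ) = 2 ^ (1 + 1) by norm_num]
  apply orderOf_eq_prime_pow
  · rw [pow_one, ← map_pow, proj_eq_one_iff]
    simp only [Matrix.SpecialLinearGroup.coe_pow]
    rw [pow_two, hA2]
    rintro ⟨c, hc⟩
    have := congrFun (congrFun hc 0) 2
    simp at this
  · rw [show (2 : ℕ) ^ (1 + 1) = 2 * 2 by norm_num, ← map_pow, proj_eq_one_iff]
    simp only [Matrix.SpecialLinearGroup.coe_pow]
    rw [pow_mul, pow_two (A : Matrix (Fin 3) (Fin 3) F), hA2, pow_two]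
    refine ⟨1, ?_⟩
    ext i j
    fin_cases i <;> fin_cases j <;>
      simp [Matrix.mul_apply, Fin.sum_univ_three, CharTwo.add_self_eq_zero]

/-- The element orders of `PSL(3, q)`. -/
theorem range_orderOf : Set.range (orderOf : ProjectiveSpecialLinearGroup (Fin 3) F → ℕ) =
    {m : ℕ | m ∣ (Fintype.card F ^ 2 + Fintype.card F + 1) / δ ∨
      m ∣ (Fintype.card F ^ 2 - 1) / δ ∨ m ∣ Fintype.card F - 1 ∨
      m ∣ p * (Fintype.card F - 1) / δ ∨ (p = 2 ∧ m ∣ 4)} := by
  ext m
  constructor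
  · rintro ⟨g, rfl⟩
    exact exists_exponent p g
  · intro hm
    have key : ∀ g : ProjectiveSpecialLinearGroup (Fin 3) F, m ∣ orderOf g →
        m ∈ Set.range (orderOf : ProjectiveSpecialLinearGroup (Fin 3) F → ℕ) := fun g hg =>
      ⟨g ^ (orderOf g / m), orderOf_pow_orderOf_div (orderOf_pos g).ne' hg⟩
    rcases hm with h | h | h | h | ⟨hp, h⟩
    · obtain ⟨g, hg⟩ := exists_orderOf_singer (F := F)
      exact key g (hg.symm ▸ h)
    · obtain ⟨g, hg⟩ := exists_orderOf_quadratic (F := F) p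
      exact key g (hg.symm ▸ h)
    · obtain ⟨g, hg⟩ := exists_orderOf_split (F := F)
      exact key g (hg.symm ▸ h)
    · obtain ⟨g, hg⟩ := exists_orderOf_mixed (F := F) p
      exact key g (hg.symm ▸ h)
    · obtain ⟨g, hg⟩ := exists_orderOf_four (F := F) p hp
      exact key g (hg.symm ▸ h)

end CfsgLib.Classical.PSLThreeSpectrum
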