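import Cfsg.Agent.Lib.Known.PSLTori
import Cfsg.Agent.Lib.Classical.PSLThreeSpectrum
import Cfsg.Agent.Lib.Classical.EigenOrbit.SUAdjacency
import Cfsg.Agent.Lib.LocalEven.Zsigmondy

/-!
Elements of order `|Q ^ k + 1|` in `PSL(2k, q)` (`Q = q`) and `PSU(2k, q)` (`Q = -q`).
-/

set_option autoImplicit false

namespace CfsgLib.Classical.HalfTorus

open CfsgLib.Classical.EigenOrbit CfsgLib.Classical.PSLThreeSpectrum

theorem gcd_dvd_half_iff {k a : ℕ} (hk : k ≠ 0) (ha : a ≠ 0) :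
    Nat.gcd (2 * k) a ∣ k ↔ padicValNat 2 a < padicValNat 2 (2 * k) := by
  haveI := Fact.mk Nat.prime_two
  have hv : padicValNat 2 (2 * k) = padicValNat 2 k + 1 := by
    rw [padicValNat.mul two_ne_zero hk, padicValNat.self one_lt_two, add_comm]
  constructor
  · intro hd
    by_contra hlt
    push Not at hlt
    rw [hv] at hlt
    have h1 : 2 ^ (padicValNat 2 k + 1) ∣ Nat.gcd (2 * k) a :=
      Nat.dvd_gcd ((padicValNat_dvd_iff_le (by omega)).2 hv.ge)
        ((padicValNat_dvd_iff_le ha).2 hlt)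
    have := (padicValNat_dvd_iff_le hk).1 (h1.trans hd)
    omega
  · intro hlt
    obtain ⟨c, hc⟩ := Nat.gcd_dvd_left (2 * k) a
    rcases Nat.even_or_odd c with ⟨e, he⟩ | hodd
    · exact ⟨e, by rw [he, mul_add] at hc; omega⟩
    exfalso
    set g := Nat.gcd (2 * k) a
    have hg0 : g ≠ 0 := fun h => ha (Nat.eq_zero_of_gcd_eq_zero_right h)
    have h2 : padicValNat 2 (2 * k) = padicValNat 2 g := by
      rw [hc, padicValNat.mul hg0 (by rintro rfl; omega),
        padicValNat.eq_zero_of_not_dvd (n := c) hodd.not_two_dvd_nat, add_zero]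
    have h3 : 2 ^ padicValNat 2 (2 * k) ∣ a := by
      rw [h2]
      exact pow_padicValNat_dvd.trans (Nat.gcd_dvd_right _ _)
    have := (padicValNat_dvd_iff_le ha).1 h3
    omega

theorem sum_two_mul (Q : ℤ) (k : ℕ) :
    ∑ i ∈ Finset.range (2 * k), Q ^ i = (∑ i ∈ Finset.range k, Q ^ i) * (Q ^ k + 1) := by
  rw [two_mul, Finset.sum_range_add, mul_add, mul_one, Finset.sum_mul,
    add_comm (∑ i ∈ Finset.range k, Q ^ i * Q ^ k)]
  congr 1
  exact Finset.sum_congr rfl fun i _ => by rw [pow_add, mul_comm]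

theorem dvd_sum_iff {Q : ℤ} {d : ℕ} (hd : (d : ℤ) ∣ Q - 1) (k : ℕ) :
    d ∣ (∑ i ∈ Finset.range k, Q ^ i).natAbs ↔ d ∣ k := by
  rw [← Int.natCast_dvd, ← Int.natCast_dvd_natCast (n := k)]
  refine dvd_iff_dvd_of_dvd_sub ?_
  have h : (∑ i ∈ Finset.range k, Q ^ i) - (k : ℤ) = ∑ i ∈ Finset.range k, (Q ^ i - 1) := by
    rw [Finset.sum_sub_distrib, Finset.sum_const, Finset.card_range, nsmul_one]
  rw [h]
  exact Finset.dvd_sum fun i _ => hd.trans (sub_one_dvd_pow_sub_one Q i)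

theorem dvd_natAbs_cast {Q : ℤ} {d : ℕ} (hd : d ∣ (Q - 1).natAbs) : (d : ℤ) ∣ Q - 1 :=
  Int.natCast_dvd.2 hd

theorem gcd_sum (Q : ℤ) (n : ℕ) :
    Nat.gcd (∑ i ∈ Finset.range n, Q ^ i).natAbs (Q - 1).natAbs = Nat.gcd n (Q - 1).natAbs := by
  refine Nat.dvd_antisymm (Nat.dvd_gcd ?_ (Nat.gcd_dvd_right _ _))
    (Nat.dvd_gcd ?_ (Nat.gcd_dvd_right _ _))
  · exact (dvd_sum_iff (dvd_natAbs_cast (Nat.gcd_dvd_right _ _)) n).1 (Nat.gcd_dvd_left _ _)
  · exact (dvd_sum_iff (dvd_natAbs_cast (Nat.gcd_dvd_right _ _)) n).2 (Nat.gcd_dvd_left _ _)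

/-- The arithmetic of the criterion. -/
theorem dvd_div_gcd_iff (Q : ℤ) {k : ℕ} (hk : k ≠ 0) (ha : (Q - 1).natAbs ≠ 0)
    (hm : (Q ^ k + 1).natAbs ≠ 0) :
    (Q ^ k + 1).natAbs ∣
      (∑ i ∈ Finset.range (2 * k), Q ^ i).natAbs / Nat.gcd (2 * k) (Q - 1).natAbs ↔
    padicValNat 2 (Q - 1).natAbs < padicValNat 2 (2 * k) := by
  have hd : Nat.gcd (2 * k) (Q - 1).natAbs ∣ (∑ i ∈ Finset.range (2 * k), Q ^ i).natAbs := by
    rw [← gcd_sum Q (2 * k)]
    exact Nat.gcd_dvd_left _ _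
  rw [Nat.dvd_div_iff_mul_dvd hd, sum_two_mul, Int.natAbs_mul,
    Nat.mul_dvd_mul_iff_right (Nat.pos_of_ne_zero hm),
    dvd_sum_iff (dvd_natAbs_cast (Nat.gcd_dvd_right _ _)), gcd_dvd_half_iff hk ha]

/-- A multiset of size `n`, invariant under `y ↦ y ^ Q`, containing an element with an orbit of
length `n`. -/
theorem orbit_eq {K : Type*} [Field K] {S : Multiset K} {n : ℕ} (hS : Multiset.card S = n)
    (f : K → K) (hmap : S.map f = S) {Q : ℤ} (hf : ∀ y ∈ S, f y = y ^ Q) {x : K} (hx : x ∈ S)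
    {r j : ℕ} (hr : orderOf (x ^ j) = r) (hQ : orderOf (Q : ZMod r) = n) (hx0 : x ≠ 0) :
    S = (Multiset.range n).map fun i => x ^ Q ^ i := by
  have hmem : ∀ i : ℕ, x ^ Q ^ i ∈ S := by
    intro i
    induction i with
    | zero => simpa using hx
    | succ i ih =>
      rw [pow_succ, zpow_mul, ← hf _ ih, ← hmap]
      exact Multiset.mem_map_of_mem f ih
  have hnd : ((Multiset.range n).map fun i => x ^ Q ^ i).Nodup := by
    refine (Multiset.nodup_range n).map_on fun a ha b hb hab => ?_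
    rw [Multiset.mem_range] at ha hb
    have h1 : x ^ (Q ^ a - Q ^ b) = 1 := by
      rw [zpow_sub₀ hx0, hab, div_self (zpow_ne_zero _ hx0)]
    have h2 : (x ^ j) ^ (Q ^ a - Q ^ b) = 1 := by
      rw [← zpow_natCast x j, ← zpow_mul, mul_comm, zpow_mul, h1, one_zpow]
    let u : Kˣ := Units.mk0 (x ^ j) (pow_ne_zero _ hx0)
    have h3 : u ^ (Q ^ a - Q ^ b) = 1 := Units.ext (by rw [Units.val_zpow_eq_zpow_val]; exact h2)
    have h4 := orderOf_dvd_iff_zpow_eq_one.2 h3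
    rw [show orderOf u = r by rw [← orderOf_units]; exact hr,
      ← ZMod.intCast_zmod_eq_zero_iff_dvd, Int.cast_sub, Int.cast_pow, Int.cast_pow,
      sub_eq_zero] at h4
    refine pow_injOn_Iio_orderOf ?_ ?_ h4 <;> rw [Set.mem_Iio, hQ] <;> assumption
  refine (Multiset.eq_of_le_of_card_le ((Multiset.le_iff_subset hnd).2 fun y hy => ?_) ?_).symm
  · obtain ⟨i, -, rfl⟩ := Multiset.mem_map.1 hy
    exact hmem i
  · rw [hS, Multiset.card_map, Multiset.card_range]

/-- A matrix of determinant one with a single orbit of eigenvalues. -/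
theorem exists_scalar_of_orbit {F : Type*} [Field F] {ι : Type*} [Fintype ι] [DecidableEq ι]
    [Nonempty ι] {M : Matrix ι ι F} {N : ℕ} (hN : (N : F) ≠ 0) (hM : M ^ N = 1) (hdet : M.det = 1)
    (f : AlgebraicClosure F → AlgebraicClosure F) (hmap : (ev M).map f = ev M) (Q : ℤ)
    (hf : ∀ y ∈ ev M, f y = y ^ Q) {r : ℕ} (hr : r.Prime) (hrM : r ∣ orderOf M)
    (hQ : orderOf (Q : ZMod r) = Fintype.card ι) (t : ℕ)
    (ht : (∑ i ∈ Finset.range (Fintype.card ι), Q ^ i) ∣ (t : ℤ) * (Q - 1)) :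
    ∃ c : F, M ^ t = Matrix.scalar ι c := by
  haveI := Fact.mk hr
  have hN0 : N ≠ 0 := by rintro rfl; exact hN Nat.cast_zero
  set n := Fintype.card ι
  obtain ⟨j, hj⟩ := hrM
  have hfin : 0 < orderOf M :=
    orderOf_pos_iff.2 (isOfFinOrder_iff_pow_eq_one.2 ⟨N, Nat.pos_of_ne_zero hN0, hM⟩)
  have hj0 : j ≠ 0 := by rintro rfl; omega
  have hMj : M ^ j ≠ 1 := by
    intro h
    have h1 := Nat.le_of_dvd (Nat.pos_of_ne_zero hj0) (orderOf_dvd_of_pow_eq_one h)
    have h2 : 2 * j ≤ r * j := Nat.mul_le_mul_right j hr.two_le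
    omega
  have hMjN : (M ^ j) ^ N = 1 := by rw [← pow_mul, mul_comm, pow_mul, hM, one_pow]
  obtain ⟨y, hy, hy1⟩ := exists_ev_ne_one hN hMjN hMj
  have hyr : y ^ r = 1 :=
    root_pow_ev hN hMjN (by rw [← pow_mul, mul_comm, ← hj, pow_orderOf_eq_one]) hy
  rw [ev_pow hN hM] at hy
  obtain ⟨x, hx, rfl⟩ := Multiset.mem_map.1 hy
  have hx0 : x ≠ 0 := fun h => by
    have := root_pow_ev hN hM hM hx
    rw [h, zero_pow hN0] at this
    exact zero_ne_one this
  have hS := orbit_eq (card_ev M) f hmap hf hx (orderOf_eq_prime hyr hy1) hQ hx0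
  have hE : x ^ (∑ i ∈ Finset.range n, Q ^ i) = 1 := by
    have h1 : (M.map (algebraMap F (AlgebraicClosure F))).det = 1 := by
      rw [← RingHom.mapMatrix_apply, ← RingHom.map_det, hdet, map_one]
    rw [Matrix.det_eq_prod_roots_charpoly] at h1
    change (ev M).prod = 1 at h1
    rw [hS] at h1
    have key : ∀ m : ℕ, x ^ (∑ i ∈ Finset.range m, Q ^ i) =
        ((Multiset.range m).map fun i => x ^ Q ^ i).prod := by
      intro m
      induction m with
      | zero => simp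
      | succ m ih =>
        rw [Finset.sum_range_succ, zpow_add₀ hx0, ih, Multiset.range_succ, Multiset.map_cons,
          Multiset.prod_cons, mul_comm]
    rw [key, h1]
  have hall : ∀ y ∈ ev M, y ^ t = x ^ t := by
    intro y hy
    rw [hS] at hy
    obtain ⟨i, -, rfl⟩ := Multiset.mem_map.1 hy
    obtain ⟨w, hw⟩ := ht.trans (mul_dvd_mul_left (t : ℤ) (sub_one_dvd_pow_sub_one Q i))
    have h1 : x ^ ((t : ℤ) * (Q ^ i - 1)) = 1 := by rw [hw, zpow_mul, hE, one_zpow]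
    rw [← zpow_natCast (x ^ Q ^ i) t, ← zpow_mul,
      show Q ^ i * (t : ℤ) = (t : ℤ) * (Q ^ i - 1) + t by ring, zpow_add₀ hx0, h1, one_mul,
      zpow_natCast]
  have hMt : (M ^ t) ^ N = 1 := by rw [← pow_mul, mul_comm, pow_mul, hM, one_pow]
  have hsc := eq_scalar_of_roots ((M ^ t).map (algebraMap F (AlgebraicClosure F)))
    (natCast_ne_zero hN) (map_pow_eq_one hMt) (x := x ^ t) (by
      intro y hy
      change y ∈ ev (M ^ t) at hy
      rw [ev_pow hN hM] at hy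
      obtain ⟨z, hz, rfl⟩ := Multiset.mem_map.1 hy
      exact hall z hz)
  let i₀ : ι := Classical.arbitrary ι
  refine ⟨(M ^ t) i₀ i₀, Matrix.ext fun a b => (algebraMap F (AlgebraicClosure F)).injective ?_⟩
  have e1 := congrFun (congrFun hsc a) b
  have e2 := congrFun (congrFun hsc i₀) i₀
  rw [Matrix.map_apply] at e1 e2
  rw [Matrix.scalar_apply, e1]
  by_cases hab : a = b
  · subst hab
    rw [Matrix.diagonal_apply_eq, Matrix.diagonal_apply_eq, e2, Matrix.diagonal_apply_eq]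
  · rw [Matrix.diagonal_apply_ne _ hab, Matrix.diagonal_apply_ne _ hab, map_zero]

theorem natAbs_cast_ne_zero {F : Type*} [Field F] {Q : ℤ} (hQ : (Q : F) = 0) {k : ℕ} (hk : k ≠ 0) :
    (((Q ^ k + 1).natAbs : ℕ) : F) ≠ 0 := by
  intro h
  have h1 : (((Q ^ k + 1).natAbs : ℤ) : F) = 0 := by rw [Int.cast_natCast]; exact h
  rcases Int.natAbs_eq (Q ^ k + 1) with e | e
  · rw [← e] at h1
    simp [hQ, hk] at h1
  · rw [show ((Q ^ k + 1).natAbs : ℤ) = -(Q ^ k + 1) by omega] at h1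
    simp [hQ, hk] at h1

theorem exists_orderOf_of_dvd {G : Type*} [Group G] [Finite G] {m : ℕ} (g : G)
    (h : m ∣ orderOf g) : ∃ y : G, orderOf y = m :=
  ⟨g ^ (orderOf g / m), orderOf_pow_orderOf_div (orderOf_pos g).ne' h⟩

theorem dvd_of_orderOf_eq {r k : ℕ} [Fact r.Prime] {Q : ℤ} (hk : k ≠ 0)
    (hQ : orderOf (Q : ZMod r) = 2 * k) : r ∣ (Q ^ k + 1).natAbs := by
  have h1 : ((Q : ZMod r) ^ k) * ((Q : ZMod r) ^ k) = 1 := by
    rw [← pow_add, ← two_mul, ← hQ, pow_orderOf_eq_one]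
  rcases mul_self_eq_one_iff.1 h1 with e | e
  · have := Nat.le_of_dvd (Nat.pos_of_ne_zero hk) (hQ ▸ orderOf_dvd_of_pow_eq_one e)
    omega
  · rw [← Int.natCast_dvd, ← ZMod.intCast_zmod_eq_zero_iff_dvd, Int.cast_add, Int.cast_pow, e,
      Int.cast_one, neg_add_cancel]

/-- A primitive prime divisor. -/
theorem exists_ppd {q e : ℕ} (hodd : Odd q) (hq : 1 < q) (he : 3 ≤ e) :
    ∃ r : ℕ, r.Prime ∧ r ≠ 2 ∧ orderOf (q : ZMod r) = e := by
  obtain ⟨r, hr, hdvd, hmin⟩ := CfsgLib.Zsigmondy.exists_primitive_prime_divisor hq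
    (show 1 < e by omega) (fun h => by rw [h.1] at hodd; exact absurd hodd (by decide))
    (fun h => by omega)
  haveI := Fact.mk hr
  refine ⟨r, hr, fun h2 => hmin 1 one_pos (by omega) ?_, ?_⟩
  · obtain ⟨w, hw⟩ := hodd
    rw [h2, pow_one]
    exact ⟨w, by omega⟩
  rw [orderOf_eq_iff (by omega)]
  refine ⟨?_, fun i hi hi0 h1 => hmin i hi0 hi ?_⟩
  · have := (ZMod.natCast_eq_zero_iff (q ^ e - 1) r).2 hdvd
    rwa [Nat.cast_sub (Nat.one_le_pow _ _ (by omega)), Nat.cast_pow, Nat.cast_one, sub_eq_zero]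
      at this
  · rw [← ZMod.natCast_eq_zero_iff, Nat.cast_sub (Nat.one_le_pow _ _ (by omega)), Nat.cast_pow,
      h1, Nat.cast_one, sub_self]

/-- The twisted orbit has length `2k`. -/
theorem exists_ppd_neg {q k : ℕ} (hodd : Odd q) (hq : 1 < q) (hk : 2 ≤ k) :
    ∃ r : ℕ, r.Prime ∧ orderOf ((-(q : ℤ) : ℤ) : ZMod r) = 2 * k := by
  rcases Nat.even_or_odd k with hev | hko
  · obtain ⟨r, hr, -, hord⟩ := exists_ppd (e := 2 * k) hodd hq (by omega)
    refine ⟨r, hr, ?_⟩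
    rw [Int.cast_neg, Int.cast_natCast, orderOf_eq_iff (by omega)]
    refine ⟨by rw [(even_two_mul k).neg_pow, ← hord, pow_orderOf_eq_one], fun i hi hi0 h1 => ?_⟩
    rcases Nat.even_or_odd i with he | ho
    · rw [he.neg_pow] at h1
      have := Nat.le_of_dvd hi0 (hord ▸ orderOf_dvd_of_pow_eq_one h1)
      omega
    · have h2 : (q : ZMod r) ^ (2 * i) = 1 := by
        rw [ho.neg_pow] at h1
        rw [mul_comm, pow_mul, ← neg_sq, h1, one_pow]
      have h3 : 2 * k ∣ 2 * i := hord ▸ orderOf_dvd_of_pow_eq_one h2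
      exact Nat.not_even_iff_odd.2 ho (hev.trans_dvd (Nat.dvd_of_mul_dvd_mul_left two_pos h3))
  · obtain ⟨r, hr, hr2, hord⟩ := exists_ppd (e := k) hodd hq (by
      obtain ⟨w, hw⟩ := hko; omega)
    haveI := Fact.mk hr
    refine ⟨r, hr, ?_⟩
    rw [Int.cast_neg, Int.cast_natCast, orderOf_eq_iff (by omega)]
    refine ⟨?_, fun i hi hi0 h1 => ?_⟩
    · rw [(even_two_mul k).neg_pow, mul_comm, pow_mul, ← hord, pow_orderOf_eq_one, one_pow]
    rcases Nat.even_or_odd i with he | ho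
    · rw [he.neg_pow] at h1
      have h3 : k ∣ i := hord ▸ orderOf_dvd_of_pow_eq_one h1
      have h4 : 2 * k ∣ i :=
        (Nat.coprime_two_left.2 hko).mul_dvd_of_dvd_of_dvd he.two_dvd h3
      have := Nat.le_of_dvd hi0 h4
      omega
    · rw [ho.neg_pow] at h1
      have h2 : (q : ZMod r) ^ (i * 2) = 1 := by rw [pow_mul, ← neg_sq, h1, one_pow]
      have h3 : k ∣ i := (Nat.coprime_two_right.2 hko).dvd_of_dvd_mul_right
        (hord ▸ orderOf_dvd_of_pow_eq_one h2)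
      obtain ⟨w, rfl⟩ := h3
      rw [pow_mul, ← hord, pow_orderOf_eq_one, one_pow] at h1
      haveI : Fact (2 < r) := ⟨lt_of_le_of_ne hr.two_le (Ne.symm hr2)⟩
      exact ZMod.neg_one_ne_one h1

variable {F : Type*} [Field F] [Fintype F]

theorem cast_base_eq_zero {q e : ℕ} (hF : Fintype.card F = q ^ e) : (q : F) = 0 := by
  have h := Nat.cast_card_eq_zero F
  rw [hF, Nat.cast_pow] at h
  exact eq_zero_of_pow_eq_zero h

theorem natAbs_natCast_sub_one {q : ℕ} (hq : 1 ≤ q) : ((q : ℤ) - 1).natAbs = q - 1 := by omega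

theorem natAbs_geom {q : ℕ} (hq : 2 ≤ q) (n : ℕ) :
    (∑ i ∈ Finset.range n, (q : ℤ) ^ i).natAbs = (q ^ n - 1) / (q - 1) := by
  rw [← Nat.geomSum_eq hq]
  exact_mod_cast rfl

/-- `PSL(2k, q)`, `q` odd, has an element of order `q ^ k + 1` under a condition on 2-parts. -/
theorem psl_iff {k : ℕ} (hk : 2 ≤ k) (hodd : Odd (Fintype.card F)) :
    (∃ g : Matrix.ProjectiveSpecialLinearGroup (Fin (2 * k)) F,
        orderOf g = Fintype.card F ^ k + 1) ↔
      padicValNat 2 (Fintype.card F - 1) < padicValNat 2 (2 * k) := by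
  classical
  obtain ⟨p, hp⟩ := CharP.exists F
  haveI := Fact.mk (CharP.char_prime_of_ne_zero F (CharP.char_ne_zero_of_finite F p))
  set q := Fintype.card F
  have hq : 1 < q := Fintype.one_lt_card
  have ha : ((q : ℤ) - 1).natAbs = q - 1 := natAbs_natCast_sub_one (by omega)
  have hm : ((q : ℤ) ^ k + 1).natAbs = q ^ k + 1 := by exact_mod_cast rfl
  rw [← ha, ← dvd_div_gcd_iff (q : ℤ) (k := k) (by omega) (by omega) (by omega), hm]
  constructor
  · rintro ⟨g, hg⟩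
    obtain ⟨A, rfl⟩ := CfsgLib.Known.PSLTori.proj_surjective (2 * k) g
    obtain ⟨r, hr, -, hord⟩ := exists_ppd (e := 2 * k) hodd hq (by omega)
    haveI := Fact.mk hr
    have hordZ : orderOf (((q : ℤ)) : ZMod r) = 2 * k := by rw [Int.cast_natCast]; exact hord
    haveI : Nonempty (Fin (2 * k)) := ⟨⟨0, by omega⟩⟩
    set M := (A : Matrix (Fin (2 * k)) (Fin (2 * k)) F) with hMdef
    obtain ⟨c, hc⟩ := (CfsgLib.Known.PSLTori.proj_eq_one_iff (A ^ (q ^ k + 1))).1
      (by rw [map_pow, ← hg, pow_orderOf_eq_one])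
    rw [Matrix.SpecialLinearGroup.coe_pow, ← hMdef] at hc
    have hc0 : c ≠ 0 := by
      rintro rfl
      have h1 := congrArg Matrix.det hc
      rw [Matrix.det_pow, hMdef, A.det_coe, one_pow, map_zero, Matrix.det_zero] at h1
      exact one_ne_zero h1
    have hq0 : (q : F) = 0 := Nat.cast_card_eq_zero F
    have hN : (((q ^ k + 1) * (q - 1) : ℕ) : F) ≠ 0 := by
      rw [Nat.cast_mul, Nat.cast_sub (by omega), hq0, Nat.cast_add, Nat.cast_pow, hq0,
        zero_pow (by omega)]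
      simp
    have hMN : M ^ ((q ^ k + 1) * (q - 1)) = 1 := by
      rw [pow_mul, hc, ← map_pow, FiniteField.pow_card_sub_one_eq_one c hc0, map_one]
    obtain ⟨f, -, hmap, hf⟩ := exists_frob_stable p hN hMN
    have hrM : r ∣ orderOf M := by
      rw [hMdef, orderOf_coe_SL]
      refine Dvd.dvd.trans ?_ (orderOf_map_dvd (CfsgLib.Known.PSLTori.proj (2 * k)) A)
      rw [hg, ← hm]
      exact dvd_of_orderOf_eq (by omega) hordZ
    set d := Nat.gcd (2 * k) ((q : ℤ) - 1).natAbs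
    set t := (∑ i ∈ Finset.range (2 * k), (q : ℤ) ^ i).natAbs / d
    obtain ⟨c', hc'⟩ := exists_scalar_of_orbit hN hMN A.det_coe f hmap (q : ℤ)
      (fun y _ => by rw [hf, zpow_natCast]) hr hrM (by rw [Fintype.card_fin]; exact hordZ) t (by
        rw [Fintype.card_fin, ← Int.natAbs_dvd_natAbs, Int.natAbs_mul, Int.natAbs_natCast]
        calc (∑ i ∈ Finset.range (2 * k), (q : ℤ) ^ i).natAbs = t * d := by
              rw [Nat.div_mul_cancel]
              rw [show d = _ from (gcd_sum (q : ℤ) (2 * k)).symm]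
              exact Nat.gcd_dvd_left _ _
          _ ∣ t * ((q : ℤ) - 1).natAbs := mul_dvd_mul_left _ (Nat.gcd_dvd_right _ _))
    rw [← hg]
    refine orderOf_dvd_of_pow_eq_one ?_
    rw [← map_pow, CfsgLib.Known.PSLTori.proj_eq_one_iff]
    exact ⟨c', by rw [Matrix.SpecialLinearGroup.coe_pow]; exact hc'⟩
  · intro hdvd
    obtain ⟨B, hB⟩ := CfsgLib.Known.PSLTori.exists_norm_one (F := F) (2 * k) (by omega)
    haveI : Finite (Matrix.SpecialLinearGroup (Fin (2 * k)) F) := inferInstance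
    refine exists_orderOf_of_dvd (CfsgLib.Known.PSLTori.proj (2 * k) B) ?_
    rwa [orderOf_eq_of_pow_iff (N := (∑ i ∈ Finset.range (2 * k), (q : ℤ) ^ i).natAbs /
      Nat.gcd (2 * k) ((q : ℤ) - 1).natAbs) fun j => ?_]
    rw [(hB j).2, ← natAbs_geom hq, ha]
    refine dvd_mul_iff_div_gcd ?_ (Nat.gcd_dvd_right _ _) (ha ▸ gcd_sum (q : ℤ) (2 * k)) ?_
    · rw [← ha, ← gcd_sum (q : ℤ) (2 * k)]
      exact Nat.gcd_dvd_left _ _
    · rw [sum_two_mul, Int.natAbs_mul, hm]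
      intro h
      rcases mul_eq_zero.1 h with h | h
      · rw [natAbs_geom hq, ← Nat.geomSum_eq hq] at h
        have h5 := Finset.sum_eq_zero_iff.1 h 0 (Finset.mem_range.2 (by omega))
        simp at h5
      · omega

/-- Membership in the centre of `SU` by scalarity. -/
theorem psu_mk_eq_one_iff {n q : ℕ} (hn : 3 ≤ n) (hF : Fintype.card F = q ^ 2)
    (A : Cfsg.SU n F q) :
    (QuotientGroup.mk' (Subgroup.center (Cfsg.SU n F q)) A = 1) ↔
      ∃ c : F, suMat n F q A = Matrix.scalar (Fin n) c := by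
  rw [QuotientGroup.mk'_apply, QuotientGroup.eq_one_iff]
  constructor
  · intro hA
    have h1 : Herm.suEquiv n hF A ∈ Subgroup.center (Herm.HSU (Herm.hermStd n hF)) := by
      refine Subgroup.mem_center_iff.2 fun g => ?_
      obtain ⟨g', rfl⟩ := (Herm.suEquiv n hF).surjective g
      rw [← map_mul, ← map_mul, Subgroup.mem_center_iff.1 hA g']
    obtain ⟨c, hc⟩ := ((Herm.hermStd_isHerm hF).mem_center_HSU_iff
      (by rw [Herm.finrank_std]; exact hn)).1 h1
    refine ⟨c, Matrix.ext fun i j => ?_⟩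
    have h2 := congrFun ((Herm.suEquiv_apply hF A (Pi.single j 1)).symm.trans (hc _)) i
    rw [Matrix.mulVec_single_one, Pi.smul_apply, smul_eq_mul] at h2
    rw [Matrix.scalar_apply, Matrix.diagonal_apply]
    change ((A : Matrix.SpecialLinearGroup (Fin n) F) : Matrix (Fin n) (Fin n) F) i j = _
    rw [show ((A : Matrix.SpecialLinearGroup (Fin n) F) : Matrix (Fin n) (Fin n) F) i j = _ from h2,
      Pi.single_apply]
    split_ifs <;> simp
  · rintro ⟨c, hc⟩
    refine Subgroup.mem_center_iff.2 fun B => suMat_injective ?_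
    rw [map_mul, map_mul, hc]
    exact (Matrix.scalar_commute c (Commute.all c) _).symm.eq

end CfsgLib.Classical.HalfTorus
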