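import Cfsg.Agent.Lib.Classical.HalfTorusOrders

/-!
The torus of order `(q ^ 2k - 1) / (q + 1)` in `SU(2k, q)` and elements of order `|(-q) ^ k + 1|`
in `PSU(2k, q)`.
-/

set_option autoImplicit false

namespace CfsgLib.Classical.HalfTorus

open CfsgLib.Classical.EigenOrbit CfsgLib.Classical.PSLThreeSpectrum

variable {F : Type*} [Field F] [Fintype F]

theorem natAbs_neg_sub_one (q : ℕ) : (-(q : ℤ) - 1).natAbs = q + 1 := by omega

theorem natAbs_neg_pow_add_one {q : ℕ} (hq : 1 ≤ q) (k : ℕ) :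
    ((-(q : ℤ)) ^ k + 1).natAbs = if Even k then q ^ k + 1 else q ^ k - 1 := by
  have h1 : (1 : ℕ) ≤ q ^ k := Nat.one_le_pow _ _ hq
  split_ifs with h
  · rw [h.neg_pow, ← Nat.cast_pow]
    omega
  · rw [(Nat.not_even_iff_odd.1 h).neg_pow, ← Nat.cast_pow]
    omega

/-- The torus exponent. -/
theorem natAbs_neg_geom {q : ℕ} (hq : 1 ≤ q) (n : ℕ) (hn : Even n) :
    (∑ i ∈ Finset.range n, (-(q : ℤ)) ^ i).natAbs * (q + 1) = q ^ n - 1 := by
  rw [← natAbs_neg_sub_one q, ← Int.natAbs_mul, geom_sum_mul, hn.neg_pow, ← Nat.cast_pow]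
  have h1 : 1 ≤ q ^ n := Nat.one_le_pow _ _ hq
  generalize q ^ n = a at h1 ⊢
  omega

theorem psu_mk_pow {n q : ℕ} (A : Cfsg.SU n F q) (j : ℕ) :
    QuotientGroup.mk' (Subgroup.center (Cfsg.SU n F q)) A ^ j =
      QuotientGroup.mk' (Subgroup.center (Cfsg.SU n F q)) (A ^ j) := (map_pow _ _ _).symm

/-- An element of `PSU(2k, q)` of order `((q ^ 2k - 1) / (q + 1)) / gcd (2k, q + 1)`. -/
theorem exists_unitary_torus {k q : ℕ} (hk : 2 ≤ k) (hF : Fintype.card F = q ^ 2) :
    ∃ g : Cfsg.PSU (2 * k) F q, orderOf g =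
      (∑ i ∈ Finset.range (2 * k), (-(q : ℤ)) ^ i).natAbs /
        Nat.gcd (2 * k) (-(q : ℤ) - 1).natAbs := by
  classical
  obtain ⟨p, f, hp, hcharp, hqpf⟩ := Herm.exists_prime_pow_root hF
  haveI := Fact.mk hp
  haveI := hcharp
  haveI : NeZero k := ⟨by omega⟩
  have hq2 : 2 ≤ q := two_le_of_card_sq hF
  let L := FiniteField.Extension F p k
  haveI : Finite L := Module.finite_of_finite F
  haveI : Fintype L := Fintype.ofFinite L
  haveI : CharP L p := charP_of_injective_algebraMap (algebraMap F L).injective p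
  haveI : ExpChar L p := ExpChar.prime hp
  set S := (∑ i ∈ Finset.range (2 * k), (-(q : ℤ)) ^ i).natAbs with hSdef
  have hS : S * (q + 1) = q ^ (2 * k) - 1 := natAbs_neg_geom (by omega) _ (even_two_mul k)
  have hL : Nat.card L = q ^ (2 * k) := by
    rw [FiniteField.natCard_extension F p k, Nat.card_eq_fintype_card, hF, ← pow_mul]
  obtain ⟨z, hz⟩ := IsCyclic.exists_ofOrder_eq_natCard (α := Lˣ)
  rw [Nat.card_units, hL, ← hS] at hz
  obtain ⟨x, hxdef⟩ : ∃ x : Lˣ, x = z ^ (q + 1) := ⟨_, rfl⟩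
  have hxo : orderOf x = S := by
    rw [hxdef, orderOf_pow_of_dvd (by omega) (hz ▸ dvd_mul_left _ _), hz,
      Nat.mul_div_cancel _ (by omega)]
  set y : Lˣ := (x ^ q)⁻¹
  have hxy : (x : L) ^ q * (y : L) = 1 := by
    rw [← Units.val_pow_eq_pow_val, ← Units.val_mul, mul_inv_cancel, Units.val_one]
  let φ : L →+* L := iterateFrobenius L p f
  have hφ : ∀ a, φ a = a ^ q := fun a => by rw [hqpf]; exact iterateFrobenius_def p f a
  set σ := Herm.powHom hF
  have hσ : ∀ c, σ c = c ^ q := Herm.powHom_apply hF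
  have hσσ : ∀ c, σ (σ c) = c := (Herm.powHom_isInvol hF).invol
  have hφs : ∀ (c : F) (a : L), φ (c • a) = σ c • φ a := fun c a => by
    rw [Algebra.smul_def, Algebra.smul_def, map_mul, hφ (algebraMap F L c), hσ, map_pow]
  let T := Algebra.trace F L
  let B : (L × L) →ₛₗ[σ] (L × L) →ₗ[F] F := LinearMap.mk₂'ₛₗ σ (RingHom.id F)
    (fun u v => T (φ u.1 * v.2) + σ (T (φ v.1 * u.2)))
    (fun u u' v => by simp only [Prod.fst_add, Prod.snd_add, map_add, add_mul, mul_add]; ring)
    (fun c u v => by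
      simp only [Prod.smul_fst, Prod.smul_snd, hφs, smul_mul_assoc, mul_smul_comm, map_smul,
        smul_eq_mul, map_mul]
      ring)
    (fun u v v' => by simp only [Prod.fst_add, Prod.snd_add, map_add, add_mul, mul_add]; ring)
    (fun c u v => by
      simp only [Prod.smul_fst, Prod.smul_snd, hφs, smul_mul_assoc, mul_smul_comm, map_smul,
        smul_eq_mul, map_mul, hσσ, RingHom.id_apply]
      ring)
  have hB : ∀ u v, B u v = T (φ u.1 * v.2) + σ (T (φ v.1 * u.2)) := fun _ _ => rfl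
  have htr := traceForm_nondegenerate F L
  have hherm : Herm.IsHerm B := by
    refine ⟨Herm.powHom_isInvol hF, fun u v => ?_, fun u hu => ?_⟩
    · rw [hB, hB, map_add, hσσ, add_comm]
    · have h1 : φ u.1 = 0 := htr.1 _ fun w => by
        have := hu (0, w)
        simpa [hB, T, Algebra.traceForm_apply] using this
      have h2 : u.2 = 0 := htr.1 _ fun w => by
        obtain ⟨a, ha⟩ := (Finite.injective_iff_surjective.1 φ.injective) w
        have := hu (a, 0)
        rw [hB] at this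
        simp [ha] at this
        rw [Algebra.traceForm_apply, mul_comm]
        exact this
      exact Prod.ext ((map_eq_zero φ).1 h1) h2
  let g : (L × L) ≃ₗ[F] (L × L) :=
    { toFun := fun u => ((x : L) * u.1, (y : L) * u.2)
      map_add' := fun u u' => by simp [mul_add]
      map_smul' := fun c u => by simp [mul_smul_comm]
      invFun := fun u => (((x⁻¹ : Lˣ) : L) * u.1, ((y⁻¹ : Lˣ) : L) * u.2)
      left_inv := fun u => by simp [← mul_assoc]
      right_inv := fun u => by simp [← mul_assoc] }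
  have hgB : g ∈ Herm.HU B := fun u v => by
    show B (g u) (g v) = B u v
    have key : ∀ a b : L, φ ((x : L) * a) * ((y : L) * b) = φ a * b := fun a b => by
      rw [map_mul, hφ (x : L)]
      linear_combination (φ a * b) * hxy
    simp only [hB, g, LinearEquiv.coe_mk, LinearMap.coe_mk, AddHom.coe_mk, key]
  have hgdet : LinearEquiv.det g = 1 := by
    refine Units.ext ((algebraMap F L).injective ?_)
    rw [LinearEquiv.coe_det,
      show (g : (L × L) →ₗ[F] (L × L)) = (LinearMap.mulLeft F (x : L)).prodMap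
        (LinearMap.mulLeft F (y : L)) from LinearMap.ext fun _ => rfl,
      LinearMap.det_prodMap]
    have hn : ∀ a : L, LinearMap.det (LinearMap.mulLeft F a) = Algebra.norm F a := fun a => by
      rw [Algebra.norm_apply]; rfl
    rw [hn, hn, ← map_mul (Algebra.norm F), Units.val_one, map_one,
      FiniteField.algebraMap_norm_eq_pow, hL, Nat.card_eq_fintype_card, hF, pow_mul]
    set S' := ((q ^ 2) ^ k - 1) / (q ^ 2 - 1) with hS'
    have h1 : (q - 1) * S' = S := by
      have hd : q ^ 2 - 1 ∣ (q ^ 2) ^ k - 1 := by simpa using Nat.sub_dvd_pow_sub_pow (q ^ 2) 1 k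
      apply Nat.eq_of_mul_eq_mul_right (show 0 < q + 1 by omega)
      rw [hS, pow_mul, mul_right_comm, mul_comm (q - 1), ← Nat.sq_sub_sq, one_pow, hS',
        Nat.mul_div_cancel' hd]
    have h2 : ((x : L) * (y : L)) * (x : L) ^ (q - 1) = 1 := by
      rw [← hxy, show q = q - 1 + 1 by omega, pow_succ]
      simp only [Nat.add_sub_cancel]
      ring
    calc ((x : L) * (y : L)) ^ S' = ((x : L) * (y : L)) ^ S' * (x : L) ^ S := by
          rw [← Units.val_pow_eq_pow_val x, ← hxo, pow_orderOf_eq_one, Units.val_one, mul_one]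
      _ = (((x : L) * (y : L)) * (x : L) ^ (q - 1)) ^ S' := by
          rw [← h1, pow_mul, mul_pow ((x : L) * (y : L))]
      _ = 1 := by rw [h2, one_pow]
  have hdim : Module.finrank F (L × L) = Module.finrank F (Fin (2 * k) → F) := by
    rw [Module.finrank_prod, FiniteField.finrank_extension, Module.finrank_fin_fun, two_mul]
  obtain ⟨e, he⟩ := Herm.IsHerm.exists_isometry_of_finrank_eq hherm
    (Herm.hermStd_isHerm (n := 2 * k) hF) hdim
  let hI : Herm.HU (Herm.hermStd (2 * k) hF) :=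
    CfsgLib.Classical.isoCongrEq e he ⟨g, hgB⟩
  have hIapp : ∀ v, (hI : (Fin (2 * k) → F) ≃ₗ[F] _) (e v) = e (g v) := fun v => by
    show (e.symm.trans (g.trans e)) (e v) = _
    simp
  have hIdet : hI ∈ Herm.HSU (Herm.hermStd (2 * k) hF) := by
    rw [MonoidHom.mem_ker]
    show LinearEquiv.det (e.symm.trans (g.trans e)) = 1
    exact (LinearEquiv.det_conj g e).trans hgdet
  set A := (Herm.suEquiv (2 * k) hF).symm ⟨hI, hIdet⟩ with hA
  have hsu : ∀ j : ℕ, ∀ v, (suMat (2 * k) F q (A ^ j)).mulVec (e v) =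
      e (((x : L) ^ j * v.1, (y : L) ^ j * v.2)) := by
    intro j
    induction j with
    | zero => intro v; simp
    | succ j ih =>
      intro v
      rw [pow_succ, map_mul, ← Matrix.mulVec_mulVec]
      have h1 : (suMat (2 * k) F q A).mulVec (e v) = e (g v) := by
        rw [show (suMat (2 * k) F q A).mulVec (e v) =
          (((Herm.suEquiv (2 * k) hF A : Herm.HSU (Herm.hermStd (2 * k) hF)) :
            Herm.HU (Herm.hermStd (2 * k) hF)) : (Fin (2 * k) → F) ≃ₗ[F] _) (e v) from rfl,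
          hA, MulEquiv.apply_symm_apply]
        exact hIapp v
      rw [h1, ih]
      simp [g, pow_succ, mul_assoc]
  refine ⟨QuotientGroup.mk' _ A, orderOf_eq_of_pow_iff fun j => ?_⟩
  rw [psu_mk_pow, psu_mk_eq_one_iff (by omega) hF]
  refine Iff.trans (b := S ∣ j * (q + 1)) ?_ ?_
  · rw [← hxo, orderOf_dvd_iff_pow_eq_one]
    constructor
    · rintro ⟨c, hc⟩
      have key : ∀ v : L × L, c • v = ((x : L) ^ j * v.1, (y : L) ^ j * v.2) := fun v => by
        apply e.injective
        rw [map_smul, ← hsu j v, hc]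
        funext i
        simp [Matrix.mulVec_diagonal]
      have h1 := congrArg Prod.fst (key (1, 0))
      have h2 := congrArg Prod.snd (key (0, 1))
      simp only [Prod.smul_fst, Prod.smul_snd, mul_one] at h1 h2
      have h3 : (x : L) ^ j = (y : L) ^ j := h1.symm.trans h2
      refine Units.ext ?_
      rw [Units.val_pow_eq_pow_val, Units.val_one, pow_mul, pow_succ]
      calc ((x : L) ^ j) ^ q * (x : L) ^ j = ((x : L) ^ j) ^ q * (y : L) ^ j := by rw [← h3]
        _ = ((x : L) ^ q * (y : L)) ^ j := by ring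
        _ = 1 := by rw [hxy, one_pow]
    · intro hj
      have hxj : x ^ j = y ^ j := by
        rw [← mul_inv_eq_one, ← inv_pow, inv_inv, ← mul_pow, ← pow_succ', ← pow_mul, mul_comm, hj]
      obtain ⟨c, hc⟩ := CfsgLib.Known.PSLTori.exists_algebraMap_eq (F := F) ((x : L) ^ j) (by
        rw [hF, ← Units.val_pow_eq_pow_val, ← Units.val_pow_eq_pow_val]
        refine (congrArg Units.val ?_).trans Units.val_one
        rw [← pow_mul, show j * (q ^ 2 - 1) = j * (q + 1) * (q - 1) by
          rw [mul_assoc, ← Nat.sq_sub_sq, one_pow], pow_mul, hj, one_pow])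
      have hcy : algebraMap F L c = (y : L) ^ j := by
        rw [hc, ← Units.val_pow_eq_pow_val, hxj, Units.val_pow_eq_pow_val]
      refine ⟨c, Matrix.ext_iff_mulVec.2 fun w => ?_⟩
      obtain ⟨v, rfl⟩ := e.surjective w
      rw [hsu]
      funext i
      rw [Matrix.scalar_apply, Matrix.mulVec_diagonal]
      have : ((x : L) ^ j * v.1, (y : L) ^ j * v.2) = c • v := by
        refine Prod.ext ?_ ?_
        · rw [Prod.smul_fst, Algebra.smul_def, hc]
        · rw [Prod.smul_snd, Algebra.smul_def, hcy]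
      rw [this, map_smul]
      rfl
  · rw [natAbs_neg_sub_one]
    refine dvd_mul_iff_div_gcd ?_ (Nat.gcd_dvd_right _ _) ?_ ?_
    · rw [hSdef, ← natAbs_neg_sub_one q, ← gcd_sum]
      exact Nat.gcd_dvd_left _ _
    · rw [hSdef, ← natAbs_neg_sub_one q, gcd_sum]
    · intro h0
      rw [h0, zero_mul] at hS
      have : 2 ^ (2 * k) ≤ q ^ (2 * k) := Nat.pow_le_pow_left hq2 _
      have h4 : 2 ≤ 2 ^ (2 * k) := Nat.le_self_pow (by omega) 2
      omega

/-- `PSU(2k, q)`, `q` odd, has an element of order `q ^ k + (-1) ^ k` under a condition on 2-parts. -/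
theorem psu_iff {k q : ℕ} (hk : 2 ≤ k) (hodd : Odd q) (hF : Fintype.card F = q ^ 2) :
    (∃ g : Cfsg.PSU (2 * k) F q, orderOf g = if Even k then q ^ k + 1 else q ^ k - 1) ↔
      padicValNat 2 (q + 1) < padicValNat 2 (2 * k) := by
  classical
  obtain ⟨p, f₀, hp, hcharp, hqpf⟩ := Herm.exists_prime_pow_root hF
  haveI := Fact.mk hp
  haveI := hcharp
  have hq : 2 ≤ q := two_le_of_card_sq hF
  have hqk : q ≤ q ^ k := Nat.le_self_pow (by omega) q
  rw [← natAbs_neg_pow_add_one (by omega) k, ← natAbs_neg_sub_one q,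
    ← dvd_div_gcd_iff (-(q : ℤ)) (k := k) (by omega) (by rw [natAbs_neg_sub_one]; omega) (by
      rw [natAbs_neg_pow_add_one (by omega)]; split_ifs <;> omega)]
  set m := ((-(q : ℤ)) ^ k + 1).natAbs with hmdef
  constructor
  · rintro ⟨g, hg⟩
    obtain ⟨A, rfl⟩ := QuotientGroup.mk'_surjective _ g
    obtain ⟨r, hr, hord⟩ := exists_ppd_neg (k := k) hodd hq hk
    haveI := Fact.mk hr
    haveI : Nonempty (Fin (2 * k)) := ⟨⟨0, by omega⟩⟩
    set M := suMat (2 * k) F q A with hMdef
    obtain ⟨c, hc⟩ := (psu_mk_eq_one_iff (by omega) hF (A ^ m)).1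
      (by rw [map_pow, ← hg, pow_orderOf_eq_one])
    rw [map_pow, ← hMdef] at hc
    have hdetM : M.det = 1 := (A : Matrix.SpecialLinearGroup (Fin (2 * k)) F).det_coe
    have hc0 : c ≠ 0 := by
      rintro rfl
      have h1 := congrArg Matrix.det hc
      rw [Matrix.det_pow, hdetM, one_pow, map_zero, Matrix.det_zero] at h1
      exact one_ne_zero h1
    have hq0 : (q : F) = 0 := cast_base_eq_zero hF
    have hq21 : 1 ≤ q ^ 2 := Nat.one_le_pow _ _ (by omega)
    have hN : ((m * (q ^ 2 - 1) : ℕ) : F) ≠ 0 := by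
      rw [Nat.cast_mul, Nat.cast_sub hq21, Nat.cast_pow, hq0]
      exact mul_ne_zero (natAbs_cast_ne_zero (by rw [Int.cast_neg, Int.cast_natCast, hq0, neg_zero])
        (by omega)) (by simp)
    have hMN : M ^ (m * (q ^ 2 - 1)) = 1 := by
      rw [pow_mul, hc, ← map_pow, ← hF, FiniteField.pow_card_sub_one_eq_one c hc0, map_one]
    set N := m * (q ^ 2 - 1)
    haveI : NeZero N := ⟨fun h => hN (by rw [h, Nat.cast_zero])⟩
    have hpN : Nat.Coprime q N := by
      rw [hqpf]
      exact Nat.Coprime.pow_left _ (hp.coprime_iff_not_dvd.2 fun h =>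
        hN ((CharP.cast_eq_zero_iff F p N).2 h))
    obtain ⟨φ, -, hmap, hφ⟩ := stableUnder_SU p hF ⟨f₀, hqpf⟩ hN hMN hpN
      (-ZMod.unitOfCoprime q hpN) rfl
    have hφ' : ∀ y ∈ ev M, φ y = y ^ (-(q : ℤ)) := by
      intro y hy
      have hyN : y ^ N = 1 := root_pow_ev hN hMN hMN hy
      rw [hφ y hyN, zpow_neg, zpow_natCast]
      refine eq_inv_of_mul_eq_one_left ?_
      rw [← pow_add]
      refine (pow_eq_pow_of_cast_eq hyN (b := 0) ?_).trans (pow_zero y)
      push_cast [ZMod.natCast_zmod_val]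
      simp [ZMod.coe_unitOfCoprime]
    have hrM : r ∣ orderOf M := by
      rw [hMdef, orderOf_injective _ suMat_injective]
      refine Dvd.dvd.trans ?_ (orderOf_map_dvd (QuotientGroup.mk' (Subgroup.center (Cfsg.SU (2 * k) F q))) A)
      rw [hg]
      exact dvd_of_orderOf_eq (by omega) hord
    set d := Nat.gcd (2 * k) (-(q : ℤ) - 1).natAbs
    set t := (∑ i ∈ Finset.range (2 * k), (-(q : ℤ)) ^ i).natAbs / d
    obtain ⟨c', hc'⟩ := exists_scalar_of_orbit hN hMN hdetM φ hmap (-(q : ℤ)) hφ' hr hrM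
      (by rw [Fintype.card_fin]; exact hord) t (by
        rw [Fintype.card_fin, ← Int.natAbs_dvd_natAbs, Int.natAbs_mul, Int.natAbs_natCast]
        calc (∑ i ∈ Finset.range (2 * k), (-(q : ℤ)) ^ i).natAbs = t * d := by
              rw [Nat.div_mul_cancel]
              rw [show d = _ from (gcd_sum (-(q : ℤ)) (2 * k)).symm]
              exact Nat.gcd_dvd_left _ _
          _ ∣ t * (-(q : ℤ) - 1).natAbs := mul_dvd_mul_left _ (Nat.gcd_dvd_right _ _))
    rw [← hg]
    refine orderOf_dvd_of_pow_eq_one ?_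
    rw [psu_mk_pow, psu_mk_eq_one_iff (by omega) hF]
    exact ⟨c', by rw [map_pow]; exact hc'⟩
  · intro hdvd
    obtain ⟨g, hg⟩ := exists_unitary_torus (k := k) hk hF
    exact exists_orderOf_of_dvd g (hg ▸ hdvd)

end CfsgLib.Classical.HalfTorus
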