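import Cfsg.Agent.Lib.LocalEven.UnitaryCenter
import Cfsg.Agent.Lib.Classical.Unitary.Matrix

/-!
# Sylow 2-subgroups of `SU₃(2ⁿ)`: involutory automorphisms fix the centre

* `Heis`: coordinates `(π, τ)` with `τ + σ τ = π σ π`.
* `Heis.fix_center`: an automorphism whose square is inner fixes the centre pointwise.
* `exists_heis`: a Sylow 2-subgroup of `HSU B`, `dim 3`, has such coordinates.
-/

set_option autoImplicit false

namespace CfsgLib.Classical.HeisInv

open CfsgLib.Classical.Herm

variable {F : Type*} [Field F] [CharP F 2] [Finite F] {σ : F →+* F}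

theorem zmod_two_cases : ∀ r : ZMod 2, r = 0 ∨ r = 1 := by decide

theorem zmod_two_one_add_one : (1 : ZMod 2) + 1 = 0 := by decide

/-- Coordinates on a group. -/
structure Heis (σ : F →+* F) (S : Type*) [Group S] where
  pr : S → F
  tc : S → F
  pr_mul : ∀ x y, pr (x * y) = pr x + pr y
  tc_mul : ∀ x y, tc (x * y) = tc x + tc y + pr y * σ (pr x)
  inj : ∀ x y, pr x = pr y → tc x = tc y → x = y
  rel : ∀ x, tc x + σ (tc x) = pr x * σ (pr x)
  surj : ∀ s, ∃ x, pr x = s

namespace Heis

variable {S : Type*} [Group S] (H : Heis σ S) (hσ : IsInvol σ)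

omit [CharP F 2] [Finite F] in
theorem pr_one : H.pr 1 = 0 := by
  have h := H.pr_mul 1 1
  rw [one_mul] at h
  linear_combination -h

omit [CharP F 2] [Finite F] in
theorem tc_one : H.tc 1 = 0 := by
  have h := H.tc_mul 1 1
  rw [one_mul, H.pr_one, zero_mul] at h
  linear_combination -h

omit [CharP F 2] [Finite F] in
theorem pr_inv (x : S) : H.pr x⁻¹ = -H.pr x := by
  have h := H.pr_mul x x⁻¹
  rw [mul_inv_cancel, H.pr_one] at h
  linear_combination -h

/-- The kernel of `pr`. -/
theorem commute_of_pr_eq_zero {x : S} (hx : H.pr x = 0) (y : S) : x * y = y * x :=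
  H.inj _ _ (by rw [H.pr_mul, H.pr_mul, add_comm])
    (by rw [H.tc_mul, H.tc_mul, hx, map_zero, mul_zero, zero_mul, add_comm (H.tc x)])

include hσ in
theorem pr_eq_zero_of_central {x : S} (hx : ∀ y, x * y = y * x) : H.pr x = 0 := by
  by_contra h0
  obtain ⟨κ, hκ⟩ := hσ.exists_ne
  obtain ⟨y, hy⟩ := H.surj (κ * H.pr x)
  have h := congrArg H.tc (hx y)
  rw [H.tc_mul, H.tc_mul, hy, map_mul] at h
  have h1 : (κ - σ κ) * (H.pr x * σ (H.pr x)) = 0 := by linear_combination h
  rcases mul_eq_zero.1 h1 with h2 | h2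
  · exact hκ (sub_eq_zero.1 h2).symm
  · rcases mul_eq_zero.1 h2 with h3 | h3
    · exact h0 h3
    · exact h0 (σ.injective (by rw [h3, map_zero]))

include hσ in
theorem mem_center_iff {x : S} : x ∈ Subgroup.center S ↔ H.pr x = 0 :=
  ⟨fun h => H.pr_eq_zero_of_central hσ fun y => (Subgroup.mem_center_iff.1 h y).symm,
    fun h => Subgroup.mem_center_iff.2 fun y => (H.commute_of_pr_eq_zero h y).symm⟩

include hσ in
/-- The centre realises every fixed scalar. -/
theorem exists_center {z : F} (hz : σ z = z) : ∃ x, H.pr x = 0 ∧ H.tc x = z := by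
  obtain ⟨e, he⟩ := hσ.exists_trace_eq hz
  obtain ⟨a, ha⟩ := H.surj e
  obtain ⟨b, hb⟩ := H.surj 1
  refine ⟨(b * a)⁻¹ * (a * b), ?_, ?_⟩
  · rw [H.pr_mul, H.pr_inv, H.pr_mul, H.pr_mul]; ring
  · have h := H.tc_mul (b * a) ((b * a)⁻¹ * (a * b))
    rw [mul_inv_cancel_left, show H.pr ((b * a)⁻¹ * (a * b)) = 0 by
      rw [H.pr_mul, H.pr_inv, H.pr_mul, H.pr_mul]; ring, zero_mul, add_zero, H.tc_mul, H.tc_mul,
      ha, hb, map_one, mul_one, one_mul] at h
    rw [← he]
    linear_combination -h - CharTwo.add_self_eq_zero e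

/-- Counting: no involution can move the fixed field while respecting norms. -/
theorem counting (hσ : IsInvol σ) (a : F →+ F) (ha : ∀ s, a (a s) = s)
    (φ : F → ℤ) (hφ : ∀ x y, σ x = x → σ y = y → φ (x + y) = φ x * φ y)
    (hφ0 : φ 0 = 1) (hφne : ∃ z, σ z = z ∧ φ z = -1)
    (hfix : ∀ u, a u = u → φ (u * σ u) = 1) : False := by
  classical
  have := Fintype.ofFinite F
  obtain ⟨z₀, hz₀, hz₀φ⟩ := hφne
  have hN : ∀ v : F, σ (v * σ v) = v * σ v := fun v => by rw [map_mul, hσ.invol, mul_comm]
  have hT : ∀ v w : F, σ (v * σ w + w * σ v) = v * σ w + w * σ v := fun v w => by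
    rw [map_add, map_mul, map_mul, hσ.invol, hσ.invol]; ring
  set U := Finset.univ.filter (fun u : F => a u = u) with hU
  set β : F → F → ℤ := fun v u => φ (v * σ u + u * σ v) with hβ
  set W := Finset.univ.filter (fun v : F => ∀ u ∈ U, β v u = 1) with hW
  have hmemU : ∀ u, u ∈ U ↔ a u = u := fun u => by rw [hU, Finset.mem_filter]; simp
  have hmemW : ∀ u, u ∈ W ↔ ∀ v ∈ U, β u v = 1 := fun u => by rw [hW, Finset.mem_filter]; simp
  have hβadd : ∀ v u u', β v (u + u') = β v u * β v u' := fun v u u' => by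
    simp only [hβ]
    rw [← hφ _ _ (hT v u) (hT v u'), map_add]
    congr 1; ring
  have hβsymm : ∀ v u, β v u = β u v := fun v u => by simp only [hβ]; rw [add_comm]
  -- orthogonality on `U`
  have hsumU : ∀ v : F, ∑ u ∈ U, β v u = if v ∈ W then (U.card : ℤ) else 0 := by
    intro v
    split
    · next hv => rw [Finset.sum_congr rfl fun u hu => (hmemW v).1 hv u hu]; simp
    · next hv =>
      rw [hmemW] at hv
      push Not at hv
      obtain ⟨u₀, hu₀, hne⟩ := hv
      have hsh : ∑ u ∈ U, β v u = ∑ u ∈ U, β v (u + u₀) := by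
        refine Finset.sum_nbij' (fun u => u - u₀) (fun u => u + u₀) ?_ ?_ ?_ ?_ ?_
        · intro u hu; rw [hmemU] at hu ⊢; rw [map_sub, hu, (hmemU u₀).1 hu₀]
        · intro u hu; rw [hmemU] at hu ⊢; rw [map_add, hu, (hmemU u₀).1 hu₀]
        · intro u _; simp
        · intro u _; simp
        · intro u _; rw [sub_add_cancel]
      simp only [hβadd, ← Finset.sum_mul] at hsh
      by_contra h0
      exact hne (mul_left_cancel₀ h0 (by rw [mul_one]; exact hsh.symm))
  have hsumF : ∀ u : F, ∑ v : F, β v u = if u = 0 then (Fintype.card F : ℤ) else 0 := by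
    intro u
    split
    · next h => subst h; simp [hβ, hφ0]
    · next h =>
      obtain ⟨e, he⟩ := hσ.exists_trace_eq hz₀
      set v₀ := e / σ u
      have hv₀ : β v₀ u = -1 := by
        simp only [hβ]
        have hσu : σ u ≠ 0 := fun h' => h (σ.injective (by rw [h', map_zero]))
        rw [show v₀ * σ u + u * σ v₀ = z₀ from ?_, hz₀φ]
        rw [← he, div_mul_cancel₀ _ hσu, map_div₀, hσ.invol, mul_div_cancel₀ _ h]
      have hsh : ∑ v : F, β v u = ∑ v : F, β (v + v₀) u :=
        (Equiv.sum_comp (Equiv.addRight v₀) (fun v => β v u)).symm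
      have he2 : ∀ v, β (v + v₀) u = β v u * -1 := fun v => by
        rw [hβsymm, hβadd, hβsymm u v, hβsymm u v₀, hv₀]
      simp only [he2, ← Finset.sum_mul] at hsh
      omega
  -- sizes
  have hsq : Fintype.card F ≤ U.card * U.card := by
    let f : F →+ F := AddMonoidHom.id F + a
    have hfv : ∀ s, f s = s + a s := fun s => rfl
    have hmaps : Finset.univ.image f ⊆ U := fun x hx => by
      obtain ⟨s, -, rfl⟩ := Finset.mem_image.1 hx
      rw [hmemU, hfv, map_add, ha, add_comm]
    have hfib : ∀ x ∈ Finset.univ.image f, (Finset.univ.filter fun s => f s = x).card ≤ U.card := by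
      intro x hx
      obtain ⟨s₀, -, rfl⟩ := Finset.mem_image.1 hx
      refine Finset.card_le_card_of_injOn (fun s => s - s₀) (fun s hs => ?_) ?_
      · rw [Finset.mem_coe, Finset.mem_filter] at hs
        rw [Finset.mem_coe, hmemU]
        have h := hs.2
        rw [hfv, hfv] at h
        show a (s - s₀) = s - s₀
        rw [map_sub]
        linear_combination h + CharTwo.add_self_eq_zero s₀ - CharTwo.add_self_eq_zero s
      · intro s _ s' _ h; simpa using h
    calc Fintype.card F ≤ U.card * (Finset.univ.image f).card := by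
          rw [← Finset.card_univ]; exact Finset.card_le_mul_card_image _ _ hfib
      _ ≤ U.card * U.card := Nat.mul_le_mul_left _ (Finset.card_le_card hmaps)
  have hUpos : 0 < U.card := Finset.card_pos.2 ⟨0, (hmemU 0).2 (map_zero a)⟩
  have hdouble : (U.card : ℤ) * W.card = Fintype.card F := by
    have h1 : ∑ v : F, ∑ u ∈ U, β v u = (U.card : ℤ) * W.card := by
      simp only [hsumU]
      rw [Finset.sum_ite_mem, Finset.univ_inter, Finset.sum_const, nsmul_eq_mul]
      ring
    have h2 : ∑ v : F, ∑ u ∈ U, β v u = (Fintype.card F : ℤ) := by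
      rw [Finset.sum_comm]
      simp only [hsumF]
      rw [Finset.sum_ite_eq', if_pos ((hmemU 0).2 (map_zero a))]
    rw [← h1, h2]
  have hUW : U ⊆ W := fun u hu => (hmemW u).2 fun u' hu' => by
    have h3 := hfix (u + u') (by rw [map_add, (hmemU u).1 hu, (hmemU u').1 hu'])
    rw [map_add, show (u + u') * (σ u + σ u') = (u * σ u + u' * σ u') + (u * σ u' + u' * σ u) by ring,
      hφ _ _ (by rw [map_add, hN, hN]) (hT u u'), hφ _ _ (hN u) (hN u'), hfix u ((hmemU u).1 hu),
      hfix u' ((hmemU u').1 hu'), one_mul, one_mul] at h3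
    exact h3
  have hWU : W = U := by
    refine (Finset.eq_of_subset_of_card_le hUW ?_).symm
    have h4 : U.card * W.card = Fintype.card F := by exact_mod_cast hdouble
    exact Nat.le_of_mul_le_mul_left (h4 ▸ hsq) hUpos
  -- `∑ φ(N v) = |U|`
  set Sm := ∑ v : F, φ (v * σ v) with hSm
  have hA : Sm = U.card := by
    have key : (U.card : ℤ) * Sm = (U.card : ℤ) * U.card := by
      calc (U.card : ℤ) * Sm = ∑ u ∈ U, ∑ v : F, φ ((v + u) * σ (v + u)) := by
            have hu : ∀ u : F, ∑ v : F, φ ((v + u) * σ (v + u)) = Sm := fun u =>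
              Equiv.sum_comp (Equiv.addRight u) (fun v => φ (v * σ v))
            rw [Finset.sum_congr rfl fun u _ => hu u, Finset.sum_const, nsmul_eq_mul]
        _ = ∑ u ∈ U, ∑ v : F, φ (v * σ v) * β v u := by
            refine Finset.sum_congr rfl fun u hu => Finset.sum_congr rfl fun v _ => ?_
            rw [map_add, show (v + u) * (σ v + σ u) = (v * σ v + u * σ u) + (v * σ u + u * σ v) by ring,
              hφ _ _ (by rw [map_add, hN, hN]) (hT v u), hφ _ _ (hN v) (hN u),
              hfix u ((hmemU u).1 hu), mul_one]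
        _ = ∑ v : F, φ (v * σ v) * ∑ u ∈ U, β v u := by
            rw [Finset.sum_comm]
            simp only [Finset.mul_sum]
        _ = _ := by
            simp only [hsumU, mul_ite, mul_zero]
            rw [Finset.sum_ite_mem, Finset.univ_inter, hWU,
              Finset.sum_congr rfl fun v hv => by rw [hfix v ((hmemU v).1 hv), one_mul],
              Finset.sum_const, nsmul_eq_mul]
    exact mul_left_cancel₀ (by exact_mod_cast hUpos.ne') key
  -- `∑ φ(N v) = 1 - K`
  set K := Finset.univ.filter (fun v : F => v * σ v = 1) with hK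
  set Z := Finset.univ.filter (fun z : F => σ z = z ∧ z ≠ 0) with hZ
  have hfibre : ∀ z ∈ Z, (Finset.univ.filter fun v : F => v * σ v = z).card = K.card := by
    intro z hz
    rw [hZ, Finset.mem_filter] at hz
    obtain ⟨w, hw⟩ := hσ.exists_norm_eq hz.2.1
    have hw0 : w ≠ 0 := fun h => hz.2.2 (by rw [← hw, h, zero_mul])
    have hσw : σ w ≠ 0 := fun h' => hw0 (σ.injective (by rw [h', map_zero]))
    refine Finset.card_nbij' (fun v => v / w) (fun v => v * w) ?_ ?_ ?_ ?_
    · intro v hv
      simp only [hK, Finset.coe_filter, Finset.mem_univ, true_and, Set.mem_setOf_eq] at hv ⊢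
      rw [map_div₀, div_mul_div_comm, hv, hw, div_self hz.2.2]
    · intro v hv
      simp only [hK, Finset.coe_filter, Finset.mem_univ, true_and, Set.mem_setOf_eq] at hv ⊢
      rw [map_mul, show v * w * (σ v * σ w) = (v * σ v) * (w * σ w) by ring, hv, hw, one_mul]
    · intro v _; show v / w * w = v; field_simp
    · intro v _; show v * w / w = v; field_simp
  have hfull : ∀ v : F, v ≠ 0 → v * σ v ∈ Z := fun v hv => by
    rw [hZ, Finset.mem_filter]
    refine ⟨Finset.mem_univ _, hN v, mul_ne_zero hv fun h' => hv (σ.injective (by rw [h', map_zero]))⟩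
  have hsumZ : ∑ z ∈ Z, φ z = -1 := by
    have h0 : ∑ z ∈ insert 0 Z, φ z = 0 := by
      have hm : ∀ z, z ∈ insert 0 Z ↔ σ z = z := fun z => by
        rw [Finset.mem_insert, hZ, Finset.mem_filter]
        by_cases h : z = 0
        · simp [h]
        · simp [h]
      have hsh : ∑ z ∈ insert 0 Z, φ z = ∑ z ∈ insert 0 Z, φ (z + z₀) := by
        refine Finset.sum_nbij' (fun z => z - z₀) (fun z => z + z₀) ?_ ?_ ?_ ?_ ?_
        · intro z hz; rw [hm] at hz ⊢; rw [map_sub, hz, hz₀]
        · intro z hz; rw [hm] at hz ⊢; rw [map_add, hz, hz₀]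
        · intro z _; simp
        · intro z _; simp
        · intro z _; rw [sub_add_cancel]
      rw [Finset.sum_congr rfl fun z hz => hφ z z₀ ((hm z).1 hz) hz₀, ← Finset.sum_mul, hz₀φ] at hsh
      omega
    rw [Finset.sum_insert (by rw [hZ, Finset.mem_filter]; simp), hφ0] at h0
    omega
  have hB : Sm = 1 - (K.card : ℤ) := by
    have h1 : ∑ v ∈ Finset.univ.erase (0 : F), φ (v * σ v) = ∑ z ∈ Z, (K.card : ℤ) * φ z := by
      rw [← Finset.sum_fiberwise_of_maps_to (t := Z) (g := fun v : F => v * σ v)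
        (fun v hv => hfull v (Finset.ne_of_mem_erase hv))]
      refine Finset.sum_congr rfl fun z hz => ?_
      rw [Finset.sum_congr rfl (g := fun _ => φ z) fun v hv => by rw [(Finset.mem_filter.1 hv).2],
        Finset.sum_const, nsmul_eq_mul]
      congr 2
      rw [← hfibre z hz]
      refine congrArg Finset.card (Finset.ext fun v => ?_)
      simp only [Finset.mem_filter, Finset.mem_erase, Finset.mem_univ, and_true, true_and]
      refine ⟨fun h => h.2, fun h => ⟨fun h0 => ?_, h⟩⟩
      rw [h0, zero_mul] at h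
      exact ((Finset.mem_filter.1 hz).2).2 h.symm
    rw [hSm, ← Finset.add_sum_erase _ _ (Finset.mem_univ (0 : F)), h1, zero_mul, hφ0, ← Finset.mul_sum,
      hsumZ]
    ring
  have hK2 : 2 ≤ K.card := by
    obtain ⟨κ, hκ⟩ := hσ.exists_ne
    have hκ0 : κ ≠ 0 := fun h => hκ (by rw [h, map_zero])
    have hσκ : σ κ ≠ 0 := fun h' => hκ0 (σ.injective (by rw [h', map_zero]))
    have hsub : ({1, κ / σ κ} : Finset F) ⊆ K := fun x hx => by
      rw [Finset.mem_insert, Finset.mem_singleton] at hx
      rw [hK, Finset.mem_filter]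
      refine ⟨Finset.mem_univ _, ?_⟩
      rcases hx with rfl | rfl
      · simp
      · rw [map_div₀, hσ.invol]; field_simp
    refine le_trans ?_ (Finset.card_le_card hsub)
    rw [Finset.card_pair]
    intro h
    rw [eq_div_iff hσκ, one_mul] at h
    exact hκ h
  omega

include H hσ in
/-- An automorphism whose square is inner fixes the centre pointwise. -/
theorem fix_center (α : S ≃* S) {c : S} (hα : ∀ x, α (α x) = c * x * c⁻¹) {z : S}
    (hz : z ∈ Subgroup.center S) : α z = z := by
  classical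
  by_contra hne
  rw [H.mem_center_iff hσ] at hz
  have hαc : ∀ {y : S}, H.pr y = 0 → H.pr (α y) = 0 := fun {y} hy => by
    refine H.pr_eq_zero_of_central hσ fun w => ?_
    obtain ⟨w, rfl⟩ := α.surjective w
    rw [← map_mul, ← map_mul, H.commute_of_pr_eq_zero hy w]
  choose sec hsec using H.surj
  have hwd : ∀ g : S, H.pr (α g) = H.pr (α (sec (H.pr g))) := fun g => by
    have h0 : H.pr ((sec (H.pr g))⁻¹ * g) = 0 := by rw [H.pr_mul, H.pr_inv, hsec]; ring
    have h1 := hαc h0
    rw [map_mul, map_inv, H.pr_mul, H.pr_inv] at h1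
    linear_combination h1
  let a : F →+ F :=
    { toFun := fun s => H.pr (α (sec s))
      map_zero' := by
        have h := hwd 1
        rw [map_one, H.pr_one] at h
        exact h.symm
      map_add' := fun s s' => by
        have h := hwd (sec s * sec s')
        rw [H.pr_mul, hsec, hsec, map_mul, H.pr_mul] at h
        exact h.symm }
  have haa : ∀ g, H.pr (α g) = a (H.pr g) := hwd
  have ha : ∀ s, a (a s) = s := fun s => by
    have h := haa (α (sec s))
    rw [haa (sec s), hsec, hα, H.pr_mul, H.pr_mul, H.pr_inv, hsec] at h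
    linear_combination -h
  choose iz hiz1 hiz2 using fun (w : F) (hw : σ w = w) => H.exists_center hσ hw
  let K₀ : AddSubgroup F :=
    { carrier := {w | σ w = w}
      add_mem' := fun {x y} (hx : σ x = x) (hy : σ y = y) => show σ (x + y) = x + y by rw [map_add, hx, hy]
      zero_mem' := map_zero σ
      neg_mem' := fun {x} (hx : σ x = x) => show σ (-x) = -x by rw [map_neg, hx] }
  let b : K₀ → F := fun w => H.tc (α (iz w w.2))
  have hb : ∀ y : S, H.pr y = 0 → ∀ w : K₀, H.tc y = w → H.tc (α y) = b w := fun y hy w hw => by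
    rw [H.inj y (iz w w.2) (by rw [hy, hiz1]) (by rw [hw, hiz2])]
  have hbadd : ∀ w w' : K₀, b (w + w') = b w + b w' := fun w w' => by
    rw [← hb (iz w w.2 * iz w' w'.2) (by rw [H.pr_mul, hiz1, hiz1, add_zero]) (w + w')
      (by rw [H.tc_mul, hiz2, hiz2, hiz1, zero_mul, add_zero]; rfl), map_mul, H.tc_mul,
      hαc (hiz1 _ w'.2), zero_mul, add_zero]
  have hbN : ∀ s : F, ∀ w : K₀, (w : F) = s * σ s → b w = a s * σ (a s) := fun s w hw => by
    have hsq : ∀ g : S, H.pr (g * g) = 0 ∧ H.tc (g * g) = H.pr g * σ (H.pr g) := fun g =>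
      ⟨by rw [H.pr_mul, CharTwo.add_self_eq_zero],
        by rw [H.tc_mul, CharTwo.add_self_eq_zero, zero_add]⟩
    rw [← hb _ (hsq (sec s)).1 w (by rw [(hsq (sec s)).2, hsec, hw]), map_mul, (hsq _).2, haa, hsec]
  -- a functional killing the fixed subgroup of `b`
  have : Fact (Nat.Prime 2) := ⟨Nat.prime_two⟩
  let _ : Module (ZMod 2) K₀ := AddCommGroup.zmodModule fun w => Subtype.ext (by
    rw [two_nsmul]; exact CharTwo.add_self_eq_zero (w : F))
  let Fx : Submodule (ZMod 2) K₀ :=
    AddSubgroup.toZModSubmodule 2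
      { carrier := {w | b w = w}
        add_mem' := fun {x y} (hx : b x = x) (hy : b y = y) => show b (x + y) = ((x + y : K₀) : F) by
          rw [hbadd, hx, hy]; rfl
        zero_mem' := by
          show b 0 = ((0 : K₀) : F)
          have h := hbadd 0 0
          rw [add_zero] at h
          show b 0 = 0
          linear_combination -h
        neg_mem' := fun {x} (hx : b x = x) => show b (-x) = ((-x : K₀) : F) by
          rw [show -x = x from Subtype.ext (CharTwo.neg_eq (x : F)), hx] }
  have hzK : σ (H.tc z) = H.tc z := by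
    have h := H.rel z
    rw [hz, zero_mul] at h
    linear_combination h - CharTwo.add_self_eq_zero (H.tc z)
  have hnot : (⟨H.tc z, hzK⟩ : K₀) ∉ Fx := fun h => hne (H.inj _ _ (by rw [hαc hz, hz])
    ((hb z hz ⟨H.tc z, hzK⟩ rfl).trans h))
  obtain ⟨f, hf1, hf2⟩ := Submodule.exists_dual_map_eq_bot_of_notMem hnot inferInstance
  have hfFx : ∀ w : K₀, w ∈ Fx → f w = 0 := fun w hw => by
    have h : f w ∈ Fx.map f := Submodule.mem_map_of_mem hw
    rwa [hf2, Submodule.mem_bot] at h
  let φ : F → ℤ := fun w => if hw : σ w = w then (if f ⟨w, hw⟩ = 0 then 1 else -1) else 0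
  refine counting hσ a ha φ (fun x y hx hy => ?_) ?_ ⟨H.tc z, hzK, ?_⟩ (fun u hu => ?_)
  · have hxy : σ (x + y) = x + y := by rw [map_add, hx, hy]
    simp only [φ, dif_pos hx, dif_pos hy, dif_pos hxy]
    have e : (⟨x + y, hxy⟩ : K₀) = ⟨x, hx⟩ + ⟨y, hy⟩ := rfl
    rw [e, map_add]
    rcases zmod_two_cases (f ⟨x, hx⟩) with h | h <;> rcases zmod_two_cases (f ⟨y, hy⟩) with h' | h' <;>
      simp [h, h', zmod_two_one_add_one]
  · simp only [φ, dif_pos (map_zero σ), if_pos (show f ⟨0, map_zero σ⟩ = 0 from map_zero f)]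
  · simp only [φ, dif_pos hzK, if_neg hf1]
  · have hN : σ (u * σ u) = u * σ u := by rw [map_mul, hσ.invol, mul_comm]
    simp only [φ, dif_pos hN]
    rw [if_pos (hfFx _ ?_)]
    show b ⟨u * σ u, hN⟩ = u * σ u
    rw [hbN u ⟨_, hN⟩ rfl, hu]

end Heis

variable {V : Type*} [AddCommGroup V] [Module F V] [FiniteDimensional F V]
  {B : V →ₛₗ[σ] V →ₗ[F] F}

open CfsgLib.LocalEven.UCenter in
/-- A Sylow 2-subgroup of the special unitary group in dimension three has coordinates. -/
theorem exists_heis (h : IsHerm B) (h3 : Module.finrank F V = 3) (P : Sylow 2 (HSU B)) :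
    Nonempty (Heis σ (P : Subgroup (HSU B))) := by
  classical
  haveI : Finite V := Module.finite_of_finite F
  have : Fact (Nat.Prime 2) := ⟨Nat.prime_two⟩
  obtain ⟨u, hu, huu, hug⟩ := exists_fixed_isotropic h h3 (p := 2) P P.isPGroup'
  obtain ⟨f, huf, hff⟩ := h.exists_isotropic_partner hu huu
  have hfu : B f u = 1 := by rw [← h.symm, huf, map_one]
  have hd := h.hyperbolic_disc (f := f) huu huf
  have hr := h.finrank_orth (h.pair_nondeg hd)
  rw [h.pair_finrank hd, h3] at hr
  obtain ⟨w, hw, hww⟩ := h.exists_norm_in (h.orth_nondeg (h.pair_nondeg hd)) (by omega) (map_one σ)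
  rw [h.mem_orth] at hw
  have huw : B u w = 0 := hw u (Submodule.subset_span (Set.mem_insert u _))
  have hfw : B f w = 0 := hw f (Submodule.subset_span (Set.mem_insert_of_mem u rfl))
  have hwu := h.eq_zero_symm huw
  have hwf := h.eq_zero_symm hfw
  have hli := pairing_basis h huu hff huf huw hfw (hww ▸ one_ne_zero)
  let b : Module.Basis (Fin 3) F V :=
    basisOfLinearIndependentOfCardEqFinrank hli (by simp [h3])
  have hb : ∀ i, b i = ![u, f, w] i := fun i => by simp [b]
  have hrep : ∀ y : V, y = b.repr y 0 • u + b.repr y 1 • f + b.repr y 2 • w := fun y => by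
    conv_lhs => rw [← b.sum_repr y]
    simp [Fin.sum_univ_three, hb]
  have hshape : ∀ g : HSU B, ((g : HU B) : V ≃ₗ[F] V) u = u → ∃ t s : F,
      ((g : HU B) : V ≃ₗ[F] V) f = t • u + f + s • w ∧
      ((g : HU B) : V ≃ₗ[F] V) w = σ s • u + w ∧ t + σ t = s * σ s := by
    intro g hgu
    obtain ⟨L, hL⟩ : ∃ L : V ≃ₗ[F] V, L = ((g : HU B) : V ≃ₗ[F] V) := ⟨_, rfl⟩
    have hpres : ∀ y z, B (L y) (L z) = B y z := fun y z => hL ▸ HU.map_eq (g : HU B) y z
    rw [← hL] at hgu ⊢
    have h1 : b.repr (L f) 1 = 1 := by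
      have h2 : B u (L f) = 1 := by
        rw [← hgu, hpres]; exact huf
      conv_lhs at h2 => rw [hrep (L f)]
      simpa only [map_add, smul_right, huu, huf, huw, mul_zero, mul_one, zero_add, add_zero] using h2
    have h0 : b.repr (L w) 1 = 0 := by
      have h2 : B u (L w) = 0 := by
        rw [← hgu, hpres]; exact huw
      conv_lhs at h2 => rw [hrep (L w)]
      simpa only [map_add, smul_right, huu, huf, huw, mul_zero, mul_one, zero_add, add_zero] using h2
    have hdet : (LinearMap.toMatrix b b (L : V →ₗ[F] V)).det = 1 := by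
      rw [LinearMap.det_toMatrix, ← LinearEquiv.coe_det, hL]
      exact congrArg Units.val g.2
    have hru : b.repr u = Finsupp.single (0 : Fin 3) 1 := by
      rw [show u = b 0 from (hb 0).symm, Module.Basis.repr_self]
    rw [Matrix.det_fin_three] at hdet
    simp only [LinearMap.toMatrix_apply, LinearEquiv.coe_coe, hb, Matrix.cons_val_zero,
      Matrix.cons_val_one, Matrix.cons_val, hgu, hru, h0, h1] at hdet
    simp at hdet
    have e1 : L f = b.repr (L f) 0 • u + f + b.repr (L f) 2 • w := by
      conv_lhs => rw [hrep (L f), h1, one_smul]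
    have e2 : L w = b.repr (L w) 0 • u + w := by
      conv_lhs => rw [hrep (L w), h0, zero_smul, add_zero, hdet, one_smul]
    have hrs : b.repr (L w) 0 = σ (b.repr (L f) 2) := by
      have h4 := hpres w f
      rw [e1, e2, hwf] at h4
      simp only [map_add, LinearMap.add_apply, smul_left, smul_right, huu, huf, huw, hwu, hwf, hww,
        mul_zero, mul_one, add_zero, zero_add] at h4
      have h5 : σ (b.repr (L w) 0) = -(b.repr (L f) 2) := by linear_combination h4
      rw [← h.invol.invol (b.repr (L w) 0), h5, map_neg, CharTwo.neg_eq]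
    refine ⟨_, _, e1, hrs ▸ e2, ?_⟩
    have h4 := hpres f f
    rw [e1, hff] at h4
    simp only [map_add, LinearMap.add_apply, smul_left, smul_right, huu, huf, hfu, huw, hwu, hfw, hwf,
      hff, hww, mul_zero, mul_one, add_zero, zero_add] at h4
    linear_combination h4 -
      CharTwo.add_self_eq_zero (b.repr (L f) 2 * σ (b.repr (L f) 2))
  have hrep0 : ∀ t s : F, B f (t • u + f + s • w) = t ∧ B w (t • u + f + s • w) = s := fun t s => by
    constructor <;> simp [map_add, smul_right, hfu, hff, hfw, hwu, hwf, hww]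
  choose T S hT hS hTS using fun g : (P : Subgroup (HSU B)) => hshape g.1 (hug g.1 g.2)
  have hPu : ∀ g : (P : Subgroup (HSU B)), (((g : HSU B) : HU B) : V ≃ₗ[F] V) u = u := fun g => hug g.1 g.2
  have hprod : ∀ x y : (P : Subgroup (HSU B)), T (x * y) = T x + T y + S y * σ (S x) ∧
      S (x * y) = S x + S y := by
    intro x y
    have h1 := hT (x * y)
    have h2 : ((((x * y : (P : Subgroup (HSU B))) : HSU B) : HU B) : V ≃ₗ[F] V) f =
        (T x + T y + S y * σ (S x)) • u + f + (S x + S y) • w := by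
      show (((x : HSU B) : HU B) : V ≃ₗ[F] V) ((((y : HSU B) : HU B) : V ≃ₗ[F] V) f) = _
      rw [hT y, map_add, map_add, map_smul, map_smul, hPu, hT x, hS x]
      module
    rw [h1] at h2
    refine ⟨?_, ?_⟩
    · have := congrArg (B f) h2
      rwa [(hrep0 _ _).1, (hrep0 _ _).1] at this
    · have := congrArg (B w) h2
      rwa [(hrep0 _ _).2, (hrep0 _ _).2] at this
  refine ⟨⟨S, T, fun x y => (hprod x y).2, fun x y => (hprod x y).1, ?_, hTS, ?_⟩⟩
  · intro x y hs ht
    refine Subtype.ext (Subtype.ext (Subtype.ext (LinearEquiv.toLinearMap_injective (b.ext fun i => ?_))))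
    rw [hb]
    fin_cases i
    · exact (hPu x).trans (hPu y).symm
    · show (((x : HSU B) : HU B) : V ≃ₗ[F] V) f = (((y : HSU B) : HU B) : V ≃ₗ[F] V) f
      rw [hT, hT, hs, ht]
    · show (((x : HSU B) : HU B) : V ≃ₗ[F] V) w = (((y : HSU B) : HU B) : V ≃ₗ[F] V) w
      rw [hS, hS, hs]
  · intro s
    have hux : B u (s • w) = 0 := by rw [smul_right, huw, mul_zero]
    obtain ⟨a, ha⟩ := h.invol.exists_trace_eq (μ := -B (s • w) (s • w))
      (by rw [map_neg, h.self_fixed])
    -- the stabiliser of `u` is the Sylow subgroup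
    let U : Subgroup (HSU B) :=
      { carrier := {g | ((g : HU B) : V ≃ₗ[F] V) u = u}
        one_mem' := rfl
        mul_mem' := fun {g k} hg hk => by
          show ((g : HU B) : V ≃ₗ[F] V) (((k : HU B) : V ≃ₗ[F] V) u) = u
          rw [hk, hg]
        inv_mem' := fun {g} hg => by
          show ((g : HU B) : V ≃ₗ[F] V).symm u = u
          rw [LinearEquiv.symm_apply_eq]; exact hg.symm }
    have hU : IsPGroup 2 U := by
      intro g
      refine ⟨2, Subtype.ext (Subtype.ext (Subtype.ext (LinearEquiv.toLinearMap_injective (b.ext fun i => ?_))))⟩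
      obtain ⟨t, r, e1, e2, e3⟩ := hshape g.1 g.2
      set L := (((g : HSU B) : HU B) : V ≃ₗ[F] V) with hL
      have hu1 : L u = u := g.2
      have hf2 : L (L f) = (t + t + r * σ r) • u + f + (r + r) • w := by
        rw [e1, map_add, map_add, map_smul, map_smul, hu1, e1, e2]
        module
      rw [hb]
      show (L * L * L * L) _ = _
      simp only [LinearEquiv.mul_apply]
      rw [CharTwo.add_self_eq_zero, CharTwo.add_self_eq_zero, zero_add, zero_smul, add_zero] at hf2
      have hw2 : L (L w) = w := by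
        rw [e2, map_add, map_smul, hu1, e2, ← add_assoc, ← add_smul, CharTwo.add_self_eq_zero,
          zero_smul, zero_add]
      fin_cases i
      · show L (L (L (L u))) = u
        rw [hu1, hu1, hu1, hu1]
      · show L (L (L (L f))) = f
        rw [hf2, map_add, map_add, map_smul, map_smul, hu1, hu1, hf2, ← add_assoc, ← add_smul,
          CharTwo.add_self_eq_zero, zero_smul, zero_add]
      · show L (L (L (L w))) = w
        rw [hw2, hw2]
    have hPU : (P : Subgroup (HSU B)) = U := (P.is_maximal' hU fun g hg => hug g hg).symm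
    have hmem : (⟨h.eich huu hux ha, h.eich_mem huu hux ha⟩ : HSU B) ∈ (P : Subgroup (HSU B)) := by
      rw [hPU]
      show (h.eich huu hux ha : V ≃ₗ[F] V) u = u
      rw [h.eich_apply, huu, smul_left, hwu]
      simp
    refine ⟨⟨_, hmem⟩, ?_⟩
    have h1 := congrArg (B w) (hT ⟨_, hmem⟩)
    rw [(hrep0 _ _).2] at h1
    rw [← h1]
    show B w ((h.eich huu hux ha : V ≃ₗ[F] V) f) = s
    rw [h.eich_apply, huf, smul_left, hwf]
    simp [map_add, smul_right, hwf, hww, hwu]

end CfsgLib.Classical.HeisInv
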