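import Cfsg.Agent.Lib.Classical.Quad.StandardForms
import Cfsg.Agent.Lib.Classical.Symplectic.Matrix
import Mathlib.FieldTheory.Perfect

/-!
In characteristic two the odd orthogonal group is the symplectic group.
-/

set_option autoImplicit false

namespace CfsgLib.Classical.OddTwo

open QuadraticMap (polar polarBilin)
open Quad (qPlus qOdd OQ)

variable {F : Type*} [Field F] {m : ℕ}

local notation "𝕍" => (Unit ⊕ (Fin m ⊕ Fin m) → F)
local notation "𝕎" => (Fin m ⊕ Fin m → F)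

theorem qOdd_elim (c : F) (w : 𝕎) : qOdd m F (Sum.elim (fun _ => c) w) = c ^ 2 + qPlus m F w := by
  rw [Quad.coe_qOdd, Quad.coe_qPlus]
  simp [Cfsg.quadFormOdd, Cfsg.quadFormPlus]

theorem elim_eta (v : 𝕍) : Sum.elim (fun _ => v (Sum.inl ())) (v ∘ Sum.inr) = v :=
  funext fun x => by rcases x with ⟨⟩ | x <;> rfl

variable [CharP F 2]

theorem polar_qPlus_eq (u v : 𝕎) : polar (qPlus m F) u v = Symp.sympBil m F u v := by
  rw [Quad.polar_qPlus, Symp.sympBil_apply, Symp.sympForm_expand]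
  refine Finset.sum_congr rfl fun i _ => ?_
  rw [CharTwo.sub_eq_add]
  ring

theorem polar_qOdd_eq (u v : 𝕍) :
    polar (qOdd m F) u v = Symp.sympBil m F (u ∘ Sum.inr) (v ∘ Sum.inr) := by
  rw [Quad.polar_qOdd, CharTwo.two_eq_zero, polar_qPlus_eq]
  ring

theorem fix_radical (g : OQ (qOdd m F)) :
    (g : 𝕍 ≃ₗ[F] 𝕍) (Sum.elim (fun _ => 1) 0) = Sum.elim (fun _ => 1) 0 := by
  set e₀ : 𝕍 := Sum.elim (fun _ => 1) 0
  have h0 : ((g : 𝕍 ≃ₗ[F] 𝕍) e₀) ∘ Sum.inr = 0 := (Quad.qPlus_nondeg m).1 _ fun w => by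
    show polar (qPlus m F) _ w = 0
    obtain ⟨z, hz⟩ := (g : 𝕍 ≃ₗ[F] 𝕍).surjective (Sum.elim (fun _ => 0) w)
    have h := Quad.OQ.map_polar g e₀ z
    rw [hz, polar_qOdd_eq, polar_qOdd_eq] at h
    rw [polar_qPlus_eq]
    simpa [e₀, Sum.elim_comp_inr] using h
  have h1 : qOdd m F ((g : 𝕍 ≃ₗ[F] 𝕍) e₀) = qOdd m F e₀ := Quad.OQ.map_apply g e₀
  rw [← elim_eta ((g : 𝕍 ≃ₗ[F] 𝕍) e₀), h0, qOdd_elim, qOdd_elim, QuadraticMap.map_zero, add_zero,
    add_zero] at h1
  rw [← elim_eta ((g : 𝕍 ≃ₗ[F] 𝕍) e₀), h0, frobenius_inj F 2 h1]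

/-- The induced map on the quotient by the radical. -/
def barMap (g : OQ (qOdd m F)) : 𝕎 →ₗ[F] 𝕎 where
  toFun w := ((g : 𝕍 ≃ₗ[F] 𝕍) (Sum.elim (fun _ => 0) w)) ∘ Sum.inr
  map_add' u v := by
    have : (Sum.elim (fun _ => (0 : F)) (u + v) : 𝕍) =
        Sum.elim (fun _ => 0) u + Sum.elim (fun _ => 0) v :=
      funext fun x => by rcases x with x | x <;> simp
    rw [this, map_add]
    rfl
  map_smul' c u := by
    have : (Sum.elim (fun _ => (0 : F)) (c • u) : 𝕍) = c • Sum.elim (fun _ => 0) u :=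
      funext fun x => by rcases x with x | x <;> simp
    rw [this, map_smul]
    rfl

theorem barMap_comp (g : OQ (qOdd m F)) (v : 𝕍) :
    ((g : 𝕍 ≃ₗ[F] 𝕍) v) ∘ Sum.inr = barMap g (v ∘ Sum.inr) := by
  have : v = v (Sum.inl ()) • (Sum.elim (fun _ => 1) 0 : 𝕍) + Sum.elim (fun _ => 0) (v ∘ Sum.inr) :=
    funext fun x => by rcases x with ⟨⟩ | x <;> simp
  conv_lhs => rw [this, map_add, map_smul, fix_radical]
  funext i
  simp [barMap]

theorem barMap_mul (g h : OQ (qOdd m F)) (w : 𝕎) : barMap (g * h) w = barMap g (barMap h w) :=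
  barMap_comp g _

theorem barMap_one (w : 𝕎) : barMap (1 : OQ (qOdd m F)) w = w := rfl

/-- The homomorphism to the symplectic group. -/
def barHom : OQ (qOdd m F) →* Symp.Sp (Symp.sympBil m F) where
  toFun g := ⟨LinearEquiv.ofLinear (barMap g) (barMap g⁻¹)
    (LinearMap.ext fun w => by
      show barMap g (barMap g⁻¹ w) = w
      rw [← barMap_mul, mul_inv_cancel, barMap_one])
    (LinearMap.ext fun w => by
      show barMap g⁻¹ (barMap g w) = w
      rw [← barMap_mul, inv_mul_cancel, barMap_one]), fun u v => by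
    show Symp.sympBil m F (barMap g u) (barMap g v) = Symp.sympBil m F u v
    have h := Quad.OQ.map_polar g (Sum.elim (fun _ => 0) u) (Sum.elim (fun _ => 0) v)
    rw [polar_qOdd_eq, polar_qOdd_eq] at h
    exact h⟩
  map_one' := Subtype.ext (LinearEquiv.ext fun w => barMap_one w)
  map_mul' g h := Subtype.ext (LinearEquiv.ext fun w => barMap_mul g h w)

theorem barHom_injective : Function.Injective (barHom (F := F) (m := m)) := by
  rw [injective_iff_map_eq_one]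
  intro g hg
  refine Subtype.ext (LinearEquiv.ext fun v => ?_)
  show (g : 𝕍 ≃ₗ[F] 𝕍) v = v
  have h1 : ((g : 𝕍 ≃ₗ[F] 𝕍) v) ∘ Sum.inr = v ∘ Sum.inr :=
    (barMap_comp g v).trans (LinearEquiv.congr_fun (congrArg Subtype.val hg) _)
  have h2 := Quad.OQ.map_apply g v
  rw [← elim_eta ((g : 𝕍 ≃ₗ[F] 𝕍) v), h1] at h2
  conv_rhs at h2 => rw [← elim_eta v]
  rw [qOdd_elim, qOdd_elim, add_left_inj] at h2
  rw [← elim_eta ((g : 𝕍 ≃ₗ[F] 𝕍) v), h1, frobenius_inj F 2 h2, elim_eta]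

theorem barHom_surjective [Finite F] : Function.Surjective (barHom (F := F) (m := m)) := by
  intro h
  let r : F ≃+* F := (frobeniusEquiv F 2).symm
  have hr : ∀ x : F, r x ^ 2 = x := fun x => (frobeniusEquiv F 2).apply_symm_apply x
  have hr' : ∀ x : F, r (x ^ 2) = x := fun x => (frobeniusEquiv F 2).symm_apply_apply x
  let lam : 𝕎 →ₗ[F] F :=
    { toFun := fun w => r (qPlus m F w + qPlus m F ((h : 𝕎 ≃ₗ[F] 𝕎) w))
      map_add' := fun u v => by
        rw [← map_add r, map_add (h : 𝕎 ≃ₗ[F] 𝕎), Quad.apply_add, Quad.apply_add, polar_qPlus_eq,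
          polar_qPlus_eq, show Symp.sympBil m F ((h : 𝕎 ≃ₗ[F] 𝕎) u) ((h : 𝕎 ≃ₗ[F] 𝕎) v) =
            Symp.sympBil m F u v from h.2 u v]
        congr 1
        linear_combination (Symp.sympBil m F u v) * (CharTwo.two_eq_zero : (2 : F) = 0)
      map_smul' := fun c u => by
        rw [map_smul (h : 𝕎 ≃ₗ[F] 𝕎), Quad.apply_smul, Quad.apply_smul, ← mul_add, map_mul, ← sq, hr']
        rfl }
  let g : 𝕍 →ₗ[F] 𝕍 :=
    { toFun := fun v => Sum.elim (fun _ => v (Sum.inl ()) + lam (v ∘ Sum.inr))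
        ((h : 𝕎 ≃ₗ[F] 𝕎) (v ∘ Sum.inr))
      map_add' := fun u v => funext fun x => by
        rcases x with x | x
        · simp only [Sum.elim_inl, Pi.add_apply, Pi.add_comp, map_add]
          ring
        · simp [Pi.add_comp]
      map_smul' := fun c u => funext fun x => by
        rcases x with x | x <;> simp [Pi.smul_comp, mul_add] }
  have hg : ∀ v, g v = Sum.elim (fun _ => v (Sum.inl ()) + lam (v ∘ Sum.inr))
      ((h : 𝕎 ≃ₗ[F] 𝕎) (v ∘ Sum.inr)) := fun v => rfl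
  have hgQ : ∀ v, qOdd m F (g v) = qOdd m F v := fun v => by
    conv_rhs => rw [← elim_eta v]
    rw [hg, qOdd_elim, qOdd_elim, CharTwo.add_sq,
      show lam (v ∘ Sum.inr) ^ 2 = _ from hr _]
    linear_combination (qPlus m F ((h : 𝕎 ≃ₗ[F] 𝕎) (v ∘ Sum.inr))) *
      (CharTwo.two_eq_zero : (2 : F) = 0)
  have hginj : Function.Injective g := by
    rw [injective_iff_map_eq_zero]
    intro v hv
    rw [hg] at hv
    have h1 : v ∘ Sum.inr = 0 := (h : 𝕎 ≃ₗ[F] 𝕎).injective (by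
      rw [map_zero]; exact funext fun i => congrFun hv (Sum.inr i))
    have h2 := congrFun hv (Sum.inl ())
    rw [Sum.elim_inl, h1, map_zero, add_zero, Pi.zero_apply] at h2
    rw [← elim_eta v, h1, h2]
    exact funext fun x => by rcases x with x | x <;> rfl
  refine ⟨⟨LinearEquiv.ofInjectiveEndo g hginj, fun v _ => hgQ v⟩, ?_⟩
  refine Subtype.ext (LinearEquiv.ext fun w => ?_)
  show (g (Sum.elim (fun _ => 0) w)) ∘ Sum.inr = (h : 𝕎 ≃ₗ[F] 𝕎) w
  rw [hg]
  rfl

theorem isometryGroup_odd_equiv_symplectic [Finite F] :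
    Nonempty (Cfsg.isometryGroup F (Cfsg.quadFormOdd m F) ≃* Matrix.symplecticGroup (Fin m) F) := by
  rw [← Quad.coe_qOdd]
  exact ⟨(Quad.oEquiv _).trans ((MulEquiv.ofBijective barHom ⟨barHom_injective, barHom_surjective⟩).trans
    (Symp.symplecticEquiv m F).symm)⟩

end CfsgLib.Classical.OddTwo
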