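import Cfsg.Agent.Lib.Classical.SL2TracePSL
import Cfsg.Agent.Lib.Classical.Dickson.KleinFour
import Mathlib

/-!
# The odd-product graph of involutions of `PSL(2, q)`

* `exists_common`: two trace-zero elements have a trace-zero element with both products of odd
  projective order.
-/

set_option autoImplicit false
set_option linter.all false

namespace CfsgLib.Classical.OddProductPSL

open Matrix Polynomial
open CfsgLib.Classical.Trace
open scoped MatrixGroups

variable {F : Type*} [Field F]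

local notation "PSL₂" => Matrix.ProjectiveSpecialLinearGroup (Fin 2) F

theorem trc_eq_trace (x : SL(2, F)) : trc x = (x : Matrix (Fin 2) (Fin 2) F).trace :=
  (Matrix.trace_fin_two _).symm

/-- An eigenvector gives the trace. -/
theorem trc_of_eigen (w : SL(2, F)) {μ : F} {v : Fin 2 → F} (hv : v ≠ 0)
    (h : (w : Matrix (Fin 2) (Fin 2) F).mulVec v = μ • v) : μ ≠ 0 ∧ trc w = μ + μ⁻¹ := by
  have h0 : ((w : Matrix (Fin 2) (Fin 2) F) - μ • 1).mulVec v = 0 := by
    rw [Matrix.sub_mulVec, h, Matrix.smul_mulVec, Matrix.one_mulVec, sub_self]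
  have hd : ((w : Matrix (Fin 2) (Fin 2) F) - μ • 1).det = 0 :=
    Matrix.exists_mulVec_eq_zero_iff.1 ⟨v, hv, h0⟩
  rw [Matrix.det_fin_two] at hd
  simp at hd
  have hdw := det_eq w
  have hq : μ ^ 2 - trc w * μ + 1 = 0 := by
    simp only [trc]
    linear_combination hd - hdw
  have hμ : μ ≠ 0 := by
    rintro rfl
    simp at hq
  refine ⟨hμ, ?_⟩
  field_simp
  linear_combination -hq

theorem val_mul (x y : SL(2, F)) : ((x * y : SL(2, F)) : Matrix (Fin 2) (Fin 2) F) =
    (x : Matrix (Fin 2) (Fin 2) F) * (y : Matrix (Fin 2) (Fin 2) F) := rfl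

theorem involution_iff {x : SL(2, F)} :
    orderOf (QuotientGroup.mk x : PSL₂) = 2 ↔ trc x = 0 ∧ ¬ IsScalar x := by
  constructor
  · intro h
    have hns : ¬ IsScalar x := fun hs => by
      rw [mk_eq_one_iff.2 hs, orderOf_one] at h
      omega
    refine ⟨?_, hns⟩
    have h2 := pow_orderOf_eq_one (QuotientGroup.mk x : PSL₂)
    rw [h, pow_two, ← QuotientGroup.mk_mul, mk_eq_one_iff] at h2
    obtain ⟨h01, h10, h00⟩ := h2
    change ((x : Matrix (Fin 2) (Fin 2) F) * (x : Matrix (Fin 2) (Fin 2) F)) 0 1 = 0 at h01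
    change ((x : Matrix (Fin 2) (Fin 2) F) * (x : Matrix (Fin 2) (Fin 2) F)) 1 0 = 0 at h10
    change ((x : Matrix (Fin 2) (Fin 2) F) * (x : Matrix (Fin 2) (Fin 2) F)) 0 0 =
      ((x : Matrix (Fin 2) (Fin 2) F) * (x : Matrix (Fin 2) (Fin 2) F)) 1 1 at h00
    rw [sq_eq] at h01 h10 h00
    simp at h01 h10 h00
    by_contra ht
    exact hns ⟨h01.resolve_left ht, h10.resolve_left ht, h00.resolve_right ht⟩
  · rintro ⟨ht, hns⟩
    exact orderOf_eq_prime (mk_sq_eq_one ht) fun h => hns (mk_eq_one_iff.1 h)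

variable [Fintype F]

theorem odd_order_of_trace_two (h2 : (2 : F) ≠ 0) {w : SL(2, F)} {e : F} (he : e ^ 2 = 1)
    (h : trc w = 2 * e) : Odd (orderOf (QuotientGroup.mk w : PSL₂)) := by
  obtain ⟨p, hp⟩ := CharP.exists F
  haveI := hp
  haveI : Fact p.Prime := ⟨CharP.char_is_prime F p⟩
  refine Odd.of_dvd_nat ?_ (orderOf_dvd_of_pow_eq_one (mk_pow_char_eq_one p he h))
  refine (Fact.out : p.Prime).odd_of_ne_two fun hp2 => h2 ?_
  subst hp2
  exact_mod_cast CharP.cast_eq_zero F 2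

theorem odd_order_of_split (h2 : (2 : F) ≠ 0) {n : ℕ} (hn : 2 * n = Fintype.card F - 1)
    (hodd : Odd n) {w : SL(2, F)} {l : F} (hl : l ≠ 0) (h : trc w = l + l⁻¹) :
    Odd (orderOf (QuotientGroup.mk w : PSL₂)) := by
  by_cases hll : l = l⁻¹
  · have h1 : l ^ 2 = 1 := by
      rw [pow_two]
      nth_rewrite 2 [hll]
      exact mul_inv_cancel₀ hl
    exact odd_order_of_trace_two h2 h1 (by rw [h, ← hll]; ring)
  have hsq : (l ^ n) * (l ^ n) = 1 := by
    rw [← pow_add, show n + n = Fintype.card F - 1 by omega]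
    exact FiniteField.pow_card_sub_one_eq_one l hl
  set M : Matrix (Fin 2) (Fin 2) F := (w : Matrix (Fin 2) (Fin 2) F) with hM
  have hcp : M.charpoly = X ^ 2 - C (trc w) * X + 1 := by
    rw [Matrix.charpoly_fin_two, w.det_coe, map_one, trc_eq_trace]
  have hdvd : M.charpoly ∣ X ^ n - C (l ^ n) := by
    have h1 : C l * C l⁻¹ = (1 : F[X]) := by rw [← map_mul, mul_inv_cancel₀ hl, map_one]
    have hfac : M.charpoly = (X - C l) * (X - C l⁻¹) := by
      rw [hcp, h, map_add]
      linear_combination (-1 : F[X]) * h1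
    rw [hfac]
    refine IsCoprime.mul_dvd (isCoprime_X_sub_C_of_isUnit_sub (sub_ne_zero.2 hll).isUnit) ?_ ?_
    · rw [dvd_iff_isRoot]
      simp [IsRoot]
    · rw [dvd_iff_isRoot]
      simp only [IsRoot.def, eval_sub, eval_pow, eval_X, eval_C, inv_pow, sub_eq_zero]
      exact inv_eq_of_mul_eq_one_right hsq
  obtain ⟨r, hr⟩ := hdvd
  have hpow : M ^ n = (l ^ n) • 1 := by
    have := congrArg (Polynomial.aeval M) hr
    rw [map_mul, Matrix.aeval_self_charpoly, zero_mul, map_sub, map_pow, Polynomial.aeval_X,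
      Polynomial.aeval_C, sub_eq_zero] at this
    rw [this, Algebra.algebraMap_eq_smul_one]
  exact hodd.of_dvd_nat (orderOf_dvd_of_pow_eq_one (mk_pow_eq_one_of_matrix hpow))

theorem odd_order_of_two [CharP F 2] {w : SL(2, F)} (h : trc w ≠ 0) :
    Odd (orderOf (QuotientGroup.mk w : PSL₂)) := by
  by_contra hodd
  rw [Nat.not_odd_iff_even] at hodd
  obtain ⟨k, hk⟩ := hodd
  have hpos : 0 < orderOf (QuotientGroup.mk w : PSL₂) := orderOf_pos _
  have ho : orderOf (QuotientGroup.mk (w ^ k) : PSL₂) = 2 := by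
    rw [QuotientGroup.mk_pow, orderOf_pow_of_dvd (by omega) ⟨2, by omega⟩]
    exact Nat.div_eq_of_eq_mul_left (by omega) (by omega)
  obtain ⟨ht, hns⟩ := involution_iff.1 ho
  have hc : w * w ^ k = w ^ k * w := (Commute.self_pow w k).eq
  generalize hu : w ^ k = u at hc ht hns
  have hc' := congrArg (fun g : SL(2, F) => (g : Matrix (Fin 2) (Fin 2) F)) hc
  simp only [val_mul] at hc'
  have c01 := congrFun (congrFun hc' 0) 1
  have c10 := congrFun (congrFun hc' 1) 0
  simp only [Matrix.mul_apply, Fin.sum_univ_two] at c01 c10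
  simp only [trc] at ht h
  have hu11 : (u : Matrix (Fin 2) (Fin 2) F) 1 1 = (u : Matrix (Fin 2) (Fin 2) F) 0 0 := by
    have h2 : ((u : Matrix (Fin 2) (Fin 2) F) 0 0) + (u : Matrix (Fin 2) (Fin 2) F) 0 0 = 0 :=
      CharTwo.add_self_eq_zero _
    linear_combination ht - h2
  have hw : ∀ b : F, b ≠ 0 → b * ((w : Matrix (Fin 2) (Fin 2) F) 0 0 -
      (w : Matrix (Fin 2) (Fin 2) F) 1 1) = 0 → False := by
    intro b hb hb0
    have h1 := (mul_eq_zero.1 hb0).resolve_left hb
    have h2 : ((w : Matrix (Fin 2) (Fin 2) F) 1 1) + (w : Matrix (Fin 2) (Fin 2) F) 1 1 = 0 :=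
      CharTwo.add_self_eq_zero _
    exact h (by linear_combination h1 + h2)
  by_cases hb : (u : Matrix (Fin 2) (Fin 2) F) 0 1 = 0
  · by_cases hcz : (u : Matrix (Fin 2) (Fin 2) F) 1 0 = 0
    · exact hns ⟨hb, hcz, hu11.symm⟩
    · refine hw _ hcz ?_
      rw [hu11] at c10
      linear_combination -c10
  · refine hw _ hb ?_
    rw [hu11] at c01
    linear_combination c01

/-- A polynomial of degree three takes a non-zero square value at a non-zero point. -/
theorem exists_square_value (h2 : (2 : F) ≠ 0) (hq : 11 ≤ Fintype.card F) (f : F[X])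
    (hf : f.natDegree = 3) (h0 : f.eval 0 = 0) : ∃ a : F, a ≠ 0 ∧ ∃ r : F, r ≠ 0 ∧ f.eval a = r * r := by
  classical
  by_contra hne
  push Not at hne
  set q := Fintype.card F with hqdef
  have hchar : ringChar F ≠ 2 := fun h => h2 (by
    have : CharP F 2 := ringChar.eq_iff.1 h
    exact_mod_cast CharP.cast_eq_zero F 2)
  have hodd : q % 2 = 1 := FiniteField.odd_card_of_char_ne_two hchar
  set n := q / 2 + 1 with hn
  have hroot : ∀ a : F, (f ^ n + f).eval a = 0 := by
    intro a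
    rw [eval_add, eval_pow]
    by_cases ha : f.eval a = 0
    · rw [ha, zero_pow (by omega), add_zero]
    · have hnsq : ¬ IsSquare (f.eval a) := by
        rintro ⟨r, hr⟩
        have ha0 : a ≠ 0 := fun e => ha (e ▸ h0)
        exact hne a ha0 r (fun e => ha (by rw [hr, e, mul_zero])) hr
      have hm := (FiniteField.pow_dichotomy hchar ha).resolve_left fun h1 =>
        hnsq ((FiniteField.isSquare_iff hchar ha).2 h1)
      show _ ^ (q / 2 + 1) + _ = 0
      rw [pow_succ, hqdef, hm]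
      ring
  have hdvd : (X ^ q - X : F[X]) ∣ f ^ n + f := by
    have hprod : (∏ a : F, (X - C a)) = X ^ q - X := by
      have hm : (X ^ q - X : F[X]).Monic :=
        monic_X_pow_sub (by rw [degree_X]; exact_mod_cast (show 1 < q by omega))
      have hr := prod_multiset_X_sub_C_of_monic_of_roots_card_eq hm (by
        rw [hqdef, FiniteField.roots_X_pow_card_sub_X, FiniteField.X_pow_card_sub_X_natDegree_eq F (by omega),
          Finset.card_val, Finset.card_univ])
      rw [hqdef, FiniteField.roots_X_pow_card_sub_X] at hr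
      rw [hqdef]
      exact hr
    rw [← hprod]
    refine Finset.prod_dvd_of_coprime (fun a _ b _ hab => isCoprime_X_sub_C_of_isUnit_sub
      (sub_ne_zero.2 hab).isUnit) fun a _ => ?_
    rw [dvd_iff_isRoot]
    exact hroot a
  obtain ⟨Q, hQ⟩ := hdvd
  have hfne : f ≠ 0 := fun e => by rw [e] at hf; simp at hf
  have hnd : (f ^ n + f).natDegree = 3 * n := by
    rw [natDegree_add_eq_left_of_natDegree_lt]
    · rw [natDegree_pow, hf, mul_comm]
    · rw [natDegree_pow, hf]; omega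
  have hQne : Q ≠ 0 := by
    intro e
    rw [hQ, e, mul_zero, natDegree_zero] at hnd
    omega
  have hXq : (X ^ q - X : F[X]).natDegree = q := FiniteField.X_pow_card_sub_X_natDegree_eq F (by omega)
  have hQdeg : Q.natDegree + q = 3 * n := by
    rw [← hnd, hQ, natDegree_mul (FiniteField.X_pow_card_sub_X_ne_zero F (by omega)) hQne, hXq, add_comm]
  have hn2 : (2 : F[X]) * (n : F[X]) = 1 := by
    have h1 : (2 : ℕ) * n = q + 1 := by omega
    have h3 : ((q : ℕ) : F[X]) = 0 := by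
      rw [← map_natCast (C : F →+* F[X]), hqdef, Nat.cast_card_eq_zero, map_zero]
    have h4 := congrArg (fun k : ℕ => (k : F[X])) h1
    simpa [h3] using h4
  have hder := congrArg derivative hQ
  have hq0 : ((q : ℕ) : F) = 0 := by rw [hqdef]; exact Nat.cast_card_eq_zero F
  rw [derivative_add, derivative_pow, derivative_mul, derivative_sub, derivative_X_pow, hq0,
    derivative_X, map_zero, zero_mul, zero_sub] at hder
  have hpow : f ^ (n - 1) * f = f ^ n := by rw [← pow_succ, show n - 1 + 1 = n by omega]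
  have key : (X ^ q - X) * (derivative f * Q - 2 * (f * derivative Q)) =
      -(2 * (f * Q)) - f * derivative f := by
    have hC : (C (n : F) : F[X]) = (n : F[X]) := map_natCast C n
    rw [hC] at hder
    linear_combination 2 * f * hder - derivative f * hQ - (2 * (n : F[X]) * derivative f) * hpow -
      (derivative f * f ^ n) * hn2
  by_cases hz : derivative f * Q - 2 * (f * derivative Q) = 0
  · rw [hz, mul_zero] at key
    have h5 : f * (2 * Q + derivative f) = 0 := by linear_combination key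
    have h6 : 2 * Q = -derivative f := by
      linear_combination (mul_eq_zero.1 h5).resolve_left hfne
    have h7 : (2 * Q).natDegree = Q.natDegree := by
      rw [show (2 : F[X]) = C 2 from (map_ofNat C 2).symm, natDegree_C_mul h2]
    rw [h6, natDegree_neg] at h7
    have h8 := natDegree_derivative_le f
    omega
  · have h9 := congrArg natDegree key
    rw [natDegree_mul (FiniteField.X_pow_card_sub_X_ne_zero F (by omega)) hz, hXq] at h9
    have h10 : (-(2 * (f * Q)) - f * derivative f).natDegree ≤ 3 + Q.natDegree := by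
      refine (natDegree_sub_le _ _).trans (max_le ?_ ?_)
      · rw [natDegree_neg, show (2 : F[X]) = C 2 from (map_ofNat C 2).symm, natDegree_C_mul h2,
          natDegree_mul hfne hQne, hf]
      · refine natDegree_mul_le.trans ?_
        have := natDegree_derivative_le f
        omega
    omega

theorem seven_check : ∀ s t v : ZMod 7, -(s * s) - t * v = 1 →
    (∃ l : ZMod 7, l ≠ 0 ∧ l * (v - t) = l * l + 1) ∨
    ∃ a b c : ZMod 7, -(a * a) - b * c = 1 ∧ (∃ l : ZMod 7, l ≠ 0 ∧ l * (c - b) = l * l + 1) ∧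
      ∃ l : ZMod 7, l ≠ 0 ∧ l * (2 * s * a + t * c + v * b) = l * l + 1 := by
  decide +kernel

theorem seven_value (h7 : Fintype.card F = 7) {s t v : F} (hd : -(s * s) - t * v = 1) :
    (∃ l : F, l ≠ 0 ∧ l * (v - t) = l * l + 1) ∨
    ∃ a b c : F, -(a * a) - b * c = 1 ∧ (∃ l : F, l ≠ 0 ∧ l * (c - b) = l * l + 1) ∧
      ∃ l : F, l ≠ 0 ∧ l * (2 * s * a + t * c + v * b) = l * l + 1 := by
  haveI : Fact (Nat.Prime 7) := ⟨by norm_num⟩
  let e := ZMod.ringEquivOfPrime F (by norm_num : Nat.Prime 7) h7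
  have h := seven_check (e.symm s) (e.symm t) (e.symm v)
    (by rw [← map_mul, ← map_mul, ← map_neg, ← map_sub, hd, map_one])
  rcases h with ⟨l, hl, hlt⟩ | ⟨a, b, c, h1, ⟨l, hl, hl'⟩, m, hm, hm'⟩
  · exact Or.inl ⟨e l, by simpa using hl, by simpa using congrArg e hlt⟩
  · exact Or.inr ⟨e a, e b, e c, by simpa using congrArg e h1,
      ⟨e l, by simpa using hl, by simpa using congrArg e hl'⟩,
      e m, by simpa using hm, by simpa [map_ofNat] using congrArg e hm'⟩

theorem exists_value (h2 : (2 : F) ≠ 0) (hq : 11 ≤ Fintype.card F) {s t : F} (hs : s ≠ 0)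
    (ht : t ≠ 0) : ∃ a : F, a ≠ 0 ∧ ∃ r : F, r ≠ 0 ∧
      a * (t * s * a ^ 2 + (t ^ 2 - s ^ 2) * a - t * s) = r * r := by
  obtain ⟨a, ha, r, hr, har⟩ := exists_square_value h2 hq
    (C (t * s) * X ^ 3 + C (t ^ 2 - s ^ 2) * X ^ 2 + C (-(t * s)) * X) (by
      compute_degree!) (by simp)
  refine ⟨a, ha, r, hr, ?_⟩
  rw [← har]
  simp
  ring

/-- The matrix `(i)` on `P` and `(-i)` on `Q`. -/
theorem exists_with_eigen (i : F) (hi : i ^ 2 = -1) (P Q : Fin 2 → F)
    (hD : P 0 * Q 1 - P 1 * Q 0 ≠ 0) : ∃ z : SL(2, F), trc z = 0 ∧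
      (z : Matrix (Fin 2) (Fin 2) F).mulVec P = i • P ∧
      (z : Matrix (Fin 2) (Fin 2) F).mulVec Q = (-i) • Q := by
  set D := P 0 * Q 1 - P 1 * Q 0 with hDdef
  let M : Matrix (Fin 2) (Fin 2) F := (i / D) •
    !![P 0 * Q 1 + P 1 * Q 0, -(2 * (P 0 * Q 0)); 2 * (P 1 * Q 1), -(P 0 * Q 1 + P 1 * Q 0)]
  have hM : M.det = 1 := by
    simp [M, Matrix.det_fin_two]
    field_simp
    rw [hDdef]
    linear_combination (-(P 0 * Q 1 - P 1 * Q 0) ^ 2) * hi
  refine ⟨⟨M, hM⟩, by simp [trc, M]; ring, ?_, ?_⟩ <;>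
  · funext k
    fin_cases k <;>
      (simp [M, Matrix.mulVec, dotProduct, Fin.sum_univ_two]; field_simp; rw [hDdef]; ring)

theorem common_one_mod_four (h2 : (2 : F) ≠ 0) {i : F} (hi : i ^ 2 = -1) (x y : SL(2, F))
    (hx : trc x = 0) (hy : trc y = 0) : ∃ z : SL(2, F), trc z = 0 ∧
      Odd (orderOf (QuotientGroup.mk (x * z) : PSL₂)) ∧
      Odd (orderOf (QuotientGroup.mk (z * y) : PSL₂)) := by
  have hev : ∀ w : SL(2, F), trc w = 0 →
      ∃ v : Fin 2 → F, v ≠ 0 ∧ (w : Matrix (Fin 2) (Fin 2) F).mulVec v = i • v := by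
    intro w hw
    have hd : ((w : Matrix (Fin 2) (Fin 2) F) - i • 1).det = 0 := by
      rw [Matrix.det_fin_two]
      simp
      simp only [trc] at hw
      linear_combination det_eq w - i * hw + hi
    obtain ⟨v, hv, hv0⟩ := Matrix.exists_mulVec_eq_zero_iff.2 hd
    exact ⟨v, hv, by rwa [Matrix.sub_mulVec, Matrix.smul_mulVec, Matrix.one_mulVec, sub_eq_zero] at hv0⟩
  obtain ⟨P, hP, hPx⟩ := hev x hx
  obtain ⟨Q, hQ, hQy⟩ := hev y hy
  have hodd : ∀ (w : SL(2, F)) (v : Fin 2 → F) (e : F), v ≠ 0 → e ^ 2 = 1 →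
      (w : Matrix (Fin 2) (Fin 2) F).mulVec v = e • v → Odd (orderOf (QuotientGroup.mk w : PSL₂)) := by
    intro w v e hv he h
    refine odd_order_of_trace_two h2 he ?_
    rw [(trc_of_eigen w hv h).2, inv_eq_of_mul_eq_one_right (show e * e = 1 by rw [← pow_two, he])]
    ring
  have hii : i * i = -1 := by rw [← pow_two, hi]
  by_cases hD : P 0 * Q 1 - P 1 * Q 0 = 0
  · obtain ⟨R, hR⟩ : ∃ R : Fin 2 → F, P 0 * R 1 - P 1 * R 0 ≠ 0 := by
      by_cases h0 : P 0 = 0
      · refine ⟨![1, 0], ?_⟩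
        intro hz
        apply hP
        funext k
        fin_cases k
        · exact h0
        · simpa using hz
      · exact ⟨![0, 1], by simpa using h0⟩
    obtain ⟨z, hz, hzP, -⟩ := exists_with_eigen i hi P R hR
    have hzQ : (z : Matrix (Fin 2) (Fin 2) F).mulVec Q = i • Q := by
      obtain ⟨c, hc⟩ : ∃ c : F, Q = c • P := by
        by_cases h0 : P 0 = 0
        · have h1 : P 1 ≠ 0 := fun h1 => hP (by funext k; fin_cases k <;> assumption)
          refine ⟨Q 1 / P 1, ?_⟩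
          have hQ0 : Q 0 = 0 := by
            rw [h0] at hD
            simpa [h1] using hD
          funext k
          fin_cases k <;> simp [h0, hQ0]
          field_simp
        · refine ⟨Q 0 / P 0, ?_⟩
          funext k
          fin_cases k <;> simp
          · field_simp
          · field_simp
            linear_combination hD
      rw [hc, Matrix.mulVec_smul, hzP, smul_comm]
    refine ⟨z, hz, hodd _ P (-1) hP (by ring) ?_, hodd _ Q (-1) hQ (by ring) ?_⟩
    · rw [val_mul, ← Matrix.mulVec_mulVec, hzP, Matrix.mulVec_smul, hPx, smul_smul, hii]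
    · rw [val_mul, ← Matrix.mulVec_mulVec, hQy, Matrix.mulVec_smul, hzQ, smul_smul, hii]
  · obtain ⟨z, hz, hzP, hzQ⟩ := exists_with_eigen i hi P Q hD
    refine ⟨z, hz, hodd _ P (-1) hP (by ring) ?_, hodd _ Q 1 hQ (by ring) ?_⟩
    · rw [val_mul, ← Matrix.mulVec_mulVec, hzP, Matrix.mulVec_smul, hPx, smul_smul, hii]
    · rw [val_mul, ← Matrix.mulVec_mulVec, hQy, Matrix.mulVec_smul, hzQ, smul_smul,
        mul_neg, hii, neg_neg]

theorem common_three_mod_four (h2 : (2 : F) ≠ 0) (h4 : Fintype.card F % 4 = 3)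
    (hq : 4 ≤ Fintype.card F) (x y : SL(2, F)) (hx : trc x = 0) (hy : trc y = 0)
    (hna : ¬ Odd (orderOf (QuotientGroup.mk (x * y) : PSL₂))) : ∃ z : SL(2, F), trc z = 0 ∧
      Odd (orderOf (QuotientGroup.mk (x * z) : PSL₂)) ∧
      Odd (orderOf (QuotientGroup.mk (z * y) : PSL₂)) := by
  obtain ⟨n, hn, hnodd⟩ : ∃ n, 2 * n = Fintype.card F - 1 ∧ Odd n :=
    ⟨Fintype.card F / 2, by omega, ⟨Fintype.card F / 4, by omega⟩⟩
  obtain ⟨g, hg⟩ := Dickson.conj_trace_zero h2 hx (Dickson.trc_rot (F := F))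
  set y' : SL(2, F) := g * y * g⁻¹ with hy'
  have hy0 : trc y' = 0 := by rw [hy', trc_conj, hy]
  have hxy : trc (Dickson.rot * y') = trc (x * y) := by
    rw [hy', ← hg, show g * x * g⁻¹ * (g * y * g⁻¹) = g * (x * y) * g⁻¹ by group, trc_conj]
  obtain ⟨s, hs⟩ : ∃ s, (y' : Matrix (Fin 2) (Fin 2) F) 0 0 = s := ⟨_, rfl⟩
  obtain ⟨t, ht⟩ : ∃ t, (y' : Matrix (Fin 2) (Fin 2) F) 0 1 = t := ⟨_, rfl⟩
  obtain ⟨v, hv⟩ : ∃ v, (y' : Matrix (Fin 2) (Fin 2) F) 1 0 = v := ⟨_, rfl⟩
  have h11 : (y' : Matrix (Fin 2) (Fin 2) F) 1 1 = -s := by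
    simp only [trc] at hy0
    rw [← hs]
    linear_combination hy0
  have hd : -(s * s) - t * v = 1 := by
    have := det_eq y'
    rw [hs, ht, hv, h11] at this
    linear_combination this
  have ht0 : t ≠ 0 := by
    intro e
    rw [e] at hd
    have : IsSquare (-1 : F) := ⟨s, by linear_combination hd⟩
    rw [FiniteField.isSquare_neg_one_iff] at this
    exact this h4
  have hs0 : s ≠ 0 := by
    intro e
    refine hna (odd_order_of_split h2 hn hnodd (l := v) ?_ ?_)
    · intro e'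
      rw [e, e'] at hd
      simp at hd
    · rw [← hxy]
      simp only [trc, val_mul, Matrix.mul_apply, Fin.sum_univ_two]
      rw [hs, ht, hv, h11]
      simp [Dickson.rot_coe]
      have htv : t * v = -1 := by rw [e] at hd; linear_combination -hd
      have : v⁻¹ = -t := inv_eq_of_mul_eq_one_right (by linear_combination -htv)
      rw [this]
  have hsplit : ∀ (w : SL(2, F)) (l : F), l ≠ 0 → l * trc w = l * l + 1 →
      Odd (orderOf (QuotientGroup.mk w : PSL₂)) := by
    intro w l hl he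
    refine odd_order_of_split h2 hn hnodd hl ?_
    field_simp
    linear_combination he
  rcases (show Fintype.card F = 7 ∨ 11 ≤ Fintype.card F by omega) with h7 | hq11
  · rcases seven_value h7 hd with ⟨l, hl, hl'⟩ | ⟨a, b, c, habc, ⟨l, hl, hl'⟩, m, hm, hm'⟩
    · refine absurd (hsplit (x * y) l hl ?_) hna
      rw [← hxy]
      simp only [trc, val_mul]; simp [trc, val_mul, Dickson.rot_coe, Matrix.mul_apply, Fin.sum_univ_two, hs, ht, hv, h11]
      linear_combination hl'
    let z : SL(2, F) := ⟨!![a, b; c, -a], by simp [Matrix.det_fin_two_of]; linear_combination habc⟩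
    refine ⟨g⁻¹ * z * g, ?_, ?_, ?_⟩
    · rw [show g⁻¹ * z * g = g⁻¹ * z * g⁻¹⁻¹ by rw [inv_inv], trc_conj]
      simp [trc, z]
    · refine hsplit _ l hl ?_
      rw [← trc_conj g, show g * (x * (g⁻¹ * z * g)) * g⁻¹ = g * x * g⁻¹ * z by group, hg]
      simp only [trc, val_mul]; simp [trc, z, val_mul, Dickson.rot_coe, Matrix.mul_apply, Fin.sum_univ_two]
      linear_combination hl'
    · refine hsplit _ m hm ?_
      rw [← trc_conj g, show g * (g⁻¹ * z * g * y) * g⁻¹ = z * (g * y * g⁻¹) by group, ← hy']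
      simp only [trc, val_mul]; simp [trc, z, val_mul, Matrix.mul_apply, Fin.sum_univ_two, hs, ht, hv, h11]
      linear_combination hm'
  obtain ⟨a, ha, r, hr, har⟩ := exists_value h2 hq11 hs0 ht0
  let k : F := a / r
  let α : F := k * s
  let β : F := k * t
  let γ : F := -(α * a ^ 2 + β * a - α) / a
  have hdet : (!![α, β; γ, -α] : Matrix (Fin 2) (Fin 2) F).det = 1 := by
    simp [Matrix.det_fin_two_of, γ, α, β, k]
    field_simp
    linear_combination har
  let z : SL(2, F) := ⟨!![α, β; γ, -α], hdet⟩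
  have hz1 : ∃ μ : F, ((Dickson.rot * z : SL(2, F)) : Matrix (Fin 2) (Fin 2) F).mulVec ![a, 1] = μ • ![a, 1] := by
    refine ⟨-(α * a + β), ?_⟩
    funext j
    fin_cases j <;>
      (rw [val_mul]; simp [z, val_mul, Dickson.rot_coe, Matrix.mulVec, dotProduct, Fin.sum_univ_two, Matrix.mul_apply])
    · simp [γ]
      field_simp
      ring
  have hz2 : ∃ μ : F, ((y' * z : SL(2, F)) : Matrix (Fin 2) (Fin 2) F).mulVec ![0, 1] = μ • ![0, 1] := by
    refine ⟨-k, ?_⟩
    funext j
    fin_cases j <;>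
      (rw [val_mul]; simp [z, val_mul, Matrix.mulVec, dotProduct, Fin.sum_univ_two, Matrix.mul_apply, hs, ht, hv, h11, α, β])
    · ring
    · linear_combination (-k) * hd
  have hne1 : (![a, 1] : Fin 2 → F) ≠ 0 := fun e => by simpa using congrFun e 1
  have hne2 : (![0, 1] : Fin 2 → F) ≠ 0 := fun e => by simpa using congrFun e 1
  refine ⟨g⁻¹ * z * g, ?_, ?_, ?_⟩
  · rw [show g⁻¹ * z * g = g⁻¹ * z * g⁻¹⁻¹ by rw [inv_inv], trc_conj]
    simp [trc, z]
  · obtain ⟨μ, hμ⟩ := hz1
    obtain ⟨hμ0, hμt⟩ := trc_of_eigen _ hne1 hμ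
    refine odd_order_of_split h2 hn hnodd hμ0 ?_
    rw [← hμt, ← hg, show g * x * g⁻¹ * z = g * (x * (g⁻¹ * z * g)) * g⁻¹ by group, trc_conj]
  · obtain ⟨μ, hμ⟩ := hz2
    obtain ⟨hμ0, hμt⟩ := trc_of_eigen _ hne2 hμ
    refine odd_order_of_split h2 hn hnodd hμ0 ?_
    rw [← hμt, hy', show g * y * g⁻¹ * z = g * (y * (g⁻¹ * z * g)) * g⁻¹ by group, trc_conj,
      trc_eq_trace, trc_eq_trace]
    exact Matrix.trace_mul_comm _ _

theorem common_two [CharP F 2] (x y : SL(2, F)) (hx : trc x = 0) (hy : trc y = 0)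
    (hxs : ¬ IsScalar x) (hys : ¬ IsScalar y) : ∃ z : SL(2, F), trc z = 0 ∧ ¬ IsScalar z ∧
      Odd (orderOf (QuotientGroup.mk (x * z) : PSL₂)) ∧
      Odd (orderOf (QuotientGroup.mk (z * y) : PSL₂)) := by
  have h2 : (2 : F) = 0 := CharTwo.two_eq_zero
  let z1 : SL(2, F) := ⟨!![1, 1; 0, 1], by simp [Matrix.det_fin_two_of]⟩
  let z2 : SL(2, F) := ⟨!![1, 0; 1, 1], by simp [Matrix.det_fin_two_of]⟩
  let z3 : SL(2, F) := ⟨!![0, 1; 1, 0], by simp [Matrix.det_fin_two_of, CharTwo.neg_eq]⟩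
  have hns : ∀ z ∈ [z1, z2, z3], trc z = 0 ∧ ¬ IsScalar z := by
    intro z hz
    simp only [List.mem_cons, List.not_mem_nil, or_false] at hz
    rcases hz with rfl | rfl | rfl <;> simp [z1, z2, z3, trc, IsScalar, CharTwo.add_self_eq_zero]
  have hval : ∀ w : SL(2, F), trc w = 0 →
      trc (w * z1) = (w : Matrix (Fin 2) (Fin 2) F) 1 0 ∧
      trc (w * z2) = (w : Matrix (Fin 2) (Fin 2) F) 0 1 ∧
      trc (w * z3) = (w : Matrix (Fin 2) (Fin 2) F) 0 1 + (w : Matrix (Fin 2) (Fin 2) F) 1 0 := by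
    intro w hw
    simp only [trc] at hw
    refine ⟨?_, ?_, ?_⟩ <;>
      (simp only [trc, val_mul]; simp [z1, z2, z3, Matrix.mul_apply, Fin.sum_univ_two] <;> linear_combination hw)
  have hbc : ∀ w : SL(2, F), trc w = 0 → ¬ IsScalar w →
      (w : Matrix (Fin 2) (Fin 2) F) 0 1 ≠ 0 ∨ (w : Matrix (Fin 2) (Fin 2) F) 1 0 ≠ 0 := by
    intro w hw hs
    by_contra h
    push Not at h
    refine hs ⟨h.1, h.2, ?_⟩
    simp only [trc] at hw
    linear_combination hw - CharTwo.add_self_eq_zero ((w : Matrix (Fin 2) (Fin 2) F) 1 1)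
  have pick : ∃ z ∈ [z1, z2, z3], trc (x * z) ≠ 0 ∧ trc (y * z) ≠ 0 := by
    obtain ⟨a1, a2, a3⟩ := hval x hx
    obtain ⟨b1, b2, b3⟩ := hval y hy
    by_contra hne
    push Not at hne
    have e1 := hne z1 (by simp)
    have e2 := hne z2 (by simp)
    have e3 := hne z3 (by simp)
    rw [a1, b1] at e1
    rw [a2, b2] at e2
    rw [a3, b3] at e3
    rcases hbc x hx hxs with h | h <;> rcases hbc y hy hys with h' | h' <;> grind
  obtain ⟨z, hz, hxz, hyz⟩ := pick
  refine ⟨z, (hns z hz).1, (hns z hz).2, odd_order_of_two hxz, odd_order_of_two ?_⟩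
  rwa [trc_eq_trace, val_mul, Matrix.trace_mul_comm, ← val_mul,
    ← trc_eq_trace]

theorem exists_common (hq : 4 ≤ Fintype.card F) (x y : SL(2, F)) (hx : trc x = 0)
    (hy : trc y = 0) (hxs : ¬ IsScalar x) (hys : ¬ IsScalar y)
    (hna : ¬ Odd (orderOf (QuotientGroup.mk (x * y) : PSL₂))) :
    ∃ z : SL(2, F), trc z = 0 ∧ ¬ IsScalar z ∧
      Odd (orderOf (QuotientGroup.mk (x * z) : PSL₂)) ∧
      Odd (orderOf (QuotientGroup.mk (z * y) : PSL₂)) := by
  by_cases h2 : (2 : F) = 0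
  · haveI : CharP F 2 := CharTwo.of_one_ne_zero_of_two_eq_zero one_ne_zero h2
    exact common_two x y hx hy hxs hys
  have hns : ∀ z : SL(2, F), trc z = 0 → ¬ IsScalar z := fun z hz =>
    not_isScalar_of_trc (by
      rw [hz, zero_pow two_ne_zero, show (4 : F) = 2 * 2 by norm_num]
      exact (mul_ne_zero h2 h2).symm)
  by_cases h4 : Fintype.card F % 4 = 3
  · obtain ⟨z, hz, h⟩ := common_three_mod_four h2 h4 hq x y hx hy hna
    exact ⟨z, hz, hns z hz, h⟩
  · obtain ⟨i, hi⟩ := (FiniteField.isSquare_neg_one_iff (F := F)).2 h4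
    obtain ⟨z, hz, h⟩ := common_one_mod_four h2 (i := i) (by rw [pow_two, ← hi]) x y hx hy
    exact ⟨z, hz, hns z hz, h⟩

theorem exists_commuting_pair (hq : 4 ≤ Fintype.card F) : ∃ u v : SL(2, F), trc u = 0 ∧
    ¬ IsScalar u ∧ trc v = 0 ∧ ¬ IsScalar v ∧ trc (u * v) = 0 ∧ ¬ IsScalar (u * v) ∧
    trc (v * u) = 0 ∧ ¬ IsScalar (v * u) := by
  classical
  by_cases h2 : (2 : F) = 0
  · haveI : CharP F 2 := CharTwo.of_one_ne_zero_of_two_eq_zero one_ne_zero h2
    obtain ⟨b, hb⟩ : ∃ b : F, b ∉ ({0, 1} : Finset F) := by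
      classical
      by_contra h
      push Not at h
      have := Finset.card_le_card (s := Finset.univ) (t := ({0, 1} : Finset F)) fun a _ => h a
      have h3 : ({0, 1} : Finset F).card ≤ 2 := Finset.card_le_two
      rw [Finset.card_univ] at this
      omega
    simp only [Finset.mem_insert, Finset.mem_singleton, not_or] at hb
    let u : SL(2, F) := ⟨!![1, 1; 0, 1], by simp [Matrix.det_fin_two_of]⟩
    let v : SL(2, F) := ⟨!![1, b; 0, 1], by simp [Matrix.det_fin_two_of]⟩
    have key : ∀ (w : SL(2, F)) (c : F), c ≠ 0 →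
        (w : Matrix (Fin 2) (Fin 2) F) = !![1, c; 0, 1] → trc w = 0 ∧ ¬ IsScalar w := by
      intro w c hc hw
      refine ⟨?_, fun h => hc ?_⟩
      · simp [trc, hw, CharTwo.add_self_eq_zero]
      · simpa [hw] using h.1
    have hb1 : 1 + b ≠ 0 := fun h => hb.2 (by linear_combination h - CharTwo.add_self_eq_zero (1 : F))
    obtain ⟨a1, a2⟩ := key u 1 one_ne_zero rfl
    obtain ⟨c1, c2⟩ := key v b hb.1 rfl
    obtain ⟨d1, d2⟩ := key (u * v) (1 + b) hb1 (by rw [val_mul]; simp [u, v, add_comm])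
    obtain ⟨e1, e2⟩ := key (v * u) (1 + b) hb1 (by rw [val_mul]; simp [u, v, add_comm])
    exact ⟨u, v, a1, a2, c1, c2, d1, d2, e1, e2⟩
  have hns : ∀ z : SL(2, F), trc z = 0 → ¬ IsScalar z := fun z hz =>
    not_isScalar_of_trc (by
      rw [hz, zero_pow two_ne_zero, show (4 : F) = 2 * 2 by norm_num]
      exact (mul_ne_zero h2 h2).symm)
  obtain ⟨a, b, hab⟩ := Dickson.normSurj_zero (F := F) h2 (-1)
  let w : SL(2, F) := ⟨!![a, b; b, -a], by simp [Matrix.det_fin_two_of]; linear_combination -hab⟩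
  have e1 : trc (Dickson.rot (F := F)) = 0 := Dickson.trc_rot
  have e2 : trc w = 0 := by simp [trc, w]
  have h0 : trc (Dickson.rot * w) = 0 := by
    simp only [trc, val_mul]
    simp [w, Dickson.rot_coe, Matrix.mul_apply, Fin.sum_univ_two]
  have h1 : trc (w * Dickson.rot) = 0 := by
    rwa [trc_eq_trace, val_mul, Matrix.trace_mul_comm, ← val_mul, ← trc_eq_trace]
  exact ⟨Dickson.rot, w, e1, hns _ e1, e2, hns _ e2, h0, hns _ h0, h1, hns _ h1⟩

end CfsgLib.Classical.OddProductPSL
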