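import Cfsg.Agent.Lib.Classical.PermModule

/-!
Symmetric groups of degree divisible by four inside orthogonal groups over the field with two
elements, by hyperbolic families in the even-weight module.
-/

set_option autoImplicit false

namespace CfsgLib.Classical.OrthEmbed

open scoped Matrix

theorem half_congr {a b : ℕ} (h : a % 4 = b % 4) : ((a / 2 : ℕ) : ZMod 2) = ((b / 2 : ℕ) : ZMod 2) := by
  rw [ZMod.natCast_eq_natCast_iff']
  omega

/-- A linear family of even vectors, vanishing at the last coordinate, realising a form by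
half-weights. -/
def Emb (N : ℕ) {ι : Type} (Q : (ι → ZMod 2) → ZMod 2) : Prop :=
  ∃ S : (ι → ZMod 2) →ₗ[ZMod 2] (Fin (N + 1) → ZMod 2),
    ∀ w, ∑ i, S w i = 0 ∧ S w (Fin.last N) = 0 ∧ halfWeight (S w) = Q w

theorem Emb.congr {N : ℕ} {ι κ : Type} {Q : (ι → ZMod 2) → ZMod 2} {Q' : (κ → ZMod 2) → ZMod 2}
    (h : Emb N Q) (e : ι ≃ κ) (hQ : ∀ v, Q' v = Q (v ∘ e)) : Emb N Q' := by
  obtain ⟨S, hS⟩ := h
  exact ⟨S.comp (LinearMap.funLeft (ZMod 2) (ZMod 2) e), fun v =>
    ⟨(hS _).1, (hS _).2.1, (hS _).2.2.trans (hQ v).symm⟩⟩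

/-- The eight appended coordinates of four hyperbolic pairs. -/
def stepRows : Matrix (Fin 8) (Fin 4 ⊕ Fin 4) (ZMod 2) :=
  Matrix.of fun i x =>
    (Sum.elim
      ![![0,0,0,1,1,1,1,0], ![0,1,1,1,0,0,1,0], ![1,0,1,1,1,0,0,0], ![1,1,1,1,1,1,1,0]]
      ![![0,0,1,0,1,1,1,0], ![0,1,1,1,0,1,0,0], ![1,1,0,0,0,1,1,0], ![0,0,0,0,0,0,0,0]]) x i

theorem step_table : ∀ (x : Fin 4 ⊕ Fin 4 → ZMod 2) (q : Fin 2),
    ((((if x (Sum.inr 3) = 1 then 3 + 2 * (q : ℕ) else 2 * (q : ℕ)) +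
      (x (Sum.inr 3) + x (Sum.inl 3)).val + ∑ i, ((stepRows *ᵥ x) i).val) / 2 : ℕ) : ZMod 2) =
        (q : ℕ) + ∑ i : Fin 4, x (Sum.inl i) * x (Sum.inr i) := by
  decide +kernel

theorem step_sum : ∀ x : Fin 4 ⊕ Fin 4 → ZMod 2,
    ∑ i, (stepRows *ᵥ x) i = x (Sum.inl 3) ∧ (stepRows *ᵥ x) 7 = 0 := by
  decide +kernel

theorem sum_val_add_one {n : ℕ} (x : Fin n → ZMod 2) :
    ∑ i, (x i + 1).val + ∑ i, (x i).val = n := by
  rw [← Finset.sum_add_distrib, Finset.sum_congr rfl (g := fun _ => 1) fun i _ => ?_]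
  · simp
  · generalize x i = a
    revert a; decide

theorem Emb.step {N : ℕ} {ι : Type} {Q : (ι → ZMod 2) → ZMod 2} (hN : N % 4 = 3) (h : Emb N Q) :
    Emb (N + 8) (fun w : ι ⊕ (Fin 4 ⊕ Fin 4) → ZMod 2 =>
      Q (w ∘ Sum.inl) + ∑ i : Fin 4, w (Sum.inr (Sum.inl i)) * w (Sum.inr (Sum.inr i))) := by
  obtain ⟨S, hS⟩ := h
  let u : (ι ⊕ (Fin 4 ⊕ Fin 4) → ZMod 2) → Fin (N + 1) → ZMod 2 := fun w i =>
    S (w ∘ Sum.inl) i + w (Sum.inr (Sum.inr 3)) +
      (if i = Fin.last N then w (Sum.inr (Sum.inl 3)) else 0)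
  have hu : ∀ v w, u (v + w) = u v + u w := fun v w => funext fun i => by
    show S ((v + w) ∘ Sum.inl) i + _ + _ = _
    rw [show (v + w) ∘ Sum.inl = v ∘ Sum.inl + w ∘ Sum.inl from rfl, map_add]
    by_cases hi : i = Fin.last N <;> simp [u, hi] <;> ring
  have hu' : ∀ (c : ZMod 2) w, u (c • w) = c • u w := fun c w => funext fun i => by
    show S ((c • w) ∘ Sum.inl) i + _ + _ = _
    rw [show (c • w) ∘ Sum.inl = c • (w ∘ Sum.inl) from rfl, map_smul]
    by_cases hi : i = Fin.last N <;> simp [u, hi] <;> ring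
  let T : (ι ⊕ (Fin 4 ⊕ Fin 4) → ZMod 2) →ₗ[ZMod 2] (Fin (N + 8 + 1) → ZMod 2) :=
    { toFun := fun w => (Fin.append (u w) (stepRows *ᵥ (w ∘ Sum.inr)) :
        Fin (N + 1 + 8) → ZMod 2)
      map_add' := fun v w => funext fun i => by
        rw [hu, show (v + w) ∘ Sum.inr = v ∘ Sum.inr + w ∘ Sum.inr from rfl, Matrix.mulVec_add]
        exact Fin.addCases (m := N + 1) (n := 8) (motive := fun i => _ = _)
          (fun i => by simp [Fin.append_left]) (fun i => by simp [Fin.append_right]) i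
      map_smul' := fun c w => funext fun i => by
        rw [hu', show (c • w) ∘ Sum.inr = c • (w ∘ Sum.inr) from rfl, Matrix.mulVec_smul]
        exact Fin.addCases (m := N + 1) (n := 8) (motive := fun i => _ = _)
          (fun i => by simp [Fin.append_left]) (fun i => by simp [Fin.append_right]) i }
  refine ⟨T, fun w => ?_⟩
  obtain ⟨hs, hl, hh⟩ := hS (w ∘ Sum.inl)
  obtain ⟨hr, hr7⟩ := step_sum (w ∘ Sum.inr)
  have hxs : ∀ i : Fin N, u w i.castSucc =
      S (w ∘ Sum.inl) i.castSucc + w (Sum.inr (Sum.inr 3)) := fun i => by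
    simp [u, (Fin.castSucc_lt_last i).ne]
  have hxl : u w (Fin.last N) = w (Sum.inr (Sum.inr 3)) + w (Sum.inr (Sum.inl 3)) := by
    simp [u, hl]
  refine ⟨?_, ?_, ?_⟩
  · show ∑ i : Fin (N + 1 + 8), Fin.append (u w) (stepRows *ᵥ (w ∘ Sum.inr)) i = 0
    rw [Fin.sum_univ_add]
    simp only [Fin.append_left, Fin.append_right, hr]
    have h0 : ((N + 1 : ℕ) : ZMod 2) = 0 := by
      rw [ZMod.natCast_eq_zero_iff_even]; exact ⟨(N + 1) / 2, by omega⟩
    simp only [u, Finset.sum_add_distrib, hs, Finset.sum_const, Finset.card_univ, Fintype.card_fin,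
      nsmul_eq_mul, h0, zero_mul, zero_add, Finset.sum_ite_eq', Finset.mem_univ, if_true]
    exact CharTwo.add_self_eq_zero _
  · have : (Fin.last (N + 8) : Fin (N + 8 + 1)) = (Fin.natAdd (N + 1) (7 : Fin 8)) :=
      Fin.ext (by simp [Fin.val_natAdd])
    show Fin.append (u w) (stepRows *ᵥ (w ∘ Sum.inr)) (Fin.last (N + 8)) = 0
    rw [this]
    exact (Fin.append_right _ _ _).trans hr7
  · set s := ∑ i : Fin N, (S (w ∘ Sum.inl) i.castSucc).val with hsdef
    have hS0 : halfWeight (S (w ∘ Sum.inl)) = ((s / 2 : ℕ) : ZMod 2) := by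
      rw [halfWeight, Fin.sum_univ_castSucc, hl]; simp [hsdef]
    have hseven : s % 2 = 0 := by
      have h1 : ((s : ℕ) : ZMod 2) = 0 := by
        rw [hsdef, Nat.cast_sum]
        simp only [ZMod.natCast_val, ZMod.cast_id', id_eq]
        rw [Fin.sum_univ_castSucc, hl, add_zero] at hs
        exact hs
      exact Nat.mod_eq_zero_of_dvd ((ZMod.natCast_eq_zero_iff _ _).1 h1)
    set x := w ∘ Sum.inr with hx
    have hleft : (∑ i : Fin N, (u w i.castSucc).val) % 4 =
        (if x (Sum.inr 3) = 1 then 3 + 2 * (s / 2 % 2) else 2 * (s / 2 % 2)) % 4 := by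
      simp only [hxs]
      show (∑ i : Fin N, (S (w ∘ Sum.inl) i.castSucc + x (Sum.inr 3)).val) % 4 = _
      split_ifs with ha
      · have h1 := sum_val_add_one fun i : Fin N => S (w ∘ Sum.inl) i.castSucc
        rw [ha]
        omega
      · have ha0 : x (Sum.inr 3) = 0 := by
          generalize x (Sum.inr 3) = a at ha ⊢
          revert a; decide
        simp only [ha0, add_zero]
        omega
    show halfWeight (Fin.append (u w) (stepRows *ᵥ x)) = _
    rw [halfWeight, Fin.sum_univ_add]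
    simp only [Fin.append_left, Fin.append_right]
    rw [Fin.sum_univ_castSucc, hxl]
    refine (half_congr (b := (if x (Sum.inr 3) = 1 then 3 + 2 * (s / 2 % 2) else 2 * (s / 2 % 2)) +
      (x (Sum.inr 3) + x (Sum.inl 3)).val + ∑ i, ((stepRows *ᵥ x) i).val) ?_).trans ?_
    · show ((∑ i : Fin N, (u w i.castSucc).val) + (x (Sum.inr 3) + x (Sum.inl 3)).val +
        ∑ i, ((stepRows *ᵥ x) i).val) % 4 = _
      omega
    · rw [step_table x ⟨s / 2 % 2, Nat.mod_lt _ two_pos⟩, ← hh, hS0, ZMod.natCast_mod]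
      rfl

/-- Base family on eight points. -/
def plusRows : Matrix (Fin 8) (Fin 3 ⊕ Fin 3) (ZMod 2) :=
  Matrix.of fun i x =>
    (Sum.elim
      ![![0,0,0,1,1,1,1,0], ![0,1,1,1,0,0,1,0], ![1,0,1,1,1,0,0,0]]
      ![![0,0,1,0,1,1,1,0], ![0,1,1,1,0,1,0,0], ![1,1,0,0,0,1,1,0]]) x i

/-- Base family on four points. -/
def minusRows : Matrix (Fin 4) ((Fin 0 ⊕ Fin 0) ⊕ Fin 2) (ZMod 2) :=
  Matrix.of fun i x => (Sum.elim (fun _ => 0) ![![1,1,0,0], ![0,1,1,0]]) x i

theorem emb_plus_base : Emb 7 (Cfsg.quadFormPlus 3 (ZMod 2)) :=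
  ⟨Matrix.mulVecLin plusRows, by decide +kernel⟩

theorem emb_minus_base : Emb 3 (Cfsg.quadFormMinus 0 (ZMod 2) 1 1) :=
  ⟨Matrix.mulVecLin minusRows, by decide +kernel⟩

theorem emb_plus (t : ℕ) : Emb (8 * t + 7) (Cfsg.quadFormPlus (3 + 4 * t) (ZMod 2)) := by
  induction t with
  | zero => exact emb_plus_base
  | succ t ih =>
    refine (ih.step (by omega)).congr
      ((Equiv.sumSumSumComm _ _ _ _).trans (Equiv.sumCongr finSumFinEquiv finSumFinEquiv)) fun v => ?_
    show ∑ i : Fin (3 + 4 * t + 4), v (Sum.inl i) * v (Sum.inr i) = _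
    rw [Fin.sum_univ_add]
    rfl

theorem emb_minus (t : ℕ) : Emb (8 * t + 3) (Cfsg.quadFormMinus (4 * t) (ZMod 2) 1 1) := by
  induction t with
  | zero => exact emb_minus_base
  | succ t ih =>
    refine (ih.step (by omega)).congr
      ((((Equiv.sumAssoc _ _ _).trans
          ((Equiv.refl _).sumCongr (Equiv.sumComm _ _))).trans (Equiv.sumAssoc _ _ _).symm).trans
        (((Equiv.sumSumSumComm _ _ _ _).trans
          (Equiv.sumCongr finSumFinEquiv finSumFinEquiv)).sumCongr (Equiv.refl _))) fun v => ?_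
    show (∑ i : Fin (4 * t + 4), v (Sum.inl (Sum.inl i)) * v (Sum.inl (Sum.inr i))) +
      (v (Sum.inr 0) ^ 2 + 1 * v (Sum.inr 0) * v (Sum.inr 1) + 1 * v (Sum.inr 1) ^ 2) = _
    rw [Fin.sum_univ_add, add_right_comm]
    rfl

/-- A form realised on all of the even-weight module gives an embedding of the symmetric group. -/
theorem exists_embedding {N : ℕ} (hN : 5 ≤ N + 1) (hN4 : (N + 1) % 4 = 0) {ι : Type} [Fintype ι]
    [DecidableEq ι] (Q : QuadraticForm (ZMod 2) (ι → ZMod 2))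
    (hQ : (QuadraticMap.polarBilin Q).Nondegenerate) (hcard : Fintype.card ι + 2 = N + 1)
    (h : Emb N ⇑Q) :
    ∃ f : Equiv.Perm (Fin (N + 1)) →* Cfsg.isometryGroup (ZMod 2) ⇑Q, Function.Injective f := by
  obtain ⟨S, hS⟩ := h
  have hev : Even (N + 1) := ⟨(N + 1) / 2, by omega⟩
  let L := S.codRestrict (evenTail N) fun w => mem_evenTail.2 ⟨(hS w).1, (hS w).2.1⟩
  have hzero : ∀ w, L w = 0 → w = 0 := by
    intro w hw
    have hw' : S w = 0 := congrArg Subtype.val hw
    refine Quad.eq_zero_of_polar hQ fun u => ?_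
    have h2 : ∀ z, Q z = halfWeight (S z) := fun z => (hS z).2.2.symm
    show Q (w + u) - Q w - Q u = 0
    rw [h2, h2, h2, map_add, hw', zero_add]
    simp [halfWeight]
  have hfr : Module.finrank (ZMod 2) (ι → ZMod 2) = Module.finrank (ZMod 2) (evenTail N) := by
    have := finrank_evenTail N (by omega)
    rw [Module.finrank_pi]
    omega
  let e := LinearMap.linearEquivOfInjective L ((injective_iff_map_eq_zero L).2 hzero) hfr
  refine exists_embedding_isometryGroup hN Q ((evenTailSection N hev).map e.symm) fun v hv => ?_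
  show Q (e.symm ((evenTailSection N hev).T v)) = _
  set z := e.symm ((evenTailSection N hev).T v)
  rw [← (hS z).2.2]
  have hz : S z = v + v (Fin.last N) • (1 : Fin (N + 1) → ZMod 2) := by
    have h1 : L z = (evenTailSection N hev).T v := e.apply_symm_apply _
    have h2 : S z = (((evenTailSection N hev).T v : evenTail N) : Fin (N + 1) → ZMod 2) :=
      congrArg Subtype.val h1
    rw [h2]
    funext i
    simp [evenTailSection, hv]
  rw [hz]
  generalize v (Fin.last N) = c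
  rcases (by decide : ∀ c : ZMod 2, c = 0 ∨ c = 1) c with rfl | rfl
  · simp
  rw [one_smul]
  unfold halfWeight
  refine half_congr ?_
  have h1 := sum_val_add_one v
  have h2 : (∑ i, (v i).val) % 2 = 0 := by
    refine Nat.mod_eq_zero_of_dvd ((ZMod.natCast_eq_zero_iff _ _).1 ?_)
    rw [Nat.cast_sum]
    simpa [ZMod.natCast_val] using hv
  show (∑ i, (v i + 1).val) % 4 = _
  omega

end CfsgLib.Classical.OrthEmbed
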