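import Cfsg.Prelude.Def_Classical

/-!
The isometry group of the hyperbolic plane is dihedral.
-/

set_option autoImplicit false

namespace CfsgLib.Classical.OrthTwo

open scoped Matrix

variable {F : Type*} [Field F]

theorem quadFormPlus_one (v : Fin 1 ⊕ Fin 1 → F) :
    Cfsg.quadFormPlus 1 F v = v (Sum.inl 0) * v (Sum.inr 0) := by
  simp [Cfsg.quadFormPlus]

/-- Diagonal (`s = false`) or antidiagonal (`s = true`) isometry matrices with parameter `x`. -/
def planeMat (s : Bool) (x : Fˣ) : Matrix (Fin 1 ⊕ Fin 1) (Fin 1 ⊕ Fin 1) F :=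
  if s then Matrix.fromBlocks 0 (Matrix.of fun _ _ => ((x⁻¹ : Fˣ) : F))
      (Matrix.of fun _ _ => (x : F)) 0
    else Matrix.fromBlocks (Matrix.of fun _ _ => (x : F)) 0 0
      (Matrix.of fun _ _ => ((x⁻¹ : Fˣ) : F))

theorem planeMat_mulVec (s : Bool) (x : Fˣ) (v : Fin 1 ⊕ Fin 1 → F) :
    planeMat s x *ᵥ v = Sum.elim (fun _ => if s then ((x⁻¹ : Fˣ) : F) * v (Sum.inr 0)
        else (x : F) * v (Sum.inl 0))
      (fun _ => if s then (x : F) * v (Sum.inl 0) else ((x⁻¹ : Fˣ) : F) * v (Sum.inr 0)) := by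
  funext k
  rcases k with k | k <;> cases s <;>
    simp [planeMat, Matrix.mulVec, dotProduct, Fintype.sum_sum_type, Matrix.fromBlocks,
      Fin.eq_zero k]

theorem planeMat_mul (s t : Bool) (x y : Fˣ) :
    planeMat s x * planeMat t y = planeMat (xor s t) (if t then x⁻¹ * y else x * y) := by
  refine Matrix.ext_iff_mulVec.2 fun v => ?_
  rw [← Matrix.mulVec_mulVec, planeMat_mulVec, planeMat_mulVec, planeMat_mulVec]
  funext k
  rcases k with k | k <;> cases s <;> cases t <;> simp <;> ring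

theorem planeMat_false_one : planeMat false (1 : Fˣ) = 1 := by
  refine Matrix.ext_iff_mulVec.2 fun v => ?_
  rw [planeMat_mulVec, Matrix.one_mulVec]
  funext k
  rcases k with k | k <;> simp [Fin.eq_zero k]

theorem planeMat_preserves (s : Bool) (x : Fˣ) (v : Fin 1 ⊕ Fin 1 → F) :
    Cfsg.quadFormPlus 1 F (planeMat s x *ᵥ v) = Cfsg.quadFormPlus 1 F v := by
  rw [planeMat_mulVec, quadFormPlus_one, quadFormPlus_one]
  cases s <;> simp <;> field_simp

theorem planeMat_mul_inv (s : Bool) (x : Fˣ) :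
    planeMat s x * planeMat s (if s then x else x⁻¹) = 1 := by
  rw [planeMat_mul]
  cases s <;> simp [planeMat_false_one]

theorem planeMat_inv_mul (s : Bool) (x : Fˣ) :
    planeMat s (if s then x else x⁻¹) * planeMat s x = 1 := by
  rw [planeMat_mul]
  cases s <;> simp [planeMat_false_one]

/-- The isometries as group elements. -/
def planeIsom (s : Bool) (x : Fˣ) : Cfsg.isometryGroup F (Cfsg.quadFormPlus 1 F) :=
  ⟨⟨planeMat s x, planeMat s (if s then x else x⁻¹), planeMat_mul_inv s x, planeMat_inv_mul s x⟩,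
    fun u _ => planeMat_preserves s x u⟩

theorem planeIsom_mul (s t : Bool) (x y : Fˣ) :
    planeIsom s x * planeIsom t y = planeIsom (xor s t) (if t then x⁻¹ * y else x * y) :=
  Subtype.ext (Units.ext (planeMat_mul s t x y))

theorem exists_planeIsom_eq (g : Cfsg.isometryGroup F (Cfsg.quadFormPlus 1 F)) :
    ∃ s x, planeIsom s x = g := by
  set M : Matrix (Fin 1 ⊕ Fin 1) (Fin 1 ⊕ Fin 1) F :=
    ((g : Matrix.GeneralLinearGroup (Fin 1 ⊕ Fin 1) F) :
      Matrix (Fin 1 ⊕ Fin 1) (Fin 1 ⊕ Fin 1) F) with hM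
  have h : ∀ v, Cfsg.quadFormPlus 1 F (M *ᵥ v) = Cfsg.quadFormPlus 1 F v := fun v => g.2 v v
  set a := M (Sum.inl 0) (Sum.inl 0)
  set b := M (Sum.inl 0) (Sum.inr 0)
  set c := M (Sum.inr 0) (Sum.inl 0)
  set d := M (Sum.inr 0) (Sum.inr 0)
  have key : ∀ p r : F, (a * p + b * r) * (c * p + d * r) = p * r := by
    intro p r
    have h' := h (Sum.elim (fun _ => p) (fun _ => r))
    simpa [quadFormPlus_one, Matrix.mulVec, dotProduct, Fintype.sum_sum_type] using h'
  have h1 := key 1 0
  have h2 := key 0 1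
  have h3 := key 1 1
  simp at h1 h2
  by_cases ha : a = 0
  · have hbc : b * c = 1 := by
      rcases h2 with h2 | h2 <;> simp [ha, h2] at h3 ⊢ <;> linear_combination h3
    have hd : d = 0 := h2.resolve_left (left_ne_zero_of_mul_eq_one hbc)
    refine ⟨true, Units.mk0 c (right_ne_zero_of_mul_eq_one hbc), Subtype.ext (Units.ext ?_)⟩
    rw [← hM]
    change planeMat true (Units.mk0 c (right_ne_zero_of_mul_eq_one hbc)) = M
    ext i j
    rcases i with i | i <;> rcases j with j | j <;> fin_cases i <;> fin_cases j <;>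
      simp [planeMat]
    · exact ha.symm
    · exact (eq_inv_of_mul_eq_one_left hbc).symm
    · rfl
    · exact hd.symm
  · have hc : c = 0 := h1.resolve_left ha
    have hb : b = 0 := by
      by_contra hb
      have hd : d = 0 := h2.resolve_left hb
      simp [hc, hd] at h3
    have had : a * d = 1 := by simpa [hc, hb] using h3
    refine ⟨false, Units.mk0 a ha, Subtype.ext (Units.ext ?_)⟩
    rw [← hM]
    change planeMat false (Units.mk0 a ha) = M
    ext i j
    rcases i with i | i <;> rcases j with j | j <;> fin_cases i <;> fin_cases j <;>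
      simp [planeMat]
    · rfl
    · exact hb.symm
    · exact hc.symm
    · exact (eq_inv_of_mul_eq_one_right had).symm

theorem planeIsom_injective {s t : Bool} {x y : Fˣ} (h : planeIsom s x = planeIsom t y) :
    s = t ∧ x = y := by
  have h' : planeMat s x = planeMat t y :=
    congrArg (fun g : Cfsg.isometryGroup F (Cfsg.quadFormPlus 1 F) =>
      ((g : Matrix.GeneralLinearGroup (Fin 1 ⊕ Fin 1) F) :
      Matrix (Fin 1 ⊕ Fin 1) (Fin 1 ⊕ Fin 1) F)) h
  have h1 := congrFun (congrFun h' (Sum.inl 0)) (Sum.inl 0)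
  have h2 := congrFun (congrFun h' (Sum.inr 0)) (Sum.inl 0)
  cases s <;> cases t <;> simp [planeMat, Units.ext_iff] at h1 h2 ⊢ <;> assumption

theorem isometryGroup_plus_one_equiv_dihedral [Fintype F] :
    Nonempty (Cfsg.isometryGroup F (Cfsg.quadFormPlus 1 F) ≃*
      DihedralGroup (Fintype.card F - 1)) := by
  classical
  have hcard : Nat.card Fˣ = Fintype.card F - 1 := by
    rw [Nat.card_eq_fintype_card, Fintype.card_units]
  let ε : Multiplicative (ZMod (Fintype.card F - 1)) ≃* Fˣ :=
    hcard ▸ zmodCyclicMulEquiv (inferInstance : IsCyclic Fˣ)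
  let φ : DihedralGroup (Fintype.card F - 1) → Cfsg.isometryGroup F (Cfsg.quadFormPlus 1 F)
    | .r i => planeIsom false (ε (Multiplicative.ofAdd i))
    | .sr i => planeIsom true (ε (Multiplicative.ofAdd i))
  let Φ : DihedralGroup (Fintype.card F - 1) →* Cfsg.isometryGroup F (Cfsg.quadFormPlus 1 F) :=
    MonoidHom.mk' φ fun a b => by
      rcases a with i | i <;> rcases b with j | j <;>
        simp [φ, planeIsom_mul, ← map_mul, ← ofAdd_add, ← map_inv, ← ofAdd_neg, ← sub_eq_neg_add]
  refine ⟨(MulEquiv.ofBijective Φ ⟨?_, ?_⟩).symm⟩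
  · intro a b h
    rcases a with i | i <;> rcases b with j | j <;> obtain ⟨h1, h2⟩ := planeIsom_injective h <;>
      simp_all
  · intro g
    obtain ⟨s, x, rfl⟩ := exists_planeIsom_eq g
    cases s
    · exact ⟨.r (Multiplicative.toAdd (ε.symm x)), by simp [Φ, φ]⟩
    · exact ⟨.sr (Multiplicative.toAdd (ε.symm x)), by simp [Φ, φ]⟩

end CfsgLib.Classical.OrthTwo
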