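import Cfsg.Agent.Lib.Classical.Quad.StandardForms
import Mathlib.Algebra.QuadraticAlgebra.Basic
import Mathlib.RingTheory.IntegralDomain
import Mathlib.GroupTheory.SpecificGroups.Dihedral

/-!
The anisotropic binary orthogonal groups are dihedral.
-/

set_option autoImplicit false

namespace CfsgLib.Classical.OrthMinus

open QuadraticMap (polar)
open scoped QuadraticAlgebra

variable {F : Type*} [Field F] (a b : F)

/-- The quadratic algebra attached to `z₁² + a z₁ z₂ + b z₂²`. -/
abbrev Alg := QuadraticAlgebra F (-b) a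

variable {a b}

/-- The anisotropy hypothesis. -/
def Aniso (a b : F) : Prop :=
  ∀ z₁ z₂ : F, z₁ ^ 2 + a * z₁ * z₂ + b * z₂ ^ 2 = 0 → z₁ = 0 ∧ z₂ = 0

theorem norm_eq (z : Alg a b) :
    QuadraticAlgebra.norm z = z.re ^ 2 + a * z.re * z.im + b * z.im ^ 2 := by
  rw [QuadraticAlgebra.norm_def]
  ring

theorem eq_zero_of_norm (hab : Aniso a b) {z : Alg a b} (h : QuadraticAlgebra.norm z = 0) : z = 0 := by
  rw [norm_eq] at h
  obtain ⟨h1, h2⟩ := hab _ _ h
  exact QuadraticAlgebra.ext h1 h2

theorem isDomain_alg (hab : Aniso a b) : IsDomain (Alg a b) := by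
  have : NoZeroDivisors (Alg a b) := ⟨fun {x y} h => by
    have h' : QuadraticAlgebra.norm x * QuadraticAlgebra.norm y = 0 := by
      rw [← map_mul, h, QuadraticAlgebra.norm_zero]
    rcases mul_eq_zero.1 h' with h | h
    exacts [Or.inl (eq_zero_of_norm hab h), Or.inr (eq_zero_of_norm hab h)]⟩
  exact NoZeroDivisors.to_isDomain _

/-- The norm one units. -/
def normOne (a b : F) : Subgroup (Alg a b)ˣ :=
  (Units.map (QuadraticAlgebra.norm : Alg a b →* F)).ker

theorem mem_normOne {z : (Alg a b)ˣ} : z ∈ normOne a b ↔ QuadraticAlgebra.norm (z : Alg a b) = 1 := by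
  simp [normOne, MonoidHom.mem_ker, Units.ext_iff]

theorem star_eq_inv {z : normOne a b} : star ((z : (Alg a b)ˣ) : Alg a b) = ((z⁻¹ : normOne a b) : (Alg a b)ˣ) := by
  have h : ((z : (Alg a b)ˣ) : Alg a b) * star ((z : (Alg a b)ˣ) : Alg a b) = 1 := by
    rw [← QuadraticAlgebra.algebraMap_norm_eq_mul_star, mem_normOne.1 z.2, map_one]
  rw [Subgroup.coe_inv]
  exact (Units.inv_eq_of_mul_eq_one_right h).symm

/-- The isometry group of the norm. -/
abbrev NormIso (a b : F) : Subgroup (Alg a b ≃ₗ[F] Alg a b) :=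
  Iso F fun u _ : Alg a b => QuadraticAlgebra.norm u

/-- Multiplication by a norm one element. -/
def rot (z : normOne a b) : NormIso a b :=
  ⟨LinearEquiv.ofLinear (LinearMap.mulLeft F ((z : (Alg a b)ˣ) : Alg a b))
    (LinearMap.mulLeft F (((z⁻¹ : normOne a b) : (Alg a b)ˣ) : Alg a b))
    (LinearMap.ext fun x => by simp [← mul_assoc]) (LinearMap.ext fun x => by simp [← mul_assoc]),
    fun u _ => by
      show QuadraticAlgebra.norm (((z : (Alg a b)ˣ) : Alg a b) * u) = _
      rw [map_mul, mem_normOne.1 z.2, one_mul]⟩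

/-- Conjugation. -/
def conj (a b : F) : NormIso a b :=
  ⟨LinearEquiv.ofLinear
    { toFun := star, map_add' := star_add
      map_smul' := fun c x => by ext <;> simp; ring }
    { toFun := star, map_add' := star_add
      map_smul' := fun c x => by ext <;> simp; ring }
    (LinearMap.ext fun x => star_star x) (LinearMap.ext fun x => star_star x),
    fun u _ => QuadraticAlgebra.norm_star u⟩

theorem rot_apply (z : normOne a b) (x : Alg a b) :
    (rot z : Alg a b ≃ₗ[F] Alg a b) x = ((z : (Alg a b)ˣ) : Alg a b) * x := rfl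

theorem conj_apply (x : Alg a b) : (conj a b : Alg a b ≃ₗ[F] Alg a b) x = star x := rfl

theorem rot_mul (z w : normOne a b) : rot (z * w) = rot z * rot w :=
  Subtype.ext (LinearEquiv.ext fun x => by
    show _ = ((z : (Alg a b)ˣ) : Alg a b) * (((w : (Alg a b)ˣ) : Alg a b) * x)
    rw [rot_apply, Subgroup.coe_mul, Units.val_mul, mul_assoc])

theorem conj_mul_self : conj a b * conj a b = 1 :=
  Subtype.ext (LinearEquiv.ext fun x => star_star x)

theorem rot_mul_conj (z : normOne a b) : rot z * conj a b = conj a b * rot z⁻¹ :=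
  Subtype.ext (LinearEquiv.ext fun x => by
    show ((z : (Alg a b)ˣ) : Alg a b) * star x =
      star ((((z⁻¹ : normOne a b) : (Alg a b)ˣ) : Alg a b) * x)
    rw [← star_eq_inv, star_mul', star_star])

theorem eq_one_or_conj (hd : 4 * b - a ^ 2 ≠ 0) (g : NormIso a b)
    (hg : (g : Alg a b ≃ₗ[F] Alg a b) 1 = 1) : g = 1 ∨ g = conj a b := by
  set v := (g : Alg a b ≃ₗ[F] Alg a b) ⟨0, 1⟩ with hv
  have hexp : ∀ x : Alg a b, x = x.re • (1 : Alg a b) + x.im • ⟨0, 1⟩ := fun x => by
    ext <;> simp
  have hgx : ∀ x, (g : Alg a b ≃ₗ[F] Alg a b) x = x.re • (1 : Alg a b) + x.im • v := fun x => by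
    conv_lhs => rw [hexp x]
    rw [map_add, map_smul, map_smul, hg, ← hv]
  have h1 : QuadraticAlgebra.norm v = b := by
    have : QuadraticAlgebra.norm v = QuadraticAlgebra.norm (⟨0, 1⟩ : Alg a b) := g.2 ⟨0, 1⟩ 0
    rw [this, norm_eq]
    simp
  have h2 : QuadraticAlgebra.norm (1 + v) = 1 + a + b := by
    have : QuadraticAlgebra.norm ((g : Alg a b ≃ₗ[F] Alg a b) (1 + ⟨0, 1⟩)) =
        QuadraticAlgebra.norm (1 + ⟨0, 1⟩ : Alg a b) := g.2 (1 + ⟨0, 1⟩) 0
    simp only [map_add, hg, ← hv] at this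
    rw [this, norm_eq]
    simp
  rw [norm_eq] at h1 h2
  simp at h2
  have hlin : 2 * v.re + a * v.im = a := by linear_combination h2 - h1
  have hsq : (v.im - 1) * (v.im + 1) = 0 := by
    apply (mul_left_injective₀ hd)
    linear_combination 4 * h1 - (2 * v.re + a * v.im + a) * hlin
  by_cases hi : v.re = 0 ∧ v.im = 1
  · left
    refine Subtype.ext (LinearEquiv.ext fun x => ?_)
    rw [hgx]
    show _ = x
    ext <;> simp [hi.1, hi.2]
  right
  have hva : v.re = a ∧ v.im = -1 := by
    rcases mul_eq_zero.1 hsq with h | h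
    · have hi1 : v.im = 1 := sub_eq_zero.1 h
      rw [hi1] at hlin h1
      have h20 : 2 * v.re = 0 := by linear_combination hlin
      have hr : v.re * (v.re + a) = 0 := by linear_combination h1
      have hr' : v.re = -a := eq_neg_of_add_eq_zero_left
        ((mul_eq_zero.1 hr).resolve_left fun h => hi ⟨h, hi1⟩)
      have hne : v.re ≠ 0 := fun h => hi ⟨h, hi1⟩
      have h22 : (2 : F) = 0 := (mul_eq_zero.1 h20).resolve_right hne
      exact ⟨by linear_combination hr' - a * h22, by linear_combination hi1 + h22⟩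
    · have hi1 : v.im = -1 := eq_neg_of_add_eq_zero_left h
      rw [hi1] at hlin h1
      have h20 : 2 * v.re = 2 * a := by linear_combination hlin
      have hr : v.re * (v.re - a) = 0 := by linear_combination h1
      rcases mul_eq_zero.1 hr with h0 | h0
      · have h2a : (2 : F) * a = 0 := by linear_combination -h20 + 2 * h0
        rcases mul_eq_zero.1 h2a with h22 | ha
        · exact absurd ⟨h0, by linear_combination hi1 - h22⟩ hi
        · exact ⟨by rw [h0, ha], hi1⟩
      · exact ⟨sub_eq_zero.1 h0, hi1⟩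
  refine Subtype.ext (LinearEquiv.ext fun x => ?_)
  rw [hgx, conj_apply]
  ext
  · simp [hva.1]; ring
  · simp [hva.2]

theorem nonempty_normIso_dihedral [Fintype F] (hab : Aniso a b) (hd : 4 * b - a ^ 2 ≠ 0) {q : ℕ}
    (hcard : Nat.card (NormIso a b) = 2 * (q + 1)) :
    Nonempty (NormIso a b ≃* DihedralGroup (q + 1)) := by
  classical
  have : IsDomain (Alg a b) := isDomain_alg hab
  have : Finite (Alg a b) := Finite.of_equiv _ (QuadraticAlgebra.equivProd (-b) a).symm
  have : Finite (normOne a b) := Finite.of_injective (fun z : normOne a b => ((z : (Alg a b)ˣ) : Alg a b))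
    fun z w h => Subtype.ext (Units.ext h)
  have hcyc : IsCyclic (normOne a b) := isCyclic_subgroup_units _
  set n := Nat.card (normOne a b) with hn
  let ε : Multiplicative (ZMod n) ≃* normOne a b := zmodCyclicMulEquiv hcyc
  let φ : DihedralGroup n → NormIso a b
    | .r i => rot (ε (Multiplicative.ofAdd i))
    | .sr i => conj a b * rot (ε (Multiplicative.ofAdd i))
  have hc2 : ∀ z w : normOne a b, conj a b * rot z * (conj a b * rot w) = rot (z⁻¹ * w) := by
    intro z w
    rw [mul_assoc, ← mul_assoc (rot z), rot_mul_conj, mul_assoc, ← mul_assoc, conj_mul_self,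
      one_mul, ← rot_mul]
  have hc1 : ∀ z w : normOne a b, rot z * (conj a b * rot w) = conj a b * rot (z⁻¹ * w) := by
    intro z w
    rw [← mul_assoc, rot_mul_conj, mul_assoc, ← rot_mul]
  let Φ : DihedralGroup n →* NormIso a b := MonoidHom.mk' φ fun x y => by
    rcases x with i | i <;> rcases y with j | j <;>
      simp only [DihedralGroup.r_mul_r, DihedralGroup.r_mul_sr, DihedralGroup.sr_mul_r,
        DihedralGroup.sr_mul_sr, φ]
    · rw [ofAdd_add, map_mul, rot_mul]
    · rw [hc1, sub_eq_neg_add, ofAdd_add, ofAdd_neg, map_mul, map_inv]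
    · rw [ofAdd_add, map_mul, rot_mul, mul_assoc]
    · rw [hc2, sub_eq_neg_add, ofAdd_add, ofAdd_neg, map_mul, map_inv]
  have hrot1 : ∀ z : normOne a b, (rot z : Alg a b ≃ₗ[F] Alg a b) 1 = ((z : (Alg a b)ˣ) : Alg a b) :=
    fun z => by rw [rot_apply, mul_one]
  have hconj : ∀ z w : normOne a b, conj a b * rot z ≠ rot w := by
    intro z w h
    have h' := fun x : Alg a b => LinearEquiv.congr_fun (congrArg Subtype.val h) x
    have h0 : star ((z : (Alg a b)ˣ) : Alg a b) = ((w : (Alg a b)ˣ) : Alg a b) := by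
      have := h' 1
      show star (((z : (Alg a b)ˣ) : Alg a b)) = _
      rw [Subgroup.coe_mul] at this
      simpa [conj_apply, rot_apply] using this
    have hstar : star (⟨0, 1⟩ : Alg a b) = ⟨0, 1⟩ := by
      have := h' ⟨0, 1⟩
      rw [Subgroup.coe_mul, LinearEquiv.mul_apply, rot_apply, rot_apply, conj_apply, star_mul', h0]
        at this
      exact mul_left_cancel₀ w.1.ne_zero this
    have h2 := congrArg QuadraticAlgebra.re hstar
    have h3 := congrArg QuadraticAlgebra.im hstar
    simp at h2 h3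
    exact hd (by rw [h2]; linear_combination -(2 * b) * h3)
  refine nonempty_of_bij Φ ⟨?_, ?_⟩ hcard
  · intro x y h
    rcases x with i | i <;> rcases y with j | j
    · have := congrArg (fun g : NormIso a b => (g : Alg a b ≃ₗ[F] Alg a b) 1) h
      simp only [Φ, MonoidHom.mk'_apply, φ, hrot1] at this
      rw [ε.injective (Subtype.ext (Units.ext this)) |> Multiplicative.ofAdd.injective]
    · exact absurd h.symm (hconj _ _)
    · exact absurd h (hconj _ _)
    · have h' : rot (ε (Multiplicative.ofAdd i)) = rot (ε (Multiplicative.ofAdd j)) := mul_left_cancel h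
      have := congrArg (fun g : NormIso a b => (g : Alg a b ≃ₗ[F] Alg a b) 1) h'
      simp only [hrot1] at this
      rw [ε.injective (Subtype.ext (Units.ext this)) |> Multiplicative.ofAdd.injective]
  · intro g
    have hN : QuadraticAlgebra.norm ((g : Alg a b ≃ₗ[F] Alg a b) 1) = 1 := by
      rw [show QuadraticAlgebra.norm ((g : Alg a b ≃ₗ[F] Alg a b) 1) = QuadraticAlgebra.norm (1 : Alg a b) from g.2 1 1, QuadraticAlgebra.norm_one]
    have hu : IsUnit ((g : Alg a b ≃ₗ[F] Alg a b) 1) := by
      rw [QuadraticAlgebra.isUnit_iff_norm_isUnit, hN]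
      exact isUnit_one
    let z : normOne a b := ⟨hu.unit, mem_normOne.2 hN⟩
    have hz : ((rot z)⁻¹ * g : NormIso a b).1 1 = 1 := by
      rw [Subgroup.coe_mul, LinearEquiv.mul_apply, Subgroup.coe_inv]
      show (rot z : Alg a b ≃ₗ[F] Alg a b).symm _ = 1
      rw [LinearEquiv.symm_apply_eq, hrot1]
      rfl
    rcases eq_one_or_conj hd _ hz with h | h
    · refine ⟨.r (ε.symm z).toAdd, ?_⟩
      simp [Φ, φ, inv_mul_eq_one.1 h]
    · refine ⟨.sr (ε.symm z⁻¹).toAdd, ?_⟩
      simp only [Φ, MonoidHom.mk'_apply, φ, ofAdd_toAdd, MulEquiv.apply_symm_apply]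
      rw [← rot_mul_conj, ← h, mul_inv_cancel_left]
where
  nonempty_of_bij {n q : ℕ} {G : Type _} [Group G] (Φ : DihedralGroup n →* G)
      (h : Function.Bijective Φ) (hc : Nat.card G = 2 * (q + 1)) :
      Nonempty (G ≃* DihedralGroup (q + 1)) := by
    obtain rfl : n = q + 1 := by
      rw [← Nat.card_congr (Equiv.ofBijective Φ h), DihedralGroup.nat_card] at hc
      omega
    exact ⟨(MulEquiv.ofBijective Φ h).symm⟩

theorem isometryGroup_minus_zero_equiv_dihedral [Fintype F] {q : ℕ} (hF : Fintype.card F = q)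
    (hab : Aniso a b) :
    Nonempty (Cfsg.isometryGroup F (Cfsg.quadFormMinus 0 F a b) ≃* DihedralGroup (q + 1)) := by
  rw [← Quad.coe_qMinus]
  let e : Alg a b ≃ₗ[F] ((Fin 0 ⊕ Fin 0) ⊕ Fin 2 → F) :=
    (QuadraticAlgebra.linearEquivTuple (-b) a).trans
      (LinearEquiv.funCongrLeft F F (Equiv.emptySum (Fin 0 ⊕ Fin 0) (Fin 2)))
  have he : ∀ u : Alg a b, Quad.qMinus 0 F a b (e u) = QuadraticAlgebra.norm u := fun u => by
    rw [Quad.coe_qMinus, norm_eq]
    simp [e, Cfsg.quadFormMinus, LinearEquiv.funCongrLeft_apply, LinearMap.funLeft_apply]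
  let E : Cfsg.isometryGroup F ⇑(Quad.qMinus 0 F a b) ≃* NormIso a b :=
    (Quad.oEquiv _).trans (isoCongrEq (f := fun u _ => QuadraticAlgebra.norm u)
      (f' := fun u _ => Quad.qMinus 0 F a b u) e fun u _ => he u).symm
  obtain ⟨ψ⟩ := nonempty_normIso_dihedral hab (Quad.discr_ne_zero hab) (q := q) (by
    rw [← Nat.card_congr E.toEquiv, Quad.card_isometryGroup_eq (Quad.qMinus 0 F a b) rfl,
      Quad.card_OQ_qMinus hF 0 hab]
    simp)
  exact ⟨E.trans ψ⟩

end CfsgLib.Classical.OrthMinus
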