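import Cfsg.Agent.Lib.LocalEven.QdPrime
import Cfsg.Agent.Lib.Classical.Unitary.Matrix
import Cfsg.Prelude.Def_LocalEven

/-!
# `Qd(p)` is not involved in `PSU₃` in the defining characteristic

Every non-trivial `p`-subgroup fixes exactly one isotropic line, so each of its normalisers is an extension of
a `p`-group by an abelian group.
-/

set_option autoImplicit false
set_option linter.all false

namespace CfsgLib.Classical.PSUThreeQd

open CfsgLib.Classical CfsgLib.Classical.Herm
open scoped MatrixGroups commutatorElement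

universe u v

section Group

variable {G : Type u} [Group G] [Finite G] {A : Type v} [CommGroup A] {p : ℕ} [hp : Fact p.Prime]

/-- If every `p`-local subgroup is `p`-by-abelian, no subgroup maps onto `Qd(p)`. -/
theorem not_surjective_qd
    (h : ∀ T : Subgroup G, IsPGroup p T → T ≠ ⊥ →
      ∃ χ : ↥(Subgroup.normalizer (T : Set G)) →* A, IsPGroup p χ.ker)
    (H : Subgroup G) (f : H →* ↥(Cfsg.qdOver (ZMod p))) (hf : Function.Surjective f) : False := by
  classical
  have hblock : Cfsg.pCore p ↥(Cfsg.qdOver (ZMod p)) = (CfsgLib.LocalEven.Qd.block (ZMod p)).ker :=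
    CfsgLib.LocalEven.Qd.pCore_qdOver (F := ZMod p) p
  set V := (CfsgLib.LocalEven.Qd.block (ZMod p)).ker with hV
  have hVp : IsPGroup p V := by
    rw [← hblock]
    exact CfsgLib.Core.isPGroup_pCore p _
  have hV1 : V ≠ ⊥ := by
    intro h0
    have hm : CfsgLib.LocalEven.Qd.mkElt (ZMod p) 1 (Pi.single 0 1) ∈ V := by
      rw [hV, MonoidHom.mem_ker, CfsgLib.LocalEven.Qd.block_mkElt]
    rw [h0, Subgroup.mem_bot] at hm
    have h' := congrArg (fun M : ↥(Cfsg.qdOver (ZMod p)) =>
      ((M : SL(3, ZMod p)) : Matrix (Fin 3) (Fin 3) (ZMod p)) 0 2) hm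
    simp [CfsgLib.LocalEven.Qd.mkElt] at h'
  let M := V.comap f
  obtain ⟨T⟩ : Nonempty (Sylow p M) := inferInstance
  set T' := (T : Subgroup M).map M.subtype
  let fM : M →* V := (f.comp M.subtype).codRestrict V fun x => x.2
  have hfM : Function.Surjective fM := fun v => by
    obtain ⟨x, hx⟩ := hf v.1
    exact ⟨⟨x, show f x ∈ V from hx ▸ v.2⟩, Subtype.ext hx⟩
  have hTV : (T : Subgroup M).map fM = ⊤ := by
    have hs : ((T.mapSurjective hfM : Sylow p V) : Subgroup V) = ⊤ :=
      ((T.mapSurjective hfM).3 (hVp.to_subgroup ⊤) le_top).symm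
    exact hs
  set T'' := T'.map H.subtype
  have hT1 : T'' ≠ ⊥ := by
    intro h0
    rw [Subgroup.map_eq_bot_iff_of_injective _ H.subtype_injective,
      Subgroup.map_eq_bot_iff_of_injective _ M.subtype_injective] at h0
    rw [h0, Subgroup.map_bot] at hTV
    refine hV1 ((Subgroup.eq_bot_iff_forall _).2 fun x hx => ?_)
    have : (⟨x, hx⟩ : V) ∈ (⊥ : Subgroup V) := hTV ▸ Subgroup.mem_top _
    exact congrArg Subtype.val (Subgroup.mem_bot.1 this)
  obtain ⟨χ, hχ⟩ := h T'' ((T.2.map _).map _) hT1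
  set N := Subgroup.normalizer (T' : Set H)
  have hNN : ∀ n : N, ((n : H) : G) ∈ Subgroup.normalizer (T'' : Set G) := fun n =>
    (Subgroup.le_normalizer_map H.subtype) ⟨n.1, n.2, rfl⟩
  let ι : N →* ↥(Subgroup.normalizer (T'' : Set G)) := (H.subtype.comp N.subtype).codRestrict _ hNN
  let ψ := χ.comp ι
  have hψ : IsPGroup p ψ.ker := by
    refine hχ.of_injective ((ι.comp ψ.ker.subtype).codRestrict χ.ker fun x => x.2) fun x y e => ?_
    have e' := congrArg (fun z : χ.ker => ((z.1 : ↥(Subgroup.normalizer (T'' : Set G))) : G)) e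
    exact Subtype.ext (Subtype.ext (Subtype.ext e'))
  let g : N →* ↥(Cfsg.qdOver (ZMod p)) := f.comp N.subtype
  have hg : Function.Surjective g := by
    intro q
    obtain ⟨x, rfl⟩ := hf q
    have hx : x ∈ N ⊔ M := by
      rw [Sylow.normalizer_sup_eq_top T]
      trivial
    rw [← SetLike.mem_coe, Subgroup.mul_normal, Set.mem_mul] at hx
    obtain ⟨a, ha, b, hb, rfl⟩ := hx
    obtain ⟨t, ht, hte⟩ : fM ⟨b, hb⟩ ∈ (T : Subgroup M).map fM := hTV ▸ Subgroup.mem_top _
    refine ⟨⟨a * (t : H), N.mul_mem ha (Subgroup.le_normalizer ⟨t, ht, rfl⟩)⟩, ?_⟩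
    show f (a * (t : H)) = f (a * b)
    rw [map_mul, map_mul]
    exact congrArg (fun z => f a * z) (congrArg Subtype.val hte)
  haveI : (ψ.ker.map g).Normal := Subgroup.Normal.map inferInstance g hg
  have hU : ψ.ker.map g ≤ V := by
    rw [← hblock]
    exact CfsgLib.Core.le_pCore (hψ.map g)
  have hcomm : ∀ a b : SL(2, ZMod p), a * b = b * a := by
    intro a b
    obtain ⟨x, rfl⟩ := CfsgLib.LocalEven.Qd.block_surjective (F := ZMod p) a
    obtain ⟨y, rfl⟩ := CfsgLib.LocalEven.Qd.block_surjective (F := ZMod p) b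
    obtain ⟨x', rfl⟩ := hg x
    obtain ⟨y', rfl⟩ := hg y
    have hm : ⁅g x', g y'⁆ ∈ V := hU ⟨⁅x', y'⁆, by
      rw [SetLike.mem_coe, MonoidHom.mem_ker, map_commutatorElement, commutatorElement_eq_one_iff_mul_comm,
        mul_comm], map_commutatorElement g x' y'⟩
    rw [hV, MonoidHom.mem_ker, map_commutatorElement, commutatorElement_eq_one_iff_mul_comm] at hm
    exact hm
  let u : SL(2, ZMod p) := ⟨!![1, 1; 0, 1], by simp [Matrix.det_fin_two_of]⟩
  let l : SL(2, ZMod p) := ⟨!![1, 0; 1, 1], by simp [Matrix.det_fin_two_of]⟩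
  have h01 : ((u : Matrix (Fin 2) (Fin 2) (ZMod p)) * l) 0 0 = ((l : Matrix (Fin 2) (Fin 2) (ZMod p)) * u) 0 0 := by
    rw [← Matrix.SpecialLinearGroup.coe_mul, ← Matrix.SpecialLinearGroup.coe_mul, hcomm u l]
  simp [u, l, Matrix.mul_apply, Fin.sum_univ_two] at h01

end Group

section Unitary

variable {F : Type*} [Field F] [Finite F] {V : Type*} [AddCommGroup V] [Module F V] [FiniteDimensional F V]
  {σ : F →+* F} {B : V →ₛₗ[σ] V →ₗ[F] F} {p : ℕ} [hp : Fact p.Prime] [CharP F p]

omit [FiniteDimensional F V] in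
/-- A `p`-group fixes a non-zero vector of every non-zero invariant subspace in characteristic `p`. -/
theorem exists_fixed [Finite V] {T : Type*} [Group T] (hT : IsPGroup p T) (ρ : T →* (V ≃ₗ[F] V))
    (W : Submodule F V) (hW : ∀ t, ∀ w ∈ W, ρ t w ∈ W) (hW0 : W ≠ ⊥) :
    ∃ w ∈ W, w ≠ 0 ∧ ∀ t, ρ t w = w := by
  classical
  letI : MulAction T W :=
    { smul := fun t w => ⟨ρ t w, hW t w w.2⟩
      one_smul := fun w => Subtype.ext (show ρ 1 (w : V) = w by rw [map_one]; rfl)
      mul_smul := fun s t w => Subtype.ext (show ρ (s * t) (w : V) = ρ s (ρ t w) by rw [map_mul]; rfl) }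
  haveI : Nontrivial W := Submodule.nontrivial_iff_ne_bot.2 hW0
  have hdvd : p ∣ Nat.card W := by
    obtain ⟨x, hx⟩ := exists_ne (0 : W)
    have hpx : p • x = 0 := by
      rw [← Nat.cast_smul_eq_nsmul F, CharP.cast_eq_zero, zero_smul]
    rw [← addOrderOf_eq_prime hpx hx]
    exact addOrderOf_dvd_natCard x
  obtain ⟨b, hb, hb0⟩ := hT.exists_fixed_point_of_prime_dvd_card_of_fixed_point W hdvd (a := (0 : W))
    fun t => Subtype.ext (map_zero (ρ t))
  exact ⟨b, b.2, fun h => hb0 (Subtype.ext h.symm), fun t => congrArg Subtype.val (hb t)⟩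

variable (h : IsHerm B) (hd : Module.finrank F V = 3)
include h hd

/-- The linear map behind an element of the special unitary group. -/
local notation3 "act" g => (((g : HSU B) : HU B) : V ≃ₗ[F] V)

/-- A non-trivial `p`-group of isometries fixes an isotropic vector. -/
theorem exists_isotropic_fixed (T : Subgroup (HSU B)) (hT : IsPGroup p T) :
    ∃ u : V, u ≠ 0 ∧ B u u = 0 ∧ ∀ t ∈ T, (act t) u = u := by
  haveI : Finite V := Module.finite_of_finite F
  let ρ : T →* (V ≃ₗ[F] V) := (HU B).subtype.comp ((HSU B).subtype.comp T.subtype)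
  have hρ : ∀ (t : T) x y, B (ρ t x) (ρ t y) = B x y := fun t x y => HU.map_eq t.1.1 x y
  haveI : Nontrivial V := Module.nontrivial_of_finrank_pos (R := F) (by omega)
  obtain ⟨w, -, hw0, hw⟩ := exists_fixed hT ρ ⊤ (fun t x _ => Submodule.mem_top) top_ne_bot
  by_cases hww : B w w = 0
  · exact ⟨w, hw0, hww, fun t ht => hw ⟨t, ht⟩⟩
  have hinv : ∀ t, ∀ x ∈ h.perp w, ρ t x ∈ h.perp w := fun t x hx => by
    rw [h.mem_perp] at hx ⊢
    have := hρ t w x
    rwa [hw, hx] at this
  have hne : h.perp w ≠ ⊥ := fun e => by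
    have := h.finrank_perp hww
    rw [e, finrank_bot] at this
    omega
  obtain ⟨w₂, hw₂, hw₂0, hw₂f⟩ := exists_fixed hT ρ _ hinv hne
  by_cases hw22 : B w₂ w₂ = 0
  · exact ⟨w₂, hw₂0, hw22, fun t ht => hw₂f ⟨t, ht⟩⟩
  obtain ⟨a, ha0, ha⟩ := h.scale_to hww (μ := -B w₂ w₂) (by rw [map_neg, h.self_fixed])
    (neg_ne_zero.2 hw22)
  rw [h.mem_perp] at hw₂
  refine ⟨a • w + w₂, fun e => hw22 ?_, ?_, fun t ht => ?_⟩
  · rw [add_eq_zero_iff_neg_eq.1 e |>.symm, ← neg_smul, smul_left]
    rw [add_eq_zero_iff_neg_eq.1 e |>.symm, ← neg_smul, smul_right, mul_eq_zero] at hw₂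
    rcases hw₂ with h1 | h1
    · exact absurd (neg_eq_zero.1 h1) ha0
    · exact absurd h1 hww
  · rw [h.add_self_of_perp (by rw [smul_left, hw₂, mul_zero]), ha, neg_add_cancel]
  · show ρ ⟨t, ht⟩ (a • w + w₂) = _
    rw [map_add, map_smul, hw, hw₂f]

/-- The common perpendicular of two vectors. -/
theorem finrank_perp_pair {u v : V} (hli : LinearIndependent F ![u, v]) :
    Module.finrank F (LinearMap.ker ((B u).prod (B v))) = 1 := by
  have hr := LinearMap.finrank_range_add_finrank_ker ((B u).prod (B v))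
  have hle : Module.finrank F (LinearMap.range ((B u).prod (B v))) ≤ 2 := by
    refine (Submodule.finrank_le _).trans ?_
    simp
  suffices hs : LinearMap.range ((B u).prod (B v)) = ⊤ by
    rw [hs, finrank_top, Module.finrank_prod, Module.finrank_self] at hr
    omega
  by_contra hs
  obtain ⟨φ, hφ, hφ'⟩ := Submodule.exists_le_ker_of_lt_top _ (lt_top_iff_ne_top.2 hs)
  set a := φ (1, 0)
  set b := φ (0, 1)
  have hab : ∀ x y : F, φ (x, y) = x * a + y * b := fun x y => by
    rw [show ((x, y) : F × F) = x • (1, 0) + y • (0, 1) by simp, map_add, map_smul, map_smul]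
    rfl
  have hz : σ a • u + σ b • v = 0 := by
    refine h.nondeg _ fun y => ?_
    have h1 : φ (B u y, B v y) = 0 := LinearMap.mem_ker.1 (hφ' ⟨y, rfl⟩)
    rw [hab] at h1
    rw [add_left, smul_left, smul_left, h.invol.invol, h.invol.invol]
    linear_combination h1
  obtain ⟨ha, hb⟩ := LinearIndependent.pair_iff.1 hli _ _ hz
  refine hφ (LinearMap.ext fun z => ?_)
  rw [show z = (z.1, z.2) from rfl, hab]
  simp [(RingHom.injective σ) (ha.trans (map_zero σ).symm), (RingHom.injective σ) (hb.trans (map_zero σ).symm)]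

/-- An isometry of determinant one fixing two independent isotropic vectors is trivial. -/
theorem eq_one_of_fix_two (g : HSU B) {u v : V} (hu : u ≠ 0) (hli : LinearIndependent F ![u, v])
    (huu : B u u = 0) (hvv : B v v = 0) (hgu : (act g) u = u) (hgv : (act g) v = v) : g = 1 := by
  have hfr := finrank_perp_pair h hd hli
  have huv : B u v ≠ 0 := by
    intro e
    have hmem : ∀ i : Fin 2, ![u, v] i ∈ LinearMap.ker ((B u).prod (B v)) := by
      intro i
      fin_cases i <;> simp [LinearMap.mem_ker, huu, hvv, e, h.eq_zero_symm e]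
    have hli' : LinearIndependent F fun i => (⟨![u, v] i, hmem i⟩ : LinearMap.ker ((B u).prod (B v))) :=
      LinearIndependent.of_comp (LinearMap.ker ((B u).prod (B v))).subtype hli
    have := hli'.fintype_card_le_finrank
    rw [Fintype.card_fin, hfr] at this
    omega
  obtain ⟨⟨z, hz⟩, hz0, -⟩ := finrank_eq_one_iff'.1 hfr
  obtain ⟨hzu, hzv⟩ : B u z = 0 ∧ B v z = 0 := by simpa [LinearMap.mem_ker] using hz
  have hgz : ((act g) z) ∈ LinearMap.ker ((B u).prod (B v)) := by
    have e1 := HU.map_eq g.1 u z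
    have e2 := HU.map_eq g.1 v z
    rw [hgu, hzu] at e1
    rw [hgv, hzv] at e2
    simp [LinearMap.mem_ker, e1, e2]
  obtain ⟨e, he⟩ : ∃ e : F, (act g) z = e • z := by
    obtain ⟨c, hc⟩ := (finrank_eq_one_iff_of_nonzero' _ hz0).1 hfr ⟨_, hgz⟩
    exact ⟨c, (congrArg Subtype.val hc).symm⟩
  have hz0' : z ≠ 0 := fun h' => hz0 (Subtype.ext h')
  have hli3 : LinearIndependent F ![u, v, z] := by
    rw [Fintype.linearIndependent_iff]
    intro c hc
    simp only [Fin.sum_univ_three, Matrix.cons_val_zero, Matrix.cons_val_one, Matrix.cons_val_two,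
      Matrix.tail_cons, Matrix.head_cons] at hc
    have e1 := congrArg (B u) hc
    have e2 := congrArg (B v) hc
    rw [map_add, map_add, smul_right, smul_right, smul_right, huu, hzu, map_zero] at e1
    rw [map_add, map_add, smul_right, smul_right, smul_right, hvv, hzv, map_zero] at e2
    have c1 : c 1 = 0 := by simpa [huv] using e1
    have c0 : c 0 = 0 := by
      have : B v u ≠ 0 := fun e => huv (h.eq_zero_symm e)
      simpa [this] using e2
    rw [c0, c1, zero_smul, zero_smul, zero_add, zero_add] at hc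
    intro i
    fin_cases i
    · exact c0
    · exact c1
    · exact (smul_eq_zero.1 hc).resolve_right hz0'
  let bb := basisOfLinearIndependentOfCardEqFinrank hli3 (by rw [Fintype.card_fin, hd])
  have hbb : ∀ i, bb i = ![u, v, z] i := fun i => by simp [bb]
  have hM : LinearMap.toMatrix bb bb ((act g) : V →ₗ[F] V) = Matrix.diagonal ![1, 1, e] := by
    ext i j
    rw [LinearMap.toMatrix_apply]
    have : (act g) (bb j) = ![(1 : F), 1, e] j • bb j := by
      rw [hbb]
      fin_cases j <;> simp [hgu, hgv, he]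
    rw [LinearEquiv.coe_coe, this, map_smul, bb.repr_self]
    by_cases hij : i = j
    · subst hij; simp
    · simp [hij]
  have hdet : LinearMap.det ((act g) : V →ₗ[F] V) = 1 := by
    have := congrArg Units.val (MonoidHom.mem_ker.1 g.2)
    simpa [HU.det, LinearEquiv.coe_det] using this
  rw [← LinearMap.det_toMatrix bb, hM, Matrix.det_diagonal] at hdet
  simp [Fin.prod_univ_three] at hdet
  subst hdet
  refine Subtype.ext (Subtype.ext (LinearEquiv.toLinearMap_injective (bb.ext fun i => ?_)))
  show (act g) (bb i) = bb i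
  rw [hbb]
  fin_cases i <;> simp [hgu, hgv, he]

/-- An isometry of determinant one fixing an isotropic vector has `p`-power order. -/
theorem pow_eq_one_of_fix (hp2 : p ≠ 2) (g : HSU B) {u : V} (hu : u ≠ 0) (huu : B u u = 0)
    (hgu : (act g) u = u) : g ^ p = 1 := by
  set L : V →ₗ[F] V := ((act g) : V →ₗ[F] V) with hL
  have hLu : L u = u := hgu
  have hperp : ∀ x, B u (L x - x) = 0 := fun x => by
    have := HU.map_eq g.1 u x
    rw [hgu] at this
    rw [map_sub, sub_eq_zero]
    exact this
  obtain ⟨f, hf⟩ := h.exists_apply_eq_one hu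
  obtain ⟨y, hy, hyu⟩ : ∃ y, B u y = 0 ∧ y ∉ Submodule.span F {u} := by
    by_contra hc
    push Not at hc
    have hle : LinearMap.ker (B u) ≤ Submodule.span F {u} := fun x hx => hc x hx
    have h1 := LinearMap.finrank_range_add_finrank_ker (B u)
    have h2 := Submodule.finrank_mono hle
    rw [finrank_span_singleton hu] at h2
    have h3 : Module.finrank F (LinearMap.range (B u)) ≤ 1 :=
      (Submodule.finrank_le _).trans_eq (Module.finrank_self F)
    omega
  have hli : LinearIndependent F ![u, y, f] := by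
    rw [Fintype.linearIndependent_iff]
    intro c hc
    simp only [Fin.sum_univ_three, Matrix.cons_val_zero, Matrix.cons_val_one, Matrix.cons_val_two,
      Matrix.tail_cons, Matrix.head_cons] at hc
    have e1 := congrArg (B u) hc
    rw [map_add, map_add, smul_right, smul_right, smul_right, huu, hy, hf, map_zero] at e1
    have c2 : c 2 = 0 := by simpa using e1
    have c1 : c 1 = 0 := by
      by_contra h1
      refine hyu (Submodule.mem_span_singleton.2 ⟨-((c 1)⁻¹ * c 0), ?_⟩)
      have h' := congrArg ((c 1)⁻¹ • ·) hc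
      simp only [c2, zero_smul, add_zero, smul_add, smul_smul, inv_mul_cancel₀ h1, one_smul, smul_zero] at h'
      rw [neg_smul]
      exact neg_eq_of_add_eq_zero_right h'
    intro i
    fin_cases i
    · simp only [c1, c2, zero_smul, add_zero] at hc
      exact (smul_eq_zero.1 hc).resolve_right hu
    · exact c1
    · exact c2
  let bb := basisOfLinearIndependentOfCardEqFinrank hli (by rw [Fintype.card_fin, hd])
  have hb0 : bb 0 = u := by simp [bb]
  have hb1 : bb 1 = y := by simp [bb]
  have hb2 : bb 2 = f := by simp [bb]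
  have hco : ∀ x, B u x = bb.repr x 2 := fun x => by
    have h' := congrArg (B u) (bb.sum_repr x)
    rw [Fin.sum_univ_three, hb0, hb1, hb2, map_add, map_add, smul_right, smul_right, smul_right, huu, hy, hf,
      mul_zero, mul_zero, mul_one, zero_add, zero_add] at h'
    exact h'.symm
  set M := LinearMap.toMatrix bb bb L with hM
  have hMa : ∀ i j, M i j = bb.repr (L (bb j)) i := fun i j => LinearMap.toMatrix_apply _ _ _ i j
  have hM0 : ∀ i, M i 0 = if i = 0 then 1 else 0 := fun i => by
    rw [hMa, hb0, hLu, ← hb0, bb.repr_self, Finsupp.single_apply]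
    exact if_congr eq_comm rfl rfl
  have hM2 : ∀ j, M 2 j = B u (bb j) := fun j => by
    rw [hMa, ← hco]
    have := hperp (bb j)
    rwa [map_sub, sub_eq_zero] at this
  have hM21 : M 2 1 = 0 := by rw [hM2, hb1, hy]
  have hM22 : M 2 2 = 1 := by rw [hM2, hb2, hf]
  have hdet : LinearMap.det L = 1 := by
    have := congrArg Units.val (MonoidHom.mem_ker.1 g.2)
    simpa [HU.det, LinearEquiv.coe_det] using this
  have hM11 : M 1 1 = 1 := by
    rw [← LinearMap.det_toMatrix bb, ← hM, Matrix.det_fin_three] at hdet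
    simpa [hM0, hM21, hM22] using hdet
  have hNy : ∀ x, B u x = 0 → L (L x - x) - (L x - x) = 0 := by
    intro x hx
    have hx' : x = bb.repr x 0 • u + bb.repr x 1 • y := by
      conv_lhs => rw [← bb.sum_repr x]
      rw [Fin.sum_univ_three, hb0, hb1, hb2, ← hco, hx, zero_smul, add_zero]
    have hLy : L y = M 0 1 • u + y := by
      conv_lhs => rw [← bb.sum_repr (L y)]
      rw [Fin.sum_univ_three, hb0, hb1, hb2, ← hb1, ← hMa, ← hMa, ← hMa, hM11, hM21, zero_smul, add_zero,
        one_smul, hb1]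
    have : L x - x = (bb.repr x 1 * M 0 1) • u := by
      conv_lhs => rw [hx', map_add, map_smul, map_smul, hLu, hLy]
      module
    rw [this, map_smul, hLu, sub_self]
  have hpow : ∀ (k : ℕ) (x : V), (act (g ^ k)) x =
      x + (k : F) • (L x - x) + (k.choose 2 : F) • (L (L x - x) - (L x - x)) := by
    intro k x
    induction k with
    | zero => simp
    | succ k ih =>
      have e : (act (g ^ (k + 1))) x = L ((act (g ^ k)) x) := by rw [pow_succ']; rfl
      set n := L x - x with hn
      set m := L n - n with hm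
      have hLm : L m - m = 0 := hNy n (hperp x)
      rw [e, ih, map_add, map_add, map_smul, map_smul, sub_eq_zero.1 hLm,
        show L x = x + n by rw [hn]; abel, show L n = n + m by rw [hm]; abel,
        Nat.choose_succ_succ', Nat.choose_one_right]
      push_cast
      module
  refine Subtype.ext (Subtype.ext (LinearEquiv.ext fun x => ?_))
  rw [hpow p x, CharP.cast_eq_zero, zero_smul, add_zero,
    (CharP.cast_eq_zero_iff F p _).2 (hp.out.dvd_choose_self (by norm_num)
      (lt_of_le_of_ne hp.out.two_le (Ne.symm hp2))), zero_smul, add_zero]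
  rfl

/-- Every `p`-local subgroup of the special unitary group is `p`-by-abelian. -/
theorem exists_char (hp2 : p ≠ 2) (T : Subgroup (HSU B)) (hT : IsPGroup p T) (hT1 : T ≠ ⊥) :
    ∃ χ : ↥(Subgroup.normalizer (T : Set (HSU B))) →* Fˣ, IsPGroup p χ.ker := by
  obtain ⟨u, hu, huu, hfix⟩ := exists_isotropic_fixed h hd T hT
  have hline : ∀ n ∈ Subgroup.normalizer (T : Set (HSU B)), ∃ a : Fˣ, (act n) u = (a : F) • u := by
    intro n hn
    by_contra hcon
    push Not at hcon
    set v := (act n) u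
    have hli : LinearIndependent F ![u, v] := by
      rw [LinearIndependent.pair_iff' hu]
      intro a ha
      have ha0 : a ≠ 0 := fun e => hu ((act n).map_eq_zero_iff.1 (by
        show v = 0
        rw [← ha, e, zero_smul]))
      exact hcon (Units.mk0 a ha0) ha.symm
    refine hT1 ((Subgroup.eq_bot_iff_forall _).2 fun t ht => ?_)
    refine eq_one_of_fix_two h hd t hu hli huu ((HU.map_eq n.1 u u).trans huu) (hfix t ht) ?_
    have ht' : n⁻¹ * t * n ∈ T := by
      have := (Subgroup.mem_normalizer_iff.1 (inv_mem hn) t).1 ht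
      rwa [inv_inv] at this
    have e := hfix _ ht'
    have e2 : (act n) ((act (n⁻¹ * t * n)) u) = (act t) ((act n) u) := by
      show (act (n * (n⁻¹ * t * n))) u = (act (t * n)) u
      rw [← mul_assoc, ← mul_assoc, mul_inv_cancel, one_mul]
    rw [e] at e2
    exact e2.symm
  choose a ha using hline
  let χ : ↥(Subgroup.normalizer (T : Set (HSU B))) →* Fˣ :=
    MonoidHom.mk' (fun n => a n.1 n.2) fun m n => by
      refine Units.ext (smul_left_injective F hu ?_)
      show ((a (m * n : _).1 (m * n : _).2 : Fˣ) : F) • u = ((a m.1 m.2 * a n.1 n.2 : Fˣ) : F) • u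
      rw [← ha, Units.val_mul, mul_comm, mul_smul, ← ha m.1 m.2, ← map_smul, ← ha n.1 n.2]
      rfl
  refine ⟨χ, fun n => ⟨1, Subtype.ext (Subtype.ext ?_)⟩⟩
  rw [pow_one]
  refine pow_eq_one_of_fix h hd hp2 n.1.1 hu huu ?_
  rw [ha n.1.1 n.1.2, show a n.1.1 n.1.2 = 1 from n.2, Units.val_one, one_smul]

end Unitary

/-- `Qd(p)` is not involved in `PSU₃`. -/
theorem not_involves_psu {p : ℕ} [Fact p.Prime] (hp : p ≠ 2) {K : Type*} [Field K] [Fintype K]
    [CharP K p] {q : ℕ} (hK : Fintype.card K = q ^ 2) :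
    ¬ Cfsg.Involves ↥(Cfsg.qd p) (Cfsg.PSU 3 K q) := by
  rintro ⟨M, R, hR, ⟨e⟩⟩
  haveI := hR
  let π : ↥(Cfsg.SU 3 K q) →* Cfsg.PSU 3 K q := QuotientGroup.mk' _
  let eU := suEquiv 3 hK
  let H := (M.comap π).map eU.toMonoidHom
  let r : H →* M := (π.comp (eU.symm.toMonoidHom.comp H.subtype)).codRestrict M fun x => by
    obtain ⟨y, hy, hyx⟩ := x.2
    show π (eU.symm x.1) ∈ M
    rw [← hyx]
    simpa using hy
  have hr : Function.Surjective r := fun m => by
    obtain ⟨y, hy⟩ := QuotientGroup.mk'_surjective _ (m : Cfsg.PSU 3 K q)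
    refine ⟨⟨eU y, y, show π y ∈ M from hy ▸ m.2, rfl⟩, Subtype.ext ?_⟩
    show π (eU.symm (eU y)) = _
    rw [MulEquiv.symm_apply_apply]
    exact hy
  haveI : Finite ↥(HSU (hermStd 3 hK)) := Finite.of_equiv _ eU.toEquiv
  refine not_surjective_qd (A := Kˣ) (fun T hT hT1 => exists_char (hermStd_isHerm hK) (Module.finrank_fin_fun K) hp T hT hT1)
    H ((e.toMonoidHom.comp (QuotientGroup.mk' (R.subgroupOf M))).comp r) ?_
  exact (e.surjective.comp (QuotientGroup.mk'_surjective _)).comp hr

end CfsgLib.Classical.PSUThreeQd
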