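import Cfsg.Agent.Lib.Classical.Quad.StandardForms
import Cfsg.Agent.Lib.Classical.Symplectic.Geometry
import Cfsg.Agent.Lib.Classical.RingTransfer

/-!
Representations of symmetric groups on the even-weight module over the field with two elements.
-/

set_option autoImplicit false

namespace CfsgLib.Classical

open LinearMap (BilinForm)
open scoped Matrix

variable {N : ℕ} {W : Type*} [AddCommGroup W] [Module (ZMod 2) W]

/-- The even-weight module, or its quotient by the all-ones vector, given by a section. -/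
structure EvenSection (N : ℕ) (W : Type*) [AddCommGroup W] [Module (ZMod 2) W] where
  /-- The projection. -/
  T : (Fin N → ZMod 2) →ₗ[ZMod 2] W
  /-- The section. -/
  S : W →ₗ[ZMod 2] (Fin N → ZMod 2)
  TS : ∀ w, T (S w) = w
  T_one : T 1 = 0
  sum_S : ∀ w, ∑ i, S w i = 0
  ST : ∀ v, ∑ i, v i = 0 → ∃ c : ZMod 2, S (T v) = v + c • 1

namespace EvenSection

variable (D : EvenSection N W)

/-- The action of a permutation. -/
def actMap (σ : Equiv.Perm (Fin N)) : W →ₗ[ZMod 2] W :=
  D.T.comp ((LinearMap.funLeft (ZMod 2) (ZMod 2) ⇑σ.symm).comp D.S)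

theorem actMap_apply (σ : Equiv.Perm (Fin N)) (w : W) : D.actMap σ w = D.T (D.S w ∘ σ.symm) := rfl

theorem actMap_T (σ : Equiv.Perm (Fin N)) {v : Fin N → ZMod 2} (hv : ∑ i, v i = 0) :
    D.actMap σ (D.T v) = D.T (v ∘ σ.symm) := by
  obtain ⟨c, hc⟩ := D.ST v hv
  rw [actMap_apply, hc, show (v + c • (1 : Fin N → ZMod 2)) ∘ σ.symm = v ∘ σ.symm + c • 1 from rfl,
    map_add, map_smul, D.T_one, smul_zero, add_zero]

theorem actMap_mul (σ τ : Equiv.Perm (Fin N)) (w : W) :
    D.actMap (σ * τ) w = D.actMap σ (D.actMap τ w) := by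
  rw [D.actMap_apply τ, D.actMap_T σ]
  · rfl
  · rw [← D.sum_S w]
    exact Equiv.sum_comp τ.symm (D.S w)

theorem actMap_one (w : W) : D.actMap 1 w = w := by
  rw [actMap_apply]
  exact D.TS w

/-- The representation. -/
def rep : Equiv.Perm (Fin N) →* (W ≃ₗ[ZMod 2] W) where
  toFun σ := LinearEquiv.ofLinear (D.actMap σ) (D.actMap σ⁻¹)
    (LinearMap.ext fun w => by
      show D.actMap σ (D.actMap σ⁻¹ w) = w
      rw [← actMap_mul, mul_inv_cancel, actMap_one])
    (LinearMap.ext fun w => by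
      show D.actMap σ⁻¹ (D.actMap σ w) = w
      rw [← actMap_mul, inv_mul_cancel, actMap_one])
  map_one' := LinearEquiv.ext fun w => D.actMap_one w
  map_mul' σ τ := LinearEquiv.ext fun w => D.actMap_mul σ τ w

theorem rep_apply (σ : Equiv.Perm (Fin N)) (w : W) : D.rep σ w = D.T (D.S w ∘ σ.symm) := rfl

theorem rep_injective (hN : 5 ≤ N) : Function.Injective D.rep := by
  rw [injective_iff_map_eq_one]
  intro σ hσ
  by_contra hne
  obtain ⟨i, hi⟩ : ∃ i, σ i ≠ i := by
    by_contra! h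
    exact hne (Equiv.ext h)
  obtain ⟨k, hk⟩ : ∃ k, k ∉ ({i, σ i, σ.symm i} : Finset (Fin N)) := by
    by_contra! h
    have h1 := Finset.card_le_card (s := Finset.univ) (t := {i, σ i, σ.symm i}) fun x _ => h x
    have := Finset.card_le_three (a := i) (b := σ i) (c := σ.symm i)
    rw [Finset.card_univ, Fintype.card_fin] at h1; omega
  simp only [Finset.mem_insert, Finset.mem_singleton, not_or] at hk
  let e : Fin N → ZMod 2 := Pi.single i 1 + Pi.single k 1
  have he : ∑ j, e j = 0 := by simp [e, Finset.sum_add_distrib]; decide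
  have h := D.actMap_T σ he
  have h' : D.actMap σ (D.T e) = D.T e := LinearEquiv.congr_fun hσ (D.T e)
  rw [h'] at h
  obtain ⟨c, hc⟩ := D.ST e he
  obtain ⟨c', hc'⟩ := D.ST (e ∘ σ.symm) (by rw [← he]; exact Equiv.sum_comp σ.symm e)
  rw [← h, hc] at hc'
  obtain ⟨l, hl⟩ : ∃ l, l ∉ ({i, k, σ i, σ k} : Finset (Fin N)) := by
    by_contra! h
    have h1 := Finset.card_le_card (s := Finset.univ) (t := {i, k, σ i, σ k}) fun x _ => h x
    have := Finset.card_le_four (a := i) (b := k) (c := σ i) (d := σ k)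
    rw [Finset.card_univ, Fintype.card_fin] at h1; omega
  simp only [Finset.mem_insert, Finset.mem_singleton, not_or] at hl
  have h1 := congrFun hc' i
  have h2 := congrFun hc' l
  have hik : i ≠ k := Ne.symm hk.1
  have hsi : σ.symm i ≠ i := fun h => hi (by rw [← h, Equiv.apply_symm_apply, h])
  have hl1 : σ.symm l ≠ i := fun h => hl.2.2.1 (by rw [← h, Equiv.apply_symm_apply])
  have hl2 : σ.symm l ≠ k := fun h => hl.2.2.2 (by rw [← h, Equiv.apply_symm_apply])
  simp [e, hik, hsi, hk.2.2, hl.1, hl.2.1, hl1, hl2, Ne.symm hk.2.2] at h1 h2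
  subst h2
  simp at h1

/-- An invariant binary function restricts the range. -/
theorem rep_mem {X : Type*} (f : W → W → X) (f' : (Fin N → ZMod 2) → (Fin N → ZMod 2) → X)
    (h : ∀ u v, ∑ i, u i = 0 → ∑ i, v i = 0 → f (D.T u) (D.T v) = f' u v)
    (hf : ∀ (σ : Equiv.Perm (Fin N)) u v, f' (u ∘ σ) (v ∘ σ) = f' u v) (σ : Equiv.Perm (Fin N)) :
    D.rep σ ∈ Iso (ZMod 2) f := fun u v => by
  have hs : ∀ w, ∑ i, (D.S w ∘ σ.symm) i = 0 := fun w =>
    (Equiv.sum_comp σ.symm (D.S w)).trans (D.sum_S w)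
  rw [rep_apply, rep_apply, h _ _ (hs u) (hs v), hf σ.symm, ← h _ _ (D.sum_S u) (D.sum_S v), D.TS,
    D.TS]

/-- Transport along a linear equivalence. -/
def map {W' : Type*} [AddCommGroup W'] [Module (ZMod 2) W'] (e : W ≃ₗ[ZMod 2] W') :
    EvenSection N W' where
  T := (e : W →ₗ[ZMod 2] W').comp D.T
  S := D.S.comp (e.symm : W' →ₗ[ZMod 2] W)
  TS w := by simp [D.TS]
  T_one := by simp [D.T_one]
  sum_S w := D.sum_S _
  ST v hv := by simpa using D.ST v hv

end EvenSection

/-- The sum of the coordinates. -/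
def sumForm (N : ℕ) : (Fin N → ZMod 2) →ₗ[ZMod 2] ZMod 2 :=
  ∑ i, LinearMap.proj i

theorem sumForm_apply (v : Fin N → ZMod 2) : sumForm N v = ∑ i, v i := by
  simp [sumForm]

/-- Even-weight vectors vanishing at the last coordinate. -/
def evenTail (n : ℕ) : Submodule (ZMod 2) (Fin (n + 1) → ZMod 2) :=
  LinearMap.ker ((sumForm (n + 1)).prod (LinearMap.proj (Fin.last n)))

theorem mem_evenTail {n : ℕ} {v : Fin (n + 1) → ZMod 2} :
    v ∈ evenTail n ↔ ∑ i, v i = 0 ∧ v (Fin.last n) = 0 := by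
  simp [evenTail, sumForm_apply, Prod.ext_iff]

theorem finrank_evenTail (n : ℕ) (hn : 1 ≤ n) :
    Module.finrank (ZMod 2) (evenTail n) + 2 = n + 1 := by
  let L := (sumForm (n + 1)).prod (LinearMap.proj (R := ZMod 2) (φ := fun _ => ZMod 2) (Fin.last n))
  have hs : Function.Surjective L := fun p => by
    obtain ⟨m, rfl⟩ : ∃ m, n = m + 1 := ⟨n - 1, by omega⟩
    refine ⟨Pi.single 0 (p.1 - p.2) + Pi.single (Fin.last (m + 1)) p.2, Prod.ext ?_ ?_⟩
    · simp [L, sumForm_apply, Finset.sum_add_distrib]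
    · simp [L, Pi.single_apply, Fin.last_pos.ne']
  have h := LinearMap.finrank_range_add_finrank_ker L
  rw [LinearMap.range_eq_top.2 hs, finrank_top, Module.finrank_prod, Module.finrank_self,
    Module.finrank_fin_fun] at h
  show Module.finrank (ZMod 2) (LinearMap.ker L) + 2 = n + 1
  omega

/-- The section for the quotient of the even-weight module by the all-ones vector. -/
def evenTailSection (n : ℕ) (hn : Even (n + 1)) : EvenSection (n + 1) (evenTail n) where
  T :=
    { toFun := fun v => ⟨v + (∑ i, v i) • Pi.single (Fin.last n) 1 +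
          (v (Fin.last n) + ∑ i, v i) • (1 : Fin (n + 1) → ZMod 2), mem_evenTail.2 ⟨by
        have h0 : ((n : ZMod 2) + 1) = 0 := by
          exact_mod_cast (ZMod.natCast_eq_zero_iff_even.2 hn : ((n + 1 : ℕ) : ZMod 2) = 0)
        simp [Finset.sum_add_distrib, h0, Pi.single_apply, CharTwo.add_self_eq_zero],
        by simp [← add_assoc, CharTwo.add_self_eq_zero]⟩⟩
      map_add' := fun u v => Subtype.ext (funext fun i => by
        simp [Finset.sum_add_distrib]; ring)
      map_smul' := fun c v => Subtype.ext (funext fun i => by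
        simp [← Finset.mul_sum]; ring) }
  S := (evenTail n).subtype
  TS w := Subtype.ext (funext fun i => by
    have h := mem_evenTail.1 w.2
    simp [h.1, h.2])
  T_one := Subtype.ext (funext fun i => by
    have h0 : ((n : ZMod 2) + 1) = 0 := by
      exact_mod_cast (ZMod.natCast_eq_zero_iff_even.2 hn : ((n + 1 : ℕ) : ZMod 2) = 0)
    simp [h0, CharTwo.add_self_eq_zero])
  sum_S w := (mem_evenTail.1 w.2).1
  ST v hv := ⟨v (Fin.last n), funext fun i => by simp [hv]⟩

/-- The dot product on `evenTail`. -/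
noncomputable def tailBil (n : ℕ) : BilinForm (ZMod 2) (evenTail n) :=
  LinearMap.BilinForm.restrict (Matrix.toBilin' (1 : Matrix (Fin (n + 1)) (Fin (n + 1)) (ZMod 2))) (evenTail n)

theorem tailBil_apply {n : ℕ} (u v : evenTail n) :
    tailBil n u v = (u : Fin (n + 1) → ZMod 2) ⬝ᵥ (v : Fin (n + 1) → ZMod 2) := by
  show Matrix.toBilin' (1 : Matrix (Fin (n + 1)) (Fin (n + 1)) (ZMod 2)) _ _ = _
  rw [Matrix.toBilin'_apply', Matrix.one_mulVec]
  rfl

theorem tailBil_isAlt (n : ℕ) : (tailBil n).IsAlt := fun u => by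
  rw [tailBil_apply, dotProduct]
  have h : ∀ x : ZMod 2, x * x = x := by decide
  simp only [h, (mem_evenTail.1 u.2).1]

theorem tailBil_nondegenerate (n : ℕ) (hn : Even (n + 1)) : (tailBil n).Nondegenerate := by
  have hleft : ∀ u, (∀ v, tailBil n u v = 0) → u = 0 := by
    intro u hu
    apply Subtype.ext
    obtain ⟨hs, hl⟩ := mem_evenTail.1 u.2
    have hc : ∀ i j, i ≠ Fin.last n → j ≠ Fin.last n →
        (u : Fin (n + 1) → ZMod 2) i = (u : Fin (n + 1) → ZMod 2) j := by
      intro i j hi hj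
      have h := hu ⟨Pi.single i 1 - Pi.single j 1, mem_evenTail.2 ⟨by simp,
        by simp [Pi.single_apply, Ne.symm hi, Ne.symm hj]⟩⟩
      rw [tailBil_apply] at h
      simpa [dotProduct_sub, sub_eq_zero] using h
    funext i
    by_cases hi : i = Fin.last n
    · rw [hi]; exact hl
    rw [← Finset.sum_erase_add _ _ (Finset.mem_univ (Fin.last n)), hl, add_zero,
      Finset.sum_congr rfl (fun j hj => (hc j i (Finset.ne_of_mem_erase hj) hi)),
      Finset.sum_const, Finset.card_erase_of_mem (Finset.mem_univ _), Finset.card_univ,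
      Fintype.card_fin, nsmul_eq_mul, Nat.add_sub_cancel,
      show ((n : ZMod 2)) = 1 from ZMod.natCast_eq_one_iff_odd.2 (by
        simpa [Nat.even_add_one] using hn), one_mul] at hs
    exact hs
  refine ⟨hleft, fun v hv => hleft v fun w => ?_⟩
  rw [tailBil_apply, dotProduct_comm, ← tailBil_apply]
  exact hv w

theorem symm_embeds_symplectic (n : ℕ) (hn : 3 ≤ n) :
    ∃ f : Equiv.Perm (Fin (2 * n)) →* Matrix.symplecticGroup (Fin (n - 1)) (ZMod 2),
      Function.Injective f := by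
  obtain ⟨k, hk⟩ : ∃ k, 2 * n = k + 1 := ⟨2 * n - 1, by omega⟩
  rw [hk]
  have hke : Even (k + 1) := ⟨n, by omega⟩
  obtain ⟨ι, hι⟩ := Symp.exists_isometry (tailBil_isAlt k) (tailBil_nondegenerate k hke)
    (Symp.sympBil_isAlt (n - 1) (ZMod 2)) (Symp.sympBil_nondegenerate (n - 1) (ZMod 2))
    (by rw [Symp.finrank_sympSpace]; have := finrank_evenTail k (by omega); omega)
  let D := (evenTailSection k hke).map ι
  have hmem : ∀ σ, D.rep σ ∈ Symp.Sp (Symp.sympBil (n - 1) (ZMod 2)) :=
    D.rep_mem _ (fun u v => u ⬝ᵥ v) (fun u v hu hv => by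
      show Symp.sympBil (n - 1) (ZMod 2) (ι _) (ι _) = _
      rw [hι, tailBil_apply]
      have h0 : ((k : ZMod 2) + 1) = 0 := by
        exact_mod_cast (ZMod.natCast_eq_zero_iff_even.2 hke : ((k + 1 : ℕ) : ZMod 2) = 0)
      show (u + (∑ i, u i) • _ + (u (Fin.last k) + ∑ i, u i) • (1 : Fin (k + 1) → ZMod 2)) ⬝ᵥ
        (v + (∑ i, v i) • _ + (v (Fin.last k) + ∑ i, v i) • (1 : Fin (k + 1) → ZMod 2)) = _
      simp [hu, hv, add_dotProduct, dotProduct_add, dotProduct_one, one_dotProduct, h0, Finset.sum_add_distrib])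
      (fun σ u v => Equiv.sum_comp σ fun i => u i * v i)
  refine ⟨(Symp.symplecticEquiv (n - 1) (ZMod 2)).symm.toMonoidHom.comp (D.rep.codRestrict _ hmem),
    fun σ τ h => D.rep_injective (by omega) ?_⟩
  exact congrArg Subtype.val ((Symp.symplecticEquiv (n - 1) (ZMod 2)).symm.injective h)

theorem symplectic_four_two_equiv {F : Type*} [Field F] [Fintype F] (hF : Fintype.card F = 2) :
    Nonempty (Matrix.symplecticGroup (Fin 2) F ≃* Equiv.Perm (Fin 6)) := by
  obtain ⟨e⟩ := exists_zmod_equiv F (p := 2) hF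
  obtain ⟨f, hf⟩ : ∃ f : Equiv.Perm (Fin 6) →* Matrix.symplecticGroup (Fin 2) (ZMod 2),
      Function.Injective f := symm_embeds_symplectic 3 le_rfl
  refine nonempty_mulEquiv_of_injective ((symplecticMap e (Fin 2)).toMonoidHom.comp f)
    ((symplecticMap e (Fin 2)).injective.comp hf) ?_
  rw [Symp.card_symplecticGroup, hF, Nat.card_perm, Nat.card_eq_fintype_card, Fintype.card_fin]
  simp [Finset.prod_range_succ, Nat.factorial]

/-! ### Orthogonal groups -/

/-- Half the weight, modulo 2. -/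
def halfWeight {N : ℕ} (v : Fin N → ZMod 2) : ZMod 2 :=
  ((∑ i, (v i).val) / 2 : ℕ)

theorem halfWeight_comp {N : ℕ} (σ : Equiv.Perm (Fin N)) (v : Fin N → ZMod 2) :
    halfWeight (v ∘ σ) = halfWeight v := by
  unfold halfWeight
  rw [show (∑ i, ((v ∘ σ) i).val) = ∑ i, (v i).val from Equiv.sum_comp σ fun i => (v i).val]

theorem exists_embedding_isometryGroup {N : ℕ} (hN : 5 ≤ N) {ι : Type} [Fintype ι] [DecidableEq ι]
    (Q : QuadraticForm (ZMod 2) (ι → ZMod 2)) (D : EvenSection N (ι → ZMod 2))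
    (h : ∀ v, ∑ i, v i = 0 → Q (D.T v) = halfWeight v) :
    ∃ f : Equiv.Perm (Fin N) →* Cfsg.isometryGroup (ZMod 2) ⇑Q, Function.Injective f := by
  have hmem : ∀ σ, D.rep σ ∈ Quad.OQ Q :=
    D.rep_mem _ (fun u _ => halfWeight u) (fun u _ hu _ => h u hu)
      (fun σ u _ => halfWeight_comp σ u)
  refine ⟨(Quad.oEquiv Q).symm.toMonoidHom.comp (D.rep.codRestrict _ hmem),
    fun σ τ h => D.rep_injective hN ?_⟩
  exact congrArg Subtype.val ((Quad.oEquiv Q).symm.injective h)

end CfsgLib.Classical
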