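import Cfsg.Agent.Lib.Classical.SL2Structure
import Cfsg.Agent.Lib.Classical.LinearOrder
import Mathlib.LinearAlgebra.Projectivization.PSL.PSL2

/-!
# Commuting pairs of `SL(2,q)`, `q` odd, meeting in their centre

A normal subgroup of `L₁L₂` isomorphic to `L₁` is `L₁` or lies in `L₂`.
-/

namespace CfsgLib.Classical.SL2Pair

open Matrix CfsgLib.Classical.Two
open scoped MatrixGroups commutatorElement

variable {F : Type*} [Field F] [Fintype F]

theorem two_ne_zero (hF : Odd (Fintype.card F)) : (2 : F) ≠ 0 :=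
  Ring.two_ne_zero fun h => by
    rw [FiniteField.even_card_iff_char_two] at h
    rw [Nat.odd_iff] at hF
    omega

theorem hom_trivial (hF : Odd (Fintype.card F)) {A : Type*} [Group A]
    (f : SL(2, F) →* A) (hA : ∀ x, f x * f x = 1) (x : SL(2, F)) : f x = 1 := by
  refine SL2.transvection_induction (fun x => f x = 1) (fun i j hij b => ?_)
    (fun u v hu hv => by rw [map_mul, hu, hv, one_mul]) x
  have e : SpecialLinearGroup.transvection hij b =
      SpecialLinearGroup.transvection hij (b / 2) * SpecialLinearGroup.transvection hij (b / 2) := by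
    have := two_ne_zero hF
    rw [← SpecialLinearGroup.transvection_add]
    congr 1
    field_simp
    ring
  show f (SpecialLinearGroup.transvection hij b) = 1
  rw [e, map_mul, hA]

theorem mem_center_cases {x : SL(2, F)} (hx : x ∈ Subgroup.center (SL(2, F))) : x = 1 ∨ x = -1 := by
  obtain ⟨r, hr, hr'⟩ := Matrix.SpecialLinearGroup.mem_center_iff.1 hx
  rw [Fintype.card_fin] at hr
  rcases sq_eq_one_iff.1 hr with rfl | rfl
  · left; exact Subtype.ext (by rw [← hr']; simp)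
  · right; exact Subtype.ext (by
      rw [← hr', SpecialLinearGroup.coe_neg]
      ext a b
      fin_cases a <;> fin_cases b <;> simp)

/-- Index `≤ 2` centralizers are everything. -/
theorem three_le_class (hF : Odd (Fintype.card F)) {x : SL(2, F)} (hx : x ∉ Subgroup.center (SL(2, F))) :
    3 ≤ (Subgroup.centralizer ({x} : Set (SL(2, F)))).index := by
  set C := Subgroup.centralizer ({x} : Set (SL(2, F)))
  have h0 : C.index ≠ 0 := Subgroup.index_ne_zero_of_finite
  have h1 : C.index ≠ 1 := fun h => hx (Subgroup.mem_center_iff.2 fun g => by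
    rw [Subgroup.index_eq_one] at h
    exact Subgroup.mem_centralizer_singleton_iff.1 (h ▸ Subgroup.mem_top g : g ∈ C))
  have h2 : C.index ≠ 2 := fun h => by
    have : C.Normal := Subgroup.normal_of_index_eq_two h
    refine h1 (Subgroup.index_eq_one.2 (top_unique fun g _ => ?_))
    refine (QuotientGroup.eq_one_iff g).1 (hom_trivial hF (QuotientGroup.mk' C) (fun y => ?_) g)
    rw [← map_mul, QuotientGroup.mk'_apply, QuotientGroup.eq_one_iff]
    exact Subgroup.mul_self_mem_of_index_two h y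
  omega

/-- A non-central normal subgroup has at least eight elements. -/
theorem eight_le_card (hF : Odd (Fintype.card F)) (A : Subgroup (SL(2, F))) [hA : A.Normal]
    (hZ : (-1 : SL(2, F)) ∈ A) {x : SL(2, F)} (hxA : x ∈ A) (hx : x ∉ Subgroup.center (SL(2, F))) :
    8 ≤ Nat.card A := by
  classical
  have hne : (-1 : SL(2, F)) ≠ 1 := neg_one_ne_one_SL (two_ne_zero hF)
  have hcls : ∀ y : SL(2, F), y ∈ A → y ∉ Subgroup.center (SL(2, F)) →
      ∃ f : Fin 3 → SL(2, F), Function.Injective f ∧ ∀ i, f i ∈ A ∧ IsConj y (f i) := by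
    intro y hy hyc
    have h3 := three_le_class hF hyc
    obtain ⟨e⟩ : Nonempty (Fin 3 ↪ SL(2, F) ⧸ Subgroup.centralizer ({y} : Set (SL(2, F)))) := by
      refine Function.Embedding.nonempty_of_card_le ?_
      rwa [Fintype.card_fin, ← Nat.card_eq_fintype_card, ← Subgroup.index_eq_card]
    refine ⟨fun i => (e i).out * y * (e i).out⁻¹, fun i j h => e.injective ?_,
      fun i => ⟨hA.conj_mem y hy _, isConj_iff.2 ⟨_, rfl⟩⟩⟩
    rw [← (e i).out_eq, ← (e j).out_eq]
    refine QuotientGroup.eq.2 (Subgroup.mem_centralizer_singleton_iff.2 ?_)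
    have h' : (e i).out * y * (e i).out⁻¹ = (e j).out * y * (e j).out⁻¹ := h
    calc (e i).out⁻¹ * (e j).out * y = (e i).out⁻¹ * ((e j).out * y * (e j).out⁻¹) * (e j).out := by group
      _ = _ := by rw [← h']; group
  have hord : ∀ y z : SL(2, F), IsConj y z → orderOf y = orderOf z := fun y z h => by
    obtain ⟨c, rfl⟩ := isConj_iff.1 h
    exact ((MulAut.conj c).orderOf_eq y).symm
  have hcen : ∀ y z : SL(2, F), y ∉ Subgroup.center (SL(2, F)) → IsConj y z → z ≠ 1 ∧ z ≠ -1 := by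
    intro y z hy h
    obtain ⟨c, hc⟩ := isConj_iff.1 h.symm
    refine ⟨fun e => hy ?_, fun e => hy ?_⟩
    · rw [← hc, e]; simp
    · rw [← hc, e]
      have hm : (-1 : SL(2, F)) ∈ Subgroup.center (SL(2, F)) :=
        Subgroup.mem_center_iff.2 fun g => by simp
      exact (Subgroup.instNormalCenter (G := SL(2, F))).conj_mem _ hm c
  -- at least five elements
  obtain ⟨f, hf, hfm⟩ := hcls x hxA hx
  have h5 : 5 ≤ Nat.card A := by
    let g : Fin 5 → A := ![⟨1, one_mem _⟩, ⟨-1, hZ⟩, ⟨f 0, (hfm 0).1⟩, ⟨f 1, (hfm 1).1⟩, ⟨f 2, (hfm 2).1⟩]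
    have hg : Function.Injective g := by
      intro i j hij
      have h' := congrArg Subtype.val hij
      have a := fun i => hcen x _ hx (hfm i).2
      have b := fun (i j : Fin 3) (h : f i = f j) => hf h
      fin_cases i <;> fin_cases j <;> simp [g] at h' ⊢ <;>
        first
          | exact hne h'
          | exact hne h'.symm
          | exact (a _).1 h'
          | exact (a _).1 h'.symm
          | exact (a _).2 h'
          | exact (a _).2 h'.symm
          | exact absurd (b _ _ h') (by decide)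
    simpa using Nat.card_le_card_of_injective g hg
  have hdvd : 2 ∣ Nat.card A := by
    have h := orderOf_dvd_natCard (⟨-1, hZ⟩ : A)
    have h2 : orderOf (-1 : SL(2, F)) = 2 := orderOf_eq_prime (by simp) hne
    rwa [← Subgroup.orderOf_coe, h2] at h
  by_contra hlt
  push Not at hlt
  have h6 : Nat.card A = 6 := by omega
  have : Fact (Nat.Prime 3) := ⟨Nat.prime_three⟩
  obtain ⟨y, hy⟩ := exists_prime_orderOf_dvd_card' (G := A) 3 (by rw [h6]; norm_num)
  rw [← Subgroup.orderOf_coe] at hy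
  have hyc : (y : SL(2, F)) ∉ Subgroup.center (SL(2, F)) := fun h => by
    rcases mem_center_cases h with e | e <;> rw [e] at hy
    · simp at hy
    · have h2 : orderOf (-1 : SL(2, F)) = 2 := orderOf_eq_prime (by simp) hne
      omega
  obtain ⟨f, hf, hfm⟩ := hcls y y.2 hyc
  have hmulc : ∀ z : SL(2, F), orderOf z = 3 → orderOf (-z) = 6 := by
    intro z hz
    have hcomm : Commute (-1 : SL(2, F)) z := by simp
    have h := hcomm.orderOf_mul_eq_mul_orderOf_of_coprime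
      (by rw [orderOf_eq_prime (p := 2) (by simp) hne, hz]; norm_num)
    rw [neg_one_mul, orderOf_eq_prime (p := 2) (by simp) hne, hz] at h
    exact h
  let g : Fin 8 → A := ![⟨1, one_mem _⟩, ⟨-1, hZ⟩, ⟨f 0, (hfm 0).1⟩, ⟨f 1, (hfm 1).1⟩, ⟨f 2, (hfm 2).1⟩,
    ⟨-(f 0), neg_one_mul (f 0) ▸ mul_mem hZ (hfm 0).1⟩, ⟨-(f 1), neg_one_mul (f 1) ▸ mul_mem hZ (hfm 1).1⟩,
    ⟨-(f 2), neg_one_mul (f 2) ▸ mul_mem hZ (hfm 2).1⟩]
  have hg : Function.Injective g := by
    intro i j hij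
    have h' := congrArg Subtype.val hij
    have o3 : ∀ k, orderOf (f k) = 3 := fun k => (hord _ _ (hfm k).2).symm.trans hy
    have o6 : ∀ k, orderOf (-(f k)) = 6 := fun k => hmulc _ (o3 k)
    have a := fun i => hcen (y : SL(2, F)) _ hyc (hfm i).2
    have b : ∀ (i j : Fin 3), f i = f j → i = j := fun i j h => hf h
    have c : ∀ i j, f i ≠ -(f j) := fun i j h => by
      have h1 := o3 i
      rw [h, o6] at h1
      omega
    have d1 : ∀ i, -(f i) ≠ (1 : SL(2, F)) := fun i h => by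
      have h1 := o6 i
      rw [h, orderOf_one] at h1
      omega
    have d2 : ∀ i, f i ≠ (1 : SL(2, F)) := fun i => (a i).1
    fin_cases i <;> fin_cases j <;> simp [g] at h' ⊢ <;>
      first
        | exact hne h'
        | exact hne h'.symm
        | exact d2 _ h'
        | exact d2 _ h'.symm
        | exact d1 _ h'
        | exact d1 _ h'.symm
        | exact (a _).2 h'
        | exact (a _).2 h'.symm
        | exact c _ _ h'
        | exact c _ _ h'.symm
        | exact absurd (b _ _ h') (by decide)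
  have h8 := Nat.card_le_card_of_injective g hg
  rw [Nat.card_fin, h6] at h8
  omega

/-- For `q ≥ 5` a non-central normal subgroup is everything. -/
theorem eq_top_of_normal (h4 : 4 ≤ Fintype.card F) (A : Subgroup (SL(2, F))) [hA : A.Normal]
    {x : SL(2, F)} (hxA : x ∈ A) (hx : x ∉ Subgroup.center (SL(2, F))) : A = ⊤ := by
  have hs : IsSimpleGroup PSL(2, F) :=
    Matrix.ProjectiveSpecialLinearGroup.rank_two_simple (by rwa [Nat.card_eq_fintype_card])
  set π := QuotientGroup.mk' (Subgroup.center (SL(2, F)))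
  have hn : (A.map π).Normal := hA.map π (QuotientGroup.mk'_surjective _)
  rcases hs.eq_bot_or_eq_top_of_normal _ hn with h | h
  · refine absurd ((QuotientGroup.eq_one_iff x).1 ?_) hx
    have : π x ∈ A.map π := Subgroup.mem_map_of_mem π hxA
    exact Subgroup.mem_bot.1 (h ▸ this)
  · have hsup : ∀ g : SL(2, F), ∃ a ∈ A, ∃ z ∈ Subgroup.center (SL(2, F)), g = a * z := fun g => by
      obtain ⟨a, ha, he⟩ := (h ▸ Subgroup.mem_top _ : π g ∈ A.map π)
      exact ⟨a, ha, a⁻¹ * g, QuotientGroup.eq.1 he, (mul_inv_cancel_left a g).symm⟩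
    obtain ⟨a, ha, hasq⟩ : ∃ a : F, a ≠ 0 ∧ a ^ 2 ≠ 1 := by
      classical
      by_contra hcon
      push Not at hcon
      have hsub : (Finset.univ : Finset F) ⊆ {0, 1, -1} := fun a _ => by
        by_cases h0 : a = 0
        · simp [h0]
        · rcases sq_eq_one_iff.1 (hcon a h0) with e | e <;> simp [e]
      have := Finset.card_le_card hsub
      have h3 : ({0, 1, -1} : Finset F).card ≤ 3 := Finset.card_le_three
      rw [Finset.card_univ] at this
      omega
    refine top_unique ?_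
    rw [← SL2.commutator_eq_top ha hasq, commutator_def, Subgroup.commutator_le]
    intro u _ v _
    obtain ⟨a, ha', z, hz, rfl⟩ := hsup u
    obtain ⟨b, hb, w, hw, rfl⟩ := hsup v
    have e : ⁅a * z, b * w⁆ = ⁅a, b⁆ := by
      have c1 : ∀ g, z * g = g * z := fun g => (Subgroup.mem_center_iff.1 hz g).symm
      have c2 : ∀ g, w * g = g * w := fun g => (Subgroup.mem_center_iff.1 hw g).symm
      have cz : Commute z b := c1 b
      rw [commutatorElement_def, commutatorElement_def, _root_.mul_inv_rev, _root_.mul_inv_rev]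
      calc a * z * (b * w) * (z⁻¹ * a⁻¹) * (w⁻¹ * b⁻¹) = a * (z * b) * (w * (z⁻¹ * a⁻¹)) * (w⁻¹ * b⁻¹) := by group
        _ = a * (b * z) * ((z⁻¹ * a⁻¹) * w) * (w⁻¹ * b⁻¹) := by rw [c1, c2]
        _ = _ := by group
    rw [e, commutatorElement_def]
    exact mul_mem (mul_mem (mul_mem ha' hb) (inv_mem ha')) (inv_mem hb)

theorem card_SL_two (K : Type*) [Field K] [Fintype K] : Nat.card (SL(2, K)) =
    Fintype.card K * (Fintype.card K ^ 2 - 1) := by
  have h := card_SL (F := K) 2 (by norm_num)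
  rw [Fin.prod_univ_two] at h
  simp only [Fin.val_zero, pow_zero, Fin.val_one, pow_one] at h
  have h2 : 2 ≤ Fintype.card K := Fintype.one_lt_card
  obtain ⟨k, hk⟩ : ∃ k, Fintype.card K = k + 2 := ⟨_, (Nat.sub_add_cancel h2).symm⟩
  rw [hk] at h ⊢
  have e1 : (k + 2) ^ 2 - 1 = (k + 1) * (k + 3) := by
    rw [show (k + 2) ^ 2 = (k + 1) * (k + 3) + 1 by ring]; omega
  have e2 : (k + 2) ^ 2 - (k + 2) = (k + 2) * (k + 1) := by
    rw [show (k + 2) ^ 2 = (k + 2) * (k + 1) + (k + 2) by ring]; omega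
  rw [e1, e2, show k + 2 - 1 = k + 1 by omega] at h
  rw [e1]
  refine Nat.eq_of_mul_eq_mul_left (Nat.succ_pos k) ?_
  rw [h, Nat.succ_eq_add_one]
  ring

theorem card_lt_card {E : Type*} [Field E] [Fintype E] (h : Fintype.card F < Fintype.card E) :
    Nat.card (SL(2, F)) < Nat.card (SL(2, E)) := by
  rw [card_SL_two, card_SL_two]
  have h2 : 2 ≤ Fintype.card F := Fintype.one_lt_card
  have : Fintype.card F ^ 2 - 1 < Fintype.card E ^ 2 - 1 := by
    have := Nat.pow_lt_pow_left h (n := 2) (by norm_num)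
    have : 1 ≤ Fintype.card F ^ 2 := Nat.one_le_pow _ _ (by omega)
    omega
  exact Nat.mul_lt_mul_of_lt_of_le h this.le (by omega)

section Pair

variable {G : Type*} [Group G] [Finite G] {F₂ : Type*} [Field F₂] [Fintype F₂]
  {L₁ L₂ : Subgroup G} {j : G}

theorem map_j (hF : Odd (Fintype.card F)) (e : L₁ ≃* SL(2, F)) (hj : orderOf j = 2) (hj1 : j ∈ L₁) :
    e ⟨j, hj1⟩ = -1 :=
  eq_neg_one_of_orderOf_two (two_ne_zero hF) (by rw [e.orderOf_eq, ← Subgroup.orderOf_coe, hj])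

theorem center_mem (hF : Odd (Fintype.card F)) (e : L₁ ≃* SL(2, F)) (hj : orderOf j = 2) (hj1 : j ∈ L₁)
    {x : L₁} (hx : e x ∈ Subgroup.center (SL(2, F))) : (x : G) ∈ Subgroup.zpowers j := by
  rcases mem_center_cases hx with h | h
  · rw [MulEquiv.map_eq_one_iff] at h
    rw [h]; exact one_mem _
  · rw [← map_j hF e hj hj1] at h
    rw [e.injective h]; exact Subgroup.mem_zpowers j

omit [Finite G] in
theorem mem_sup (hc : ∀ x ∈ L₁, ∀ y ∈ L₂, x * y = y * x) {y : G} (hy : y ∈ L₁ ⊔ L₂) :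
    ∃ a ∈ L₁, ∃ b ∈ L₂, y = a * b := by
  rw [Subgroup.sup_eq_closure] at hy
  induction hy using Subgroup.closure_induction with
  | mem x hx =>
    rcases hx with hx | hx
    · exact ⟨x, hx, 1, one_mem _, (mul_one x).symm⟩
    · exact ⟨1, one_mem _, x, hx, (one_mul x).symm⟩
  | one => exact ⟨1, one_mem _, 1, one_mem _, (mul_one 1).symm⟩
  | mul x y _ _ hx hy =>
    obtain ⟨a, ha, b, hb, rfl⟩ := hx
    obtain ⟨a', ha', b', hb', rfl⟩ := hy
    refine ⟨a * a', mul_mem ha ha', b * b', mul_mem hb hb', ?_⟩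
    rw [show a * b * (a' * b') = a * (b * a') * b' by group, ← hc a' ha' b hb]
    group
  | inv x _ hx =>
    obtain ⟨a, ha, b, hb, rfl⟩ := hx
    exact ⟨a⁻¹, inv_mem ha, b⁻¹, inv_mem hb, by rw [_root_.mul_inv_rev, hc _ (inv_mem ha) _ (inv_mem hb)]⟩

omit [Finite G] in
theorem left_normal (hc : ∀ x ∈ L₁, ∀ y ∈ L₂, x * y = y * x) {y l : G} (hy : y ∈ L₁ ⊔ L₂) (hl : l ∈ L₁) :
    y * l * y⁻¹ ∈ L₁ := by
  obtain ⟨a, ha, b, hb, rfl⟩ := mem_sup hc hy
  rw [show a * b * l * (a * b)⁻¹ = a * (b * l * b⁻¹) * a⁻¹ by group, ← hc l hl b hb, mul_inv_cancel_right]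
  exact mul_mem (mul_mem ha hl) (inv_mem ha)

/-- If `M` meets `L₁` centrally, it centralizes `L₁`. -/
theorem le_right (hF : Odd (Fintype.card F)) (e : L₁ ≃* SL(2, F))
    (hc : ∀ x ∈ L₁, ∀ y ∈ L₂, x * y = y * x) (hj : orderOf j = 2) (hm : L₁ ⊓ L₂ = Subgroup.zpowers j)
    {M : Subgroup G} (hM : M ≤ L₁ ⊔ L₂) (hMn : ∀ y ∈ L₁ ⊔ L₂, ∀ m ∈ M, y * m * y⁻¹ ∈ M)
    (hA : M ⊓ L₁ ≤ Subgroup.zpowers j) : M ≤ L₂ := by
  have hjm : j ∈ L₁ ⊓ L₂ := hm ▸ Subgroup.mem_zpowers j
  have hz : ∀ z ∈ Subgroup.zpowers j, ∀ y ∈ L₁ ⊔ L₂, z * y = y * z := by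
    intro z hz y hy
    rw [← hm] at hz
    obtain ⟨a, ha, b, hb, rfl⟩ := mem_sup hc hy
    rw [← mul_assoc, ← hc a ha z hz.2, mul_assoc, hc z hz.1 b hb, mul_assoc]
  intro m hm'
  -- the commutator map with `m` is a homomorphism into `⟨j⟩`
  have hmem : ∀ l : L₁, m * (l : G) * m⁻¹ * (l : G)⁻¹ ∈ Subgroup.zpowers j := fun l => hA (Subgroup.mem_inf.2 ⟨by
      rw [show m * (l : G) * m⁻¹ * (l : G)⁻¹ = m * ((l : G) * m⁻¹ * (l : G)⁻¹) by group]
      exact mul_mem hm' (hMn _ (Subgroup.mem_sup_left l.2) _ (inv_mem hm')),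
    mul_mem (left_normal hc (hM hm') l.2) (inv_mem l.2)⟩)
  let f : L₁ →* Subgroup.zpowers j :=
    { toFun := fun l => ⟨_, hmem l⟩
      map_one' := Subtype.ext (by simp)
      map_mul' := fun u v => Subtype.ext (by
        show m * ((u : G) * v) * m⁻¹ * ((u : G) * v)⁻¹ =
          (m * (u : G) * m⁻¹ * (u : G)⁻¹) * (m * (v : G) * m⁻¹ * (v : G)⁻¹)
        have hcm := hz _ (hmem v) _ (Subgroup.mem_sup_left (inv_mem u.2))
        calc m * ((u : G) * v) * m⁻¹ * ((u : G) * v)⁻¹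
            = m * (u : G) * m⁻¹ * ((m * (v : G) * m⁻¹ * (v : G)⁻¹) * (u : G)⁻¹) := by group
          _ = m * (u : G) * m⁻¹ * ((u : G)⁻¹ * (m * (v : G) * m⁻¹ * (v : G)⁻¹)) := by rw [hcm]
          _ = _ := by group) }
  have hf : ∀ l : L₁, m * (l : G) * m⁻¹ * (l : G)⁻¹ = 1 := fun l => by
    have h := hom_trivial hF (f.comp e.symm.toMonoidHom) (fun y => Subtype.ext (by
      obtain ⟨k, hk⟩ := (f (e.symm y)).2
      show ((f (e.symm y) : Subgroup.zpowers j) : G) * (f (e.symm y) : Subgroup.zpowers j) = 1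
      rw [← hk]
      show j ^ k * j ^ k = 1
      rw [← ((Commute.refl j).mul_zpow k), ← pow_two, ← hj, pow_orderOf_eq_one, _root_.one_zpow])) (e l)
    simpa [f] using congrArg Subtype.val h
  obtain ⟨a, ha, b, hb, rfl⟩ := mem_sup hc (hM hm')
  have hac : e ⟨a, ha⟩ ∈ Subgroup.center (SL(2, F)) := Subgroup.mem_center_iff.2 fun g => by
    obtain ⟨l, rfl⟩ := e.surjective g
    rw [← map_mul, ← map_mul]
    congr 1
    refine Subtype.ext ?_
    have h := hf l
    rw [mul_inv_eq_one, mul_inv_eq_iff_eq_mul] at h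
    show (l : G) * a = a * l
    have h' : a * (l : G) * b = (l : G) * a * b := by
      rw [mul_assoc, hc l l.2 b hb, ← mul_assoc, h, mul_assoc]
    exact (mul_right_cancel h').symm
  have ha' := center_mem hF e hj hjm.1 hac
  rw [← hm] at ha'
  exact mul_mem ha'.2 hb

theorem inter_facts {K : Type*} [Field K] [Fintype K] (hK : Odd (Fintype.card K)) {L M : Subgroup G}
    (eL : L ≃* SL(2, K)) (hL : L ≤ L₁ ⊔ L₂) (hj : orderOf j = 2) (hjM : j ∈ M) (hjL : j ∈ L)
    (hMn : ∀ y ∈ L₁ ⊔ L₂, ∀ m ∈ M, y * m * y⁻¹ ∈ M) (hnot : ¬ M ⊓ L ≤ Subgroup.zpowers j) :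
    8 ≤ Nat.card ↥(M ⊓ L) ∧ (4 ≤ Fintype.card K → L ≤ M) := by
  obtain ⟨x, hx, hxj⟩ := SetLike.not_le_iff_exists.1 hnot
  set A := ((M ⊓ L).subgroupOf L).map eL.toMonoidHom with hA'
  have : A.Normal := Subgroup.Normal.map ⟨fun a ha g => Subgroup.mem_subgroupOf.2 (Subgroup.mem_inf.2
    ⟨hMn _ (hL g.2) _ (Subgroup.mem_subgroupOf.1 ha).1, (g * a * g⁻¹).2⟩)⟩ _ eL.surjective
  have hxA : eL ⟨x, hx.2⟩ ∈ A := ⟨⟨x, hx.2⟩, hx, rfl⟩
  have hxc : eL ⟨x, hx.2⟩ ∉ Subgroup.center (SL(2, K)) := fun h => hxj (center_mem hK eL hj hjL h)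
  refine ⟨?_, fun h4 => ?_⟩
  · have h := eight_le_card hK A ⟨⟨j, hjL⟩, ⟨hjM, hjL⟩, map_j hK eL hj hjL⟩ hxA hxc
    rwa [hA', Subgroup.card_map_of_injective eL.injective,
      Nat.card_congr (Subgroup.subgroupOfEquivOfLe inf_le_right).toEquiv] at h
  · intro l hl
    have h : eL ⟨l, hl⟩ ∈ A := by rw [eq_top_of_normal h4 A hxA hxc]; trivial
    obtain ⟨l', hl', he⟩ := h
    rw [eL.injective he] at hl'
    exact hl'.1


/-- A normal subgroup of `L₁L₂` isomorphic to `L₁` is `L₁` or is in `L₂`. -/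
theorem eq_or_le (hF : Odd (Fintype.card F)) (hF₂ : Odd (Fintype.card F₂)) (e : L₁ ≃* SL(2, F))
    (e₂ : L₂ ≃* SL(2, F₂)) (hc : ∀ x ∈ L₁, ∀ y ∈ L₂, x * y = y * x) (hj : orderOf j = 2)
    (hm : L₁ ⊓ L₂ = Subgroup.zpowers j) {M : Subgroup G} (hM : M ≤ L₁ ⊔ L₂) (hjM : j ∈ M)
    (hMn : ∀ y ∈ L₁ ⊔ L₂, ∀ m ∈ M, y * m * y⁻¹ ∈ M) (hcard : Nat.card M = Nat.card L₁) :
    M = L₁ ∨ M ≤ L₂ := by
  classical
  have hjm : j ∈ L₁ ⊓ L₂ := hm ▸ Subgroup.mem_zpowers j
  have hc' : ∀ x ∈ L₂, ∀ y ∈ L₁, x * y = y * x := fun x hx y hy => (hc y hy x hx).symm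
  have hM' : M ≤ L₂ ⊔ L₁ := sup_comm L₁ L₂ ▸ hM
  have hMn' : ∀ y ∈ L₂ ⊔ L₁, ∀ m ∈ M, y * m * y⁻¹ ∈ M := sup_comm L₁ L₂ ▸ hMn
  have hm2 : L₂ ⊓ L₁ = Subgroup.zpowers j := inf_comm L₁ L₂ ▸ hm
  by_cases hA : M ⊓ L₁ ≤ Subgroup.zpowers j
  · exact Or.inr (le_right hF e hc hj hm hM hMn hA)
  left
  by_cases hB : M ⊓ L₂ ≤ Subgroup.zpowers j
  · exact Subgroup.eq_of_le_of_card_ge (le_right hF₂ e₂ hc' hj hm2 hM' hMn' hB) (by rw [hcard])
  -- both intersections are non-central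
  obtain ⟨hA8, hA4⟩ := inter_facts hF e le_sup_left hj hjM hjm.1 hMn hA
  obtain ⟨hB8, -⟩ := inter_facts hF₂ e₂ le_sup_right hj hjM hjm.2 hMn hB
  by_cases h4 : 4 ≤ Fintype.card F
  · exact (Subgroup.eq_of_le_of_card_ge (hA4 h4) (by rw [hcard])).symm
  -- `q = 3`: too many elements
  exfalso
  have h3 : Fintype.card F = 3 := by
    have := Fintype.one_lt_card (α := F)
    obtain ⟨k, hk⟩ := hF
    omega
  have h24 : Nat.card L₁ = 24 := by
    rw [Nat.card_congr e.toEquiv]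
    rw [card_SL_two, h3]
    norm_num
  let φ : ↥(M ⊓ L₁) × ↥(M ⊓ L₂) →* M :=
    { toFun := fun p => ⟨(p.1 : G) * p.2, mul_mem p.1.2.1 p.2.2.1⟩
      map_one' := Subtype.ext (one_mul _)
      map_mul' := fun p q => Subtype.ext (by
        show ((p.1 : G) * q.1) * ((p.2 : G) * q.2) = ((p.1 : G) * p.2) * ((q.1 : G) * q.2)
        rw [show ((p.1 : G) * q.1) * ((p.2 : G) * q.2) = (p.1 : G) * ((q.1 : G) * p.2) * q.2 by group,
          hc _ q.1.2.2 _ p.2.2.2]
        group) }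
  have hker : Nat.card φ.ker ≤ 2 := by
    let ψ : φ.ker → Subgroup.zpowers j := fun p => ⟨(p.1.1 : G), hm ▸ ⟨p.1.1.2.2, by
      have h : (p.1.1 : G) * (p.1.2 : G) = 1 := congrArg Subtype.val (MonoidHom.mem_ker.1 p.2)
      rw [eq_inv_of_mul_eq_one_left h]
      exact L₂.inv_mem p.1.2.2.2⟩⟩
    have hψ : Function.Injective ψ := fun p q h => by
      have h1 : (p.1.1 : G) = q.1.1 := congrArg (fun z : Subgroup.zpowers j => (z : G)) h
      have hp : (p.1.1 : G) * (p.1.2 : G) = 1 := congrArg Subtype.val (MonoidHom.mem_ker.1 p.2)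
      have hq : (q.1.1 : G) * (q.1.2 : G) = 1 := congrArg Subtype.val (MonoidHom.mem_ker.1 q.2)
      rw [h1, ← hq] at hp
      exact Subtype.ext (Prod.ext (Subtype.ext h1) (Subtype.ext (mul_left_cancel hp)))
    have := Nat.card_le_card_of_injective ψ hψ
    rwa [Nat.card_zpowers, hj] at this
  have h1 := φ.ker.card_mul_index
  rw [Subgroup.index_ker, Nat.card_prod] at h1
  have h2 : Nat.card φ.range ≤ 24 := (hcard.trans h24) ▸ Subgroup.card_le_card_group _
  have h5 := Nat.mul_le_mul hA8 hB8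
  have h6 := Nat.mul_le_mul hker h2
  omega

end Pair

end CfsgLib.Classical.SL2Pair
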