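import Cfsg.Agent.Lib.Known.SL2ClassSizes
import Cfsg.Agent.Lib.Classical.SL2TracePSL
import Cfsg.Agent.Lib.Classical.SL2Structure

/-!
# Redundant Sylow subgroups of `SL(2,q)` and their transport to central quotients
-/

set_option autoImplicit false
set_option linter.all false

namespace CfsgLib.Classical.Redundant

open scoped MatrixGroups Pointwise
open Subgroup

/-- Some Sylow subgroup is covered by the others. -/
def Redundant (p : ℕ) (G : Type*) [Group G] : Prop :=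
  ∃ Q : Sylow p G, ∀ x : G, (∃ k : ℕ, orderOf x = p ^ k) → ∃ P : Sylow p G, P ≠ Q ∧ x ∈ P

theorem exists_sylow_mem {G : Type*} [Group G] {p : ℕ} [Fact p.Prime] {x : G}
    (hx : ∃ k : ℕ, orderOf x = p ^ k) : ∃ P : Sylow p G, x ∈ P := by
  obtain ⟨k, hk⟩ := hx
  obtain ⟨P, hP⟩ := (IsPGroup.of_card (n := k) (by rw [Nat.card_zpowers, hk]) : IsPGroup p (zpowers x)).exists_le_sylow
  exact ⟨P, hP (mem_zpowers x)⟩

theorem orderOf_of_mem {G : Type*} [Group G] [Finite G] {p : ℕ} [Fact p.Prime] {P : Sylow p G} {x : G}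
    (hx : x ∈ P) : ∃ k : ℕ, orderOf x = p ^ k := by
  obtain ⟨n, hn⟩ := IsPGroup.iff_card.1 P.isPGroup'
  obtain ⟨k, -, hk⟩ := (Nat.dvd_prime_pow Fact.out).1 (hn ▸ orderOf_dvd_natCard (⟨x, hx⟩ : (P : Subgroup G)))
  exact ⟨k, by rw [← hk, orderOf_mk]⟩

theorem not_redundant_of_cyclic {G : Type*} [Group G] [Finite G] {p : ℕ} [Fact p.Prime]
    (h : ∀ Q : Sylow p G, IsCyclic (Q : Subgroup G)) : ¬ Redundant p G := by
  rintro ⟨Q, hQ⟩
  obtain ⟨⟨g, hg⟩, hgen⟩ := (h Q).exists_generator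
  obtain ⟨P, hPQ, hgP⟩ := hQ g (orderOf_of_mem hg)
  refine hPQ (Sylow.ext (Subgroup.eq_of_le_of_card_ge ?_ ?_).symm)
  · intro y hy
    obtain ⟨i, hi⟩ := hgen ⟨y, hy⟩
    have e : g ^ i = y := congrArg Subtype.val hi
    rw [← e]
    exact zpow_mem hgP i
  · rw [P.card_eq_multiplicity, Q.card_eq_multiplicity]

/-- Redundancy is unchanged by a central quotient. -/
theorem redundant_quotient_iff {G : Type*} [Group G] [Finite G] {p : ℕ} [Fact p.Prime]
    (Z : Subgroup G) [Z.Normal] (hZ : Z ≤ center G) : Redundant p (G ⧸ Z) ↔ Redundant p G := by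
  set π := QuotientGroup.mk' Z
  have hs := QuotientGroup.mk'_surjective Z
  let f : Sylow p G → Sylow p (G ⧸ Z) := fun P => P.mapSurjective hs
  have hmem : ∀ (P : Sylow p G) (x : G), (∃ k : ℕ, orderOf x = p ^ k) → π x ∈ f P → x ∈ P := by
    intro P x hx hπ
    obtain ⟨y, hy, hyx⟩ := hπ
    obtain ⟨k, hk⟩ := hx
    have hz : x⁻¹ * y ∈ Z := (QuotientGroup.eq).1 hyx.symm
    have hc : Commute x y := by
      have h1 := Subgroup.mem_center_iff.1 (hZ hz) x
      show x * y = y * x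
      calc x * y = x * (x * (x⁻¹ * y)) := by group
        _ = x * (x⁻¹ * y) * x := by rw [mul_assoc, h1, mul_assoc]
        _ = y * x := by group
    have hn : zpowers x ≤ normalizer ((P : Subgroup G) : Set G) := zpowers_le.2 <| by
      have : x = y * (x⁻¹ * y)⁻¹ := by group
      rw [this]
      refine mul_mem (le_normalizer hy) (inv_mem (mem_normalizer_iff.2 fun w => ?_))
      rw [← (Subgroup.mem_center_iff.1 (hZ hz) w), mul_inv_cancel_right]
    have hp : IsPGroup p (zpowers x) := IsPGroup.of_card (n := k) (by rw [Nat.card_zpowers, hk])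
    have h2 := P.3 (hp.to_sup_of_normal_right' P.isPGroup' hn) le_sup_right
    exact h2.le (mem_sup_left (mem_zpowers x))
  have hfi : Function.Injective f := fun P P' h => Sylow.ext (le_antisymm
    (fun x hx => hmem P' x (orderOf_of_mem hx) (h ▸ ⟨x, hx, rfl⟩))
    fun x hx => hmem P x (orderOf_of_mem hx) (h.symm ▸ ⟨x, hx, rfl⟩))
  have hfs : Function.Surjective f := Sylow.mapSurjective_surjective hs p
  have hord : ∀ x : G, (∃ k : ℕ, orderOf x = p ^ k) → ∃ k : ℕ, orderOf (π x) = p ^ k := fun x ⟨k, hk⟩ => by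
    obtain ⟨i, -, hi⟩ := (Nat.dvd_prime_pow Fact.out).1 (hk ▸ orderOf_map_dvd π x)
    exact ⟨i, hi⟩
  constructor
  · rintro ⟨Q', hQ'⟩
    obtain ⟨Q, rfl⟩ := hfs Q'
    refine ⟨Q, fun x hx => ?_⟩
    obtain ⟨P', hP', hxP'⟩ := hQ' (π x) (hord x hx)
    obtain ⟨P, rfl⟩ := hfs P'
    exact ⟨P, fun e => hP' (e ▸ rfl), hmem P x hx hxP'⟩
  · rintro ⟨Q, hQ⟩
    refine ⟨f Q, fun y hy => ?_⟩
    obtain ⟨P', hyP'⟩ := exists_sylow_mem hy
    obtain ⟨P₀, rfl⟩ := hfs P'
    obtain ⟨x, hx, rfl⟩ := hyP'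
    obtain ⟨P, hP, hxP⟩ := hQ x (orderOf_of_mem hx)
    exact ⟨f P, fun e => hP (hfi e), ⟨x, hxP, rfl⟩⟩

section SL

open CfsgLib.PLocal.SLTwo CfsgLib.SL2Char

variable {F : Type*} [Field F] [Fintype F]

theorem not_redundant_char (p : ℕ) [Fact p.Prime] [CharP F p] : ¬ Redundant p SL(2, F) := by
  rintro ⟨Q, hQ⟩
  obtain ⟨a, ha⟩ := Two.exists_point_sylow_SL p Q
  have hc := Two.card_sylow_SL_two p Q
  obtain ⟨⟨x, hx⟩, hx1⟩ : ∃ x : (Q : Subgroup SL(2, F)), x ≠ 1 := by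
    have : Nontrivial (Q : Subgroup SL(2, F)) := Finite.one_lt_card_iff_nontrivial.1 (hc ▸ Fintype.one_lt_card)
    exact exists_ne 1
  obtain ⟨P, hPQ, hxP⟩ := hQ x (orderOf_of_mem hx)
  obtain ⟨b, hb⟩ := Two.exists_point_sylow_SL p P
  have hab : b ≠ a := fun e => hPQ (Sylow.ext (by rw [hb, ha, e]))
  have : x ∈ Two.rootGroup b ⊓ Two.rootGroup a := ⟨hb ▸ hxP, ha ▸ hx⟩
  rw [Two.rootGroup_disjoint hab, mem_bot] at this
  exact hx1 (Subtype.ext this)

/-- Centralisers of noncentral elements of 2-power order. -/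
theorem two_element (p : ℕ) [Fact p.Prime] [CharP F p] (hp : p ≠ 2) {m : ℕ}
    (hm : (Fintype.card F % 4 = 1 ∧ m = Fintype.card F - 1) ∨ (Fintype.card F % 4 = 3 ∧ m = Fintype.card F + 1))
    {x : SL(2, F)} (hx : ∃ k : ℕ, orderOf x = 2 ^ k) (hx1 : x ≠ 1) (hx2 : x ≠ -1) :
    NonScalar x ∧ tr x ^ 2 ≠ 4 ∧ Nat.card (centralizer ({x} : Set SL(2, F))) = m ∧ ∃ w, w * x * w⁻¹ = x⁻¹ := by
  have h2 : (2 : F) ≠ 0 := Two.two_ne_zero_of_char hp
  have hns : NonScalar x := by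
    by_contra hc
    rcases scalar_cases hc with h | h
    · exact hx1 h
    · exact hx2 h
  have hsq : x ^ 2 ≠ 1 := fun h => by
    rcases Two.eq_one_or_neg_one_of_sq h2 x (by rw [← pow_two]; exact h) with e | e
    · exact hx1 (Subtype.ext e)
    · exact hx2 (Subtype.ext (e.trans (by simp)))
  obtain ⟨k, hk⟩ := hx
  have hd : tr x ^ 2 ≠ 4 := fun h => by
    have hz : ∀ z : SL(2, F), tr z = 2 → z ^ p = 1 := fun z hz => pow_p_of_trace_two (p := p) hz
    have hxp : x ^ (2 * p) = 1 := by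
      rcases mul_eq_zero.1 (show (tr x - 2) * (tr x + 2) = 0 by linear_combination h) with e | e
      · rw [mul_comm, pow_mul, hz x (sub_eq_zero.1 e), one_pow]
      · have e' : tr (-x) = 2 := by rw [Known.SL2ClassSizes.tr_neg]; linear_combination -e
        rw [pow_mul, ← neg_sq, ← pow_mul, mul_comm, pow_mul, hz _ e', one_pow]
    refine hsq (orderOf_dvd_iff_pow_eq_one.1 ?_)
    refine Nat.Coprime.dvd_of_dvd_mul_right ?_ (orderOf_dvd_of_pow_eq_one hxp)
    rw [hk]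
    exact Nat.Coprime.pow_left _ ((Nat.coprime_primes Nat.prime_two Fact.out).2 hp.symm)
  have h4 : 4 ∣ orderOf x := by
    rcases k with _ | _ | k
    · exact absurd (orderOf_eq_one_iff.1 (by rw [hk]; rfl)) hx1
    · exact absurd (orderOf_dvd_iff_pow_eq_one.1 (by rw [hk]; exact dvd_rfl)) hsq
    · exact ⟨2 ^ k, by rw [hk]; ring⟩
  refine ⟨hns, hd, ?_, ?_⟩
  · have h4c : 4 ∣ Nat.card (centralizer ({x} : Set SL(2, F))) := h4.trans (by
      rw [← Subgroup.orderOf_mk (H := centralizer ({x} : Set SL(2, F))) x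
        (mem_centralizer_singleton_iff.2 rfl)]
      exact orderOf_dvd_natCard _)
    have hcases : Nat.card (centralizer ({x} : Set SL(2, F))) = Fintype.card F - 1 ∨
        Nat.card (centralizer ({x} : Set SL(2, F))) = Fintype.card F + 1 := by
      rcases Known.SL2ClassSizes.cases_conj x with (h | h) | ⟨h, b, hb, e⟩ | ⟨h, a, ha, e⟩ | h
      · exact absurd h hx1
      · exact absurd h hx2
      · refine absurd ?_ hd
        have : tr (h * x * h⁻¹) = tr x := tr_conj x h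
        rcases e with e | e <;> rw [← this, e] <;> simp [tr] <;> ring
      · left
        rw [← Known.SL2ClassSizes.card_diagS ha, ← e]
        refine Nat.eq_of_mul_eq_mul_left (Nat.pos_of_ne_zero (?_ : Known.SL2ClassSizes.cs x ≠ 0)) ?_
        · exact index_ne_zero_of_finite
        · rw [Known.SL2ClassSizes.cs_mul_card, ← Known.SL2ClassSizes.cs_conj h x, Known.SL2ClassSizes.cs_mul_card]
      · exact Or.inr (card_centralizer_SL h)
    have := Fintype.one_lt_card (α := F)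
    omega
  · obtain ⟨w, hw⟩ := Trace.exists_conj (x := x) (y := x⁻¹) hns (Trace.not_isScalar_of_trc (by
      show tr x⁻¹ ^ 2 ≠ 4
      rw [Known.SL2ClassSizes.tr_inv]; exact hd)) (Known.SL2ClassSizes.tr_inv x)
      (Trace.normSurj_of_odd (FiniteField.odd_card_of_char_ne_two (by rwa [ringChar.eq F p])) h2 hd)
    exact ⟨w, hw⟩

theorem redundant_two_iff (p : ℕ) [Fact p.Prime] [CharP F p] (hp : p ≠ 2) {m : ℕ}
    (hm : (Fintype.card F % 4 = 1 ∧ m = Fintype.card F - 1) ∨ (Fintype.card F % 4 = 3 ∧ m = Fintype.card F + 1)) :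
    Redundant 2 SL(2, F) ↔ ¬ ∃ a : ℕ, m = 2 ^ a := by
  haveI := Fact.mk Nat.prime_two
  have h2 : (2 : F) ≠ 0 := Two.two_ne_zero_of_char hp
  obtain ⟨j, hjm⟩ : ∃ j : SL(2, F), (j : Matrix (Fin 2) (Fin 2) F) = !![0, -1; 1, 0] :=
    ⟨⟨_, by simp [Matrix.det_fin_two_of]⟩, rfl⟩
  have hjj : j * j = -1 := by
    refine Subtype.ext ?_
    rw [Matrix.SpecialLinearGroup.coe_mul, hjm]
    ext a b; fin_cases a <;> fin_cases b <;> simp
  have hjt : tr j = 0 := by simp [tr, hjm]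
  have hj1 : j ≠ 1 := fun e => Two.neg_one_ne_one_SL h2 (by rw [← hjj, e, mul_one])
  have hj2 : j ≠ -1 := fun e => Two.neg_one_ne_one_SL h2 (by rw [← hjj, e, neg_mul_neg, mul_one])
  have hjo : ∃ k : ℕ, orderOf j = 2 ^ k := by
    obtain ⟨i, -, hi⟩ := (Nat.dvd_prime_pow Nat.prime_two).1 (orderOf_dvd_of_pow_eq_one (x := j) (n := 2 ^ 2)
      (by rw [show (2:ℕ) ^ 2 = 2 * 2 by norm_num, pow_mul, pow_two j, hjj, CfsgLib.PLocal.SLTwo.neg_one_sq]))
    exact ⟨i, hi⟩
  constructor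
  · rintro ⟨Q, hQ⟩ ⟨a, ha⟩
    obtain ⟨hns, hd, hC, w, hw⟩ := two_element p hp hm hjo hj1 hj2
    have := Two.isCyclic_centralizer hns hd
    obtain ⟨⟨g, hg⟩, hgen⟩ := this.exists_generator
    have hgo : orderOf g = m := by
      rw [← hC, ← orderOf_eq_card_of_forall_mem_zpowers hgen, orderOf_mk]
    have hzC : zpowers g = centralizer ({j} : Set SL(2, F)) :=
      Subgroup.eq_of_le_of_card_ge (zpowers_le.2 hg) (by rw [Nat.card_zpowers, hgo, hC])
    have hN := card_normalizer h2 hns hd hw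
    rw [hC] at hN
    set T := centralizer ({j} : Set SL(2, F))
    have hcard : ∀ P : Sylow 2 SL(2, F), Nat.card P = 2 * m := by
      intro P
      have hG : Nat.card SL(2, F) = Fintype.card F * (Fintype.card F ^ 2 - 1) := Two.card_SL_two
      obtain ⟨M, hM, hM2⟩ : ∃ M, Nat.card SL(2, F) = 2 ^ (a + 1) * M ∧ ¬ 2 ∣ M := by
        have e : Fintype.card F ^ 2 - 1 = (Fintype.card F + 1) * (Fintype.card F - 1) := by
          rw [← Nat.sq_sub_sq, one_pow]
        obtain ⟨r, hr⟩ : ∃ r, Fintype.card F = 2 * r + 1 := ⟨Fintype.card F / 2, by omega⟩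
        rcases hm with ⟨h4, hm'⟩ | ⟨h4, hm'⟩
        · refine ⟨Fintype.card F * ((Fintype.card F + 1) / 2), ?_, fun h => ?_⟩
          · rw [hG, e, pow_succ, ← ha, hm', hr, show (2 * r + 1 + 1) / 2 = r + 1 by omega]
            ring
          · rcases (Nat.prime_two.dvd_mul).1 h with h | h <;> omega
        · refine ⟨Fintype.card F * ((Fintype.card F - 1) / 2), ?_, fun h => ?_⟩
          · rw [hG, e, pow_succ, ← ha, hm', hr, Nat.add_sub_cancel, Nat.mul_div_cancel_left _ two_pos]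
            ring
          · rcases (Nat.prime_two.dvd_mul).1 h with h | h <;> omega
      have hM0 : M ≠ 0 := fun h => hM2 (h ▸ dvd_zero 2)
      rw [P.card_eq_multiplicity, hM, Nat.factorization_mul (by positivity) hM0, Finsupp.add_apply,
        Nat.Prime.factorization_pow Nat.prime_two, Finsupp.single_eq_same,
        Nat.factorization_eq_zero_of_not_dvd hM2, add_zero, pow_succ, ha, mul_comm]
    have huniq : ∀ P : Sylow 2 SL(2, F), g ∈ P → (P : Subgroup SL(2, F)) = normalizer (T : Set SL(2, F)) := by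
      intro P hgP
      have hTP : T ≤ (P : Subgroup SL(2, F)) := hzC ▸ zpowers_le.2 hgP
      have hidx : (T.subgroupOf (P : Subgroup SL(2, F))).index = 2 := by
        have h1 := (T.subgroupOf (P : Subgroup SL(2, F))).card_mul_index
        rw [Nat.card_congr (subgroupOfEquivOfLe hTP).toEquiv, hC, hcard] at h1
        have : 0 < m := hC ▸ Nat.card_pos
        exact Nat.eq_of_mul_eq_mul_left this (h1.trans (mul_comm _ _))
      have hnorm := Subgroup.normal_of_index_eq_two hidx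
      refine Subgroup.eq_of_le_of_card_ge ((normal_subgroupOf_iff_le_normalizer hTP).1 hnorm) ?_
      rw [hN, hcard]
    obtain ⟨P₀, hgP₀⟩ := exists_sylow_mem (x := g) ⟨a, hgo.trans ha⟩
    obtain ⟨h, rfl⟩ := MulAction.exists_smul_eq SL(2, F) P₀ Q
    have hmem : h * g * h⁻¹ ∈ (h • P₀ : Sylow 2 SL(2, F)) := ⟨g, hgP₀, rfl⟩
    obtain ⟨P, hP, hgP⟩ := hQ _ (orderOf_of_mem hmem)
    have hgP' : g ∈ (h⁻¹ • P : Sylow 2 SL(2, F)) := ⟨h * g * h⁻¹, hgP, by simp [mul_assoc]⟩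
    exact hP (inv_smul_eq_iff.1 (Sylow.ext ((huniq _ hgP').trans (huniq _ hgP₀).symm)))
  · intro hm2
    obtain ⟨Q₀⟩ := (Sylow.nonempty : Nonempty (Sylow 2 SL(2, F)))
    have key : ∀ Q : Sylow 2 SL(2, F), ∀ x ∈ Q, x ≠ 1 → x ≠ -1 → ∃ P : Sylow 2 SL(2, F), P ≠ Q ∧ x ∈ P := by
      intro Q x hxQ hx1 hx2
      by_contra hall
      push Not at hall
      have honly : ∀ P : Sylow 2 SL(2, F), x ∈ P → P = Q := fun P hP => by_contra fun hne => hall P hne hP
      obtain ⟨hns, hd, hC, w, hw⟩ := two_element p hp hm (orderOf_of_mem hxQ) hx1 hx2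
      obtain ⟨k, hk⟩ := orderOf_of_mem hxQ
      have hnorm : zpowers w ≤ normalizer (zpowers x : Set SL(2, F)) := zpowers_le.2 <| by
        refine mem_normalizer_iff.2 fun y => ?_
        constructor
        · rintro ⟨i, rfl⟩
          exact ⟨-i, by show x ^ (-i) = w * x ^ i * w⁻¹; rw [zpow_neg, ← inv_zpow, ← hw]; exact (map_zpow (MulAut.conj w) x i).symm⟩
        · rintro ⟨i, hi⟩
          refine ⟨-i, ?_⟩
          refine (MulAut.conj w).injective ?_
          show (MulAut.conj w) (x ^ (-i)) = (MulAut.conj w) y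
          rw [map_zpow]
          show (w * x * w⁻¹) ^ (-i) = w * y * w⁻¹
          rw [hw, inv_zpow, zpow_neg, inv_inv]
          exact hi
      have hwT : w ∉ centralizer ({x} : Set SL(2, F)) := fun h => by
        rw [mem_centralizer_singleton_iff] at h
        rw [h, mul_inv_cancel_right] at hw
        rcases Two.eq_one_or_neg_one_of_sq h2 x (by nth_rewrite 2 [hw]; exact mul_inv_cancel x) with e | e
        · exact hx1 (Subtype.ext e)
        · exact hx2 (Subtype.ext (e.trans (by simp)))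
      have hwC : w ∈ normalizer (centralizer ({x} : Set SL(2, F)) : Set SL(2, F)) := mem_normalizer_iff.2 fun t => by
        constructor
        · intro ht; rw [conj_eq_inv hns hw ht]; exact inv_mem ht
        · intro ht
          have hw' : w⁻¹ * x * (w⁻¹)⁻¹ = x⁻¹ := by
            rw [inv_inv]
            calc w⁻¹ * x * w = w⁻¹ * (w * x * w⁻¹)⁻¹ * w := by rw [hw, inv_inv]
              _ = x⁻¹ := by group
          have h := conj_eq_inv hns hw' ht
          rw [show w⁻¹ * (w * t * w⁻¹) * (w⁻¹)⁻¹ = t by group] at h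
          rw [h]; exact inv_mem ht
      have hw4 : IsPGroup 2 (zpowers w) := by
        obtain ⟨i, -, hi⟩ := (Nat.dvd_prime_pow Nat.prime_two).1 (orderOf_dvd_of_pow_eq_one (x := w) (n := 2 ^ 2)
          (by rw [show (2:ℕ) ^ 2 = 2 * 2 by norm_num, pow_mul, pow_two w, sq_eq_neg_one h2 hns hd hwC hwT,
            CfsgLib.PLocal.SLTwo.neg_one_sq]))
        exact IsPGroup.of_card (n := i) (by rw [Nat.card_zpowers, hi])
      have hxp : IsPGroup 2 (zpowers x) := IsPGroup.of_card (n := k) (by rw [Nat.card_zpowers, hk])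
      obtain ⟨P, hP⟩ := (hxp.to_sup_of_normal_left' hw4 hnorm).exists_le_sylow
      have hPQ := honly P (hP (mem_sup_left (mem_zpowers x)))
      subst hPQ
      have hwQ : w ∈ P := hP (mem_sup_right (mem_zpowers w))
      obtain ⟨r, hr, hrm, hr2⟩ : ∃ r : ℕ, r.Prime ∧ r ∣ m ∧ r ≠ 2 := by
        by_contra hcon
        push Not at hcon
        refine hm2 ⟨_, Nat.eq_prime_pow_of_unique_prime_dvd (p := 2) (by
          have := Fintype.one_lt_card (α := F); omega) fun {d} hd hdm => hcon d hd hdm⟩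
      haveI := Fact.mk hr
      obtain ⟨⟨z, hzC⟩, hz⟩ := exists_prime_orderOf_dvd_card' (G := centralizer ({x} : Set SL(2, F))) r (hC ▸ hrm)
      rw [orderOf_mk] at hz
      have hzQ : z • P = P := honly _ ⟨x, hxQ, show z * x * z⁻¹ = x by
        rw [(mem_centralizer_singleton_iff.1 hzC), mul_inv_cancel_right]⟩
      have h1 : z * w * z⁻¹ ∈ P := by
        have : z * w * z⁻¹ ∈ (z • P : Sylow 2 SL(2, F)) := ⟨w, hwQ, rfl⟩
        rwa [hzQ] at this
      have h3 : z ^ 2 ∈ P := by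
        have h4 : z * w * z⁻¹ * w⁻¹ ∈ P := mul_mem h1 (inv_mem hwQ)
        rw [show z * w * z⁻¹ * w⁻¹ = z * (w * z⁻¹ * w⁻¹) by group,
          conj_eq_inv hns hw (inv_mem hzC), inv_inv, ← pow_two] at h4
        exact h4
      obtain ⟨i, hi⟩ := orderOf_of_mem h3
      have hzr : orderOf (z ^ 2) = r := by
        rw [Nat.Coprime.orderOf_pow, hz]
        rw [hz]; exact (Nat.coprime_primes hr Nat.prime_two).2 hr2
      have : r ∣ 2 ^ i := by rw [← hi, hzr]
      exact hr2 ((Nat.prime_dvd_prime_iff_eq hr Nat.prime_two).1 (hr.dvd_of_dvd_pow this))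
    refine ⟨Q₀, fun x hx => ?_⟩
    obtain ⟨P, hxP⟩ := exists_sylow_mem hx
    by_cases hP : P = Q₀
    swap
    · exact ⟨P, hP, hxP⟩
    subst hP
    by_cases hcen : x = 1 ∨ x = -1
    swap
    · push Not at hcen
      exact key _ x hxP hcen.1 hcen.2
    obtain ⟨P₁, hjP₁⟩ := exists_sylow_mem hjo
    obtain ⟨P₂, hP₂, -⟩ := key P₁ j hjP₁ hj1 hj2
    have hall : ∀ R : Sylow 2 SL(2, F), x ∈ R := fun R => by
      obtain ⟨h, rfl⟩ := MulAction.exists_smul_eq SL(2, F) P R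
      exact ⟨x, hxP, by rcases hcen with rfl | rfl <;> simp⟩
    by_cases hP1 : P₁ = P
    · exact ⟨P₂, hP1 ▸ hP₂, hall P₂⟩
    · exact ⟨P₁, hP1, hall P₁⟩

theorem rhs_iff {q m : ℕ} (hq : 1 < q) (hm : (q % 4 = 1 ∧ m = q - 1) ∨ (q % 4 = 3 ∧ m = q + 1)) :
    ((¬ ∃ k : ℕ, q + 1 = 2 ^ k) ∧ (¬ ∃ k : ℕ, q = 2 ^ k) ∧ ¬ ∃ k : ℕ, q = 2 ^ k + 1) ↔ ¬ ∃ a : ℕ, m = 2 ^ a := by
  have h4 : ∀ k : ℕ, 2 ≤ k → 4 ∣ 2 ^ k := fun k hk => (Nat.pow_dvd_pow 2 hk : 2 ^ 2 ∣ 2 ^ k)
  constructor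
  · rintro ⟨h1, -, h3⟩ ⟨a, rfl | rfl⟩ <;> rcases hm with ⟨hq4, hm⟩ | ⟨hq4, hm⟩
    all_goals first | exact h3 ⟨a, by omega⟩ | exact h1 ⟨a, by omega⟩
  · intro h
    refine ⟨fun ⟨k, hk⟩ => ?_, fun ⟨k, hk⟩ => ?_, fun ⟨k, hk⟩ => ?_⟩
    · rcases hm with ⟨hq4, hm⟩ | ⟨hq4, hm⟩
      · rcases k with _ | _ | k
        · simp at hk; omega
        · simp at hk; omega
        · have := h4 (k + 2) (by omega); omega
      · exact h ⟨k, by omega⟩
    · rcases k with _ | k
      · simp at hk; omega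
      · rw [pow_succ] at hk; omega
    · rcases hm with ⟨hq4, hm⟩ | ⟨hq4, hm⟩
      · exact h ⟨k, by omega⟩
      · rcases k with _ | _ | k
        · simp at hk; omega
        · simp at hk; exact h ⟨2, by norm_num; omega⟩
        · have := h4 (k + 2) (by omega); omega

/-- The classification for `SL(2,q)`. -/
theorem redundant_SL_iff (p : ℕ) [Fact p.Prime] :
    Redundant p SL(2, F) ↔ (p = 2 ∧ (¬ ∃ k : ℕ, Fintype.card F + 1 = 2 ^ k) ∧
      (¬ ∃ k : ℕ, Fintype.card F = 2 ^ k) ∧ ¬ ∃ k : ℕ, Fintype.card F = 2 ^ k + 1) := by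
  obtain ⟨r, hr⟩ := CharP.exists F
  obtain ⟨n, hrp, hn⟩ := FiniteField.card F r
  haveI := Fact.mk hrp
  by_cases hpr : p = r
  · subst hpr
    refine iff_of_false (not_redundant_char p) ?_
    rintro ⟨rfl, -, h, -⟩
    exact h ⟨n, hn⟩
  by_cases hp2 : p = 2
  swap
  · exact iff_of_false (not_redundant_of_cyclic fun Q => Two.isCyclic_sylow_odd r p hp2 hpr Q)
      (fun h => hp2 h.1)
  subst hp2
  have hq2 : Fintype.card F % 2 = 1 := FiniteField.odd_card_of_char_ne_two (by rw [ringChar.eq F r]; exact Ne.symm hpr)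
  obtain ⟨m, hm⟩ : ∃ m, (Fintype.card F % 4 = 1 ∧ m = Fintype.card F - 1) ∨
      (Fintype.card F % 4 = 3 ∧ m = Fintype.card F + 1) := by
    by_cases h : Fintype.card F % 4 = 1
    · exact ⟨_, Or.inl ⟨h, rfl⟩⟩
    · exact ⟨_, Or.inr ⟨by omega, rfl⟩⟩
  rw [redundant_two_iff r (Ne.symm hpr) hm, ← rhs_iff Fintype.one_lt_card hm]
  exact (and_iff_right rfl).symm

end SL

end CfsgLib.Classical.Redundant
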