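import Cfsg.Agent.Lib.Classical.SLGroup

/-!
Explicit generators of `SL(n + 1, K)`: a monomial element and one root group.
-/

set_option autoImplicit false

namespace CfsgLib.Classical

open Matrix
open scoped MatrixGroups commutatorElement Fin.NatCast Fin.CommRing

variable {K : Type*} [Field K] {n : ℕ}

/-- A subgroup containing a full root group and the cyclic monomial element is everything. -/
theorem eq_top_of_root_and_cycle (hn : 1 ≤ n) (H : Subgroup (SpecialLinearGroup (Fin (n + 1)) K))
    (w : SpecialLinearGroup (Fin (n + 1)) K) (t : Fin (n + 1) → K) (ht : ∀ i, t i ≠ 0)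
    (hW : ∀ a b, (w : Matrix (Fin (n + 1)) (Fin (n + 1)) K) a b = if b = a + 1 then t a else 0)
    (hwH : w ∈ H)
    (h01 : ∀ (hij : (0 : Fin (n + 1)) ≠ 1) (c : K), SpecialLinearGroup.transvection hij c ∈ H) :
    H = ⊤ := by
  let P : Fin (n + 1) → Fin (n + 1) → Prop := fun i j => ∀ (hij : i ≠ j) (c : K),
    SpecialLinearGroup.transvection hij c ∈ H
  have hstep : ∀ i j, P (i + 1) (j + 1) → P i j := by
    intro i j h hij c
    have hij' : i + 1 ≠ j + 1 := fun e => hij (add_right_cancel e)
    have key : w * SpecialLinearGroup.transvection hij' (c * t j / t i) =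
        SpecialLinearGroup.transvection hij c * w := by
      refine Subtype.ext ?_
      show (w : Matrix (Fin (n + 1)) (Fin (n + 1)) K) * (1 + Matrix.single (i + 1) (j + 1) (c * t j / t i)) =
        (1 + Matrix.single i j c) * (w : Matrix (Fin (n + 1)) (Fin (n + 1)) K)
      rw [Matrix.mul_add, Matrix.add_mul, Matrix.mul_one, Matrix.one_mul]
      congr 1
      ext a b
      rw [Matrix.mul_apply, Matrix.mul_apply, Finset.sum_eq_single (i + 1), Finset.sum_eq_single j]
      · rw [hW, hW]
        by_cases ha : a = i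
        · subst ha
          by_cases hb : b = j + 1
          · subst hb
            simp
            field_simp [ht a]
          · simp [hb, Ne.symm hb]
        · simp [Ne.symm ha, ha]
      · intro x _ hx
        simp [Matrix.single_apply, Ne.symm hx]
      · simp
      · intro x _ hx
        simp [Matrix.single_apply, Ne.symm hx]
      · simp
    have e : SpecialLinearGroup.transvection hij c =
        w * SpecialLinearGroup.transvection hij' (c * t j / t i) * w⁻¹ := by
      rw [key, mul_inv_cancel_right]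
    rw [e]
    exact mul_mem (mul_mem hwH (h hij' _)) (inv_mem hwH)
  have hshift : ∀ m : ℕ, P (-(m : Fin (n + 1))) (1 - (m : Fin (n + 1))) := by
    intro m
    induction m with
    | zero => rw [Nat.cast_zero, neg_zero, sub_zero]; exact h01
    | succ m ih =>
      refine hstep _ _ ?_
      convert ih using 2 <;> push_cast <;> ring
  have hconsec : ∀ i, P i (i + 1) := fun i => by
    have h := hshift ((-i).val)
    rwa [Fin.cast_val_eq_self, neg_neg, sub_neg_eq_add, add_comm 1 i] at h
  have hcast : ∀ d : ℕ, 1 ≤ d → d ≤ n → (d : Fin (n + 1)) ≠ 0 := fun d h1 h2 e => by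
    have := congrArg Fin.val e
    rw [Fin.val_natCast, Nat.mod_eq_of_lt (by omega)] at this
    simp at this
    omega
  have hall : ∀ d : ℕ, 1 ≤ d → d ≤ n → ∀ i, P i (i + (d : Fin (n + 1))) := by
    intro d
    induction d with
    | zero => intro h; omega
    | succ d ih =>
      intro _ hd i
      by_cases h0 : d = 0
      · subst h0
        simpa using hconsec i
      · intro hij c
        have hik : i ≠ i + (d : Fin (n + 1)) := fun e => hcast d (by omega) (by omega) (by simpa using e)
        have hkj : i + (d : Fin (n + 1)) ≠ i + ((d + 1 : ℕ) : Fin (n + 1)) := fun e => by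
          have e' : ((d + 1 : ℕ) : Fin (n + 1)) = (d : Fin (n + 1)) := (add_left_cancel e).symm
          push_cast at e'
          exact hcast 1 le_rfl (by omega) (by simpa using e')
        have hkj' : i + ((d + 1 : ℕ) : Fin (n + 1)) = i + (d : Fin (n + 1)) + 1 := by push_cast; ring
        rw [← transvection_eq_commutator hij hik hkj c]
        have m1 := ih (by omega) (by omega) i hik c
        have m2 : SpecialLinearGroup.transvection hkj (1 : K) ∈ H := by
          have h := hconsec (i + (d : Fin (n + 1)))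
          rw [← hkj'] at h
          exact h hkj 1
        rw [commutatorElement_def]
        exact mul_mem (mul_mem (mul_mem m1 m2) (inv_mem m1)) (inv_mem m2)
  have : Nontrivial (Fin (n + 1)) := Fin.nontrivial_iff_two_le.2 (by omega)
  refine closure_transvection_eq_top H fun i j hij c => ?_
  have h := hall (j - i).val (Nat.one_le_iff_ne_zero.2 fun e => hij (sub_eq_zero.1 (Fin.ext e)).symm)
    (Nat.lt_succ_iff.1 (j - i).isLt) i
  rw [Fin.cast_val_eq_self, add_sub_cancel] at h
  exact h hij c

/-- The monomial element of the statements. -/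
theorem cycle_entry (w : SpecialLinearGroup (Fin (n + 1)) K)
    (hw : (w : Matrix (Fin (n + 1)) (Fin (n + 1)) K) =
      Matrix.of (fun i j => if j.val = i.val + 1 then 1 else if i.val = n ∧ j.val = 0 then (-1) ^ n else 0))
    (a b : Fin (n + 1)) :
    (w : Matrix (Fin (n + 1)) (Fin (n + 1)) K) a b =
      if b = a + 1 then (if a.val = n then (-1) ^ n else 1) else 0 := by
  have ha := a.isLt
  have hb := b.isLt
  rw [hw, Matrix.of_apply]
  by_cases h : b = a + 1
  · rw [if_pos h]
    have hv : b.val = (a.val + 1) % (n + 1) := by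
      rw [h, Fin.val_add, Fin.val_one', Nat.add_mod_mod]
    by_cases han : a.val = n
    · rw [han, Nat.mod_self] at hv
      rw [if_neg (by omega), if_pos ⟨han, hv⟩, if_pos han]
    · rw [Nat.mod_eq_of_lt (by omega)] at hv
      rw [if_pos hv, if_neg han]
  · rw [if_neg h, if_neg, if_neg]
    · rintro ⟨h1, h2⟩
      refine h (Fin.ext ?_)
      rw [Fin.val_add, Fin.val_one', Nat.add_mod_mod, h1, Nat.mod_self, h2]
    · intro h1
      refine h (Fin.ext ?_)
      rw [Fin.val_add, Fin.val_one', Nat.add_mod_mod, Nat.mod_eq_of_lt (by omega), h1]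

theorem cycle_coeff_ne_zero (a : Fin (n + 1)) : (if a.val = n then (-1 : K) ^ n else 1) ≠ 0 := by
  split_ifs
  · exact pow_ne_zero _ (neg_ne_zero.2 one_ne_zero)
  · exact one_ne_zero

theorem explicit_generators_small [Fintype K] (hK : Fintype.card K ≤ 3) (hn : 1 ≤ n)
    (x w : SpecialLinearGroup (Fin (n + 1)) K)
    (hx : (x : Matrix (Fin (n + 1)) (Fin (n + 1)) K) = Matrix.transvection (0 : Fin (n + 1)) (1 : Fin (n + 1)) 1)
    (hw : (w : Matrix (Fin (n + 1)) (Fin (n + 1)) K) =
      Matrix.of (fun i j => if j.val = i.val + 1 then 1 else if i.val = n ∧ j.val = 0 then (-1) ^ n else 0)) :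
    Subgroup.closure ({x, w} : Set (SpecialLinearGroup (Fin (n + 1)) K)) = ⊤ := by
  refine eq_top_of_root_and_cycle hn _ w _ cycle_coeff_ne_zero (cycle_entry w hw)
    (Subgroup.subset_closure (by simp)) fun hij c => ?_
  -- every scalar is a natural number
  obtain ⟨m, rfl⟩ : ∃ m : ℕ, (m : K) = c := by
    obtain ⟨p, hp⟩ := CharP.exists K
    have : Fact p.Prime := ⟨CharP.char_is_prime K p⟩
    obtain ⟨f, hp', hq⟩ := FiniteField.card K p
    have hcard : Fintype.card K = p := by
      rw [hq] at hK ⊢
      have h2 := hp'.two_le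
      rcases Nat.lt_or_ge (f : ℕ) 2 with h | h
      · rw [show (f : ℕ) = 1 by have := f.pos; omega, pow_one]
      · have : 2 ^ 2 ≤ p ^ (f : ℕ) := (Nat.pow_le_pow_left h2 2).trans (Nat.pow_le_pow_right (by omega) h)
        omega
    have hinj : Function.Injective (ZMod.castHom (dvd_refl p) K) := RingHom.injective _
    have hbij : Function.Bijective (ZMod.castHom (dvd_refl p) K) :=
      (Fintype.bijective_iff_injective_and_card _).2 ⟨hinj, by rw [ZMod.card, hcard]⟩
    obtain ⟨z, hz⟩ := hbij.surjective c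
    exact ⟨z.val, by rw [← hz, ← map_natCast (ZMod.castHom (dvd_refl p) K), ZMod.natCast_zmod_val]⟩
  have hx' : x = SpecialLinearGroup.transvection hij 1 :=
    Subtype.ext (hx.trans rfl)
  induction m with
  | zero => simp [SpecialLinearGroup.transvection_coeff_zero]
  | succ m ih =>
    have e : SpecialLinearGroup.transvection hij ((m + 1 : ℕ) : K) =
        SpecialLinearGroup.transvection hij (m : K) * SpecialLinearGroup.transvection hij 1 := by
      refine sl_ext_smul fun y => funext fun l => ?_
      simp only [mul_smul, transvection_smul_apply]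
      by_cases hl : l = 0
      · subst hl; simp [hij, hij.symm]; ring
      · simp [hl]
    rw [e]
    exact mul_mem ih (hx' ▸ Subgroup.subset_closure (by simp))

theorem exists_sum_two_sq [Fintype K] (d : K) : ∃ a b : K, a * a + b * b = d := by
  by_cases h2 : (2 : K) = 0
  · have : CharP K 2 := CharTwo.of_one_ne_zero_of_two_eq_zero one_ne_zero h2
    obtain ⟨a, ha⟩ := FiniteField.isSquare_of_char_two (ringChar.eq K 2) d
    exact ⟨a, 0, by rw [ha]; ring⟩
  · have hodd : Fintype.card K % 2 = 1 := FiniteField.odd_card_of_char_ne_two fun h => h2 (by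
      have : CharP K 2 := ringChar.eq_iff.1 h
      exact_mod_cast CharP.cast_eq_zero K 2)
    obtain ⟨a, b, h⟩ := FiniteField.exists_root_sum_quadratic (R := K) (f := Polynomial.X ^ 2)
      (g := Polynomial.X ^ 2 - Polynomial.C d) (Polynomial.degree_X_pow 2)
      (Polynomial.degree_X_pow_sub_C two_pos d) hodd
    exact ⟨a, b, by simp at h; linear_combination h⟩

theorem explicit_generators [Fintype K] (hK : 3 < Fintype.card K) (hn : 1 ≤ n)
    (k : Kˣ) (hk : ∀ u : Kˣ, u ∈ Subgroup.zpowers k)
    (h x w : SpecialLinearGroup (Fin (n + 1)) K)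
    (hh : (h : Matrix (Fin (n + 1)) (Fin (n + 1)) K) =
      Matrix.diagonal (fun i => if i.val = 0 then (k : K) else if i.val = 1 then ((k⁻¹ : Kˣ) : K) else 1))
    (hx : (x : Matrix (Fin (n + 1)) (Fin (n + 1)) K) = Matrix.transvection (0 : Fin (n + 1)) (1 : Fin (n + 1)) 1)
    (hw : (w : Matrix (Fin (n + 1)) (Fin (n + 1)) K) =
      Matrix.of (fun i j => if j.val = i.val + 1 then 1 else if i.val = n ∧ j.val = 0 then (-1) ^ n else 0)) :
    Subgroup.closure ({h, x * w} : Set (SpecialLinearGroup (Fin (n + 1)) K)) = ⊤ := by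
  classical
  set H := Subgroup.closure ({h, x * w} : Set (SpecialLinearGroup (Fin (n + 1)) K))
  have hhH : h ∈ H := Subgroup.subset_closure (by simp)
  have hyH : x * w ∈ H := Subgroup.subset_closure (by simp)
  have hord : orderOf k = Fintype.card K - 1 := by
    rw [orderOf_eq_card_of_forall_mem_zpowers hk, Nat.card_units, Nat.card_eq_fintype_card]
  have hk2 : (k : K) * k ≠ 1 := fun e => by
    have : orderOf k ∣ 2 := orderOf_dvd_of_pow_eq_one (by rw [pow_two]; exact Units.ext e)
    have := Nat.le_of_dvd two_pos this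
    omega
  have hk0 : (k : K) ≠ 0 := k.ne_zero
  have h01' : (0 : Fin (n + 1)) ≠ 1 := fun e => by
    have := congrArg Fin.val e
    rw [Fin.val_one', Nat.mod_eq_of_lt (by omega)] at this
    simp at this
  set T : K → SpecialLinearGroup (Fin (n + 1)) K := fun c => SpecialLinearGroup.transvection h01' c
  have hTadd : ∀ a b, T (a + b) = T a * T b := fun a b => by
    refine sl_ext_smul fun y => funext fun l => ?_
    simp only [T, mul_smul, transvection_smul_apply]
    by_cases hl : l = 0
    · subst hl; simp [h01', h01'.symm]; ring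
    · simp [hl]
  have hx' : x = T 1 := Subtype.ext (hx.trans rfl)
  -- diagonal conjugates of `h`
  set d : Fin (n + 1) → K := fun i => if i.val = 0 then (k : K) else if i.val = 1 then ((k⁻¹ : Kˣ) : K) else 1
  have hd0 : ∀ i, d i ≠ 0 := fun i => by simp only [d]; split_ifs <;> simp
  set D := w * h * w⁻¹ with hD
  have hDcoe : (D : Matrix (Fin (n + 1)) (Fin (n + 1)) K) = Matrix.diagonal (fun i => d (i + 1)) := by
    have e : (w : Matrix (Fin (n + 1)) (Fin (n + 1)) K) * (h : Matrix (Fin (n + 1)) (Fin (n + 1)) K) =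
        Matrix.diagonal (fun i => d (i + 1)) * (w : Matrix (Fin (n + 1)) (Fin (n + 1)) K) := by
      ext a b
      rw [hh, Matrix.mul_diagonal, Matrix.diagonal_mul, cycle_entry w hw]
      by_cases hb : b = a + 1
      · subst hb; simp [d, mul_comm]
      · simp [hb]
    show (w : Matrix (Fin (n + 1)) (Fin (n + 1)) K) * (h : Matrix (Fin (n + 1)) (Fin (n + 1)) K) *
      ((w⁻¹ : SpecialLinearGroup (Fin (n + 1)) K) : Matrix (Fin (n + 1)) (Fin (n + 1)) K) = _
    have hinv : (w : Matrix (Fin (n + 1)) (Fin (n + 1)) K) *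
        ((w⁻¹ : SpecialLinearGroup (Fin (n + 1)) K) : Matrix (Fin (n + 1)) (Fin (n + 1)) K) = 1 :=
      congrArg Subtype.val (mul_inv_cancel w)
    rw [e, Matrix.mul_assoc, hinv, Matrix.mul_one]
  have conjT : ∀ (g : SpecialLinearGroup (Fin (n + 1)) K) (e : Fin (n + 1) → K),
      (g : Matrix (Fin (n + 1)) (Fin (n + 1)) K) = Matrix.diagonal e → e 1 ≠ 0 → ∀ c,
      g * T c * g⁻¹ = T (e 0 / e 1 * c) := by
    intro g e hg he c
    rw [mul_inv_eq_iff_eq_mul]
    refine Subtype.ext ?_
    show (g : Matrix (Fin (n + 1)) (Fin (n + 1)) K) * (1 + Matrix.single 0 1 c) =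
      (1 + Matrix.single 0 1 (e 0 / e 1 * c)) * (g : Matrix (Fin (n + 1)) (Fin (n + 1)) K)
    rw [hg, Matrix.mul_add, Matrix.add_mul, Matrix.mul_one, Matrix.one_mul]
    congr 1
    ext a b
    simp only [Matrix.diagonal_mul, Matrix.mul_diagonal]
    by_cases ha : 0 = a
    · by_cases hb : 1 = b
      · subst ha hb
        simp
        field_simp
      · simp [Matrix.single_apply, hb]
    · simp [Matrix.single_apply, ha]
  have hr1 : d 0 / d 1 = (k : K) * k := by
    have h1 : (1 : Fin (n + 1)).val = 1 := by rw [Fin.val_one', Nat.mod_eq_of_lt (by omega)]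
    simp [d, h1, show n ≠ 0 by omega, show 0 < n by omega]
  have hhT : ∀ c, h * T c * h⁻¹ = T ((k : K) * k * c) := fun c => by
    rw [conjT h d hh (hd0 1), hr1]
  set e₀ := d (0 + 1) / d (1 + 1) with he₀
  have hDT : ∀ c, D * T c * D⁻¹ = T (e₀ * c) := fun c => conjT D _ hDcoe (hd0 _) c
  have he0 : e₀ ≠ 0 := div_ne_zero (hd0 _) (hd0 _)
  have he1 : e₀ ≠ 1 := by
    intro e
    rw [he₀, div_eq_one_iff_eq (hd0 _)] at e
    have h1 : (1 : Fin (n + 1)).val = 1 := by rw [Fin.val_one', Nat.mod_eq_of_lt (by omega)]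
    have h2 : ((1 : Fin (n + 1)) + 1).val = 2 % (n + 1) := by rw [Fin.val_add, h1]
    simp only [zero_add, d, h1, h2] at e
    rcases Nat.lt_or_ge n 2 with hn2 | hn2
    · rw [show 2 % (n + 1) = 0 by rw [show n = 1 by omega]] at e
      simp at e
      exact hk2 (by nth_rewrite 1 [← e]; exact inv_mul_cancel₀ hk0)
    · rw [Nat.mod_eq_of_lt (by omega)] at e
      simp at e
      exact hk2 (by rw [e]; simp)
  have hcomm : h * D = D * h := Subtype.ext (by
    show (h : Matrix (Fin (n + 1)) (Fin (n + 1)) K) * (D : Matrix (Fin (n + 1)) (Fin (n + 1)) K) =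
      (D : Matrix (Fin (n + 1)) (Fin (n + 1)) K) * (h : Matrix (Fin (n + 1)) (Fin (n + 1)) K)
    rw [hDcoe, hh, Matrix.diagonal_mul_diagonal,
      Matrix.diagonal_mul_diagonal]
    exact congrArg Matrix.diagonal (funext fun i => mul_comm _ _))
  -- a nontrivial element of the root group
  set s := e₀⁻¹ - 1 with hs
  have hs0 : s ≠ 0 := sub_ne_zero.2 (inv_ne_one.2 he1)
  have h1' : x * w * h * (x * w)⁻¹ = D * T s := by
    rw [hs, sub_eq_add_neg, hTadd, hx']
    have e : D * T e₀⁻¹ = T 1 * D := by
      rw [← mul_inv_eq_iff_eq_mul, hDT, mul_inv_cancel₀ he0]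
    rw [← mul_assoc, e, hD]
    have hinv : T (-1) = (T 1)⁻¹ := eq_inv_of_mul_eq_one_right (by
      rw [← hTadd, add_neg_cancel]; exact SpecialLinearGroup.transvection_coeff_zero _)
    rw [hinv]
    group
  have hmem : D * T s ∈ H := h1' ▸ mul_mem (mul_mem hyH hhH) (inv_mem hyH)
  have hc0 : T (e₀ * ((k : K) * k * s - s)) ∈ H := by
    have e : T (e₀ * ((k : K) * k * s - s)) = h * (D * T s) * h⁻¹ * (D * T s)⁻¹ := by
      rw [← hDT, sub_eq_add_neg, hTadd, ← hhT]
      have hinv : T (-s) = (T s)⁻¹ := eq_inv_of_mul_eq_one_right (by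
        rw [← hTadd, add_neg_cancel]; exact SpecialLinearGroup.transvection_coeff_zero _)
      rw [hinv]
      have hc' : D * h = h * D := hcomm.symm
      calc D * (h * T s * h⁻¹ * (T s)⁻¹) * D⁻¹ = (D * h) * T s * h⁻¹ * (T s)⁻¹ * D⁻¹ := by group
        _ = (h * D) * T s * h⁻¹ * (T s)⁻¹ * D⁻¹ := by rw [hc']
        _ = h * (D * T s) * h⁻¹ * (D * T s)⁻¹ := by group
    rw [e]
    exact mul_mem (mul_mem (mul_mem hhH hmem) (inv_mem hhH)) (inv_mem hmem)
  set c₀ := e₀ * ((k : K) * k * s - s) with hc₀
  have hc00 : c₀ ≠ 0 := mul_ne_zero he0 (by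
    rw [show (k : K) * k * s - s = ((k : K) * k - 1) * s by ring]
    exact mul_ne_zero (sub_ne_zero.2 hk2) hs0)
  have hpow : ∀ (i : ℕ) c, T c ∈ H → T (((k : K) * k) ^ i * c) ∈ H := by
    intro i c hc
    induction i with
    | zero => simpa using hc
    | succ i ih =>
      rw [pow_succ', mul_assoc, ← hhT]
      exact mul_mem (mul_mem hhH ih) (inv_mem hhH)
  have hsq : ∀ a : K, T (a * a * c₀) ∈ H := by
    intro a
    by_cases ha : a = 0
    · subst ha
      simp only [T, mul_zero, zero_mul, SpecialLinearGroup.transvection_coeff_zero]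
      exact one_mem _
    · obtain ⟨i, hi⟩ := (isOfFinOrder_of_finite k).mem_powers_iff_mem_zpowers.2 (hk (Units.mk0 a ha))
      have hi' : (k : K) ^ i = a := by simpa using congrArg Units.val hi
      have := hpow i c₀ hc0
      rwa [mul_pow, hi'] at this
  have hT : ∀ c, T c ∈ H := fun c => by
    obtain ⟨a, b, hab⟩ := exists_sum_two_sq (c / c₀)
    rw [show c = a * a * c₀ + b * b * c₀ by rw [← add_mul, hab, div_mul_cancel₀ _ hc00], hTadd]
    exact mul_mem (hsq a) (hsq b)
  refine eq_top_of_root_and_cycle hn H w _ cycle_coeff_ne_zero (cycle_entry w hw) ?_ fun _ c => hT c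
  have hxH : x ∈ H := hx' ▸ hT 1
  simpa using mul_mem (inv_mem hxH) hyH

end CfsgLib.Classical
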