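import Cfsg.Agent.Lib.Classical.LinearOrder

/-!
The quaternion subgroup of SL(2,3).
-/

set_option autoImplicit false

namespace CfsgLib.Classical.Two

open Matrix
open scoped MatrixGroups

/-- `i` in SL(2,3). -/
def quatI : SL(2, ZMod 3) := ⟨!![0, 2; 1, 0], by decide⟩

/-- `j` in SL(2,3). -/
def quatJ : SL(2, ZMod 3) := ⟨!![1, 1; 1, 2], by decide⟩

/-- The map of the quaternion group to SL(2,3). -/
def quatFun : QuaternionGroup 2 → SL(2, ZMod 3)
  | QuaternionGroup.a i => quatI ^ i.val
  | QuaternionGroup.xa i => quatJ * quatI ^ i.val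

/-- The embedding of the quaternion group in SL(2,3). -/
def quatHom : QuaternionGroup 2 →* SL(2, ZMod 3) :=
  MonoidHom.mk' quatFun (by decide +kernel)

theorem quatHom_injective : Function.Injective quatHom := by
  intro x y
  revert x y
  decide +kernel

theorem exists_quat_of_pow_four : ∀ g : SL(2, ZMod 3), g ^ 4 = 1 → ∃ x, quatHom x = g := by
  decide +kernel

theorem quatHom_range_normal : quatHom.range.Normal := by
  refine ⟨fun x hx g => ?_⟩
  obtain ⟨y, rfl⟩ := hx
  have hy : ∀ z : QuaternionGroup 2, quatHom z ^ 4 = 1 := by decide +kernel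
  obtain ⟨w, hw⟩ := exists_quat_of_pow_four (g * quatHom y * g⁻¹) (by rw [conj_pow, hy]; simp)
  exact ⟨w, hw⟩

theorem sl_two_three_quaternion {F : Type*} [Field F] [Fintype F] (hF : Fintype.card F = 3) :
    ∃ Q : Subgroup SL(2, F), Q.Normal ∧ Q.index = 3 ∧ Nonempty (Q ≃* QuaternionGroup 2) := by
  let e : ZMod 3 ≃+* F := ZMod.ringEquivOfPrime F Nat.prime_three hF
  let φ : SL(2, ZMod 3) →* SL(2, F) := SpecialLinearGroup.map e.toRingHom
  have hφ : Function.Injective φ := fun a b h => Subtype.ext (Matrix.ext fun i j =>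
    e.injective (congrFun (congrFun (congrArg Subtype.val h) i) j))
  have hsurj : Function.Surjective φ := fun g =>
    ⟨SpecialLinearGroup.map e.symm.toRingHom g, Subtype.ext (Matrix.ext fun i j => by
      simp [φ])⟩
  have hψ : Function.Injective (φ.comp quatHom) := hφ.comp quatHom_injective
  refine ⟨(φ.comp quatHom).range, ?_, ?_, ⟨(MonoidHom.ofInjective hψ).symm⟩⟩
  · rw [MonoidHom.range_comp]
    exact quatHom_range_normal.map φ hsurj
  · have hcard := card_SL (F := F) 2 (by norm_num)
    rw [hF, Fin.prod_univ_two] at hcard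
    norm_num at hcard
    have h := (φ.comp quatHom).range.card_mul_index
    rw [← Nat.card_congr (MonoidHom.ofInjective hψ).toEquiv, Nat.card_eq_fintype_card,
      QuaternionGroup.card] at h
    omega

end CfsgLib.Classical.Two
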