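import Cfsg.Agent.Lib.Perm.CentralizerRing
import Cfsg.Agent.Lib.Recog.AffineTriples

/-!
# The permutation character of `SL_n` on non-zero vectors
-/

set_option autoImplicit false
set_option linter.all false

namespace CfsgLib.Classical.SLVectorCharacter

open scoped ComplexConjugate
open MulAction CfsgLib.Char CfsgLib.Perm.CentralizerRing

variable {F : Type*} [Field F] {n : ℕ}

/-- The non-zero vectors. -/
abbrev NZ (F : Type*) [Field F] (n : ℕ) := {v : Fin n → F // v ≠ 0}

/-- The image of a non-zero vector. -/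
def mv (g : Matrix.SpecialLinearGroup (Fin n) F) (v : NZ F n) : NZ F n :=
  ⟨(g : Matrix (Fin n) (Fin n) F).mulVec v.1, fun h => v.2 (by
    have h' := congrArg ((↑(g⁻¹) : Matrix (Fin n) (Fin n) F).mulVec) h
    rwa [Matrix.mulVec_mulVec, ← Matrix.SpecialLinearGroup.coe_mul, inv_mul_cancel,
      Matrix.SpecialLinearGroup.coe_one, Matrix.one_mulVec, Matrix.mulVec_zero] at h')⟩

/-- The action of `SL_n` on non-zero vectors. -/
@[instance_reducible]
def nzAction : MulAction (Matrix.SpecialLinearGroup (Fin n) F) (NZ F n) where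
  smul := mv
  one_smul v := Subtype.ext (by
    show (mv 1 v).1 = v.1
    exact Matrix.one_mulVec _)
  mul_smul g h v := Subtype.ext (by
    show (mv (g * h) v).1 = (mv g (mv h v)).1
    exact (Matrix.mulVec_mulVec (v := v.1) (M := (g : Matrix (Fin n) (Fin n) F))
      (N := (h : Matrix (Fin n) (Fin n) F))).symm)

attribute [local instance] nzAction

/-- A scalar multiple of a non-zero vector. -/
def sc (c : Fˣ) (x : NZ F n) : NZ F n := ⟨(c : F) • x.1, smul_ne_zero c.ne_zero x.2⟩

theorem smul_sc (g : Matrix.SpecialLinearGroup (Fin n) F) (c : Fˣ) (x : NZ F n) :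
    g • sc c x = sc c (g • x) :=
  Subtype.ext (by
    show (mv g (sc c x)).1 = (sc c (mv g x)).1
    exact Matrix.mulVec_smul (g : Matrix (Fin n) (Fin n) F) (c : F) x.1)

theorem sc_sc (c d : Fˣ) (x : NZ F n) : sc c (sc d x) = sc (c * d) x :=
  Subtype.ext (by simp [sc, smul_smul])

theorem sc_left_injective (x : NZ F n) : Function.Injective fun c => sc c x := fun c d h =>
  Units.ext (smul_left_injective F x.2 (congrArg Subtype.val h))

theorem exists_sl_pair (hn : 3 ≤ n) {x y x' y' : NZ F n} (h : ∀ c, y ≠ sc c x)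
    (h' : ∀ c, y' ≠ sc c x') : ∃ g : Matrix.SpecialLinearGroup (Fin n) F, g • x = x' ∧ g • y = y' := by
  have li : ∀ {a b : NZ F n}, (∀ c, b ≠ sc c a) → LinearIndependent F ![a.1, b.1] := by
    intro a b hab
    rw [LinearIndependent.pair_iff' a.2]
    intro r hr
    have hr0 : r ≠ 0 := fun e => b.2 (by rw [← hr, e, zero_smul])
    exact hab (Units.mk0 r hr0) (Subtype.ext hr.symm)
  obtain ⟨A, hA⟩ := CfsgLib.Recog.AffineTriples.exists_linearEquiv_of_li (li h) (li h')
  obtain ⟨B, hB, hB1, hB2⟩ := CfsgLib.Recog.AffineTriples.exists_det_one_agree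
    (by rw [Module.finrank_fin_fun]; exact hn) A x.1 y.1
  refine ⟨⟨LinearMap.toMatrix' (B : (Fin n → F) →ₗ[F] (Fin n → F)), by
    rw [LinearMap.det_toMatrix', hB]⟩, Subtype.ext ?_, Subtype.ext ?_⟩
  · show (mv _ x).1 = x'.1
    simp only [mv]
    rw [LinearMap.toMatrix'_mulVec]
    exact hB1.trans (hA 0)
  · show (mv _ y).1 = y'.1
    simp only [mv]
    rw [LinearMap.toMatrix'_mulVec]
    exact hB2.trans (hA 1)

variable [Fintype F] [DecidableEq F]

theorem exists_indep (hn : 3 ≤ n) (x : NZ F n) : ∃ y : NZ F n, ∀ c, y ≠ sc c x := by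
  by_contra hc
  push Not at hc
  have : Submodule.span F {x.1} = ⊤ := by
    rw [eq_top_iff]
    intro v _
    by_cases hv : v = 0
    · subst hv; exact zero_mem _
    · obtain ⟨c, h⟩ := hc ⟨v, hv⟩
      exact Submodule.mem_span_singleton.2 ⟨c, (congrArg Subtype.val h).symm⟩
  have h1 := finrank_span_singleton (K := F) x.2
  rw [this, finrank_top, Module.finrank_fin_fun] at h1
  omega

theorem exists_sl_map (hn : 3 ≤ n) (x x' : NZ F n) :
    ∃ g : Matrix.SpecialLinearGroup (Fin n) F, g • x = x' := by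
  obtain ⟨y, hy⟩ := exists_indep hn x
  obtain ⟨y', hy'⟩ := exists_indep hn x'
  obtain ⟨g, hg, -⟩ := exists_sl_pair hn hy hy'
  exact ⟨g, hg⟩

theorem isPretransitive (hn : 3 ≤ n) :
    IsPretransitive (Matrix.SpecialLinearGroup (Fin n) F) (NZ F n) :=
  ⟨exists_sl_map hn⟩

/-- The shape of the maps commuting with the group. -/
theorem equivariant_shape (hn : 3 ≤ n) (S : (NZ F n → ℂ) →ₗ[ℂ] (NZ F n → ℂ))
    (hS : IsEquivariant (Cfsg.permRep ℂ (Matrix.SpecialLinearGroup (Fin n) F) (NZ F n))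
      (Cfsg.permRep ℂ (Matrix.SpecialLinearGroup (Fin n) F) (NZ F n)) S) :
    ∃ (b : ℂ) (a : Fˣ → ℂ), ∀ f x, S f x = b * ∑ y, f y + ∑ c, a c * f (sc c x) := by
  classical
  let K : NZ F n → NZ F n → ℂ := fun x y => S (Pi.single y 1) x
  have hK : ∀ (g : Matrix.SpecialLinearGroup (Fin n) F) x y, K (g • x) (g • y) = K x y := by
    intro g x y
    have h := congrFun (LinearMap.congr_fun (hS g) (Pi.single y 1)) (g • x)
    have hsingle : Cfsg.permRep ℂ (Matrix.SpecialLinearGroup (Fin n) F) (NZ F n) g (Pi.single y 1) =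
        Pi.single (g • y) 1 := by
      funext z
      show (Pi.single y (1 : ℂ) : NZ F n → ℂ) (g⁻¹ • z) = _
      rw [Pi.single_apply, Pi.single_apply]
      exact if_congr inv_smul_eq_iff rfl rfl
    simp only [LinearMap.comp_apply, hsingle] at h
    refine h.trans ?_
    show S (Pi.single y 1) (g⁻¹ • g • x) = _
    rw [inv_smul_smul]
  let e0 : NZ F n := ⟨Pi.single (⟨0, by omega⟩ : Fin n) (1 : F), fun h => (one_ne_zero (α := F)) (by
    simpa using congrFun h (⟨0, by omega⟩ : Fin n))⟩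
  obtain ⟨e1, he1⟩ := exists_indep hn e0
  set b := K e0 e1
  refine ⟨b, fun c => K e0 (sc c e0) - b, fun f x => ?_⟩
  have hsum : S f x = ∑ y, f y * K x y := by
    conv_lhs => rw [show f = ∑ y, f y • (Pi.single y (1 : ℂ) : NZ F n → ℂ) from
      pi_eq_sum_univ' f]
    rw [map_sum, Finset.sum_apply]
    exact Finset.sum_congr rfl fun y _ => by rw [map_smul]; rfl
  have hdep : ∀ c, K x (sc c x) = K e0 (sc c e0) := fun c => by
    obtain ⟨g, hg⟩ := exists_sl_map hn e0 x
    rw [← hg, ← smul_sc, hK]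
  have hind : ∀ y, (∀ c, y ≠ sc c x) → K x y = b := fun y hy => by
    obtain ⟨g, hg, hg'⟩ := exists_sl_pair hn he1 hy
    rw [← hg, ← hg', hK]
  rw [hsum, Finset.mul_sum]
  have : ∀ y, f y * K x y = b * f y + f y * (K x y - b) := fun y => by ring
  rw [Finset.sum_congr rfl fun y _ => this y, Finset.sum_add_distrib]
  congr 1
  rw [← Finset.sum_subset (Finset.subset_univ (Finset.univ.image fun c => sc c x)) (fun y _ hy => by
      rw [hind y (fun c h => hy (Finset.mem_image.2 ⟨c, Finset.mem_univ _, h.symm⟩)), sub_self, mul_zero]),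
    Finset.sum_image fun c _ d _ h => sc_left_injective x h]
  exact Finset.sum_congr rfl fun c _ => by rw [hdep]; ring

theorem sum_sc (c : Fˣ) (f : NZ F n → ℂ) : ∑ y, f (sc c y) = ∑ y, f y := by
  refine Fintype.sum_bijective (sc c) ⟨fun x y h => ?_, fun y => ⟨sc c⁻¹ y, ?_⟩⟩ _ _ fun _ => rfl
  · have := congrArg (sc c⁻¹) h
    rwa [sc_sc, sc_sc, inv_mul_cancel, show sc (1 : Fˣ) x = x from Subtype.ext (one_smul F _),
      show sc (1 : Fˣ) y = y from Subtype.ext (one_smul F _)] at this
  · rw [sc_sc, mul_inv_cancel]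
    exact Subtype.ext (one_smul F _)

theorem shape_comp {S T : (NZ F n → ℂ) →ₗ[ℂ] (NZ F n → ℂ)} {b d : ℂ} {a e : Fˣ → ℂ}
    (hS : ∀ f x, S f x = b * ∑ y, f y + ∑ c, a c * f (sc c x))
    (hT : ∀ f x, T f x = d * ∑ y, f y + ∑ c, e c * f (sc c x)) (f : NZ F n → ℂ) (x : NZ F n) :
    S (T f) x = (b * d * (Fintype.card (NZ F n)) + b * (∑ c, e c) + d * ∑ c, a c) * ∑ y, f y +
      ∑ c, ∑ c', a c * e c' * f (sc (c' * c) x) := by
  rw [hS]
  have h1 : ∑ y, T f y = ((d * Fintype.card (NZ F n)) + ∑ c, e c) * ∑ y, f y := by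
    simp only [hT, Finset.sum_add_distrib, Finset.sum_const, Finset.card_univ, nsmul_eq_mul]
    rw [Finset.sum_comm]
    simp only [← Finset.mul_sum, sum_sc]
    rw [← Finset.sum_mul]
    ring
  have h2 : ∑ c, a c * T f (sc c x) =
      (d * ∑ c, a c) * (∑ y, f y) + ∑ c, ∑ c', a c * e c' * f (sc (c' * c) x) := by
    simp only [hT, mul_add, Finset.sum_add_distrib, Finset.mul_sum, sc_sc]
    congr 1
    · simp only [← Finset.mul_sum, ← Finset.sum_mul, mul_left_comm, mul_comm, mul_assoc]
    · simp only [mul_assoc]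
  rw [h1, h2]
  ring

theorem commute_equivariant (hn : 3 ≤ n) (S T : (NZ F n → ℂ) →ₗ[ℂ] (NZ F n → ℂ))
    (hS : IsEquivariant (Cfsg.permRep ℂ (Matrix.SpecialLinearGroup (Fin n) F) (NZ F n))
      (Cfsg.permRep ℂ (Matrix.SpecialLinearGroup (Fin n) F) (NZ F n)) S)
    (hT : IsEquivariant (Cfsg.permRep ℂ (Matrix.SpecialLinearGroup (Fin n) F) (NZ F n))
      (Cfsg.permRep ℂ (Matrix.SpecialLinearGroup (Fin n) F) (NZ F n)) T) :
    S ∘ₗ T = T ∘ₗ S := by
  obtain ⟨b, a, ha⟩ := equivariant_shape hn S hS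
  obtain ⟨d, e, he⟩ := equivariant_shape hn T hT
  refine LinearMap.ext fun f => funext fun x => ?_
  rw [LinearMap.comp_apply, LinearMap.comp_apply, shape_comp ha he, shape_comp he ha]
  congr 1
  · ring
  · rw [Finset.sum_comm]
    exact Finset.sum_congr rfl fun c _ => Finset.sum_congr rfl fun c' _ => by
      rw [mul_comm (a c') (e c), mul_comm c c']

theorem card_pair_orbits (hn : 3 ≤ n) :
    Nat.card (orbitRel.Quotient (Matrix.SpecialLinearGroup (Fin n) F) (NZ F n × NZ F n)) =
      Fintype.card F := by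
  classical
  let e0 : NZ F n := ⟨Pi.single (⟨0, by omega⟩ : Fin n) (1 : F), fun h => (one_ne_zero (α := F)) (by
    simpa using congrFun h (⟨0, by omega⟩ : Fin n))⟩
  obtain ⟨e1, he1⟩ := exists_indep hn e0
  let Φ : Option Fˣ → orbitRel.Quotient (Matrix.SpecialLinearGroup (Fin n) F) (NZ F n × NZ F n) :=
    fun o => Quotient.mk'' (e0, o.elim e1 fun c => sc c e0)
  have hΦ : Function.Bijective Φ := by
    constructor
    · intro o o' h
      obtain ⟨g, hg⟩ := Quotient.exact' h
      have hg1 : g • e0 = e0 := congrArg Prod.fst hg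
      have hg2 : g • o'.elim e1 (fun c => sc c e0) = o.elim e1 fun c => sc c e0 := congrArg Prod.snd hg
      rcases o with _ | c <;> rcases o' with _ | c' <;> simp only [Option.elim] at hg2
      · rfl
      · rw [smul_sc, hg1] at hg2
        exact absurd hg2.symm (he1 c')
      · have hg3 : e1 = sc c e0 := by
          have h' := congrArg (g⁻¹ • ·) hg2
          simp only [inv_smul_smul] at h'
          rw [h', smul_sc, inv_smul_eq_iff.2 hg1.symm]
        exact absurd hg3 (he1 c)
      · rw [smul_sc, hg1] at hg2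
        rw [sc_left_injective e0 hg2]
    · intro q
      induction q using Quotient.inductionOn' with
      | h p =>
        obtain ⟨x, y⟩ := p
        by_cases hxy : ∃ c, y = sc c x
        · obtain ⟨c, rfl⟩ := hxy
          obtain ⟨g, hg⟩ := exists_sl_map hn x e0
          exact ⟨some c, Quotient.sound' ⟨g, Prod.ext hg (by
            show g • sc c x = sc c e0
            rw [smul_sc, hg])⟩⟩
        · push Not at hxy
          obtain ⟨g, hg, hg'⟩ := exists_sl_pair hn hxy he1
          exact ⟨none, Quotient.sound' ⟨g, Prod.ext hg hg'⟩⟩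
  rw [← Nat.card_eq_of_bijective Φ hΦ, Nat.card_eq_fintype_card, Fintype.card_option, Fintype.card_units]
  have := Fintype.card_pos (α := F)
  omega

/-- The permutation character on non-zero vectors. -/
theorem perm_character_decomp (hn : 3 ≤ n) :
    ∃ χ : Fin (Fintype.card F - 1) → (Matrix.SpecialLinearGroup (Fin n) F → ℂ),
      (∀ i, Cfsg.IsIrrCharacter (Matrix.SpecialLinearGroup (Fin n) F) (χ i)) ∧ Function.Injective χ ∧
      ∀ g : Matrix.SpecialLinearGroup (Fin n) F,
        (Nat.card {v : Fin n → F // v ≠ 0 ∧ (g : Matrix (Fin n) (Fin n) F).mulVec v = v} : ℂ) =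
          1 + ∑ i, χ i g := by
  classical
  set G := Matrix.SpecialLinearGroup (Fin n) F
  haveI := Fintype.ofFinite (Cfsg.IrrCharacter G)
  haveI := isPretransitive (F := F) hn
  haveI : Nonempty (NZ F n) := ⟨⟨Pi.single (⟨0, by omega⟩ : Fin n) (1 : F), fun h => (one_ne_zero (α := F)) (by
    simpa using congrFun h (⟨0, by omega⟩ : Fin n))⟩⟩
  obtain ⟨m, hm, hm1, hmc⟩ := exists_perm_decomp (G := G) (Ω := NZ F n)
  have hm01 : ∀ χ, m χ = 0 ∨ m χ = 1 := fun χ => by
    have h := classInner_le_one_of_commute (Cfsg.permRep ℂ G (NZ F n)) (commute_equivariant hn) χ.2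
    rw [permRep_character, hmc] at h
    exact_mod_cast h
  set S := Finset.univ.filter fun χ => m χ = 1 with hS
  have hsum : ∀ ψ : Cfsg.IrrCharacter G → ℂ, ∑ χ, (m χ : ℂ) * ψ χ = ∑ χ ∈ S, ψ χ := fun ψ => by
    rw [hS, Finset.sum_filter]
    refine Finset.sum_congr rfl fun χ _ => ?_
    rcases hm01 χ with h | h <;> simp [h]
  have hcard : S.card = Fintype.card F := by
    have h := classInner_permChar_self (G := G) (X := NZ F n)
    rw [card_pair_orbits hn] at h
    have h' : Cfsg.classInner (fun g : G => (Nat.card (fixedBy (NZ F n) g) : ℂ))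
        (∑ χ, (m χ : ℂ) • (χ : G → ℂ)) = (Fintype.card F : ℂ) := by
      rw [← hm]
      exact h
    rw [classInner_sum_right] at h'
    simp only [classInner_smul_right, hmc, map_natCast] at h'
    rw [hsum, Finset.sum_congr rfl (fun χ hχ => by
      rw [(Finset.mem_filter.1 hχ).2, Nat.cast_one]), Finset.sum_const, nsmul_eq_mul, mul_one] at h'
    exact_mod_cast h'
  have ht : trivChar G ∈ S := Finset.mem_filter.2 ⟨Finset.mem_univ _, hm1⟩
  let e : Fin (Fintype.card F - 1) ≃ {χ // χ ∈ S.erase (trivChar G)} :=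
    (S.erase (trivChar G)).equivFinOfCardEq (by rw [Finset.card_erase_of_mem ht, hcard]) |>.symm
  refine ⟨fun i => (e i).1.1, fun i => (e i).1.2, fun i j h => e.injective (Subtype.ext (Subtype.ext h)),
    fun g => ?_⟩
  have hfix : Nat.card {v : Fin n → F // v ≠ 0 ∧ (g : Matrix (Fin n) (Fin n) F).mulVec v = v} =
      Nat.card (fixedBy (NZ F n) g) :=
    Nat.card_congr
      { toFun := fun v => ⟨⟨v.1, v.2.1⟩, Subtype.ext v.2.2⟩
        invFun := fun w => ⟨w.1.1, w.1.2, congrArg Subtype.val w.2⟩ }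
  rw [hfix]
  have h := congrFun hm g
  simp only [Finset.sum_apply, Pi.smul_apply, smul_eq_mul] at h
  rw [h, hsum, ← Finset.add_sum_erase S _ ht, trivChar_apply, ← Finset.sum_coe_sort (S.erase (trivChar G))]
  congr 1
  exact (Fintype.sum_equiv e _ _ fun i => rfl).symm

end CfsgLib.Classical.SLVectorCharacter
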