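import Cfsg.Agent.Lib.Classical.RingTransfer
import Cfsg.Agent.Lib.Classical.Quad.OmegaIndex

/-!
`SO₃(3)` is the symmetric group on four letters.
-/

set_option autoImplicit false

namespace CfsgLib.Classical.SOThree

open scoped Matrix

/-- Coordinates on the sum-zero module. -/
def rowsFour : Matrix (Unit ⊕ (Fin 1 ⊕ Fin 1)) (Fin 4) (ZMod 3) :=
  Matrix.of (Sum.elim (fun _ => ![2, 1, 0, 0]) (Sum.elim ![![2, 2, 0, 2]] ![![1, 1, 1, 0]]))

/-- Section of the coordinates. -/
def colsFour : Matrix (Fin 4) (Unit ⊕ (Fin 1 ⊕ Fin 1)) (ZMod 3) :=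
  Matrix.of fun i x => (Sum.elim (fun _ => ![1, 2, 0, 0]) (Sum.elim ![![1, 1, 1, 0]] ![![2, 2, 0, 2]])) x i

/-- The sign-twisted matrix of a permutation. -/
def permMat (σ : Equiv.Perm (Fin 4)) : Matrix (Unit ⊕ (Fin 1 ⊕ Fin 1)) (Unit ⊕ (Fin 1 ⊕ Fin 1)) (ZMod 3) :=
  ((Equiv.Perm.sign σ : ℤ) : ZMod 3) • (rowsFour * colsFour.submatrix σ.symm id)

theorem permMat_mul : ∀ σ τ, permMat (σ * τ) = permMat σ * permMat τ := by decide +kernel

theorem permMat_one : permMat 1 = 1 := by decide +kernel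

theorem permMat_eq_one : ∀ σ, permMat σ = 1 → σ = 1 := by decide +kernel

theorem permMat_isometry : ∀ σ v, Cfsg.quadFormOdd 1 (ZMod 3) (permMat σ *ᵥ v) =
    Cfsg.quadFormOdd 1 (ZMod 3) v := by decide +kernel

theorem permMat_det : ∀ σ, (permMat σ).det = 1 := by decide +kernel

/-- The representation. -/
def permHom : Equiv.Perm (Fin 4) →*
    ↥(Cfsg.specialIsometryGroup (ZMod 3) (Cfsg.quadFormOdd 1 (ZMod 3))) where
  toFun σ := ⟨⟨⟨permMat σ, permMat σ⁻¹, by rw [← permMat_mul, mul_inv_cancel, permMat_one],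
      by rw [← permMat_mul, inv_mul_cancel, permMat_one]⟩, fun u _ => permMat_isometry σ u⟩,
    Units.ext (permMat_det σ)⟩
  map_one' := Subtype.ext (Subtype.ext (Units.ext permMat_one))
  map_mul' σ τ := Subtype.ext (Subtype.ext (Units.ext (permMat_mul σ τ)))

theorem permHom_injective : Function.Injective permHom :=
  (injective_iff_map_eq_one _).2 fun σ h =>
    permMat_eq_one σ (congrArg (fun g => g.1.1.1) h)

theorem specialIsometryGroup_three_three {F : Type*} [Field F] [Fintype F]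
    (hF : Fintype.card F = 3) :
    Nonempty (↥(Cfsg.specialIsometryGroup F (Cfsg.quadFormOdd 1 F)) ≃* Equiv.Perm (Fin 4)) := by
  obtain ⟨e⟩ := exists_zmod_equiv F (p := 3) hF
  have hQ : ∀ v, Cfsg.quadFormOdd 1 F (e ∘ v) = e (Cfsg.quadFormOdd 1 (ZMod 3) v) := fun v => by
    simp [Cfsg.quadFormOdd]
  let t := isometryGroupMap e hQ
  let f : Equiv.Perm (Fin 4) →* ↥(Cfsg.specialIsometryGroup F (Cfsg.quadFormOdd 1 F)) :=
    (t.toMonoidHom.comp ((Cfsg.specialIsometryGroup (ZMod 3) _).subtype.comp permHom)).codRestrict _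
      fun σ => by
        refine MonoidHom.mem_ker.2 (Units.ext ?_)
        exact (isometryGroupMap_det e hQ (permHom σ).1).trans (by
          show e (permMat σ).det = ((1 : Fˣ) : F)
          rw [permMat_det, map_one]
          rfl)
  refine nonempty_mulEquiv_of_injective f (fun σ τ h => permHom_injective
    (Subtype.ext (t.injective (congrArg Subtype.val h)))) ?_
  have h2 : (2 : F) ≠ 0 := by
    intro h
    have := congrArg e.symm h
    rw [map_ofNat, map_zero] at this
    exact absurd this (by decide)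
  have hd := (Cfsg.specialIsometryGroup F (Cfsg.quadFormOdd 1 F)).card_mul_index
  rw [← Quad.coe_qOdd] at hd ⊢
  rw [Quad.card_isometryGroup_eq (Quad.qOdd 1 F) rfl, Quad.card_OQ_qOdd hF h2 1,
    Quad.index_specialIsometryGroup (Quad.qOdd_nondeg h2 1) (by simp),
    Quad.card_sqClass_of_odd h2] at hd
  rw [Nat.card_perm]
  simp [Nat.factorial] at hd ⊢
  omega

end CfsgLib.Classical.SOThree
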