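import Cfsg.Agent.Lib.Classical.SevenTwoTables
import Cfsg.Agent.Lib.Classical.RingTransfer
import Cfsg.Agent.Lib.Classical.Dickson.Platonic

/-!
`PSL(2, 7) ≅ PSL(3, 2)`.
-/

set_option autoImplicit false

namespace CfsgLib.Classical.Seven

open Matrix
open scoped MatrixGroups

instance : Fact (Nat.Prime 7) := ⟨by norm_num⟩

/-- The matrix over the field with two elements number `i`. -/
def mat3 (i : Fin 168) : Matrix (Fin 3) (Fin 3) (ZMod 2) :=
  Matrix.of fun r c => if (threeTwo.getD i 0).testBit (3 * r + c) then 1 else 0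

/-- The matrix over the field with seven elements number `i`. -/
def mat2 (i : Fin 168) : Matrix (Fin 2) (Fin 2) (ZMod 7) :=
  let t := twoSeven.getD i (1, 0, 0, 1)
  !![(t.1 : ZMod 7), (t.2.1 : ZMod 7); (t.2.2.1 : ZMod 7), (t.2.2.2 : ZMod 7)]

theorem det_mat3 : ∀ i, (mat3 i).det = 1 := by
  simp only [Matrix.det_fin_three]; decide +kernel

theorem det_mat2 : ∀ i, (mat2 i).det = 1 := by
  simp only [Matrix.det_fin_two]; decide +kernel

/-- Element number `i` of `SL(3, 2)`. -/
def el3 (i : Fin 168) : SpecialLinearGroup (Fin 3) (ZMod 2) := ⟨mat3 i, det_mat3 i⟩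

/-- Element number `i` of `SL(2, 7)`. -/
def el2 (i : Fin 168) : SL(2, ZMod 7) := ⟨mat2 i, det_mat2 i⟩

/-- The successor table. -/
def nxt (i : Fin 168) (g : Fin 2) : Fin 168 :=
  Fin.ofNat 168 ((nextSeven.getD i []).getD g 0)

/-- The index of a generator. -/
def gi (g : Fin 2) : Fin 168 := Fin.ofNat 168 (g + 1)

theorem mul_mat3 : ∀ i g, mat3 (gi g) * mat3 i = mat3 (nxt i g) := by decide +kernel

theorem mul_mat2 : ∀ i g, mat2 (gi g) * mat2 i = mat2 (nxt i g) ∨
    mat2 (gi g) * mat2 i = -mat2 (nxt i g) := by decide +kernel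

theorem mat3_injective : Function.Injective mat3 := by
  unfold Function.Injective; decide +kernel

theorem mat2_not_scalar : ∀ i, i ≠ 0 →
    mat2 i 0 1 ≠ 0 ∨ mat2 i 1 0 ≠ 0 ∨ mat2 i 0 0 ≠ mat2 i 1 1 := by decide +kernel

theorem reach : ∀ i : Fin 168, i ≠ 0 → ∃ g k, k < i ∧ nxt k g = i := by decide +kernel

theorem nonempty_sl_three_equiv :
    Nonempty (SpecialLinearGroup (Fin 3) (ZMod 2) ≃*
      ProjectiveSpecialLinearGroup (Fin 2) (ZMod 7)) := by
  classical
  have h3 := card_SL (F := ZMod 2) 3 (by norm_num)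
  rw [ZMod.card, Fin.prod_univ_three] at h3
  norm_num at h3
  have h2 := Two.card_PSL_two (F := ZMod 7)
  rw [ZMod.card] at h2
  norm_num at h2
  let f : Fin 168 → ProjectiveSpecialLinearGroup (Fin 2) (ZMod 7) := fun i => QuotientGroup.mk (el2 i)
  have hb : Function.Bijective el3 := by
    rw [Fintype.bijective_iff_injective_and_card]
    refine ⟨fun i j h => mat3_injective (congrArg Subtype.val h), ?_⟩
    rw [Fintype.card_fin]
    first | exact h3.symm | (rw [← Nat.card_eq_fintype_card]; omega)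
  have f0 : f 0 = 1 := by
    show ((el2 0 : SL(2, ZMod 7)) : ProjectiveSpecialLinearGroup (Fin 2) (ZMod 7)) = 1
    rw [show el2 0 = 1 from Subtype.ext (by decide +kernel)]
    rfl
  have hf : ∀ i g, f (gi g) * f i = f (nxt i g) := by
    intro i g
    show ((el2 (gi g) * el2 i : SL(2, ZMod 7)) : ProjectiveSpecialLinearGroup (Fin 2) (ZMod 7)) =
      ((el2 (nxt i g) : SL(2, ZMod 7)) : ProjectiveSpecialLinearGroup (Fin 2) (ZMod 7))
    rcases mul_mat2 i g with h | h
    · rw [show el2 (gi g) * el2 i = el2 (nxt i g) from Subtype.ext h]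
    · rw [show el2 (gi g) * el2 i = -el2 (nxt i g) from Subtype.ext h, eq_comm, QuotientGroup.eq]
      refine Subgroup.mem_center_iff.2 fun x => ?_
      rw [show (el2 (nxt i g))⁻¹ * -el2 (nxt i g) = -1 by rw [mul_neg, inv_mul_cancel], mul_neg,
        neg_mul, mul_one, one_mul]
  obtain ⟨φ, hφ⟩ := Dickson.exists_hom_of_steps el3 hb f gi nxt (Subtype.ext (by decide +kernel)) f0
    (fun i g => Subtype.ext (mul_mat3 i g)) hf reach
  have hinj : Function.Injective φ := by
    rw [injective_iff_map_eq_one]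
    intro x hx
    obtain ⟨i, rfl⟩ := hb.2 x
    rw [hφ] at hx
    by_contra hne
    have hi : i ≠ 0 := fun h => hne (h ▸ Subtype.ext (by decide +kernel))
    have hc : el2 i ∈ Subgroup.center SL(2, ZMod 7) := (QuotientGroup.eq_one_iff _).1 hx
    rw [Matrix.SpecialLinearGroup.mem_center_iff] at hc
    obtain ⟨r, -, hr⟩ := hc
    have e : ∀ a b, mat2 i a b = if a = b then r else 0 := fun a b => by
      show (el2 i : Matrix (Fin 2) (Fin 2) (ZMod 7)) a b = _
      rw [← hr, Matrix.scalar_apply, Matrix.diagonal_apply]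
    rcases mat2_not_scalar i hi with h | h | h
    · exact h (by rw [e]; rfl)
    · exact h (by rw [e]; rfl)
    · exact h (by rw [e, e]; rfl)
  refine ⟨MulEquiv.ofBijective φ ((Nat.bijective_iff_injective_and_card φ).2 ⟨hinj, ?_⟩)⟩
  simp only [Nat.card_eq_fintype_card] at h2 h3 ⊢
  omega

theorem nonempty_psl_seven_equiv {F K : Type*} [Field F] [Fintype F] [Field K] [Fintype K]
    (hF : Fintype.card F = 7) (hK : Fintype.card K = 2) :
    Nonempty (ProjectiveSpecialLinearGroup (Fin 2) F ≃* ProjectiveSpecialLinearGroup (Fin 3) K) := by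
  obtain ⟨e7⟩ := exists_zmod_equiv F hF
  obtain ⟨e2⟩ := exists_zmod_equiv K hK
  obtain ⟨φ⟩ := nonempty_sl_three_equiv
  let s : SpecialLinearGroup (Fin 3) (ZMod 2) ≃* SpecialLinearGroup (Fin 3) K :=
    { toFun := SpecialLinearGroup.map (e2 : ZMod 2 →+* K)
      invFun := SpecialLinearGroup.map (e2.symm : K →+* ZMod 2)
      left_inv := fun g => by ext i j; simp
      right_inv := fun g => by ext i j; simp
      map_mul' := map_mul _ }
  have hbot : Subgroup.center (SpecialLinearGroup (Fin 3) K) = ⊥ := by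
    classical
    rw [← Subgroup.card_eq_one, card_center_SL, Fintype.card_fin, hK]; rfl
  exact ⟨(Dickson.pslCongr e7).symm.trans (φ.symm.trans (s.trans
    ((QuotientGroup.quotientMulEquivOfEq hbot).trans QuotientGroup.quotientBot).symm))⟩

end CfsgLib.Classical.Seven
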