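import Mathlib.Data.Int.Basic

/-!
Tables for the isomorphism of `SL(3, 2)` and `PSL(2, 7)`: matrices over the two fields, listed along
a breadth first walk from a pair of generators, and multiplication by the generators.
-/

set_option autoImplicit false

namespace CfsgLib.Classical.Seven

/-- Table for the simple group of order 168. -/
def threeTwo : List ℕ :=
 [273, 84, 234, 426, 171, 461, 174, 485, 397, 335, 229, 359, 334, 281, 401, 355, 116, 212, 473, 92,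
  86, 250, 500, 305, 275, 442, 95, 179, 491, 314, 187, 311, 158, 494, 122, 190, 307, 242, 239, 421,
  188, 375, 271, 94, 410, 431, 205, 185, 351, 103, 244, 382, 270, 165, 358, 247, 501, 460, 409,
  379, 99, 141, 331, 415, 477, 481, 445, 396, 465, 354, 124, 156, 499, 102, 214, 345, 253, 225,
  468, 330, 313, 177, 478, 267, 403, 372, 159, 337, 87, 444, 282, 417, 298, 93, 163, 183, 340, 279,
  249, 114, 204, 106, 309, 142, 474, 299, 85, 226, 370, 318, 215, 115, 380, 172, 419, 498, 110,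
  277, 394, 346, 123, 407, 286, 377, 169, 206, 107, 236, 482, 181, 467, 241, 342, 317, 207, 117,
  230, 492, 302, 425, 458, 157, 470, 412, 339, 125, 423, 285, 395, 489, 233, 405, 167, 428, 254,
  98, 143, 459, 369, 303, 213, 443, 266, 486, 348, 111, 161, 140]

/-- Table for the simple group of order 168. -/
def twoSeven : List (ℤ × ℤ × ℤ × ℤ) :=
 [(1, 0, 0, 1), (0, 6, 1, 0), (0, 6, 1, 1), (6, 0, 1, 6), (6, 6, 0, 6), (6, 6, 1, 0), (6, 1, 6, 0),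
  (6, 1, 0, 6), (0, 1, 6, 5), (6, 0, 6, 6), (1, 0, 5, 1), (0, 1, 6, 1), (1, 2, 0, 1), (1, 2, 6, 6),
  (1, 1, 5, 6), (2, 6, 1, 0), (2, 6, 6, 1), (1, 6, 6, 2), (0, 6, 1, 3), (1, 1, 1, 2), (2, 1, 1, 1),
  (2, 1, 6, 0), (6, 0, 3, 6), (1, 6, 2, 6), (1, 5, 1, 6), (1, 5, 0, 1), (6, 4, 0, 6), (6, 4, 1, 2),
  (6, 5, 2, 3), (6, 6, 3, 2), (1, 0, 2, 1), (4, 1, 6, 0), (4, 1, 2, 6), (5, 1, 3, 5), (6, 1, 2, 4),
  (0, 6, 1, 5), (0, 1, 6, 3), (6, 5, 6, 4), (5, 4, 6, 5), (5, 4, 1, 1), (4, 5, 6, 6), (4, 5, 2, 1),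
  (5, 6, 3, 1), (1, 0, 3, 1), (5, 1, 4, 1), (4, 2, 5, 1), (4, 2, 1, 6), (5, 3, 6, 1), (5, 3, 1, 5),
  (6, 2, 1, 4), (1, 4, 0, 1), (1, 4, 6, 4), (1, 3, 5, 2), (1, 2, 4, 2), (6, 6, 5, 4), (1, 1, 3, 4),
  (5, 6, 4, 5), (4, 6, 5, 6), (4, 6, 1, 0), (4, 6, 4, 1), (3, 6, 2, 2), (2, 6, 2, 3), (6, 1, 4, 2),
  (1, 6, 4, 4), (6, 2, 5, 3), (6, 3, 6, 2), (1, 3, 1, 4), (2, 5, 1, 3), (2, 5, 6, 5), (3, 5, 1, 2),
  (3, 5, 5, 4), (2, 3, 4, 3), (4, 3, 1, 1), (4, 3, 4, 5), (3, 2, 2, 4), (2, 1, 2, 5), (3, 6, 4, 6),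
  (5, 5, 3, 6), (5, 5, 5, 1), (5, 4, 2, 6), (5, 4, 4, 2), (3, 5, 3, 3), (3, 3, 1, 6), (3, 3, 5, 3),
  (2, 4, 4, 5), (1, 5, 5, 5), (6, 3, 2, 0), (6, 4, 3, 1), (1, 2, 2, 5), (6, 5, 4, 0), (3, 4, 2, 3),
  (3, 2, 4, 3), (5, 3, 5, 6), (5, 2, 2, 1), (5, 2, 4, 6), (3, 1, 0, 5), (4, 1, 1, 4), (2, 6, 5, 5),
  (5, 1, 0, 3), (4, 4, 3, 5), (2, 4, 3, 3), (3, 2, 6, 2), (2, 2, 1, 5), (2, 2, 6, 3), (5, 0, 6, 3),
  (5, 0, 1, 3), (4, 6, 6, 4), (4, 6, 2, 5), (5, 2, 3, 0), (3, 0, 6, 5), (3, 0, 3, 5), (5, 4, 5, 0),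
  (3, 4, 0, 5), (2, 1, 5, 3), (5, 6, 0, 3), (0, 2, 3, 1), (0, 2, 3, 6), (6, 3, 4, 1), (6, 3, 5, 5),
  (2, 2, 0, 4), (0, 4, 5, 1), (0, 4, 5, 4), (4, 2, 0, 2), (4, 4, 5, 0), (1, 5, 3, 2), (6, 2, 3, 0),
  (1, 4, 4, 3), (6, 4, 5, 0), (1, 3, 3, 3), (4, 0, 5, 2), (4, 2, 3, 0), (2, 0, 5, 4), (2, 0, 3, 4),
  (0, 2, 3, 4), (0, 2, 3, 2), (2, 4, 0, 4), (0, 4, 5, 6), (0, 4, 5, 2), (4, 6, 3, 3), (4, 1, 0, 2),
  (3, 6, 3, 4), (0, 3, 2, 2), (2, 3, 0, 4), (0, 5, 4, 2), (0, 5, 4, 4), (2, 0, 4, 4), (2, 0, 2, 4),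
  (4, 5, 4, 0), (4, 0, 6, 2), (4, 0, 2, 2), (3, 4, 1, 4), (3, 4, 5, 0), (4, 4, 1, 3), (4, 4, 4, 6),
  (2, 5, 2, 2), (4, 0, 0, 2), (4, 3, 3, 6), (4, 5, 0, 2), (0, 3, 2, 4), (2, 5, 0, 4), (4, 4, 0, 2),
  (5, 5, 2, 5), (0, 3, 2, 0), (5, 3, 2, 0), (3, 0, 4, 5), (5, 5, 4, 0), (0, 5, 4, 0), (5, 0, 0, 3)]

/-- Table for the simple group of order 168. -/
def nextSeven : List (List ℕ) :=
 [[1, 2], [0, 3], [4, 5], [6, 7], [2, 8], [9, 0], [3, 10], [11, 1], [12, 13], [5, 14], [15, 16],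
  [7, 17], [8, 18], [19, 4], [20, 21], [10, 22], [23, 6], [24, 25], [26, 27], [13, 28], [14, 29],
  [30, 9], [31, 32], [16, 33], [17, 34], [35, 11], [18, 36], [37, 12], [38, 39], [40, 41],
  [21, 42], [22, 43], [44, 15], [45, 46], [47, 48], [25, 49], [50, 51], [27, 52], [28, 53],
  [54, 19], [29, 55], [56, 20], [57, 58], [58, 59], [32, 60], [33, 61], [62, 23], [34, 63],
  [64, 24], [65, 50], [36, 35], [66, 26], [67, 68], [69, 70], [39, 71], [72, 73], [41, 74],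
  [42, 75], [43, 30], [76, 31], [77, 78], [79, 80], [46, 81], [82, 83], [48, 84], [49, 85],
  [51, 86], [52, 87], [88, 37], [53, 89], [80, 38], [90, 72], [55, 54], [91, 40], [84, 92],
  [93, 94], [59, 95], [60, 96], [97, 44], [61, 98], [70, 45], [99, 82], [63, 62], [100, 47],
  [74, 101], [102, 103], [104, 105], [106, 107], [68, 108], [109, 110], [71, 111], [73, 112],
  [113, 56], [75, 114], [107, 57], [115, 116], [117, 118], [78, 119], [120, 121], [81, 122],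
  [83, 123], [124, 64], [85, 125], [118, 65], [86, 126], [127, 66], [87, 128], [94, 67],
  [129, 109], [89, 88], [130, 69], [131, 132], [133, 134], [92, 135], [136, 137], [95, 138],
  [139, 76], [96, 140], [103, 77], [141, 120], [98, 97], [142, 79], [143, 144], [145, 146],
  [101, 147], [148, 149], [150, 151], [105, 145], [152, 153], [108, 154], [110, 155], [111, 142],
  [151, 90], [112, 156], [157, 91], [158, 136], [114, 113], [159, 93], [153, 160], [116, 133],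
  [156, 150], [119, 161], [121, 162], [122, 130], [160, 99], [123, 152], [163, 100], [164, 148],
  [125, 124], [165, 102], [126, 117], [132, 104], [128, 127], [138, 106], [161, 165], [166, 143],
  [140, 139], [134, 166], [135, 163], [137, 141], [144, 115], [154, 159], [167, 131], [146, 167],
  [147, 157], [149, 129], [155, 164], [162, 158]]

/-- Table for the simple group of order 168. -/
def signSeven : List (List ℤ) :=
 [[1, 1], [-1, 1], [1, 1], [1, 1], [-1, 1], [1, -1], [-1, 1], [1, -1], [1, 1], [-1, 1], [1, 1],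
  [-1, 1], [-1, 1], [1, -1], [1, 1], [-1, 1], [1, -1], [1, 1], [1, 1], [-1, 1], [-1, 1], [1, -1],
  [1, 1], [-1, 1], [-1, 1], [1, -1], [-1, 1], [1, -1], [1, 1], [1, 1], [-1, 1], [-1, 1], [1, -1],
  [1, 1], [1, 1], [-1, 1], [1, 1], [-1, 1], [-1, 1], [1, -1], [-1, 1], [1, -1], [1, 1], [1, 1],
  [-1, 1], [-1, 1], [1, -1], [-1, 1], [1, -1], [1, -1], [-1, 1], [1, -1], [1, 1], [1, 1], [-1, 1],
  [1, 1], [-1, 1], [-1, 1], [-1, -1], [1, -1], [1, 1], [1, 1], [-1, 1], [1, 1], [-1, 1], [-1, 1],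
  [-1, 1], [-1, 1], [1, -1], [-1, 1], [-1, -1], [1, -1], [-1, 1], [1, -1], [-1, 1], [1, 1],
  [-1, 1], [-1, 1], [1, -1], [-1, 1], [1, -1], [1, -1], [-1, 1], [1, -1], [1, 1], [1, 1], [1, 1],
  [1, 1], [-1, 1], [1, 1], [-1, 1], [-1, 1], [1, -1], [-1, 1], [-1, -1], [1, 1], [1, 1], [-1, 1],
  [1, 1], [-1, 1], [-1, 1], [1, -1], [-1, 1], [-1, -1], [-1, 1], [1, -1], [-1, 1], [1, -1],
  [1, -1], [-1, 1], [1, -1], [1, 1], [1, 1], [-1, 1], [1, 1], [-1, 1], [1, -1], [-1, 1], [1, -1],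
  [1, -1], [-1, 1], [1, -1], [1, 1], [1, 1], [-1, 1], [1, 1], [1, 1], [-1, 1], [1, 1], [-1, 1],
  [-1, 1], [-1, 1], [-1, -1], [-1, 1], [1, -1], [1, -1], [-1, 1], [1, -1], [1, 1], [-1, -1],
  [1, -1], [-1, 1], [-1, 1], [-1, -1], [-1, -1], [-1, -1], [1, -1], [1, -1], [-1, 1], [1, -1],
  [-1, 1], [1, -1], [-1, 1], [-1, -1], [1, 1], [1, 1], [-1, 1], [-1, 1], [-1, 1], [-1, 1], [1, -1],
  [-1, -1], [1, -1], [-1, 1], [-1, -1], [-1, -1], [-1, 1], [-1, -1]]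

end CfsgLib.Classical.Seven
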