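import Cfsg.Agent.Lib.Classical.SignRank

/-!
# Groups of linear maps with all squares equal to a sign

If every square is `1` or `-1` then two elements commute or anticommute, and an anticommuting pair
halves the dimension; this bounds the order of the group.
-/

set_option autoImplicit false

namespace CfsgLib.Classical.SignExtension

open Module

universe u

variable {F : Type*} [Field F]

/-- every square is a sign -/
def SignSquares {V : Type*} [AddCommGroup V] [Module F V] {E : Type*} [Group E]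
    (ρ : E →* (V ≃ₗ[F] V)) : Prop :=
  ∀ e, (∀ v, ρ e (ρ e v) = v) ∨ ∀ v, ρ e (ρ e v) = -v

section

variable {V : Type*} [AddCommGroup V] [Module F V] {E : Type*} [Group E] (ρ : E →* (V ≃ₗ[F] V))

theorem comm_or_anti (hs : SignSquares ρ) (a b : E) :
    (∀ v, ρ a (ρ b v) = ρ b (ρ a v)) ∨ ∀ v, ρ a (ρ b v) = -ρ b (ρ a v) := by
  have key : ∀ v, ρ a (ρ b (ρ a (ρ b v))) = ρ (a * b) (ρ (a * b) v) := fun v => by
    rw [map_mul]; rfl
  have inj := (ρ a).injective
  rcases hs a with ha | ha <;> rcases hs b with hb | hb <;> rcases hs (a * b) with hab | hab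
  all_goals
    first
      | (left; intro v
         have h := (key (ρ b (ρ a v))).trans (hab _)
         simp only [ha, hb, map_neg, neg_neg] at h
         first
           | exact h
           | exact neg_inj.1 h
         done)
      | (right; intro v
         have h := (key (ρ b (ρ a v))).trans (hab _)
         simp only [ha, hb, map_neg, neg_neg] at h
         first
           | exact h
           | exact neg_eq_iff_eq_neg.1 h
         done)

theorem card_le_two_mul [Finite E] (hs : SignSquares ρ) (hρ : Function.Injective ρ)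
    (hc : ∀ a b : E, a * b = b * a) {N : ℕ}
    (hN : ∀ K : Subgroup E, (∀ k ∈ K, k * k = 1) → Nat.card K ≤ N) : Nat.card E ≤ 2 * N := by
  classical
  let sq : E →* E :=
    { toFun := fun e => e * e
      map_one' := one_mul 1
      map_mul' := fun a b => by
        rw [mul_assoc, ← mul_assoc b a b, hc b a, mul_assoc a b b, ← mul_assoc a a (b * b)] }
  have h := sq.ker.card_mul_index
  rw [Subgroup.index_ker] at h
  have h2 : Nat.card sq.range ≤ 2 := by
    have hinj : Function.Injective fun x : sq.range => decide ((x : E) = 1) := by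
      rintro ⟨x, a, rfl⟩ ⟨y, b, rfl⟩ h
      have h1 : sq a = 1 ↔ sq b = 1 := by simpa [decide_eq_decide] using h
      apply Subtype.ext
      show sq a = sq b
      by_cases ha : sq a = 1
      · rw [ha, h1.1 ha]
      · have key : ∀ c : E, sq c ≠ 1 → ∀ v, ρ (sq c) v = -v := by
          intro c hc1 v
          show ρ (c * c) v = -v
          rw [map_mul]
          rcases hs c with hh | hh
          · refine absurd (hρ (LinearEquiv.ext fun w => ?_)) hc1
            show ρ (c * c) w = ρ 1 w
            rw [map_mul, map_one]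
            exact hh w
          · exact hh v
        exact hρ (LinearEquiv.ext fun v =>
          (key a ha v).trans (key b (fun hb => ha (h1.2 hb)) v).symm)
    simpa using Nat.card_le_card_of_injective _ hinj
  calc Nat.card E = Nat.card sq.ker * Nat.card sq.range := h.symm
    _ ≤ N * 2 := Nat.mul_le_mul (hN _ fun k hk => hk) h2
    _ = 2 * N := mul_comm _ _

theorem card_comm_le [Finite E] [FiniteDimensional F V] (h2 : (2 : F) ≠ 0) (hs : SignSquares ρ)
    (hρ : Function.Injective ρ) (hc : ∀ a b : E, a * b = b * a) :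
    Nat.card E ≤ 2 ^ (finrank F V + 1) := by
  rw [pow_succ']
  exact card_le_two_mul ρ hs hρ hc fun K hK =>
    SignRank.card_le_of_linear (ρ.comp K.subtype) h2 (hρ.comp K.subtype_injective)
      fun k => Subtype.ext (hK k k.2)

/-- An anticommuting pair halves the dimension. -/
theorem halve [Finite F] [Finite E] [FiniteDimensional F V] (h2 : (2 : F) ≠ 0)
    (hs : SignSquares ρ) (hρ : Function.Injective ρ) {a b : E} (hab : a * b ≠ b * a) :
    ∃ (C : Subgroup E) (W : Submodule F V) (τ : C →* (W ≃ₗ[F] W)), SignSquares τ ∧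
      Function.Injective τ ∧ finrank F V = 2 * finrank F W ∧ Nat.card E ≤ 4 * Nat.card C := by
  classical
  have hanti : ∀ v, ρ a (ρ b v) = -ρ b (ρ a v) := (comm_or_anti ρ hs a b).resolve_left fun h =>
    hab (hρ (LinearEquiv.ext fun v => by rw [map_mul, map_mul]; exact h v))
  have sgn : ∀ e, ∃ s : F, (s = 1 ∨ s = -1) ∧ ∀ v, ρ e (ρ e v) = s • v := fun e => by
    rcases hs e with h | h
    · exact ⟨1, Or.inl rfl, fun v => by rw [one_smul, h]⟩
    · exact ⟨-1, Or.inr rfl, fun v => by rw [neg_one_smul, h]⟩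
  obtain ⟨s, hs', hsa⟩ := sgn a
  obtain ⟨t, ht', htb⟩ := sgn b
  obtain ⟨α, β, hαβ⟩ : ∃ α β : F, α ^ 2 * s + β ^ 2 * t = 1 := by
    rcases hs' with rfl | rfl
    · exact ⟨1, 0, by ring⟩
    rcases ht' with rfl | rfl
    · exact ⟨0, 1, by ring⟩
    obtain ⟨p, hp⟩ := CharP.exists F
    have : NeZero p := ⟨fun h0 => by
      subst h0
      have := CharP.charP_to_charZero F
      exact not_finite F⟩
    obtain ⟨x, y, hxy⟩ := CharP.sq_add_sq F p (-1)
    refine ⟨x, y, ?_⟩
    push_cast at hxy
    linear_combination -hxy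
  let z : V →ₗ[F] V := α • (ρ a).toLinearMap + β • (ρ b).toLinearMap
  have hz : ∀ v, z v = α • ρ a v + β • ρ b v := fun v => rfl
  have hzz : ∀ v, z (z v) = v := fun v => by
    simp only [hz, map_add, map_smul, hsa, htb, hanti, smul_smul, smul_add, smul_neg]
    calc _ = (α * α * s + β * β * t) • v := by module
      _ = v := by rw [show α * α * s + β * β * t = 1 by linear_combination hαβ, one_smul]
  let w : V ≃ₗ[F] V := ρ (a * b)
  have hw : ∀ v, w v = ρ a (ρ b v) := fun v => by show ρ (a * b) v = _; rw [map_mul]; rfl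
  have hzw : ∀ v, z (w v) = -w (z v) := fun v => by
    simp only [hz, hw, map_add, map_smul, hsa, htb, hanti, map_neg, smul_neg, smul_smul]
    module
  let W : Submodule F V := LinearMap.ker (z - LinearMap.id)
  have hW : ∀ v, v ∈ W ↔ z v = v := fun v => by simp [W, sub_eq_zero]
  let Φ : W × W →ₗ[F] V := W.subtype.coprod (w.toLinearMap.comp W.subtype)
  have hΦ : ∀ x y : W, Φ (x, y) = (x : V) + w y := fun x y => rfl
  have htwo : ∀ v : V, v + v = 0 → v = 0 := fun v hv => by
    rw [← two_smul F] at hv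
    exact (smul_eq_zero.1 hv).resolve_left h2
  have hinj : Function.Injective Φ := by
    rw [← LinearMap.ker_eq_bot, eq_bot_iff]
    rintro ⟨x, y⟩ h
    rw [LinearMap.mem_ker, hΦ] at h
    have h' := congrArg z h
    rw [map_add, hzw, (hW _).1 x.2, (hW _).1 y.2, map_zero] at h'
    have hx : (x : V) = 0 := htwo _ (by
      calc (x : V) + x = ((x : V) + w y) + ((x : V) + -w y) := by abel
        _ = 0 := by rw [h, h', add_zero])
    rw [hx, zero_add] at h
    rw [Submodule.mem_bot]
    exact Prod.ext (Subtype.ext hx) (Subtype.ext (w.injective (h.trans w.map_zero.symm)))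
  have hsurj : Function.Surjective Φ := by
    intro v
    have h1 : v + z v ∈ W := (hW _).2 (by rw [map_add, hzz]; abel)
    have h1' : w.symm (v - z v) ∈ W := (hW _).2 (w.injective (by
      have := hzw (w.symm (v - z v))
      rw [LinearEquiv.apply_symm_apply, map_sub, hzz] at this
      rw [LinearEquiv.apply_symm_apply, ← neg_inj, ← this]
      abel))
    refine ⟨((2 : F)⁻¹ • ⟨_, h1⟩, (2 : F)⁻¹ • ⟨_, h1'⟩), ?_⟩
    rw [hΦ, Submodule.coe_smul, Submodule.coe_smul, map_smul]
    show (2 : F)⁻¹ • (v + z v) + (2 : F)⁻¹ • w (w.symm (v - z v)) = v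
    rw [LinearEquiv.apply_symm_apply, ← smul_add, show v + z v + (v - z v) = (2 : F) • v by
      rw [two_smul]; abel, inv_smul_smul₀ h2]
  have hdim : finrank F V = 2 * finrank F W := by
    rw [← (LinearEquiv.ofBijective Φ ⟨hinj, hsurj⟩).finrank_eq, finrank_prod, two_mul]
  let sgn' : E → E → ℤˣ := fun c e => if ∀ v, ρ e (ρ c v) = ρ c (ρ e v) then 1 else -1
  have hcase : ∀ c e, (sgn' c e = 1 ∧ ∀ v, ρ e (ρ c v) = ρ c (ρ e v)) ∨
      (sgn' c e = -1 ∧ ∀ v, ρ e (ρ c v) = -ρ c (ρ e v)) := fun c e => by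
    by_cases h : ∀ v, ρ e (ρ c v) = ρ c (ρ e v)
    · exact Or.inl ⟨if_pos h, h⟩
    · exact Or.inr ⟨if_neg h, (comm_or_anti ρ hs e c).resolve_left h⟩
  have hne : ∀ c e, ¬ ((∀ v, ρ e (ρ c v) = ρ c (ρ e v)) ∧ ∀ v, ρ e (ρ c v) = -ρ c (ρ e v)) := by
    rintro c e ⟨h, h'⟩
    have h0 : ∀ v : V, v = 0 := fun v => by
      obtain ⟨u, hu⟩ := ((ρ e).trans (ρ c)).surjective v
      rw [LinearEquiv.trans_apply] at hu
      rw [← hu]
      exact htwo _ (add_eq_zero_iff_eq_neg.2 ((h u).symm.trans (h' u)))
    exact hab (hρ (LinearEquiv.ext fun v => (h0 _).trans (h0 _).symm))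
  have hmul : ∀ c e f, sgn' c (e * f) = sgn' c e * sgn' c f := by
    intro c e f
    have he' : ∀ v, ρ (e * f) v = ρ e (ρ f v) := fun v => by rw [map_mul]; rfl
    rcases hcase c e with ⟨x1, x2⟩ | ⟨x1, x2⟩ <;> rcases hcase c f with ⟨y1, y2⟩ | ⟨y1, y2⟩ <;>
      rcases hcase c (e * f) with ⟨z1, z2⟩ | ⟨z1, z2⟩ <;> rw [x1, y1, z1] <;>
      first
        | decide
        | (refine absurd ⟨?_, ?_⟩ (hne c (e * f)) <;> intro v <;>
            first
              | exact z2 v
              | simp only [he', y2, x2, map_neg, neg_neg])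
  let χ : E →* ℤˣ × ℤˣ := MonoidHom.mk' (fun e => (sgn' a e, sgn' b e)) fun e f =>
    Prod.ext (hmul a e f) (hmul b e f)
  have hC : ∀ e : E, e ∈ χ.ker →
      (∀ v, ρ e (ρ a v) = ρ a (ρ e v)) ∧ ∀ v, ρ e (ρ b v) = ρ b (ρ e v) := by
    intro e he
    have he1 : sgn' a e = 1 := (Prod.ext_iff.1 (MonoidHom.mem_ker.1 he)).1
    have he2 : sgn' b e = 1 := (Prod.ext_iff.1 (MonoidHom.mem_ker.1 he)).2
    rcases hcase a e with ⟨-, x2⟩ | ⟨x1, -⟩
    · rcases hcase b e with ⟨-, y2⟩ | ⟨y1, -⟩
      · exact ⟨x2, y2⟩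
      · rw [he2] at y1; exact absurd y1 (by decide)
    · rw [he1] at x1; exact absurd x1 (by decide)
  have hzC : ∀ e : E, e ∈ χ.ker → ∀ v, z (ρ e v) = ρ e (z v) := fun e he v => by
    simp only [hz, map_add, map_smul, (hC e he).1, (hC e he).2]
  have hinv : ∀ e : E, e ∈ χ.ker → ∀ v, v ∈ W → ρ e v ∈ W := fun e he v hv => by
    rw [hW, hzC e he, (hW v).1 hv]
  let τ : χ.ker →* (W ≃ₗ[F] W) :=
    { toFun := fun e =>
        { toFun := fun v => ⟨ρ e.1 v, hinv _ e.2 _ v.2⟩
          invFun := fun v => ⟨ρ (e.1⁻¹) v, hinv _ (inv_mem e.2) _ v.2⟩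
          left_inv := fun v => Subtype.ext (by
            show ρ e.1⁻¹ (ρ e.1 v) = v
            rw [← LinearEquiv.mul_apply, ← map_mul, inv_mul_cancel, map_one]; rfl)
          right_inv := fun v => Subtype.ext (by
            show ρ e.1 (ρ e.1⁻¹ v) = v
            rw [← LinearEquiv.mul_apply, ← map_mul, mul_inv_cancel, map_one]; rfl)
          map_add' := fun u v => Subtype.ext (map_add (ρ e.1) _ _)
          map_smul' := fun r v => Subtype.ext (map_smul (ρ e.1) r _) }
      map_one' := LinearEquiv.ext fun v => Subtype.ext (by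
        show ρ 1 (v : V) = v
        rw [map_one]; rfl)
      map_mul' := fun e f => LinearEquiv.ext fun v => Subtype.ext (by
        show ρ (e.1 * f.1) (v : V) = ρ e.1 (ρ f.1 v)
        rw [map_mul]; rfl) }
  refine ⟨χ.ker, W, τ, fun e => ?_, ?_, hdim, ?_⟩
  · rcases hs e.1 with h | h
    · exact Or.inl fun v => Subtype.ext (h v)
    · exact Or.inr fun v => Subtype.ext (h v)
  · intro e f h
    refine Subtype.ext (hρ (LinearEquiv.ext fun v => ?_))
    obtain ⟨⟨x, y⟩, rfl⟩ := hsurj v
    have hx : ρ e.1 x = ρ f.1 x :=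
      congrArg Subtype.val (LinearEquiv.congr_fun h x)
    have hy : ρ e.1 y = ρ f.1 y :=
      congrArg Subtype.val (LinearEquiv.congr_fun h y)
    have hwc : ∀ g : χ.ker, ∀ u, ρ g.1 (w u) = w (ρ g.1 u) := fun g u => by
      rw [hw, hw, (hC g.1 g.2).1, (hC g.1 g.2).2]
    rw [hΦ, map_add, map_add, hwc, hwc, hx, hy]
  · have h := χ.ker.card_mul_index
    rw [Subgroup.index_ker] at h
    have h4 : Nat.card χ.range ≤ 4 := by
      refine (Subgroup.card_le_card_group _).trans ?_
      rw [Nat.card_prod, Nat.card_eq_fintype_card]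
      decide
    calc Nat.card E = Nat.card χ.ker * Nat.card χ.range := h.symm
      _ ≤ Nat.card χ.ker * 4 := Nat.mul_le_mul_left _ h4
      _ = 4 * Nat.card χ.ker := mul_comm _ _

end

/-- The order of a group of linear maps whose squares are signs. -/
theorem card_le [Finite F] (h2 : (2 : F) ≠ 0) : ∀ (n : ℕ) {V : Type*} [AddCommGroup V] [Module F V]
    [FiniteDimensional F V] {E : Type u} [Group E] [Finite E] (ρ : E →* (V ≃ₗ[F] V)),
    SignSquares ρ → Function.Injective ρ → finrank F V = n →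
    Nat.card E ≤ 2 ^ (n + 2) ∧ (Odd n → Nat.card E ≤ 2 ^ (n + 1)) := by
  intro n
  induction n using Nat.strong_induction_on with
  | _ n ih =>
    intro V _ _ _ E _ _ ρ hs hρ hn
    by_cases hc : ∀ a b : E, a * b = b * a
    · have := hn ▸ card_comm_le ρ h2 hs hρ hc
      exact ⟨this.trans (Nat.pow_le_pow_right two_pos (by omega)), fun _ => this⟩
    push Not at hc
    obtain ⟨a, b, hab⟩ := hc
    obtain ⟨C, W, τ, hτ, hτi, hd, hcard⟩ := halve ρ h2 hs hρ hab
    have hW : finrank F W ≠ 0 := by
      intro h0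
      rw [h0, mul_zero] at hd
      have : Subsingleton V := Module.finrank_zero_iff.1 hd
      exact hab (hρ (LinearEquiv.ext fun v => Subsingleton.elim _ _))
    obtain ⟨h1, h1'⟩ := ih (finrank F W) (by omega) τ hτ hτi rfl
    refine ⟨hcard.trans ?_, fun ho => absurd ho (Nat.not_odd_iff_even.2 ⟨finrank F W, by omega⟩)⟩
    rw [show 4 = 2 ^ 2 from rfl]
    by_cases hk : finrank F W = 1
    · refine (Nat.mul_le_mul_left _ (h1' (by rw [hk]; exact odd_one))).trans ?_
      rw [← pow_add]
      exact Nat.pow_le_pow_right two_pos (by omega)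
    · refine (Nat.mul_le_mul_left _ h1).trans ?_
      rw [← pow_add]
      exact Nat.pow_le_pow_right two_pos (by omega)

end CfsgLib.Classical.SignExtension
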