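import Cfsg.Agent.Lib.Classical.ClassicalTwoRank
import Cfsg.Agent.Lib.Classical.SL2Structure
import Mathlib.GroupTheory.Solvable
import Mathlib.GroupTheory.Nilpotent

/-!
# The derived length of a Sylow `2`-subgroup of a symplectic group in odd characteristic
-/

set_option autoImplicit false
set_option linter.all false

namespace CfsgLib.Classical.SpSylowDerived

open scoped commutatorElement

open CfsgLib.Classical CfsgLib.Classical.SignRank

universe u v

section DSeries

variable {G : Type u} [Group G]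

/-- The derived series of a subgroup, as subgroups of the whole group. -/
def dser (H : Subgroup G) : ℕ → Subgroup G
  | 0 => H
  | n + 1 => ⁅dser H n, dser H n⁆

theorem map_derivedSeries (H : Subgroup G) (j : ℕ) :
    (derivedSeries ↥H j).map H.subtype = dser H j := by
  induction j with
  | zero => simp [dser, ← MonoidHom.range_eq_map]
  | succ j ih => rw [derivedSeries_succ, Subgroup.map_commutator, ih]; rfl

theorem derivedSeries_eq_bot_iff (H : Subgroup G) (j : ℕ) :
    derivedSeries ↥H j = ⊥ ↔ dser H j = ⊥ := by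
  rw [← map_derivedSeries, Subgroup.map_eq_bot_iff_of_injective _ H.subtype_injective]

theorem dser_mono {H K : Subgroup G} (h : H ≤ K) (j : ℕ) : dser H j ≤ dser K j := by
  induction j with
  | zero => exact h
  | succ j ih => exact Subgroup.commutator_mono ih ih

theorem dser_le (H : Subgroup G) (j : ℕ) : dser H j ≤ H := by
  induction j with
  | zero => exact le_rfl
  | succ j ih => exact (Subgroup.commutator_mono ih ih).trans (Subgroup.commutator_le_self H)

theorem dser_add (H : Subgroup G) (a b : ℕ) : dser H (a + b) = dser (dser H a) b := by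
  induction b with
  | zero => rfl
  | succ b ih => rw [← add_assoc]; show ⁅dser H (a + b), dser H (a + b)⁆ = _; rw [ih]; rfl

theorem map_dser {M : Type v} [Group M] (f : G →* M) (H : Subgroup G) (j : ℕ) :
    (dser H j).map f = dser (H.map f) j := by
  induction j with
  | zero => rfl
  | succ j ih => show Subgroup.map f ⁅dser H j, dser H j⁆ = _; rw [Subgroup.map_commutator, ih]; rfl

theorem dser_two_bot {H : Subgroup G} (hc : IsMulCommutative (dser H 1)) : dser H 2 = ⊥ := by
  show ⁅dser H 1, dser H 1⁆ = ⊥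
  rw [eq_bot_iff, Subgroup.commutator_le]
  intro a ha b hb
  rw [Subgroup.mem_bot, commutatorElement_eq_one_iff_mul_comm]
  exact congrArg Subtype.val (hc.is_comm.comm ⟨a, ha⟩ ⟨b, hb⟩)

/-- A subgroup of index less than `2 ^ (m + 1)` contains the `m`-th derived subgroup of a 2-group. -/
theorem dser_le_of_relIndex [Finite G] (S : Subgroup G) :
    ∀ (m : ℕ) (P : Subgroup G), IsPGroup 2 P → S.relIndex P < 2 ^ (m + 1) → dser P m ≤ S := by
  haveI : Fact (Nat.Prime 2) := ⟨Nat.prime_two⟩
  intro m
  induction m with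
  | zero =>
    intro P _ h
    have h0 : S.relIndex P ≠ 0 := Subgroup.index_ne_zero_of_finite
    rw [zero_add, pow_one] at h
    show P ≤ S
    have h0' : S.relIndex P ≠ 0 := h0
    exact Subgroup.relIndex_eq_one.1 (by omega)
  | succ m ih =>
    intro P hP h
    by_cases hSP : P ≤ S
    · exact (dser_le P _).trans hSP
    haveI := hP.isNilpotent
    obtain ⟨M, hM, hSM⟩ : ∃ M : Subgroup P, IsCoatom M ∧ S.subgroupOf P ≤ M := by
      rcases eq_top_or_exists_le_coatom (S.subgroupOf P) with h' | h'
      · exact absurd (Subgroup.subgroupOf_eq_top.1 h') hSP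
      · exact h'
    haveI : M.Normal := Subgroup.NormalizerCondition.normal_of_coatom M (Group.normalizerCondition_of_isNilpotent (G := P)) hM
    have hk2 : M.index = 2 := by
      haveI : Nontrivial (P ⧸ M) := QuotientGroup.nontrivial_iff.2 hM.1
      obtain ⟨k, hk⟩ := (IsPGroup.iff_card (p := 2)).1 (hP.to_quotient M)
      have hk1 : 1 ≤ k := by
        rcases Nat.eq_zero_or_pos k with rfl | h'
        · have := Finite.one_lt_card (α := P ⧸ M)
          simp [hk] at this
        · exact h'
      obtain ⟨K, hK⟩ := Sylow.exists_subgroup_card_pow_prime 2 (n := 1)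
        (G := P ⧸ M) (by rw [hk]; exact pow_dvd_pow 2 hk1)
      have hle : M ≤ K.comap (QuotientGroup.mk' M) := fun x hx => by
        rw [Subgroup.mem_comap, QuotientGroup.mk'_apply, (QuotientGroup.eq_one_iff x).2 hx]
        exact one_mem K
      rcases hle.lt_or_eq with hlt | heq
      · have h' := congrArg (Subgroup.map (QuotientGroup.mk' M)) (hM.2 _ hlt)
        rw [Subgroup.map_comap_eq_self_of_surjective (QuotientGroup.mk'_surjective M),
          Subgroup.map_top_of_surjective _ (QuotientGroup.mk'_surjective M)] at h'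
        rw [h', Subgroup.card_top] at hK
        rw [Subgroup.index_eq_card, hK, pow_one]
      · have h' := congrArg (Subgroup.map (QuotientGroup.mk' M)) heq.symm
        rw [Subgroup.map_comap_eq_self_of_surjective (QuotientGroup.mk'_surjective M),
          QuotientGroup.map_mk'_self] at h'
        rw [h', Subgroup.card_bot] at hK
        simp at hK
    set M' := M.map P.subtype
    have hM'P : M' ≤ P := Subgroup.map_subtype_le M
    have hMM : M'.subgroupOf P = M := Subgroup.comap_map_eq_self_of_injective P.subtype_injective M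
    have hSM' : S ⊓ P ≤ M' := by
      rintro x ⟨hx, hxP⟩
      exact ⟨⟨x, hxP⟩, hSM hx, rfl⟩
    have hmul := Subgroup.relIndex_mul_relIndex (S ⊓ P) M' P hSM' hM'P
    rw [Subgroup.inf_relIndex_right, show M'.relIndex P = 2 by
      rw [Subgroup.relIndex, hMM, hk2]] at hmul
    have hS' : S.relIndex M' < 2 ^ (m + 1) := by
      rw [← Subgroup.inf_relIndex_right, show S ⊓ M' = (S ⊓ P) ⊓ M' by
        rw [inf_assoc, inf_eq_right.2 hM'P], Subgroup.inf_relIndex_right]
      rw [pow_succ] at h
      omega
    have hcomm : dser P 1 ≤ M' := by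
      show ⁅P, P⁆ ≤ M'
      rw [Subgroup.commutator_le]
      intro a ha b hb
      refine ⟨⁅(⟨a, ha⟩ : P), ⟨b, hb⟩⁆, ?_, map_commutatorElement P.subtype _ _⟩
      rw [SetLike.mem_coe, commutatorElement_def]
      have key : ∀ x y : P, x * y ∈ M ↔ (x ∈ M ↔ y ∈ M) := fun x y =>
        Subgroup.mul_mem_iff_of_index_two hk2
      rw [key, key, key, inv_mem_iff, inv_mem_iff]
      tauto
    rw [add_comm m 1, dser_add]
    refine (dser_mono hcomm m).trans (ih M' ?_ hS')
    exact hP.to_le hM'P

/-- Commuting conjugates: the derived series climbs by one. -/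
theorem dser_step {H K : Subgroup G} (s : G) (hH : H ≤ K) (hs : s ∈ K)
    (hc : ∀ a ∈ H, ∀ b ∈ H, a * (s * b * s⁻¹) = (s * b * s⁻¹) * a) (j : ℕ) :
    ∀ x ∈ dser H j, ∃ y ∈ H, x * (s * y * s⁻¹) ∈ dser K (j + 1) := by
  induction j with
  | zero =>
    intro x hx
    refine ⟨x⁻¹, inv_mem hx, ?_⟩
    rw [← mul_assoc, ← mul_assoc, ← commutatorElement_def]
    exact Subgroup.commutator_mem_commutator (hH hx) hs
  | succ j ih =>
    let T : Subgroup G :=
      { carrier := {x | x ∈ H ∧ ∃ y ∈ H, x * (s * y * s⁻¹) ∈ dser K (j + 2)}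
        one_mem' := ⟨one_mem _, 1, one_mem _, by simp [one_mem]⟩
        mul_mem' := by
          rintro a b ⟨ha, y, hy, hay⟩ ⟨hb, z, hz, hbz⟩
          refine ⟨mul_mem ha hb, y * z, mul_mem hy hz, ?_⟩
          have h := mul_mem hay hbz
          rwa [mul_assoc, ← mul_assoc (s * y * s⁻¹) b, ← hc b hb y hy, mul_assoc b, ← mul_assoc a,
            show s * y * s⁻¹ * (s * z * s⁻¹) = s * (y * z) * s⁻¹ by group] at h
        inv_mem' := by
          rintro a ⟨ha, y, hy, hay⟩
          refine ⟨inv_mem ha, y⁻¹, inv_mem hy, ?_⟩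
          have h := inv_mem hay
          rwa [hc a ha y hy, mul_inv_rev, show (s * y * s⁻¹)⁻¹ = s * y⁻¹ * s⁻¹ by group] at h }
    have hle : ⁅dser H j, dser H j⁆ ≤ T := by
      rw [Subgroup.commutator_le]
      intro a ha b hb
      have ha' := dser_le H j ha
      have hb' := dser_le H j hb
      obtain ⟨y, hy, hay⟩ := ih a ha
      obtain ⟨z, hz, hbz⟩ := ih b hb
      refine ⟨Subgroup.commutator_le_self H (Subgroup.commutator_mem_commutator ha' hb'), ⁅y, z⁆,
        Subgroup.commutator_le_self H (Subgroup.commutator_mem_commutator hy hz), ?_⟩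
      have h := Subgroup.commutator_mem_commutator hay hbz
      set y' := s * y * s⁻¹ with hy'
      set z' := s * z * s⁻¹ with hz'
      have e1 : Commute a y' := hc a ha' y hy
      have e2 : Commute a z' := hc a ha' z hz
      have e3 : Commute b y' := hc b hb' y hy
      have e4 : Commute b z' := hc b hb' z hz
      have : ⁅a * y', b * z'⁆ = ⁅a, b⁆ * (s * ⁅y, z⁆ * s⁻¹) := by
        have hbig : Commute (a⁻¹ * b⁻¹) (y' * z') :=
          ((e1.inv_left.mul_left e3.inv_left).mul_right (e2.inv_left.mul_left e4.inv_left))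
        rw [show s * ⁅y, z⁆ * s⁻¹ = ⁅y', z'⁆ by simp only [commutatorElement_def, hy', hz']; group]
        simp only [commutatorElement_def]
        rw [Commute.mul_mul_mul_comm e3.symm a z',
          show (a * y')⁻¹ = a⁻¹ * y'⁻¹ by rw [mul_inv_rev]; exact (e1.inv_inv).eq.symm,
          show (b * z')⁻¹ = b⁻¹ * z'⁻¹ by rw [mul_inv_rev]; exact (e4.inv_inv).eq.symm,
          mul_assoc (a * b * (y' * z')), Commute.mul_mul_mul_comm e3.inv_inv.symm a⁻¹ z'⁻¹,
          Commute.mul_mul_mul_comm hbig.symm (a * b) (y'⁻¹ * z'⁻¹)]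
        simp only [mul_assoc]
      rw [← this]
      exact h
    intro x hx
    exact (hle hx).2

end DSeries

section Wreath

variable (A : Type u) [Group A] (n : ℕ)

/-- The wreath product with the symmetric group. -/
abbrev Wr := (Fin n → A) ⋊[permAut A n] Equiv.Perm (Fin n)

variable {A n}

theorem mul_left_apply (x y : Wr A n) (i : Fin n) :
    (x * y).left i = x.left i * y.left (x.right.symm i) := rfl

/-- The elements supported on a set of coordinates. -/
def supp (S : Set (Fin n)) : Subgroup (Wr A n) where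
  carrier := {w | ∀ i, i ∉ S → w.left i = 1 ∧ w.right i = i}
  one_mem' i _ := ⟨rfl, rfl⟩
  mul_mem' := by
    intro x y hx hy i hi
    refine ⟨?_, ?_⟩
    · rw [mul_left_apply, (hx i hi).1, one_mul]
      have : x.right.symm i = i := by rw [Equiv.symm_apply_eq, (hx i hi).2]
      rw [this, (hy i hi).1]
    · rw [SemidirectProduct.mul_right, Equiv.Perm.mul_apply, (hy i hi).2, (hx i hi).2]
  inv_mem' := by
    intro x hx i hi
    refine ⟨?_, ?_⟩
    · show (x.left (x.right⁻¹.symm i))⁻¹ = 1
      rw [show x.right⁻¹.symm i = x.right i from rfl, (hx i hi).2, (hx i hi).1, inv_one]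
    · rw [SemidirectProduct.inv_right, Equiv.Perm.inv_def, Equiv.symm_apply_eq, (hx i hi).2]

theorem right_mem {S : Set (Fin n)} {x : Wr A n} (hx : x ∈ supp S) {i : Fin n} (hi : i ∈ S) :
    x.right i ∈ S := by
  by_contra h
  exact h (by
    have h2 := (hx _ h).2
    rwa [x.right.injective h2])

theorem supp_commute {S T : Set (Fin n)} (hd : Disjoint S T) {x y : Wr A n} (hx : x ∈ supp S)
    (hy : y ∈ supp T) : x * y = y * x := by
  have hS : ∀ i, i ∈ S → i ∉ T := fun i h h' => Set.disjoint_left.1 hd h h'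
  refine SemidirectProduct.ext (funext fun i => ?_) (Equiv.ext fun i => ?_)
  · rw [mul_left_apply, mul_left_apply]
    by_cases hi : i ∈ S
    · have h1 : y.right.symm i = i := by rw [Equiv.symm_apply_eq, (hy i (hS i hi)).2]
      have h2 : x.right.symm i ∈ S := by
        by_contra h
        have := (hx _ h).2
        rw [Equiv.apply_symm_apply] at this
        exact h (this ▸ hi)
      rw [h1, (hy i (hS i hi)).1, (hy _ (hS _ h2)).1, one_mul, mul_one]
    · have h1 : x.right.symm i = i := by rw [Equiv.symm_apply_eq, (hx i hi).2]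
      rw [h1, (hx i hi).1, one_mul]
      by_cases hi' : i ∈ T
      · have h2 : y.right.symm i ∈ T := by
          by_contra h
          have := (hy _ h).2
          rw [Equiv.apply_symm_apply] at this
          exact h (this ▸ hi')
        rw [(hx _ fun h => hS _ h h2).1, mul_one]
      · have h2 : y.right.symm i = i := by rw [Equiv.symm_apply_eq, (hy i hi').2]
        rw [h2, (hx i hi).1, mul_one]
  · simp only [SemidirectProduct.mul_right, Equiv.Perm.mul_apply]
    by_cases hi : i ∈ S
    · rw [(hy i (hS i hi)).2, (hy _ (hS _ (right_mem hx hi))).2]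
    · rw [(hx i hi).2]
      by_cases hi' : i ∈ T
      · rw [(hx _ fun h => hS _ h (right_mem hy hi')).2]
      · rw [(hy i hi').2, (hx i hi).2]

theorem supp_conj {S : Set (Fin n)} (σ : Equiv.Perm (Fin n)) {x : Wr A n} (hx : x ∈ supp S) :
    (SemidirectProduct.inr σ : Wr A n) * x * (SemidirectProduct.inr σ)⁻¹ ∈ supp (σ '' S) := by
  intro i hi
  have hi' : σ.symm i ∉ S := fun h => hi ⟨_, h, σ.apply_symm_apply i⟩
  rw [← map_inv]
  refine ⟨?_, ?_⟩
  · simp only [mul_left_apply, SemidirectProduct.left_inr, SemidirectProduct.right_inr, Pi.one_apply,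
      one_mul, mul_one]
    exact (hx _ hi').1
  · simp only [SemidirectProduct.mul_right, SemidirectProduct.right_inr, Equiv.Perm.mul_apply,
      Equiv.Perm.inv_def]
    rw [(hx _ hi').2, Equiv.apply_symm_apply]

theorem supp_inf {S T : Set (Fin n)} (hd : Disjoint S T) {x : Wr A n} (hx : x ∈ supp S)
    (hy : x ∈ supp T) : x = 1 := by
  refine SemidirectProduct.ext (funext fun i => ?_) (Equiv.ext fun i => ?_)
  all_goals
    by_cases hi : i ∈ S
    · first
      | exact (hy i (Set.disjoint_left.1 hd hi)).1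
      | exact (hy i (Set.disjoint_left.1 hd hi)).2
    · first
      | exact (hx i hi).1
      | exact (hx i hi).2

theorem supp_mono {S T : Set (Fin n)} (h : S ⊆ T) : (supp S : Subgroup (Wr A n)) ≤ supp T :=
  fun x hx i hi => hx i fun h' => hi (h h')

variable [Finite A]

/-- Iterated wreath products inside. -/
theorem exists_deep (P : Subgroup A) (hP : IsPGroup 2 P) (hnc : dser P 1 ≠ ⊥) :
    ∀ k, 2 ^ k ≤ n → ∃ H : Subgroup (Wr A n), IsPGroup 2 H ∧
      H ≤ supp {i : Fin n | (i : ℕ) < 2 ^ k} ∧ dser H (k + 1) ≠ ⊥ := by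
  haveI : Fact (Nat.Prime 2) := ⟨Nat.prime_two⟩
  intro k
  induction k with
  | zero =>
    intro h
    let i₀ : Fin n := ⟨0, by omega⟩
    let f : A →* Wr A n := SemidirectProduct.inl.comp (MonoidHom.mulSingle (fun _ => A) i₀)
    refine ⟨P.map f, hP.map f, ?_, ?_⟩
    · rintro _ ⟨a, _, rfl⟩ i hi
      have hne : i ≠ i₀ := fun h => hi (by simp [h, i₀])
      exact ⟨Pi.mulSingle_eq_of_ne hne _, rfl⟩
    · rw [← map_dser, Ne, Subgroup.map_eq_bot_iff_of_injective _ (f := f)
        (fun a b h => Pi.mulSingle_injective (M := fun _ : Fin n => A) i₀ (SemidirectProduct.inl_injective h))]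
      exact hnc
  | succ k ih =>
    intro h
    rw [pow_succ] at h
    obtain ⟨H, hH, hHs, hHd⟩ := ih (by omega)
    let g : Fin n → Fin n := fun i =>
      if h1 : (i : ℕ) < 2 ^ k then ⟨i + 2 ^ k, by omega⟩
      else if h2 : (i : ℕ) < 2 ^ k * 2 then ⟨i - 2 ^ k, by omega⟩ else i
    have hg : Function.Involutive g := by
      intro i
      apply Fin.ext
      dsimp only [g]
      split_ifs <;> (try simp only) <;> (try split_ifs) <;> (try simp only at *) <;> omega
    let σ := hg.toPerm g
    set s : Wr A n := SemidirectProduct.inr σ with hs_def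
    set S := {i : Fin n | (i : ℕ) < 2 ^ k} with hS
    have hd : Disjoint S (σ '' S) := by
      rw [Set.disjoint_left]
      rintro i hi ⟨j, hj, rfl⟩
      simp only [S, Set.mem_setOf_eq, σ, Function.Involutive.coe_toPerm, g] at hi hj
      rw [dif_pos hj] at hi
      simp only at hi
      omega
    have hconj : ∀ b ∈ H, s * b * s⁻¹ ∈ supp (σ '' S) := fun b hb => supp_conj σ (hHs hb)
    have hc : ∀ a ∈ H, ∀ b ∈ H, a * (s * b * s⁻¹) = (s * b * s⁻¹) * a := fun a ha b hb =>
      supp_commute hd (hHs ha) (hconj b hb)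
    have hss : s * s = 1 := by
      rw [hs_def, ← map_mul, show σ * σ = 1 from Equiv.ext hg, map_one]
    have hsinv : s⁻¹ = s := inv_eq_of_mul_eq_one_right hss
    set H' := H.map (MulAut.conj s).toMonoidHom with hH'
    have hHH : IsPGroup 2 ↥(H ⊔ H') := by
      refine hH.to_sup_of_normal_right' (hH.map _) fun x hx => Subgroup.mem_normalizer_iff.2 fun y => ?_
      have key : ∀ z ∈ H', x * z = z * x := by
        rintro _ ⟨b, hb, rfl⟩
        exact hc x hx b hb
      constructor
      · intro hy
        rw [key y hy, mul_inv_cancel_right]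
        exact hy
      · intro hy
        have := key _ hy
        rw [← mul_assoc] at this
        have h' : x * y * x⁻¹ = y := by
          have h'' := mul_left_cancel (a := x) (b := x * y * x⁻¹) (c := y) (by
            rw [← mul_assoc, this, inv_mul_cancel_right])
          exact h''
        rwa [h'] at hy
    have hnorm : ∀ z ∈ Subgroup.zpowers s, z ∈ Subgroup.normalizer ((H ⊔ H' : Subgroup (Wr A n)) : Set (Wr A n)) := by
      intro z hz
      refine Subgroup.zpowers_le.2 ?_ hz
      rw [Subgroup.mem_normalizer_iff]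
      have hm : (H ⊔ H').map (MulAut.conj s).toMonoidHom = H ⊔ H' := by
        rw [Subgroup.map_sup, hH', Subgroup.map_map, show (MulAut.conj s).toMonoidHom.comp
          (MulAut.conj s).toMonoidHom = MonoidHom.id _ by
            refine MonoidHom.ext fun w => ?_
            show s * (s * w * s⁻¹) * s⁻¹ = w
            rw [← mul_assoc, ← mul_assoc, hss, one_mul, mul_assoc, ← mul_inv_rev, hss, inv_one, mul_one],
          Subgroup.map_id, sup_comm]
      intro y
      constructor
      · intro hy
        rw [← hm]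
        exact ⟨y, hy, rfl⟩
      · intro hy
        rw [← hm]
        refine ⟨s * y * s⁻¹, hy, ?_⟩
        show s * (s * y * s⁻¹) * s⁻¹ = y
        rw [← mul_assoc, ← mul_assoc, hss, one_mul, mul_assoc, ← mul_inv_rev, hss, inv_one, mul_one]
    have hsp : IsPGroup 2 (Subgroup.zpowers s) := by
      obtain ⟨j, -, hj⟩ := (Nat.dvd_prime_pow Nat.prime_two).1
        (orderOf_dvd_of_pow_eq_one (show s ^ 2 ^ 1 = 1 by rw [pow_one, pow_two, hss]))
      exact IsPGroup.of_card (n := j) (by rw [Nat.card_zpowers, hj])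
    refine ⟨Subgroup.zpowers s ⊔ (H ⊔ H'), hsp.to_sup_of_normal_right' hHH hnorm, ?_, ?_⟩
    · have hS1 : S ⊆ {i : Fin n | (i : ℕ) < 2 ^ (k + 1)} := fun i hi => by
        simp only [S, Set.mem_setOf_eq, pow_succ] at hi ⊢; omega
      have hS2 : σ '' S ⊆ {i : Fin n | (i : ℕ) < 2 ^ (k + 1)} := by
        rintro _ ⟨j, hj, rfl⟩
        simp only [S, Set.mem_setOf_eq, σ, Function.Involutive.coe_toPerm, g, pow_succ] at hj ⊢
        rw [dif_pos hj]
        simp only
        omega
      refine sup_le (Subgroup.zpowers_le.2 fun i hi => ⟨rfl, ?_⟩) (sup_le (hHs.trans (supp_mono hS1)) ?_)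
      · simp only [Set.mem_setOf_eq, pow_succ] at hi
        show σ i = i
        simp only [σ, Function.Involutive.coe_toPerm, g]
        rw [dif_neg (by omega), dif_neg hi]
      · rintro _ ⟨b, hb, rfl⟩
        exact supp_mono hS2 (hconj b hb)
    · obtain ⟨x, hx, hx1⟩ := (Subgroup.ne_bot_iff_exists_ne_one.1 hHd) |> fun ⟨x, hx⟩ =>
        (⟨x.1, x.2, fun h => hx (Subtype.ext h)⟩ : ∃ x : Wr A n, x ∈ dser H (k + 1) ∧ x ≠ 1)
      obtain ⟨y, hy, hxy⟩ := dser_step (K := Subgroup.zpowers s ⊔ (H ⊔ H')) s
        (le_sup_left.trans le_sup_right) (Subgroup.mem_sup_left (Subgroup.mem_zpowers s)) hc _ x hx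
      intro hbot
      rw [hbot, Subgroup.mem_bot] at hxy
      refine hx1 (supp_inf hd (hHs (dser_le H _ hx)) ?_)
      rw [eq_inv_of_mul_eq_one_left hxy]
      exact inv_mem (hconj y hy)

/-- The derived length is at most that of the base plus that of the top. -/
theorem dser_bot {R : Subgroup (Wr A n)} (hR : IsPGroup 2 R) {m : ℕ} (hn : n < 2 ^ (m + 1))
    (hA : ∀ P : Subgroup A, IsPGroup 2 P → dser P 2 = ⊥) : dser R (m + 2) = ⊥ := by
  rw [dser_add]
  set K := dser R m
  have hKr : ∀ x ∈ K, x.right = 1 := by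
    intro x hx
    refine Equiv.ext fun i => ?_
    have h : x.right ∈ MulAction.stabilizer (Equiv.Perm (Fin n)) i := by
      refine dser_le_of_relIndex (MulAction.stabilizer (Equiv.Perm (Fin n)) i) m
        (R.map SemidirectProduct.rightHom) (hR.map _) (lt_of_le_of_lt ?_ hn) ?_
      · refine (Subgroup.relIndex_le_of_le_right (le_top : R.map SemidirectProduct.rightHom ≤ ⊤) ?_).trans ?_
        · rw [Subgroup.relIndex_top_right]; exact Subgroup.index_ne_zero_of_finite
        rw [Subgroup.relIndex_top_right, MulAction.index_stabilizer]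
        exact (Nat.card_le_card_of_injective _ Subtype.val_injective).trans_eq (Nat.card_fin n)
      · rw [← map_dser]
        exact ⟨x, hx, rfl⟩
    exact h
  rw [eq_bot_iff]
  intro x hx
  have hxK := dser_le K 2 hx
  refine SemidirectProduct.ext (funext fun i => ?_) (hKr x hxK)
  let π : K →* A :=
    { toFun := fun w => w.1.left i
      map_one' := rfl
      map_mul' := fun w z => by
        show (w.1 * z.1).left i = _
        rw [mul_left_apply, hKr w.1 w.2]
        rfl }
  have hKp : IsPGroup 2 K := hR.to_le (dser_le R m)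
  have h1 : (derivedSeries ↥K 2).map π ≤ (derivedSeries (↥π.range) 2).map π.range.subtype := by
    rw [show π = π.range.subtype.comp π.rangeRestrict from rfl, ← Subgroup.map_map]
    exact Subgroup.map_mono (map_derivedSeries_le_derivedSeries _ 2)
  rw [map_derivedSeries, hA π.range (hKp.of_surjective π.rangeRestrict π.rangeRestrict_surjective)] at h1
  obtain ⟨x', hx', rfl⟩ : x ∈ (derivedSeries ↥K 2).map K.subtype := by rw [map_derivedSeries]; exact hx
  exact Subgroup.mem_bot.1 (h1 ⟨x', hx', rfl⟩)

end Wreath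

section Base

variable {F : Type*} [Field F] [Fintype F]

theorem quaternion_two_bot (N : ℕ) [NeZero N] :
    derivedSeries (QuaternionGroup N) 2 = ⊥ := by
  let χ : QuaternionGroup N →* Multiplicative (ZMod 2) :=
    { toFun := fun q => match q with
        | .a _ => 1
        | .xa _ => Multiplicative.ofAdd 1
      map_one' := rfl
      map_mul' := by
        rintro (i | i) (j | j) <;> simp only [QuaternionGroup.a_mul_a, QuaternionGroup.a_mul_xa,
          QuaternionGroup.xa_mul_a, QuaternionGroup.xa_mul_xa] <;> decide }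
  have h1 : derivedSeries (QuaternionGroup N) 1 ≤ χ.ker := by
    rw [derivedSeries_one]
    exact Abelianization.commutator_subset_ker χ
  rw [derivedSeries_succ, eq_bot_iff, Subgroup.commutator_le]
  intro a ha b hb
  rw [Subgroup.mem_bot, commutatorElement_eq_one_iff_mul_comm]
  have ha' := h1 ha
  have hb' := h1 hb
  rw [MonoidHom.mem_ker] at ha' hb'
  rcases a with i | i
  · rcases b with j | j
    · rw [QuaternionGroup.a_mul_a, QuaternionGroup.a_mul_a, add_comm]
    · exact absurd hb' (show (Multiplicative.ofAdd (1 : ZMod 2)) ≠ 1 by decide)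
  · exact absurd ha' (show (Multiplicative.ofAdd (1 : ZMod 2)) ≠ 1 by decide)

theorem quaternion_one_ne_bot {N : ℕ} [NeZero N] (hN : 2 ≤ N) :
    derivedSeries (QuaternionGroup N) 1 ≠ ⊥ := by
  intro h
  rw [derivedSeries_one, commutator_def, eq_bot_iff, Subgroup.commutator_le] at h
  have h' := h (QuaternionGroup.a 1) (Subgroup.mem_top _) (QuaternionGroup.xa 0) (Subgroup.mem_top _)
  rw [Subgroup.mem_bot, commutatorElement_eq_one_iff_mul_comm, QuaternionGroup.a_mul_xa,
    QuaternionGroup.xa_mul_a, QuaternionGroup.xa.injEq] at h'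
  have h2 : ((2 : ℕ) : ZMod (2 * N)) = 0 := by push_cast; linear_combination -h'
  rw [ZMod.natCast_eq_zero_iff] at h2
  exact absurd (Nat.le_of_dvd two_pos h2) (by omega)

theorem sylow_SL_two (hF : Odd (Fintype.card F)) (S : Sylow 2 (Matrix.SpecialLinearGroup (Fin 2) F)) :
    dser (S : Subgroup (Matrix.SpecialLinearGroup (Fin 2) F)) 2 = ⊥ ∧
      dser (S : Subgroup (Matrix.SpecialLinearGroup (Fin 2) F)) 1 ≠ ⊥ := by
  haveI : Fact (ringChar F).Prime := ⟨CharP.char_is_prime F (ringChar F)⟩
  have hp : ringChar F ≠ 2 := fun h => (Nat.not_even_iff_odd.2 hF)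
    (Nat.even_iff.2 (FiniteField.even_card_of_char_two h))
  obtain ⟨k, hk, ⟨e⟩⟩ := CfsgLib.Classical.Two.sylow_two_quaternion hp
    (MonoidHom.id (Matrix.SpecialLinearGroup (Fin 2) F)) Function.injective_id
    (Matrix.SpecialLinearGroup.map (ZMod.castHom dvd_rfl F)) (fun a b h => by
      ext i j
      exact (ZMod.castHom dvd_rfl F).injective (congrFun (congrFun (congrArg Subtype.val h) i) j)) S
  haveI : NeZero (2 ^ k) := ⟨by positivity⟩
  rw [← derivedSeries_eq_bot_iff, Ne, ← derivedSeries_eq_bot_iff]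
  constructor
  · rw [eq_bot_iff, ← Subgroup.map_le_map_iff_of_injective (f := e.toMonoidHom) e.injective,
      Subgroup.map_bot]
    exact (map_derivedSeries_le_derivedSeries _ 2).trans (quaternion_two_bot _).le
  · intro h
    refine quaternion_one_ne_bot (N := 2 ^ k) (Nat.le_self_pow (by omega) 2) ?_
    rw [eq_bot_iff, ← map_derivedSeries_eq (f := e.toMonoidHom) e.surjective 1, h, Subgroup.map_bot]

/-- The derived length of a Sylow 2-subgroup of `Sp_{2n}` in odd characteristic. -/
theorem sp_sylow_derived (hF : Odd (Fintype.card F)) (n : ℕ) (hn : 1 ≤ n)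
    (R : Sylow 2 ↥(Matrix.symplecticGroup (Fin n) F)) :
    derivedSeries ↥(R : Subgroup ↥(Matrix.symplecticGroup (Fin n) F)) (Nat.log 2 n + 2) = ⊥ ∧
      derivedSeries ↥(R : Subgroup ↥(Matrix.symplecticGroup (Fin n) F)) (Nat.log 2 n + 1) ≠ ⊥ := by
  haveI : Fact (Nat.Prime 2) := ⟨Nat.prime_two⟩
  set A := Matrix.SpecialLinearGroup (Fin 2) F
  haveI : Finite (Wr A n) := Finite.of_equiv _ (SemidirectProduct.equivProd (φ := permAut A n)).symm
  obtain ⟨φ, hφ, hv⟩ := CfsgLib.Classical.TwoRank.exists_wreath_Sp hF n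
  let W := Wr A n × (Fin 0 → Fˣ)
  have hlift : ∀ T : Sylow 2 W, ∀ j, derivedSeries ↥(R : Subgroup ↥(Matrix.symplecticGroup (Fin n) F)) j = ⊥ ↔
      dser (T : Subgroup W) j = ⊥ := by
    intro T j
    obtain ⟨R', hR'⟩ := (T.2.map φ).exists_le_sylow
    have hTR : (T : Subgroup W).map φ = (R' : Subgroup _) := Subgroup.eq_of_le_of_card_ge hR' (by
      rw [Subgroup.card_map_of_injective hφ, R'.card_eq_multiplicity, T.card_eq_multiplicity,
        Nat.factorization_def _ Nat.prime_two, Nat.factorization_def _ Nat.prime_two, hv])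
    have e : ↥(R : Subgroup ↥(Matrix.symplecticGroup (Fin n) F)) ≃* ↥(R' : Subgroup ↥(Matrix.symplecticGroup (Fin n) F)) :=
      R.equiv R'
    rw [← Subgroup.map_eq_bot_iff_of_injective _ hφ, map_dser, hTR, ← derivedSeries_eq_bot_iff,
      ← map_derivedSeries_eq (f := e.toMonoidHom) e.surjective j,
      Subgroup.map_eq_bot_iff_of_injective _ e.injective]
  obtain ⟨S⟩ : Nonempty (Sylow 2 A) := inferInstance
  constructor
  · obtain ⟨T⟩ : Nonempty (Sylow 2 W) := inferInstance
    rw [hlift T]
    have hinj : Function.Injective (MonoidHom.fst (Wr A n) (Fin 0 → Fˣ)) := fun x y h =>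
      Prod.ext h (funext fun i => i.elim0)
    rw [← Subgroup.map_eq_bot_iff_of_injective _ hinj, map_dser]
    refine dser_bot (T.2.map _) (Nat.lt_pow_succ_log_self one_lt_two n) fun P hP => ?_
    obtain ⟨S', hS'⟩ := hP.exists_le_sylow
    rw [eq_bot_iff, ← (sylow_SL_two hF S').1]
    exact dser_mono hS' 2
  · obtain ⟨H, hH, -, hHd⟩ := exists_deep (n := n) (S : Subgroup A) S.2 (sylow_SL_two hF S).2 _
      (Nat.pow_log_le_self 2 (by omega : n ≠ 0))
    obtain ⟨T, hT⟩ := (hH.map (MonoidHom.inl (Wr A n) (Fin 0 → Fˣ))).exists_le_sylow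
    rw [Ne, hlift T]
    intro h
    refine hHd ?_
    rw [← Subgroup.map_eq_bot_iff_of_injective _ (f := MonoidHom.inl (Wr A n) (Fin 0 → Fˣ))
      (fun x y h => congrArg Prod.fst h), map_dser, eq_bot_iff, ← h]
    exact dser_mono hT _

end Base

end CfsgLib.Classical.SpSylowDerived
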