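import Mathlib.Algebra.BigOperators.Field
import Mathlib.Algebra.Order.BigOperators.Group.Finset
import Mathlib.Tactic

/-!
# The arithmetic of two exceptional columns

`card_le_of_two`: four classes; `card_le_of_four`: two classes.
-/

set_option autoImplicit false

namespace CfsgLib.Classical.SylowNineArith

variable {ι : Type*} [Fintype ι] [DecidableEq ι]

/-- An integral vector of norm two orthogonal to positive degrees. -/
theorem exists_pair (u d : ι → ℤ) (hd : ∀ i, 0 < d i) (huu : ∑ i, u i * u i = 2)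
    (hdu : ∑ i, d i * u i = 0) :
    ∃ p q, p ≠ q ∧ u p = 1 ∧ u q = -1 ∧ d p = d q ∧ ∀ i, i ≠ p → i ≠ q → u i = 0 := by
  have hle : ∀ i, u i * u i ≤ 2 := fun i => huu ▸ Finset.single_le_sum (f := fun i => u i * u i)
    (fun j _ => mul_self_nonneg _) (Finset.mem_univ i)
  have hu1 : ∀ i, u i = -1 ∨ u i = 0 ∨ u i = 1 := fun i => by
    have := hle i
    have : -1 ≤ u i ∧ u i ≤ 1 := by constructor <;> nlinarith
    omega
  set P := Finset.univ.filter fun i => u i ≠ 0 with hP
  have hcard : P.card = 2 := by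
    have e : ∑ i ∈ P, u i * u i = 2 := by
      rw [← huu]
      refine Finset.sum_subset (Finset.subset_univ _) fun i _ hi => ?_
      have : u i = 0 := by
        by_contra hne; exact hi (Finset.mem_filter.2 ⟨Finset.mem_univ _, hne⟩)
      rw [this, mul_zero]
    rw [Finset.sum_congr rfl fun i hi => show u i * u i = 1 by
      rcases hu1 i with e | e | e
      · rw [e]; norm_num
      · exact absurd e (Finset.mem_filter.1 hi).2
      · rw [e]; norm_num, Finset.sum_const, nsmul_eq_mul, mul_one] at e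
    exact_mod_cast e
  obtain ⟨p, q, hpq, hPe⟩ := Finset.card_eq_two.1 hcard
  have hout : ∀ i, i ≠ p → i ≠ q → u i = 0 := fun i hp hq => by
    by_contra hne
    have : i ∈ P := Finset.mem_filter.2 ⟨Finset.mem_univ i, hne⟩
    rw [hPe] at this
    simp [hp, hq] at this
  have hsum : d p * u p + d q * u q = 0 := by
    rw [← hdu, ← Finset.sum_pair (f := fun i => d i * u i) hpq]
    refine Finset.sum_subset (Finset.subset_univ _) fun i _ hi => ?_
    simp only [Finset.mem_insert, Finset.mem_singleton, not_or] at hi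
    rw [hout i hi.1 hi.2, mul_zero]
  have hp0 : u p ≠ 0 := (Finset.mem_filter.1 (show p ∈ P by rw [hPe]; simp)).2
  have hq0 : u q ≠ 0 := (Finset.mem_filter.1 (show q ∈ P by rw [hPe]; simp)).2
  have := hd p
  have := hd q
  rcases hu1 p with e | e | e
  · rcases hu1 q with e' | e' | e'
    · rw [e, e'] at hsum; omega
    · exact absurd e' hq0
    · exact ⟨q, p, hpq.symm, e', e, by rw [e, e'] at hsum; omega, fun i h1 h2 => hout i h2 h1⟩
  · exact absurd e hp0
  · rcases hu1 q with e' | e' | e'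
    · exact ⟨p, q, hpq, e, e', by rw [e, e'] at hsum; omega, hout⟩
    · exact absurd e' hq0
    · rw [e, e'] at hsum; omega

/-- Four classes: the group is small. -/
theorem card_le_of_two (d xa xb xc : ι → ℤ) (o : ι) (n : ℕ) (hn : 0 < n) (hd : ∀ i, 0 < d i)
    (hdo : d o = 1) (hbo : xb o = 1) (hco : xc o = 1) (hdd : ∑ i, d i * d i = n)
    (h3 : ∀ i, (3 : ℤ) ∣ xb i - xc i)
    (hbb : ∑ i, xb i * xb i = 9) (hcc : ∑ i, xc i * xc i = 9)
    (hbc : ∑ i, xb i * xc i = 0) (hdb : ∑ i, d i * xb i = 0) (hdc : ∑ i, d i * xc i = 0)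
    (habb : ∑ i, ((xa i * xb i * xb i : ℤ) : ℚ) / (d i : ℚ) = 0)
    (hacc : ∑ i, ((xa i * xc i * xc i : ℤ) : ℚ) / (d i : ℚ) = 0)
    (habc : ∑ i, ((xa i * xb i * xc i : ℤ) : ℚ) / (d i : ℚ) = 81 / (n : ℚ)) : n < 162 := by
  choose u hu using h3
  have huu : ∑ i, u i * u i = 2 := by
    have e : 9 * ∑ i, u i * u i = 18 := by
      rw [Finset.mul_sum, Finset.sum_congr rfl fun i _ => show 9 * (u i * u i) =
        xb i * xb i + xc i * xc i - 2 * (xb i * xc i) by
          linear_combination -(xb i - xc i + 3 * u i) * hu i, Finset.sum_sub_distrib,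
        Finset.sum_add_distrib, ← Finset.mul_sum, hbb, hcc, hbc]
      norm_num
    linarith
  have hdu : ∑ i, d i * u i = 0 := by
    have e : 3 * ∑ i, d i * u i = 0 := by
      rw [Finset.mul_sum, Finset.sum_congr rfl fun i _ => show 3 * (d i * u i) =
        d i * xb i - d i * xc i by linear_combination -(d i) * hu i, Finset.sum_sub_distrib, hdb, hdc,
        sub_zero]
    linarith
  obtain ⟨p, q, hpq, hp, hq, hdpq, hout⟩ := exists_pair u d hd huu hdu
  have hu0 : u o = 0 := by have := hu o; rw [hbo, hco] at this; omega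
  have hop : o ≠ p := fun e => by rw [e, hp] at hu0; omega
  have hoq : o ≠ q := fun e => by rw [e, hq] at hu0; omega
  have hkey : ∑ i, ((xa i * (u i * u i) : ℤ) : ℚ) / (d i : ℚ) = -18 / (n : ℚ) := by
    have e : 9 * ∑ i, ((xa i * (u i * u i) : ℤ) : ℚ) / (d i : ℚ) = 9 * (-18 / (n : ℚ)) := by
      rw [Finset.mul_sum, Finset.sum_congr rfl fun i _ => show
        9 * (((xa i * (u i * u i) : ℤ) : ℚ) / (d i : ℚ)) =
          ((xa i * xb i * xb i : ℤ) : ℚ) / (d i : ℚ) + ((xa i * xc i * xc i : ℤ) : ℚ) / (d i : ℚ) -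
            2 * (((xa i * xb i * xc i : ℤ) : ℚ) / (d i : ℚ)) by
          have e : (3 : ℚ) * u i = xb i - xc i := by exact_mod_cast (hu i).symm
          push_cast
          linear_combination ((xa i : ℚ) / d i) * (3 * (u i : ℚ) + (xb i - xc i)) * e,
        Finset.sum_sub_distrib, Finset.sum_add_distrib, ← Finset.mul_sum, habb, hacc, habc]
      ring
    linarith
  rw [← Finset.sum_subset (Finset.subset_univ ({p, q} : Finset ι)) fun i _ hi => by
      simp only [Finset.mem_insert, Finset.mem_singleton, not_or] at hi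
      simp [hout i hi.1 hi.2], Finset.sum_pair hpq, hp, hq, ← hdpq] at hkey
  set m := d p with hm
  have hm0 : (m : ℚ) ≠ 0 := Int.cast_ne_zero.2 (hd p).ne'
  have hn0 : (n : ℚ) ≠ 0 := Nat.cast_ne_zero.2 hn.ne'
  have he : (xa p + xa q) * (n : ℤ) = -18 * m := by
    have : (((xa p + xa q) * (n : ℤ) : ℤ) : ℚ) = ((-18 * m : ℤ) : ℚ) := by
      push_cast at hkey ⊢
      field_simp at hkey
      linear_combination hkey
    exact_mod_cast this
  have hmpos := hd p
  have h18 : (n : ℤ) ≤ 18 * m := by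
    have : xa p + xa q ≤ -1 := by
      by_contra hcon
      push Not at hcon
      have : 0 ≤ (xa p + xa q) * (n : ℤ) := mul_nonneg (by omega) (Int.natCast_nonneg n)
      omega
    nlinarith
  have hmm : 2 * (m * m) + 1 ≤ (n : ℤ) := by
    rw [← hdd]
    have h1 := Finset.sum_le_sum_of_subset_of_nonneg (Finset.subset_univ ({o, p, q} : Finset ι))
      (f := fun i => d i * d i) (fun i _ _ => mul_self_nonneg _)
    rw [Finset.sum_insert (by simp [hop, hoq]), Finset.sum_pair hpq, hdo, ← hdpq] at h1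
    linarith
  have h4 : (n : ℤ) * n ≤ (18 * m) * (18 * m) := mul_le_mul h18 h18 (Int.natCast_nonneg n) (by omega)
  have h5 : (n : ℤ) < 162 := by
    by_contra hcon
    push Not at hcon
    nlinarith
  omega

/-- Two classes: the group is small. -/
theorem card_le_of_four (d x y : ι → ℤ) (o : ι) (n : ℕ) (hn : 0 < n) (hd : ∀ i, 0 < d i)
    (hdo : d o = 1) (hxo : x o = 1) (hyo : y o = 1)
    (h3 : ∀ i, (3 : ℤ) ∣ x i - y i) (h9 : ∀ i, (9 : ℤ) ∣ d i + 4 * x i + 4 * y i)
    (hxx : ∑ i, x i * x i = 9) (hyy : ∑ i, y i * y i = 9) (hxy : ∑ i, x i * y i = 0)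
    (hdx : ∑ i, d i * x i = 0) (hdy : ∑ i, d i * y i = 0)
    (hxxy : ∑ i, ((x i * x i * y i : ℤ) : ℚ) / (d i : ℚ) = 162 / (n : ℚ)) : n ≤ 720 := by
  choose u hu using h3
  have huu : ∑ i, u i * u i = 2 := by
    have e : 9 * ∑ i, u i * u i = 18 := by
      rw [Finset.mul_sum, Finset.sum_congr rfl fun i _ => show 9 * (u i * u i) =
        x i * x i + y i * y i - 2 * (x i * y i) by
          linear_combination -(x i - y i + 3 * u i) * hu i, Finset.sum_sub_distrib,
        Finset.sum_add_distrib, ← Finset.mul_sum, hxx, hyy, hxy]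
      norm_num
    linarith
  have hdu : ∑ i, d i * u i = 0 := by
    have e : 3 * ∑ i, d i * u i = 0 := by
      rw [Finset.mul_sum, Finset.sum_congr rfl fun i _ => show 3 * (d i * u i) =
        d i * x i - d i * y i by linear_combination -(d i) * hu i, Finset.sum_sub_distrib, hdx, hdy,
        sub_zero]
    linarith
  obtain ⟨p, q, hpq, hp, hq, hdpq, hout⟩ := exists_pair u d hd huu hdu
  have hu0 : u o = 0 := by have := hu o; rw [hxo, hyo] at this; omega
  set R := ((Finset.univ : Finset ι).erase p).erase q with hR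
  have hRmem : ∀ i ∈ R, i ≠ p ∧ i ≠ q := fun i hi =>
    ⟨Finset.ne_of_mem_erase (Finset.mem_of_mem_erase hi), Finset.ne_of_mem_erase hi⟩
  have hsplit : ∀ {M : Type} [AddCommMonoid M] (f : ι → M),
      ∑ i, f i = f p + (f q + ∑ i ∈ R, f i) := fun f => by
    rw [← Finset.add_sum_erase Finset.univ f (Finset.mem_univ p),
      ← Finset.add_sum_erase _ f (Finset.mem_erase.2 ⟨hpq.symm, Finset.mem_univ q⟩)]
  have hRy : ∀ i ∈ R, y i = x i := fun i hi => by
    have := hu i; rw [hout i (hRmem i hi).1 (hRmem i hi).2] at this; omega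
  have hxp : x p = y p + 3 := by have := hu p; rw [hp] at this; omega
  have hyq : y q = x q + 3 := by have := hu q; rw [hq] at this; omega
  have hoR : o ∈ R := Finset.mem_erase.2 ⟨fun e => by rw [e, hq] at hu0; omega,
    Finset.mem_erase.2 ⟨fun e => by rw [e, hp] at hu0; omega, Finset.mem_univ o⟩⟩
  set a := y p with ha
  rw [hsplit, hxp] at hxx
  rw [hsplit, ← ha, hyq, Finset.sum_congr rfl fun i hi => by rw [hRy i hi]] at hyy
  rw [hsplit, ← ha, hxp, hyq, Finset.sum_congr rfl fun i hi => by rw [hRy i hi]] at hxy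
  have hab : x q = a := by linarith
  rw [hab] at hxx hxy hyq
  set k := ∑ i ∈ R, x i * x i with hk
  have hk1 : 1 ≤ k := by
    have := Finset.single_le_sum (f := fun i => x i * x i) (fun j _ => mul_self_nonneg _) hoR
    rw [hxo] at this
    simpa using this
  have hka : k = -(2 * (a * (a + 3))) := by linarith
  have ha2 : a = -1 ∨ a = -2 := by
    have : -3 < a ∧ a < 0 := by constructor <;> nlinarith
    omega
  have hk4 : k = 4 := by rcases ha2 with e | e <;> rw [e] at hka <;> omega
  have hR1 : ∀ i ∈ R, x i = -1 ∨ x i = 0 ∨ x i = 1 := by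
    intro i hi
    by_cases hio : i = o
    · exact Or.inr (Or.inr (hio ▸ hxo))
    · have h1 := Finset.sum_le_sum_of_subset_of_nonneg
        (show ({o, i} : Finset ι) ⊆ R from Finset.insert_subset hoR (Finset.singleton_subset_iff.2 hi))
        (f := fun j => x j * x j) (fun j _ _ => mul_self_nonneg _)
      rw [Finset.sum_pair (Ne.symm hio), hxo, ← hk, hk4] at h1
      have : -1 ≤ x i ∧ x i ≤ 1 := by constructor <;> nlinarith
      omega
  set ε := 2 * a + 3 with hε
  -- the term of the two exceptional characters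
  have hm := hd p
  have hexc : ((x p * x p * y p : ℤ) : ℚ) / (d p : ℚ) + ((x q * x q * y q : ℤ) : ℚ) / (d q : ℚ) ≥
      -(2 / 5) := by
    rw [← hdpq, ← add_div, hxp, hab, hyq, ← ha]
    have hq0 : (0 : ℚ) < (d p : ℚ) := by exact_mod_cast hm
    rcases ha2 with e | e <;> rw [e]
    · have h5 : 5 ≤ d p := by have := h9 p; rw [hxp, ← ha, e] at this; omega
      have : (5 : ℚ) ≤ (d p : ℚ) := by exact_mod_cast h5
      push_cast
      rw [ge_iff_le, le_div_iff₀ hq0]
      linarith
    · push_cast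
      rw [ge_iff_le, le_div_iff₀ hq0]
      linarith
  have hterm : ∀ i ∈ R.erase o, -((x i * x i : ℤ) : ℚ) / 8 ≤
      ((x i * x i * y i : ℤ) : ℚ) / (d i : ℚ) := by
    intro i hi
    have hiR := Finset.mem_of_mem_erase hi
    rw [hRy i hiR]
    have hdi : (0 : ℚ) < (d i : ℚ) := by exact_mod_cast hd i
    rcases hR1 i hiR with e | e | e <;> rw [e]
    · have h8 : 8 ≤ d i := by
        have := h9 i; rw [hRy i hiR, e] at this; have := hd i; omega
      have : (8 : ℚ) ≤ (d i : ℚ) := by exact_mod_cast h8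
      push_cast
      rw [le_div_iff₀ hdi]
      linarith
    · simp
    · push_cast
      rw [le_div_iff₀ hdi]
      linarith
  have hrest : ∑ i ∈ R.erase o, x i * x i = 3 := by
    have := Finset.add_sum_erase R (fun i => x i * x i) hoR
    rw [← hk, hk4, hxo] at this
    linarith
  have hS : (9 : ℚ) / 40 ≤ 162 / (n : ℚ) := by
    rw [← hxxy, hsplit, ← add_assoc, ← Finset.add_sum_erase R _ hoR, hxo, hyo, hdo]
    have h1 := Finset.sum_le_sum hterm
    rw [← Finset.sum_div, Finset.sum_neg_distrib, ← Int.cast_sum, hrest] at h1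
    push_cast at h1 hexc ⊢
    linarith
  rw [div_le_div_iff₀ (by norm_num) (by exact_mod_cast hn)] at hS
  have : ((n : ℕ) : ℚ) ≤ ((720 : ℕ) : ℚ) := by push_cast; linarith
  exact_mod_cast this

end CfsgLib.Classical.SylowNineArith
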