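import Cfsg.Agent.Lib.Classical.ThreeTriangle
import Cfsg.Agent.Lib.Classical.PrincipalPairs
import Cfsg.Agent.Lib.CharDegree.Basic
import Cfsg.Agent.Lib.CharAction.PGroup

/-!
# Self-centralizing elementary abelian Sylow 3-subgroups of order nine

`Coord T V rel`: coordinates on `T` with the fusion given by `rel`; `exists_values`: the values at
the elements of `T` are integers satisfying orthogonality, congruences and the class multiplication
formula.
-/

set_option autoImplicit false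

namespace CfsgLib.Classical.SylowNine

open Cfsg CfsgLib
open scoped ComplexConjugate

variable {G : Type*} [Group G] [Finite G]

/-- Coordinates on `T`, every centralizer being `T`. -/
structure Coord (T : Sylow 3 G) (φ : ZMod 3 × ZMod 3 → G)
    (rel : ZMod 3 × ZMod 3 → ZMod 3 × ZMod 3 → Bool) : Prop where
  inj : Function.Injective φ
  mem : ∀ g, g ∈ (T : Subgroup G) ↔ ∃ p, φ p = g
  add : ∀ p q, φ (p + q) = φ p * φ q
  cen : ∀ a ∈ (T : Subgroup G), a ≠ 1 → ∀ g : G, g * a = a * g → g ∈ (T : Subgroup G)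
  fus : ∀ p q, IsConj (φ p) (φ q) ↔ rel p q = true
  real : ∀ p, rel p (-p) = true

variable {T : Sylow 3 G} {φ : ZMod 3 × ZMod 3 → G}
  {rel : ZMod 3 × ZMod 3 → ZMod 3 × ZMod 3 → Bool}

theorem Coord.map_zero (h : Coord T φ rel) : φ 0 = 1 := by
  have e := h.add 0 0
  rw [add_zero] at e
  exact mul_eq_left.1 e.symm

theorem Coord.map_neg (h : Coord T φ rel) (p : ZMod 3 × ZMod 3) : φ (-p) = (φ p)⁻¹ := by
  refine eq_inv_of_mul_eq_one_left ?_
  rw [← h.add, neg_add_cancel, h.map_zero]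

theorem Coord.pow_three (h : Coord T φ rel) (p : ZMod 3 × ZMod 3) : φ p ^ 3 = 1 := by
  rw [pow_succ, pow_two, ← h.add, ← h.add,
    show p + p + p = 0 from (by decide : ∀ q : ZMod 3 × ZMod 3, q + q + q = 0) p, h.map_zero]

theorem Coord.comm (h : Coord T φ rel) : ∀ a ∈ (T : Subgroup G), ∀ b ∈ (T : Subgroup G),
    a * b = b * a := fun a ha b hb => by
  obtain ⟨p, rfl⟩ := (h.mem a).1 ha
  obtain ⟨q, rfl⟩ := (h.mem b).1 hb
  rw [← h.add, ← h.add, add_comm]

theorem Coord.map_ne_one (h : Coord T φ rel) {p : ZMod 3 × ZMod 3} (hp : p ≠ 0) : φ p ≠ 1 :=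
  fun e => hp (h.inj (e.trans h.map_zero.symm))

theorem Coord.card_centralizer (h : Coord T φ rel) {p : ZMod 3 × ZMod 3} (hp : p ≠ 0) :
    Nat.card (Subgroup.centralizer ({φ p} : Set G)) = 9 := by
  have hT : φ p ∈ (T : Subgroup G) := (h.mem _).2 ⟨p, rfl⟩
  have e : Subgroup.centralizer ({φ p} : Set G) = (T : Subgroup G) := le_antisymm
    (fun g hg => h.cen _ hT (h.map_ne_one hp) g (Subgroup.mem_centralizer_singleton_iff.1 hg))
    fun g hg => Subgroup.mem_centralizer_singleton_iff.2 (h.comm g hg _ hT)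
  rw [e, Nat.card_congr (Equiv.ofBijective (fun q => (⟨φ q, (h.mem _).2 ⟨q, rfl⟩⟩ : (T : Subgroup G)))
    ⟨fun q q' e => h.inj (congrArg Subtype.val e), fun g => by
      obtain ⟨q, hq⟩ := (h.mem g.1).1 g.2; exact ⟨q, Subtype.ext hq⟩⟩).symm]
  rw [Nat.card_prod, Nat.card_zmod]

theorem Coord.card_conj_to (h : Coord T φ rel) {p q r : ZMod 3 × ZMod 3} (hp : p ≠ 0) (hq : q ≠ 0)
    (hex : ¬ (rel q p = true ∧ rel r (-p) = true)) :
    Nat.card {g : G // IsConj (φ p * (g * φ q * g⁻¹)) (φ r)} =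
      9 * (Finset.univ.filter fun s => rel q s = true ∧ rel r (p + s) = true).card := by
  classical
  set F := Finset.univ.filter fun s => rel q s = true ∧ rel r (p + s) = true
  have key : ∀ g : G, IsConj (φ p * (g * φ q * g⁻¹)) (φ r) ↔ ∃ s ∈ F, g * φ q * g⁻¹ = φ s := by
    intro g
    constructor
    · intro hc
      have hz : (φ p * (g * φ q * g⁻¹)) ^ 3 = 1 := by
        obtain ⟨c, hc⟩ := isConj_iff.1 hc.symm
        rw [← hc, conj_pow, h.pow_three, mul_one, mul_inv_cancel]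
      have hy : (g * φ q * g⁻¹) ^ 3 = 1 := by rw [conj_pow, h.pow_three, mul_one, mul_inv_cancel]
      rcases ThreeTriangle.triangle T h.comm h.cen (h.pow_three p) hy hz with hcm | ⟨h1, h2⟩
      · obtain ⟨s, hs⟩ := (h.mem _).1
          (h.cen _ ((h.mem _).2 ⟨p, rfl⟩) (h.map_ne_one hp) _ hcm.eq.symm)
        refine ⟨s, Finset.mem_filter.2 ⟨Finset.mem_univ _, (h.fus _ _).1 ?_, (h.fus _ _).1 ?_⟩, hs.symm⟩
        · rw [hs]; exact isConj_iff.2 ⟨g, rfl⟩
        · rw [h.add, hs]; exact hc.symm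
      · refine absurd ⟨(h.fus _ _).1 ?_, (h.fus _ _).1 ?_⟩ hex
        · exact (isConj_iff.2 ⟨g, rfl⟩ : IsConj (φ q) (g * φ q * g⁻¹)).trans h1
        · rw [h.map_neg]; exact hc.symm.trans h2
    · rintro ⟨s, hs, e⟩
      rw [e, ← h.add]
      exact ((h.fus _ _).2 (Finset.mem_filter.1 hs).2.2).symm
  have hsurj : ∀ s : F, ∃ c : G, c * φ q * c⁻¹ = φ s.1 := fun s =>
    isConj_iff.1 ((h.fus _ _).2 (Finset.mem_filter.1 s.2).2.1)
  choose c hc using hsurj
  let C := Subgroup.centralizer ({φ q} : Set G)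
  let e : F × C ≃ {g : G // IsConj (φ p * (g * φ q * g⁻¹)) (φ r)} := Equiv.ofBijective
    (fun w => ⟨c w.1 * (w.2 : G), (key _).2 ⟨w.1, w.1.2, by
      rw [show c w.1 * (w.2 : G) * φ q * (c w.1 * (w.2 : G))⁻¹ =
        c w.1 * ((w.2 : G) * φ q * (w.2 : G)⁻¹) * (c w.1)⁻¹ by group,
        Subgroup.mem_centralizer_singleton_iff.1 w.2.2, mul_inv_cancel_right, hc]⟩⟩)
    ⟨fun w w' e => by
      have e' : c w.1 * (w.2 : G) = c w'.1 * (w'.2 : G) := congrArg Subtype.val e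
      have hval : ∀ u : F × C, c u.1 * (u.2 : G) * φ q * (c u.1 * (u.2 : G))⁻¹ = φ u.1.1 := fun u => by
        rw [show c u.1 * (u.2 : G) * φ q * (c u.1 * (u.2 : G))⁻¹ =
          c u.1 * ((u.2 : G) * φ q * (u.2 : G)⁻¹) * (c u.1)⁻¹ by group,
          Subgroup.mem_centralizer_singleton_iff.1 u.2.2, mul_inv_cancel_right, hc]
      have h1 : w.1 = w'.1 := Subtype.ext (h.inj (by rw [← hval w, ← hval w', e']))
      rw [h1] at e'
      exact Prod.ext h1 (Subtype.ext (mul_left_cancel e')), fun g => by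
      obtain ⟨s, hs, e⟩ := (key g.1).1 g.2
      refine ⟨(⟨s, hs⟩, ⟨(c ⟨s, hs⟩)⁻¹ * g.1, Subgroup.mem_centralizer_singleton_iff.2 ?_⟩),
        Subtype.ext (mul_inv_cancel_left _ _)⟩
      have e2 : g.1 * φ q * g.1⁻¹ = c ⟨s, hs⟩ * φ q * (c ⟨s, hs⟩)⁻¹ := e.trans (hc ⟨s, hs⟩).symm
      calc (c ⟨s, hs⟩)⁻¹ * g.1 * φ q = (c ⟨s, hs⟩)⁻¹ * (g.1 * φ q * g.1⁻¹) * g.1 := by group
        _ = φ q * ((c ⟨s, hs⟩)⁻¹ * g.1) := by rw [e2]; group⟩
  rw [← Nat.card_congr e, Nat.card_prod, h.card_centralizer hq, Nat.card_eq_fintype_card,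
    Fintype.card_coe, mul_comm]

/-- The integral values. -/
theorem exists_values (h : Coord T φ rel) [Fintype (IrrCharacter G)] :
    ∃ X : ZMod 3 × ZMod 3 → IrrCharacter G → ℤ,
      (∀ p (χ : IrrCharacter G), (X p χ : ℂ) = (χ : G → ℂ) (φ p)) ∧
      (∀ p (χ : IrrCharacter G), (3 : ℤ) ∣ (charDegree (χ : G → ℂ) : ℤ) - X p χ) ∧
      (∀ χ, (9 : ℤ) ∣ ∑ p, X p χ) ∧
      (∀ p χ, X (-p) χ = X p χ) ∧
      (∀ p q, p ≠ 0 → ∑ χ, X p χ * X q χ = if rel p q = true then 9 else 0) ∧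
      (∀ p, p ≠ 0 → ∑ χ : IrrCharacter G, (charDegree (χ : G → ℂ) : ℤ) * X p χ = 0) ∧
      ∀ p q r, p ≠ 0 → q ≠ 0 → r ≠ 0 → ¬ (rel q p = true ∧ rel r (-p) = true) →
        ∑ χ : IrrCharacter G,
          ((X p χ * X q χ * X r χ : ℤ) : ℚ) / (charDegree (χ : G → ℂ) : ℚ) =
          81 * ((Finset.univ.filter fun s => rel q s = true ∧ rel r (p + s) = true).card : ℚ) /
            (Nat.card G : ℚ) := by
  classical
  have := Fintype.ofFinite G
  obtain ⟨ω, hω⟩ : ∃ ω : ℂ, IsPrimitiveRoot ω 3 :=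
    ⟨_, Complex.isPrimitiveRoot_exp 3 (by norm_num)⟩
  have hω0 : 1 + ω + ω ^ 2 = 0 := by
    refine mul_left_cancel₀ (sub_ne_zero.2 (hω.ne_one (by norm_num))) ?_
    rw [mul_zero]
    linear_combination hω.pow_eq_one
  have hconj : ∀ p, IsConj (φ p) (φ p)⁻¹ := fun p => h.map_neg p ▸ (h.fus _ _).2 (h.real p)
  have hex : ∀ p (χ : IrrCharacter G), ∃ z : ℤ, (z : ℂ) = (χ : G → ℂ) (φ p) ∧
      (3 : ℤ) ∣ (charDegree (χ : G → ℂ) : ℤ) - z := by
    intro p χ
    obtain ⟨z₁, h₁⟩ := PrincipalPairs.exists_int_avg (χ := χ) (t := (1 : G)) (x := φ p) (mul_one 1)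
      (Commute.one_left _) (n := 3) (by norm_num) (h.pow_three p) (u := 1) (one_pow 3)
    obtain ⟨z₂, h₂⟩ := PrincipalPairs.exists_int_avg (χ := χ) (t := (1 : G)) (x := φ p) (mul_one 1)
      (Commute.one_left _) (n := 3) (by norm_num) (h.pow_three p) (u := ω) hω.pow_eq_one
    have hsq : φ p ^ 2 = (φ p)⁻¹ := eq_inv_of_mul_eq_one_left (by rw [← pow_succ, h.pow_three])
    have e2 : (χ : G → ℂ) (φ p ^ 2) = (χ : G → ℂ) (φ p) := by
      obtain ⟨c, hc⟩ := isConj_iff.1 (hconj p)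
      rw [hsq, ← hc, Char.IsIrr.isClassFunction χ.2]
    simp only [Finset.sum_range_succ, Finset.sum_range_zero, zero_add, one_mul, pow_zero, pow_one,
      e2, one_pow] at h₁ h₂
    have hdc := CharDegree.cast_irrDegree χ
    push_cast at h₁ h₂
    refine ⟨z₁ - z₂, ?_, ⟨z₂, ?_⟩⟩
    · push_cast
      linear_combination -h₁ + h₂ - (χ : G → ℂ) (φ p) / 3 * hω0
    · have : (((charDegree (χ : G → ℂ) : ℤ) - (z₁ - z₂) : ℤ) : ℂ) = ((3 * z₂ : ℤ) : ℂ) := by
        push_cast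
        linear_combination hdc + h₁ + 2 * h₂ - 2 * (χ : G → ℂ) (φ p) / 3 * hω0
      exact_mod_cast this
  choose X hX hX3 using hex
  have hcol : ∀ p (w : G) (F : IrrCharacter G → ℤ), (∀ χ, (F χ : ℂ) = (χ : G → ℂ) w) → p ≠ 0 →
      ∑ χ, ((X p χ * F χ : ℤ) : ℂ) = if IsConj (φ p) w then (9 : ℂ) else 0 := by
    intro p w F hF hp
    have e := Char.column_orthogonality (φ p) w
    rw [h.card_centralizer hp] at e
    rw [show (∑ χ, ((X p χ * F χ : ℤ) : ℂ)) =
      ∑ χ : IrrCharacter G, (χ : G → ℂ) (φ p) * conj ((χ : G → ℂ) w) from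
        Finset.sum_congr rfl fun χ _ => by rw [← hF, map_intCast, ← hX, Int.cast_mul], e]
    split_ifs <;> norm_num
  refine ⟨X, hX, hX3, fun χ => ?_, fun p χ => ?_, fun p q hp => ?_, fun p hp => ?_,
    fun p q r hp hq hr hpqr => ?_⟩
  · have := Fintype.ofFinite (T : Subgroup G)
    obtain ⟨n, hn⟩ := Char.IsChar.classInner_eq_natCast
      (Char.IsChar.restrict (T : Subgroup G) (Char.IsIrr.isCharacter χ.2))
      (Char.isCharacter_one (G := (T : Subgroup G)))
    refine ⟨n, ?_⟩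
    let e : ZMod 3 × ZMod 3 ≃ (T : Subgroup G) := Equiv.ofBijective
      (fun q => (⟨φ q, (h.mem _).2 ⟨q, rfl⟩⟩ : (T : Subgroup G)))
      ⟨fun q q' e => h.inj (congrArg Subtype.val e), fun g => by
        obtain ⟨q, hq⟩ := (h.mem g.1).1 g.2; exact ⟨q, Subtype.ext hq⟩⟩
    have hcard : Nat.card (T : Subgroup G) = 9 := by
      rw [← Nat.card_congr e, Nat.card_prod, Nat.card_zmod]
    rw [Cfsg.classInner, hcard, ← Equiv.sum_comp e] at hn
    simp only [map_one, mul_one] at hn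
    have : ((∑ p, X p χ : ℤ) : ℂ) = ((9 * (n : ℤ) : ℤ) : ℂ) := by
      push_cast
      rw [← hn, show (∑ p, (X p χ : ℂ)) = ∑ i, (χ : G → ℂ) ((e i : (T : Subgroup G)) : G) from
        Finset.sum_congr rfl fun p _ => hX p χ]
      ring
    exact_mod_cast this
  · have : (X (-p) χ : ℂ) = (X p χ : ℂ) := by
      obtain ⟨c, hc⟩ := isConj_iff.1 (hconj p)
      rw [hX, hX, h.map_neg, ← hc, Char.IsIrr.isClassFunction χ.2]
    exact_mod_cast this
  · have e := hcol p (φ q) (X q) (hX q) hp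
    rw [← Int.cast_sum] at e
    by_cases hr : rel p q = true
    · rw [if_pos ((h.fus _ _).2 hr)] at e
      rw [if_pos hr]
      exact_mod_cast e
    · rw [if_neg (fun e' => hr ((h.fus _ _).1 e'))] at e
      rw [if_neg hr]
      exact_mod_cast e
  · have e := hcol p 1 (fun χ => (charDegree (χ : G → ℂ) : ℤ))
      (fun χ => by rw [Int.cast_natCast, CharDegree.cast_irrDegree]) hp
    rw [if_neg fun e' => h.map_ne_one hp (isConj_one_left.1 e'), ← Int.cast_sum] at e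
    have e' : ∑ χ : IrrCharacter G, X p χ * (charDegree (χ : G → ℂ) : ℤ) = 0 := by exact_mod_cast e
    rw [← e']
    exact Finset.sum_congr rfl fun χ _ => mul_comm _ _
  · have hG : (Nat.card G : ℂ) ≠ 0 := Nat.cast_ne_zero.2 Nat.card_pos.ne'
    have hterm : ∀ χ : IrrCharacter G,
        ((X p χ * X q χ * X r χ : ℤ) : ℂ) / (charDegree (χ : G → ℂ) : ℂ) = (Nat.card G : ℂ)⁻¹ *
          ∑ g : G, (χ : G → ℂ) (φ p * (g * φ q * g⁻¹)) * conj ((χ : G → ℂ) (φ r)) := by
      intro χ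
      have h1 := CharAction.apply_mul_apply χ.2 (φ p) (φ q)
      have h3 := Char.IsIrr.apply_one_ne_zero χ.2
      rw [CharDegree.cast_irrDegree, ← Finset.sum_mul, ← hX r, map_intCast]
      push_cast
      rw [hX p, hX q]
      field_simp
      linear_combination (X r χ : ℂ) * h1
    have hinner : ∀ w : G, ∑ χ : IrrCharacter G, (χ : G → ℂ) w * conj ((χ : G → ℂ) (φ r)) =
        if IsConj w (φ r) then 9 else 0 := by
      intro w
      have e := congrArg conj (Char.column_orthogonality (φ r) w)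
      rw [map_sum] at e
      simp only [map_mul, Complex.conj_conj, h.card_centralizer hr] at e
      rw [show (∑ χ : IrrCharacter G, (χ : G → ℂ) w * conj ((χ : G → ℂ) (φ r))) =
        ∑ χ : IrrCharacter G, conj ((χ : G → ℂ) (φ r)) * (χ : G → ℂ) w from
          Finset.sum_congr rfl fun χ _ => mul_comm _ _, e]
      by_cases hw : IsConj w (φ r)
      · rw [if_pos hw, if_pos hw.symm, Complex.conj_natCast]; norm_num
      · rw [if_neg hw, if_neg fun e => hw e.symm]; simp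
    have hsum : ∑ χ : IrrCharacter G, ((X p χ * X q χ * X r χ : ℤ) : ℂ) / (charDegree (χ : G → ℂ) : ℂ) =
        81 * ((Finset.univ.filter fun s => rel q s = true ∧ rel r (p + s) = true).card : ℂ) /
          (Nat.card G : ℂ) := by
      rw [Finset.sum_congr rfl fun χ _ => hterm χ, ← Finset.mul_sum, Finset.sum_comm]
      simp only [hinner]
      rw [← Finset.sum_filter, Finset.sum_const, ← Fintype.card_subtype, ← Nat.card_eq_fintype_card,
        h.card_conj_to hp hq hpqr, nsmul_eq_mul]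
      push_cast
      ring
    refine (Rat.cast_injective (α := ℂ)) ?_
    rw [Rat.cast_sum]
    simp only [Rat.cast_div, Rat.cast_intCast, Rat.cast_mul, Rat.cast_natCast, Rat.cast_ofNat]
    exact hsum

end CfsgLib.Classical.SylowNine
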