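import Cfsg.Agent.Lib.Classical.SylowNineData
import Cfsg.Agent.Lib.Classical.SylowNineArith
import Cfsg.Agent.Lib.Perm.SylowNormalizer
import Cfsg.Agent.Lib.Perm.SimpleCount
import Cfsg.Agent.S0496
import Cfsg.Agent.Lib.TwoGroups.OrderThreeSixty
import Mathlib.GroupTheory.Transfer

/-!
# Recognition of `A₆` by self-centralizing elements of order three

`alt_six`: a simple group with an elementary abelian Sylow 3-subgroup of order 9 which is the
centralizer of each of its non-identity elements, and with two classes of elements of order 3, is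
`A₆`.
-/

set_option autoImplicit false

namespace CfsgLib.Classical.SylowNineRecog

open Cfsg CfsgLib CfsgLib.Classical.SylowNine

/-- Fusion by inversion. -/
def relTwo (p q : ZMod 3 × ZMod 3) : Bool := decide (q = p ∨ q = -p)

/-- Fusion by a fixed-point-free automorphism of order four. -/
def relFour (p q : ZMod 3 × ZMod 3) : Bool :=
  decide (q = p ∨ q = -p ∨ q = (-p.2, p.1) ∨ q = (p.2, -p.1))

variable {G : Type*} [Group G] [Finite G]

/-- The centralizer condition, and its consequences. -/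
structure Hyp (T : Sylow 3 G) : Prop where
  comm : ∀ a ∈ (T : Subgroup G), ∀ b ∈ (T : Subgroup G), a * b = b * a
  three : ∀ a ∈ (T : Subgroup G), a ^ 3 = 1
  card : Nat.card (T : Subgroup G) = 9
  cen : ∀ a ∈ (T : Subgroup G), a ≠ 1 → ∀ g : G, g * a = a * g → g ∈ (T : Subgroup G)

variable {T : Sylow 3 G} (h : Hyp T)
include h

theorem conj_mem {n a : G} (hn : n ∈ Subgroup.normalizer ((T : Subgroup G) : Set G))
    (ha : a ∈ (T : Subgroup G)) : n * a * n⁻¹ ∈ (T : Subgroup G) :=
  (Subgroup.mem_normalizer_iff.1 hn a).1 ha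

/-- Elements normalizing `T` and fixing a non-identity element lie in `T`. -/
theorem mem_of_fix {n a : G} (ha : a ∈ (T : Subgroup G)) (ha1 : a ≠ 1) (e : n * a * n⁻¹ = a) :
    n ∈ (T : Subgroup G) :=
  h.cen a ha ha1 n (mul_inv_eq_iff_eq_mul.1 e)

/-- Conjugation inside `T` is by elements of the normalizer. -/
theorem mem_normalizer_of_conj {g a : G} (ha : a ∈ (T : Subgroup G)) (ha1 : a ≠ 1)
    (hga : g * a * g⁻¹ ∈ (T : Subgroup G)) :
    g ∈ Subgroup.normalizer ((T : Subgroup G) : Set G) := by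
  have hne : g * a * g⁻¹ ≠ 1 := fun e => ha1 (conj_eq_one_iff.1 e)
  have hmap : ∀ s ∈ (T : Subgroup G), g * s * g⁻¹ ∈ (T : Subgroup G) := fun s hs => by
    refine h.cen _ hga hne _ ?_
    calc g * s * g⁻¹ * (g * a * g⁻¹) = g * (s * a) * g⁻¹ := by group
      _ = g * (a * s) * g⁻¹ := by rw [h.comm s hs a ha]
      _ = g * a * g⁻¹ * (g * s * g⁻¹) := by group
  have heq : (T : Subgroup G).map (MulAut.conj g).toMonoidHom = (T : Subgroup G) := by
    refine Subgroup.eq_of_le_of_card_ge ?_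
      (Subgroup.card_map_of_injective (MulAut.conj g).injective).ge
    rintro _ ⟨s, hs, rfl⟩
    exact hmap s hs
  refine Subgroup.mem_normalizer_iff.2 fun e => ⟨hmap e, fun he => ?_⟩
  have he' : g * e * g⁻¹ ∈ (T : Subgroup G).map (MulAut.conj g).toMonoidHom := by rwa [heq]
  obtain ⟨e', he'', hee⟩ := he'
  have : e' = e := (MulAut.conj g).injective hee
  exact this ▸ he''

omit [Finite G] h in
/-- The conjugates of `a` under the normalizer. -/
theorem orbit_nonempty (a : G) :
    a ∈ {y : G | ∃ n ∈ Subgroup.normalizer ((T : Subgroup G) : Set G), n * a * n⁻¹ = y} :=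
  ⟨1, one_mem _, by group⟩

/-- Orbits of the normalizer on `T ∖ 1` have the same length. -/
theorem card_normalizer {a : G} (ha : a ∈ (T : Subgroup G)) (ha1 : a ≠ 1) :
    Nat.card (Subgroup.normalizer ((T : Subgroup G) : Set G)) =
      9 * {y : G | ∃ n ∈ Subgroup.normalizer ((T : Subgroup G) : Set G), n * a * n⁻¹ = y}.ncard := by
  set O := {y : G | ∃ n ∈ Subgroup.normalizer ((T : Subgroup G) : Set G), n * a * n⁻¹ = y}
  have hch : ∀ y : O, ∃ n ∈ Subgroup.normalizer ((T : Subgroup G) : Set G), n * a * n⁻¹ = y.1 :=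
    fun y => y.2
  choose c hcN hc using hch
  have hTN : (T : Subgroup G) ≤ Subgroup.normalizer ((T : Subgroup G) : Set G) :=
    Subgroup.le_normalizer
  let e : O × (T : Subgroup G) ≃ Subgroup.normalizer ((T : Subgroup G) : Set G) := Equiv.ofBijective
    (fun w => ⟨c w.1 * (w.2 : G), mul_mem (hcN _) (hTN w.2.2)⟩)
    ⟨fun w w' e => by
      have e' : c w.1 * (w.2 : G) = c w'.1 * (w'.2 : G) := congrArg Subtype.val e
      have hval : ∀ u : O × (T : Subgroup G),
          c u.1 * (u.2 : G) * a * (c u.1 * (u.2 : G))⁻¹ = u.1.1 := fun u => by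
        rw [show c u.1 * (u.2 : G) * a * (c u.1 * (u.2 : G))⁻¹ =
          c u.1 * ((u.2 : G) * a * (u.2 : G)⁻¹) * (c u.1)⁻¹ by group,
          h.comm _ u.2.2 a ha, mul_inv_cancel_right, hc]
      have h1 : w.1 = w'.1 := Subtype.ext (by rw [← hval w, ← hval w', e'])
      rw [h1] at e'
      exact Prod.ext h1 (Subtype.ext (mul_left_cancel e')), fun n => by
      have hy : (n : G) * a * (n : G)⁻¹ ∈ O := ⟨n, n.2, rfl⟩
      refine ⟨(⟨_, hy⟩, ⟨(c ⟨_, hy⟩)⁻¹ * n, mem_of_fix h ha ha1 ?_⟩),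
        Subtype.ext (mul_inv_cancel_left _ _)⟩
      have := hc ⟨_, hy⟩
      calc (c ⟨_, hy⟩)⁻¹ * (n : G) * a * ((c ⟨_, hy⟩)⁻¹ * (n : G))⁻¹
          = (c ⟨_, hy⟩)⁻¹ * ((n : G) * a * (n : G)⁻¹) * c ⟨_, hy⟩ := by group
        _ = (c ⟨_, hy⟩)⁻¹ * (c ⟨_, hy⟩ * a * (c ⟨_, hy⟩)⁻¹) * c ⟨_, hy⟩ := by rw [this]
        _ = a := by group⟩
  rw [← Nat.card_congr e, Nat.card_prod, h.card, Nat.card_coe_set_eq, mul_comm]

/-- Elements outside `T` whose square lies in `T` invert `T`. -/
theorem inverts {k : G} (hk : k ∈ Subgroup.normalizer ((T : Subgroup G) : Set G))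
    (hk2 : k * k ∈ (T : Subgroup G)) (hkT : k ∉ (T : Subgroup G)) {a : G} (ha : a ∈ (T : Subgroup G)) :
    k * a * k⁻¹ = a⁻¹ := by
  have ha' := conj_mem h hk ha
  have hkk : k * (k * a * k⁻¹) * k⁻¹ = a := by
    rw [show k * (k * a * k⁻¹) * k⁻¹ = (k * k) * a * (k * k)⁻¹ by group, h.comm _ hk2 a ha,
      mul_inv_cancel_right]
  have hfix : k * (a * (k * a * k⁻¹)) * k⁻¹ = a * (k * a * k⁻¹) := by
    rw [show k * (a * (k * a * k⁻¹)) * k⁻¹ = (k * a * k⁻¹) * (k * (k * a * k⁻¹) * k⁻¹) by group,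
      hkk, h.comm _ ha' a ha]
  by_contra hne
  refine hkT (mem_of_fix h (mul_mem ha ha') (fun e => hne ?_) hfix)
  exact eq_inv_of_mul_eq_one_right e

/-- The coordinates attached to two independent elements. -/
theorem exists_coord {a b : G} (ha : a ∈ (T : Subgroup G)) (hb : b ∈ (T : Subgroup G))
    (ha1 : a ≠ 1) (hb1 : b ∉ ({1, a, a⁻¹} : Set G)) :
    ∃ φ : ZMod 3 × ZMod 3 → G, Function.Injective φ ∧
      (∀ g, g ∈ (T : Subgroup G) ↔ ∃ p, φ p = g) ∧ (∀ p q, φ (p + q) = φ p * φ q) ∧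
      (∀ p, φ p = a ^ p.1.val * b ^ p.2.val) := by
  set φ : ZMod 3 × ZMod 3 → G := fun p => a ^ p.1.val * b ^ p.2.val with hφ
  have hpow : ∀ (g : G), g ^ 3 = 1 → ∀ i j : ℕ, g ^ ((i + j) % 3) = g ^ i * g ^ j := fun g hg i j => by
    rw [← pow_add]
    conv_rhs => rw [← Nat.mod_add_div (i + j) 3, pow_add, pow_mul, hg, one_pow, mul_one]
  have hadd : ∀ p q, φ (p + q) = φ p * φ q := fun p q => by
    simp only [hφ, Prod.fst_add, Prod.snd_add, ZMod.val_add]
    rw [hpow a (h.three a ha), hpow b (h.three b hb)]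
    have hc : Commute (a ^ q.1.val) (b ^ p.2.val) := (show Commute a b from h.comm a ha b hb).pow_pow _ _
    calc a ^ p.1.val * a ^ q.1.val * (b ^ p.2.val * b ^ q.2.val)
        = a ^ p.1.val * (a ^ q.1.val * b ^ p.2.val) * b ^ q.2.val := by group
      _ = a ^ p.1.val * (b ^ p.2.val * a ^ q.1.val) * b ^ q.2.val := by rw [hc.eq]
      _ = _ := by group
  simp only [Set.mem_insert_iff, Set.mem_singleton_iff, not_or] at hb1
  have hker : ∀ p, φ p = 1 → p = 0 := by
    rintro ⟨i, j⟩ hp
    simp only [hφ] at hp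
    have ha2 : a ^ 2 = a⁻¹ := eq_inv_of_mul_eq_one_left (by rw [← pow_succ, h.three a ha])
    have hb2 : b ^ 2 = b⁻¹ := eq_inv_of_mul_eq_one_left (by rw [← pow_succ, h.three b hb])
    have hai : a⁻¹ ≠ 1 := inv_ne_one.2 ha1
    have hi : i.val < 3 := ZMod.val_lt i
    have hj : j.val < 3 := ZMod.val_lt j
    suffices hij : i.val = 0 ∧ j.val = 0 by
      exact Prod.ext ((ZMod.val_eq_zero i).1 hij.1) ((ZMod.val_eq_zero j).1 hij.2)
    generalize i.val = i' at hi hp
    generalize j.val = j' at hj hp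
    interval_cases i' <;> interval_cases j' <;>
      simp only [pow_zero, pow_one, one_mul, mul_one, ha2, hb2, and_self, true_and, and_true] at hp ⊢
    · exact absurd hp hb1.1
    · exact absurd (inv_eq_one.1 hp) hb1.1
    · exact absurd hp ha1
    · exact absurd (eq_inv_of_mul_eq_one_right hp) hb1.2.2
    · exact absurd (mul_inv_eq_one.1 hp).symm hb1.2.1
    · exact absurd hp hai
    · exact absurd (inv_mul_eq_one.1 hp).symm hb1.2.1
    · exact absurd (eq_inv_of_mul_eq_one_left (by rw [← mul_inv_rev] at hp; exact inv_eq_one.1 hp)) hb1.2.2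
  have hinj : Function.Injective φ := fun p q e => by
    have e' : φ (p - q) * φ q = φ p := by rw [← hadd, sub_add_cancel]
    rw [e, mul_eq_right] at e'
    exact sub_eq_zero.1 (hker _ e')
  refine ⟨φ, hinj, fun g => ⟨fun hg => ?_, fun ⟨p, hp⟩ => hp ▸ ?_⟩, hadd, fun p => rfl⟩
  · have hbij : Function.Bijective (fun p =>
        (⟨φ p, mul_mem (pow_mem ha _) (pow_mem hb _)⟩ : (T : Subgroup G))) := by
      have hi : Function.Injective (fun p =>
          (⟨φ p, mul_mem (pow_mem ha _) (pow_mem hb _)⟩ : (T : Subgroup G))) :=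
        fun p q e => hinj (congrArg Subtype.val e)
      refine hi.bijective_of_nat_card_le ?_
      rw [h.card, Nat.card_prod, Nat.card_zmod]
    obtain ⟨p, hp⟩ := hbij.2 ⟨g, hg⟩
    exact ⟨p, congrArg Subtype.val hp⟩
  · exact mul_mem (pow_mem ha _) (pow_mem hb _)

variable [IsSimpleGroup G]

omit [IsSimpleGroup G] in
theorem mk_coord {φ : ZMod 3 × ZMod 3 → G} {rel : ZMod 3 × ZMod 3 → ZMod 3 × ZMod 3 → Bool}
    (hinj : Function.Injective φ) (hmem : ∀ g, g ∈ (T : Subgroup G) ↔ ∃ p, φ p = g)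
    (hadd : ∀ p q, φ (p + q) = φ p * φ q) (hzero : ∀ q, rel 0 q = decide (q = 0))
    (hrel : ∀ p, rel p (-p) = true)
    (hsuff : ∀ p q, rel p q = true → IsConj (φ p) (φ q))
    (hnec : ∀ p n, p ≠ 0 → n ∈ Subgroup.normalizer ((T : Subgroup G) : Set G) →
      ∃ q, rel p q = true ∧ n * φ p * n⁻¹ = φ q) : Coord T φ rel := by
  refine ⟨hinj, hmem, hadd, h.cen, fun p q => ⟨fun hc => ?_, hsuff p q⟩, hrel⟩
  obtain ⟨g, hg⟩ := isConj_iff.1 hc
  have h0 : φ 0 = 1 := by
    have e := hadd 0 0; rw [add_zero] at e; exact mul_eq_left.1 e.symm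
  by_cases hp : p = 0
  · rw [hp, h0, mul_one, mul_inv_cancel, ← h0] at hg
    rw [hp, hzero, ← hinj hg]
    rfl
  · obtain ⟨q', hq', e⟩ := hnec p g hp (mem_normalizer_of_conj h ((hmem _).2 ⟨p, rfl⟩)
      (fun e => hp (hinj (e.trans h0.symm))) (hg ▸ (hmem _).2 ⟨q, rfl⟩))
    rwa [hinj (e.symm.trans hg)] at hq'

theorem not_comm : ¬ IsMulCommutative G :=
  CfsgLib.Perm.not_comm_of_not_prime fun hp => by
    have h9 : Nat.card (T : Subgroup G) ∣ Nat.card G := Subgroup.card_subgroup_dvd_card _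
    rw [h.card] at h9
    have := (Nat.Prime.eq_one_or_self_of_dvd hp 9 h9).resolve_left (by norm_num)
    rw [← this] at hp
    norm_num at hp

theorem card_cases (hle : Nat.card G ≤ 1092) : Nat.card G = 360 ∨ Nat.card G = 504 := by
  have h9 : Nat.card (T : Subgroup G) ∣ Nat.card G := Subgroup.card_subgroup_dvd_card _
  rw [h.card] at h9
  have h27 : ¬ 27 ∣ Nat.card G := fun h27 => by
    have e := T.card_eq_multiplicity
    rw [show Nat.card (T : Subgroup G) = 9 from h.card] at e
    have h3 : 3 ≤ (Nat.card G).factorization 3 :=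
      (Nat.Prime.pow_dvd_iff_le_factorization Nat.prime_three Nat.card_pos.ne').1 (by norm_num; exact h27)
    have : 3 ^ 3 ≤ 3 ^ (Nat.card G).factorization 3 := Nat.pow_le_pow_right (by norm_num) h3
    omega
  rcases Cfsg.Agent.S0496.result (not_comm h) hle with e | e | e | e | e | e <;>
    rw [e] at h9 h27 ⊢ <;> first | omega | norm_num at h9 h27

theorem two_contra (hN : Nat.card (Subgroup.normalizer ((T : Subgroup G) : Set G)) = 18) : False := by
  classical
  have := Fintype.ofFinite G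
  obtain ⟨⟨k, hk⟩, hk2⟩ := exists_prime_orderOf_dvd_card'
    (G := Subgroup.normalizer ((T : Subgroup G) : Set G)) 2 (by rw [hN]; norm_num)
  rw [Subgroup.orderOf_mk] at hk2
  have hkT : k ∉ (T : Subgroup G) := fun hm => by
    have := orderOf_dvd_of_pow_eq_one (h.three k hm)
    rw [hk2] at this
    norm_num at this
  have hinv : ∀ a ∈ (T : Subgroup G), k * a * k⁻¹ = a⁻¹ := fun a ha => inverts h hk
    (by rw [← pow_two, ← hk2, pow_orderOf_eq_one]; exact one_mem _) hkT ha
  obtain ⟨a, ha, ha1⟩ : ∃ a ∈ (T : Subgroup G), a ≠ 1 := by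
    by_contra hcon
    push Not at hcon
    have e : (T : Subgroup G) = ⊥ := (Subgroup.eq_bot_iff_forall _).2 hcon
    have := h.card
    rw [e, Subgroup.card_bot] at this
    omega
  obtain ⟨b, hb, hb1⟩ : ∃ b ∈ (T : Subgroup G), b ∉ ({1, a, a⁻¹} : Set G) := by
    by_contra hcon
    push Not at hcon
    have h1 : ((T : Subgroup G) : Set G).ncard ≤ ({1, a, a⁻¹} : Set G).ncard :=
      Set.ncard_le_ncard (fun x hx => hcon x hx)
    have h2 : ({1, a, a⁻¹} : Set G).ncard ≤ 3 :=
      (Set.ncard_insert_le _ _).trans (Nat.succ_le_succ ((Set.ncard_insert_le _ _).trans (by simp)))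
    rw [← Nat.card_coe_set_eq] at h1
    have := h.card
    simp only [SetLike.coe_sort_coe] at h1
    omega
  obtain ⟨φ, hinj, hmem, hadd, -⟩ := exists_coord h ha hb ha1 hb1
  have h0 : φ 0 = 1 := by
    have e := hadd 0 0; rw [add_zero] at e; exact mul_eq_left.1 e.symm
  have hneg : ∀ p, φ (-p) = (φ p)⁻¹ := fun p =>
    eq_inv_of_mul_eq_one_left (by rw [← hadd, neg_add_cancel, h0])
  have hsuff : ∀ p q, relTwo p q = true → IsConj (φ p) (φ q) := by
    intro p q hpq
    simp only [relTwo, decide_eq_true_eq] at hpq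
    rcases hpq with rfl | rfl
    · exact IsConj.refl _
    · exact isConj_iff.2 ⟨k, by rw [hinv _ ((hmem _).2 ⟨p, rfl⟩), hneg]⟩
  have hC : Coord T φ relTwo := by
    refine mk_coord h hinj hmem hadd (fun q => by simp [relTwo]) (fun p => by simp [relTwo]) hsuff
      fun p n hp hn => ?_
    have hm : φ p ∈ (T : Subgroup G) := (hmem _).2 ⟨p, rfl⟩
    have hp1 : φ p ≠ 1 := fun e => hp (hinj (e.trans h0.symm))
    set O := {y : G | ∃ n ∈ Subgroup.normalizer ((T : Subgroup G) : Set G), n * φ p * n⁻¹ = y}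
    have hO : O.ncard = 2 := by
      have := card_normalizer h hm hp1
      rw [hN] at this
      change 18 = 9 * O.ncard at this
      omega
    have hsub : ({φ p, φ (-p)} : Set G) ⊆ O := by
      intro y hy
      rcases hy with rfl | rfl
      · exact orbit_nonempty _
      · exact ⟨k, hk, by rw [hinv _ hm, hneg]⟩
    have heq : ({φ p, φ (-p)} : Set G) = O := by
      refine Set.eq_of_subset_of_ncard_le hsub ?_
      rw [hO, Set.ncard_pair fun e =>
        hp ((by decide : ∀ q : ZMod 3 × ZMod 3, q = -q → q = 0) p (hinj e))]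
    rcases (heq.symm ▸ ⟨n, hn, rfl⟩ : n * φ p * n⁻¹ ∈ ({φ p, φ (-p)} : Set G)) with e | e
    · exact ⟨p, by simp [relTwo], e⟩
    · exact ⟨-p, by simp [relTwo], e⟩
  have := Fintype.ofFinite (IrrCharacter G)
  obtain ⟨X, hX, hX3, -, -, hgram, hdeg, htri⟩ := exists_values hC
  set o : IrrCharacter G := Char.trivChar G
  have hXo : ∀ p, X p o = 1 := fun p => by
    have e := hX p o; rw [Char.trivChar_apply] at e; exact_mod_cast e
  have hdo : (charDegree (o : G → ℂ) : ℤ) = 1 := by
    have e := CharDegree.cast_irrDegree o; rw [Char.trivChar_apply] at e; exact_mod_cast e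
  have hdd : ∑ χ : IrrCharacter G, (charDegree (χ : G → ℂ) : ℤ) * (charDegree (χ : G → ℂ) : ℤ) =
      (Nat.card G : ℤ) := by
    have : ((∑ χ : IrrCharacter G, (charDegree (χ : G → ℂ) : ℤ) * (charDegree (χ : G → ℂ) : ℤ) : ℤ) : ℂ) =
        ((Nat.card G : ℤ) : ℂ) := by
      push_cast
      rw [← Char.sum_sq_degree (G := G)]
      exact Finset.sum_congr rfl fun χ _ => by rw [CharDegree.cast_irrDegree, sq]
    exact_mod_cast this
  have hlt := SylowNineArith.card_le_of_two (fun χ : IrrCharacter G => (charDegree (χ : G → ℂ) : ℤ))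
    (X (1, 0)) (X (0, 1)) (X (1, 1)) o (Nat.card G) Nat.card_pos
    (fun χ => Int.natCast_pos.2 (CharDegree.charDegree_pos χ)) hdo (hXo _) (hXo _) hdd
    (fun χ => by
      have := Int.dvd_sub (hX3 (1, 1) χ) (hX3 (0, 1) χ)
      rwa [sub_sub_sub_cancel_left] at this)
    (by rw [hgram _ _ (by decide), if_pos (by decide)])
    (by rw [hgram _ _ (by decide), if_pos (by decide)])
    (by rw [hgram _ _ (by decide), if_neg (by decide)])
    (hdeg _ (by decide)) (hdeg _ (by decide))
    (by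
      simp only [Int.cast_natCast]
      rw [htri _ _ _ (by decide) (by decide) (by decide) (by decide),
        show (Finset.univ.filter fun s => relTwo (0, 1) s = true ∧
          relTwo (0, 1) ((1, 0) + s) = true).card = 0 by decide]
      simp)
    (by
      simp only [Int.cast_natCast]
      rw [htri _ _ _ (by decide) (by decide) (by decide) (by decide),
        show (Finset.univ.filter fun s => relTwo (1, 1) s = true ∧
          relTwo (1, 1) ((1, 0) + s) = true).card = 0 by decide]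
      simp)
    (by
      simp only [Int.cast_natCast]
      rw [htri _ _ _ (by decide) (by decide) (by decide) (by decide),
        show (Finset.univ.filter fun s => relTwo (0, 1) s = true ∧
          relTwo (1, 1) ((1, 0) + s) = true).card = 1 by decide]
      simp)
  rcases card_cases h (by omega) with e | e <;> omega

theorem four_iso (hN : Nat.card (Subgroup.normalizer ((T : Subgroup G) : Set G)) = 36) :
    Nonempty (G ≃* alternatingGroup (Fin 6)) := by
  classical
  have := Fintype.ofFinite G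
  set N := Subgroup.normalizer ((T : Subgroup G) : Set G) with hNdef
  obtain ⟨a, ha, ha1⟩ : ∃ a ∈ (T : Subgroup G), a ≠ 1 := by
    by_contra hcon
    push Not at hcon
    have e : (T : Subgroup G) = ⊥ := (Subgroup.eq_bot_iff_forall _).2 hcon
    have := h.card
    rw [e, Subgroup.card_bot] at this
    omega
  set O := {y : G | ∃ n ∈ N, n * a * n⁻¹ = y}
  have hO : O.ncard = 4 := by
    have := card_normalizer h ha ha1
    rw [hN] at this
    change 36 = 9 * O.ncard at this
    omega
  obtain ⟨n, hn, hn1, hn2⟩ : ∃ n ∈ N, n * a * n⁻¹ ≠ a ∧ n * a * n⁻¹ ≠ a⁻¹ := by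
    by_contra hcon
    push Not at hcon
    have hsub : O ⊆ {a, a⁻¹} := by
      rintro y ⟨n, hn, rfl⟩
      by_cases e : n * a * n⁻¹ = a
      · exact Or.inl e
      · exact Or.inr (hcon n hn e)
    have h1 := Set.ncard_le_ncard hsub
    have h2 : ({a, a⁻¹} : Set G).ncard ≤ 2 := (Set.ncard_insert_le _ _).trans (by simp)
    omega
  have hTN : ((T : Subgroup G).subgroupOf N).Normal := Subgroup.normal_in_normalizer
  have hn4 : n ^ 4 ∈ (T : Subgroup G) := by
    have hidx : ((T : Subgroup G).subgroupOf N).index = 4 := by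
      have := ((T : Subgroup G).subgroupOf N).index_mul_card
      rw [Nat.card_congr (Subgroup.subgroupOfEquivOfLe Subgroup.le_normalizer).toEquiv, h.card, hN] at this
      omega
    have := ((T : Subgroup G).subgroupOf N).pow_index_mem ⟨n, hn⟩
    rw [hidx] at this
    exact this
  have hn2T : n * n ∉ (T : Subgroup G) := fun hm => hn2 (inverts h hn hm (fun hm' => hn1 (by
    rw [h.comm n hm' a ha, mul_inv_cancel_right])) ha)
  have hnn : ∀ c ∈ (T : Subgroup G), n * (n * c * n⁻¹) * n⁻¹ = c⁻¹ := fun c hc => by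
    rw [show n * (n * c * n⁻¹) * n⁻¹ = (n * n) * c * (n * n)⁻¹ by group]
    refine inverts h (mul_mem hn hn) ?_ hn2T hc
    rwa [show n * n * (n * n) = n ^ 4 by simp only [pow_succ, pow_zero, one_mul, mul_assoc]]
  set b := n * a * n⁻¹ with hbdef
  have hb : b ∈ (T : Subgroup G) := conj_mem h hn ha
  have hb1 : b ∉ ({1, a, a⁻¹} : Set G) := by
    simp only [Set.mem_insert_iff, Set.mem_singleton_iff, not_or]
    exact ⟨fun e => ha1 (conj_eq_one_iff.1 e), hn1, hn2⟩
  obtain ⟨φ, hinj, hmem, hadd, hφ⟩ := exists_coord h ha hb ha1 hb1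
  have h0 : φ 0 = 1 := by
    have e := hadd 0 0; rw [add_zero] at e; exact mul_eq_left.1 e.symm
  have hneg : ∀ p, φ (-p) = (φ p)⁻¹ := fun p =>
    eq_inv_of_mul_eq_one_left (by rw [← hadd, neg_add_cancel, h0])
  have hσ : ∀ p : ZMod 3 × ZMod 3, n * φ p * n⁻¹ = φ (-p.2, p.1) := by
    intro p
    have hna : n * b * n⁻¹ = a⁻¹ := hnn a ha
    have hp1 : n * φ p * n⁻¹ = b ^ p.1.val * (a⁻¹) ^ p.2.val := by
      rw [hφ, show n * (a ^ p.1.val * b ^ p.2.val) * n⁻¹ =
        n * a ^ p.1.val * n⁻¹ * (n * b ^ p.2.val * n⁻¹) by group, ← conj_pow, ← conj_pow, hna, hbdef]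
    have hq : φ (-p.2, p.1) = (a ^ p.2.val)⁻¹ * b ^ p.1.val := by
      rw [show ((-p.2, p.1) : ZMod 3 × ZMod 3) = -(p.2, (0 : ZMod 3)) + ((0 : ZMod 3), p.1) by simp,
        hadd, hneg, hφ, hφ]
      simp
    rw [hp1, hq, inv_pow, h.comm _ (inv_mem (pow_mem ha _)) _ (pow_mem hb _)]
  have hm : ∀ p, φ p ∈ (T : Subgroup G) := fun p => (hmem _).2 ⟨p, rfl⟩
  have hsuff : ∀ p q, relFour p q = true → IsConj (φ p) (φ q) := by
    intro p q hpq
    simp only [relFour, decide_eq_true_eq] at hpq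
    rcases hpq with rfl | rfl | rfl | rfl
    · exact IsConj.refl _
    · exact isConj_iff.2 ⟨n * n, by rw [show n * n * φ p * (n * n)⁻¹ = n * (n * φ p * n⁻¹) * n⁻¹ by group,
        hnn _ (hm p), hneg]⟩
    · exact isConj_iff.2 ⟨n, hσ p⟩
    · exact isConj_iff.2 ⟨n * n * n, by
        rw [show n * n * n * φ p * (n * n * n)⁻¹ = n * (n * (n * φ p * n⁻¹) * n⁻¹) * n⁻¹ by group,
          hnn _ (hm p), ← hneg, hσ]
        simp⟩
  have hC : Coord T φ relFour := by
    refine mk_coord h hinj hmem hadd (fun q => by revert q; decide)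
      (fun p => by simp [relFour]) hsuff fun p m hp hmN => ?_
    have hp1 : φ p ≠ 1 := fun e => hp (hinj (e.trans h0.symm))
    set O' := {y : G | ∃ n ∈ N, n * φ p * n⁻¹ = y}
    have hO' : O'.ncard = 4 := by
      have := card_normalizer h (hm p) hp1
      rw [hN] at this
      change 36 = 9 * O'.ncard at this
      omega
    set F := Finset.univ.filter fun q => relFour p q = true with hF
    have hF4 : F.card = 4 :=
      (by decide : ∀ r : ZMod 3 × ZMod 3, r ≠ 0 →
        (Finset.univ.filter fun q => relFour r q = true).card = 4) p hp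
    have hsub : φ '' (F : Set (ZMod 3 × ZMod 3)) ⊆ O' := by
      rintro _ ⟨q, hq, rfl⟩
      obtain ⟨g, hg⟩ := isConj_iff.1 (hsuff p q (Finset.mem_filter.1 hq).2)
      exact ⟨g, mem_normalizer_of_conj h (hm p) hp1 (hg ▸ hm q), hg⟩
    have heq : φ '' (F : Set (ZMod 3 × ZMod 3)) = O' := by
      refine Set.eq_of_subset_of_ncard_le hsub ?_
      rw [hO', Set.ncard_image_of_injective _ hinj, Set.ncard_coe_finset, hF4]
    obtain ⟨q, hq, e⟩ := (heq.symm ▸ ⟨m, hmN, rfl⟩ : m * φ p * m⁻¹ ∈ φ '' (F : Set (ZMod 3 × ZMod 3)))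
    exact ⟨q, (Finset.mem_filter.1 hq).2, e.symm⟩
  have := Fintype.ofFinite (IrrCharacter G)
  obtain ⟨X, hX, hX3, hX9, -, hgram, hdeg, htri⟩ := exists_values hC
  set o : IrrCharacter G := Char.trivChar G
  have hXo : ∀ p, X p o = 1 := fun p => by
    have e := hX p o; rw [Char.trivChar_apply] at e; exact_mod_cast e
  have hdo : (charDegree (o : G → ℂ) : ℤ) = 1 := by
    have e := CharDegree.cast_irrDegree o; rw [Char.trivChar_apply] at e; exact_mod_cast e
  have hXrel : ∀ p q (χ : IrrCharacter G), relFour p q = true → X q χ = X p χ := fun p q χ hr => by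
    obtain ⟨c, hc⟩ := isConj_iff.1 (hsuff p q hr)
    have : (X q χ : ℂ) = (X p χ : ℂ) := by
      rw [hX, hX, ← hc, Char.IsIrr.isClassFunction χ.2]
    exact_mod_cast this
  have h9 : ∀ χ : IrrCharacter G,
      (9 : ℤ) ∣ (charDegree (χ : G → ℂ) : ℤ) + 4 * X (1, 0) χ + 4 * X (1, 1) χ := fun χ => by
    have e := hX9 χ
    have hz : X 0 χ = (charDegree (χ : G → ℂ) : ℤ) := by
      have : (X 0 χ : ℂ) = ((charDegree (χ : G → ℂ) : ℤ) : ℂ) := by
        rw [hX, h0, Int.cast_natCast, CharDegree.cast_irrDegree]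
      exact_mod_cast this
    rw [show (Finset.univ : Finset (ZMod 3 × ZMod 3)) =
      insert 0 ({(1, 0), (2, 0), (0, 1), (0, 2), (1, 1), (2, 2), (1, 2), (2, 1)} :
        Finset (ZMod 3 × ZMod 3)) by decide, Finset.sum_insert (by decide),
      Finset.sum_insert (by decide), Finset.sum_insert (by decide), Finset.sum_insert (by decide),
      Finset.sum_insert (by decide), Finset.sum_insert (by decide), Finset.sum_insert (by decide),
      Finset.sum_insert (by decide), Finset.sum_singleton, hz,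
      hXrel (1, 0) (2, 0) χ (by decide), hXrel (1, 0) (0, 1) χ (by decide),
      hXrel (1, 0) (0, 2) χ (by decide), hXrel (1, 1) (2, 2) χ (by decide),
      hXrel (1, 1) (1, 2) χ (by decide), hXrel (1, 1) (2, 1) χ (by decide)] at e
    omega
  have hle := SylowNineArith.card_le_of_four (fun χ : IrrCharacter G => (charDegree (χ : G → ℂ) : ℤ))
    (X (1, 0)) (X (1, 1)) o (Nat.card G) Nat.card_pos
    (fun χ => Int.natCast_pos.2 (CharDegree.charDegree_pos χ)) hdo (hXo _) (hXo _)
    (fun χ => by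
      have := Int.dvd_sub (hX3 (1, 1) χ) (hX3 (1, 0) χ)
      rwa [sub_sub_sub_cancel_left] at this)
    h9 (by rw [hgram _ _ (by decide), if_pos (by decide)])
    (by rw [hgram _ _ (by decide), if_pos (by decide)])
    (by rw [hgram _ _ (by decide), if_neg (by decide)])
    (hdeg _ (by decide)) (hdeg _ (by decide))
    (by
      simp only [Int.cast_natCast]
      rw [htri _ _ _ (by decide) (by decide) (by decide) (by decide),
        show (Finset.univ.filter fun s => relFour (1, 0) s = true ∧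
          relFour (1, 1) ((1, 0) + s) = true).card = 2 by decide]
      norm_num)
  rcases card_cases h (by omega) with e | e
  · exact CfsgLib.TwoGroups.OrderThreeSixty.nonempty_equiv e
  · exfalso
    have h1 := CfsgLib.Perm.card_normalizer_mul_card_sylow T
    rw [← hNdef, hN, e] at h1
    have h2 := card_sylow_modEq_one 3 G
    rw [Nat.ModEq] at h2
    omega

/-- The recognition theorem. -/
theorem alt_six (hclasses : ∃ a b : G, orderOf a = 3 ∧ orderOf b = 3 ∧ ∀ g : G, g * a * g⁻¹ ≠ b) :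
    Nonempty (G ≃* alternatingGroup (Fin 6)) := by
  classical
  set N := Subgroup.normalizer ((T : Subgroup G) : Set G) with hNdef
  obtain ⟨a', b', ha', hb', hab⟩ := hclasses
  have htoT : ∀ g : G, orderOf g = 3 → ∃ c, c * g * c⁻¹ ∈ (T : Subgroup G) := fun g hg => by
    obtain ⟨Q, hQ⟩ := (IsPGroup.of_card (n := 1)
      (by rw [Nat.card_zpowers, hg, pow_one]) : IsPGroup 3 (Subgroup.zpowers g)).exists_le_sylow
    obtain ⟨c, hc⟩ := MulAction.exists_smul_eq G Q T
    exact ⟨c, hc ▸ ⟨g, hQ (Subgroup.mem_zpowers g), rfl⟩⟩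
  obtain ⟨c, hc⟩ := htoT a' ha'
  obtain ⟨d, hd⟩ := htoT b' hb'
  set a := c * a' * c⁻¹ with hadef
  set b := d * b' * d⁻¹ with hbdef
  have ha1 : a ≠ 1 := fun e => by
    rw [conj_eq_one_iff] at e; rw [e, orderOf_one] at ha'; omega
  have hb1 : b ≠ 1 := fun e => by
    rw [conj_eq_one_iff] at e; rw [e, orderOf_one] at hb'; omega
  set Oa := {y : G | ∃ n ∈ N, n * a * n⁻¹ = y}
  set Ob := {y : G | ∃ n ∈ N, n * b * n⁻¹ = y}
  have hNa : Nat.card N = 9 * Oa.ncard := card_normalizer h hc ha1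
  have hNb : Nat.card N = 9 * Ob.ncard := card_normalizer h hd hb1
  have hdisj : Disjoint Oa Ob := Set.disjoint_left.2 fun y h1 h2 => by
    obtain ⟨n, -, rfl⟩ := h1
    obtain ⟨m, -, e⟩ := h2
    refine hab (d⁻¹ * m⁻¹ * n * c) ?_
    calc d⁻¹ * m⁻¹ * n * c * a' * (d⁻¹ * m⁻¹ * n * c)⁻¹
        = d⁻¹ * m⁻¹ * (n * a * n⁻¹) * m * d := by rw [hadef]; group
      _ = b' := by rw [← e, hbdef]; group
  have hsub : Oa ∪ Ob ⊆ ((T : Subgroup G) : Set G) \ {1} := by
    rintro y (⟨n, hn, rfl⟩ | ⟨n, hn, rfl⟩)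
    · exact ⟨conj_mem h hn hc, fun e => ha1 (conj_eq_one_iff.1 e)⟩
    · exact ⟨conj_mem h hn hd, fun e => hb1 (conj_eq_one_iff.1 e)⟩
  have hle := Set.ncard_le_ncard hsub
  rw [Set.ncard_union_eq hdisj, Set.ncard_sdiff_singleton_of_mem (one_mem (T : Subgroup G)),
    ← Nat.card_coe_set_eq ((T : Subgroup G) : Set G)] at hle
  change _ ≤ Nat.card (T : Subgroup G) - 1 at hle
  rw [h.card] at hle
  have hpos : 0 < Oa.ncard := (Set.ncard_pos (Set.toFinite _)).2 ⟨a, orbit_nonempty a⟩
  have h3 : Oa.ncard ≠ 3 := fun e => by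
    have h1 : 27 ∣ Nat.card G := by
      have := Subgroup.card_subgroup_dvd_card N
      rw [hNa, e] at this
      exact this
    have e' := T.card_eq_multiplicity
    rw [show Nat.card (T : Subgroup G) = 9 from h.card] at e'
    have h2 : 3 ≤ (Nat.card G).factorization 3 :=
      (Nat.Prime.pow_dvd_iff_le_factorization Nat.prime_three Nat.card_pos.ne').1 (by norm_num; exact h1)
    have : 3 ^ 3 ≤ 3 ^ (Nat.card G).factorization 3 := Nat.pow_le_pow_right (by norm_num) h2
    omega
  obtain e | e | e : Oa.ncard = 1 ∨ Oa.ncard = 2 ∨ Oa.ncard = 4 := by omega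
  · exfalso
    have hNT : N ≤ Subgroup.centralizer ((T : Subgroup G) : Set G) := by
      have heq : (T : Subgroup G) = N := by
        refine Subgroup.eq_of_le_of_card_ge Subgroup.le_normalizer ?_
        rw [hNa, e, show Nat.card (T : Subgroup G) = 9 from h.card]
      rw [← heq]
      exact fun x hx => Subgroup.mem_centralizer_iff.2 fun y hy => h.comm y hy x hx
    have hK := MonoidHom.ker_transferSylow_isComplement' T hNT
    have hcard := hK.card_mul_card
    rcases (MonoidHom.normal_ker (MonoidHom.transferSylow T hNT)).eq_bot_or_eq_top with e' | e'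
    · rw [e', Subgroup.card_bot, one_mul, show Nat.card (T : Subgroup G) = 9 from h.card] at hcard
      have : (T : Subgroup G) = ⊤ := Subgroup.eq_top_of_card_eq _ (by rw [h.card]; exact hcard)
      exact not_comm h ⟨⟨fun x y => h.comm x (this ▸ Subgroup.mem_top x) y (this ▸ Subgroup.mem_top y)⟩⟩
    · rw [e', Subgroup.card_top, show Nat.card (T : Subgroup G) = 9 from h.card] at hcard
      have := Nat.card_pos (α := G)
      omega
  · exact (two_contra h (by rw [← hNdef, hNa, e])).elim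
  · exact four_iso h (by rw [← hNdef, hNa, e])

end CfsgLib.Classical.SylowNineRecog
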